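import Cfsg.Agent.H15.MX0

/-! Maximal 2-locals of a group of Monster type: the pieces CA, BS, A1, A1'. -/

set_option autoImplicit false
set_option linter.unusedSectionVars false

namespace H25.MX
open Cfsg H15 H19 H0 H0.Mo H0.Y H15.ML H15.MX Subgroup
open scoped commutatorElement

section
universe u
variable {G : Type u} [Group G] [Finite G] {z s t u v x y : G} {A B U V E : Subgroup G}

omit [Finite G] in
theorem mem_adj (n : t ∈ N(A)) (h : t * t = 1) : x ∈ A ⊔ zpowers t ↔ x ∈ A ∨ x * t ∈ A := by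
  rw [mem_sup_of_norm (zpowers_le.2 n)]
  constructor
  · rintro ⟨a, ha, b, hb, rfl⟩
    rcases (mem_zpowers_inv h).1 hb with rfl | rfl
    exacts [.inl (by simpa using ha), .inr (by rwa [mul_assoc, h, mul_one])]
  · rintro (k | k)
    exacts [⟨x, k, 1, one_mem _, by simp⟩, ⟨_, k, t, mem_zpowers t, by rw [mul_assoc, h, mul_one]⟩]

theorem card_adj (n : t ∈ N(A)) (h : t * t = 1) (m : t ∉ A) : #(A ⊔ zpowers t) = 2 * #A := by
  have h1 : t ≠ 1 := fun e => m (e ▸ one_mem _)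
  rw [card_sup_of_disjoint (zpowers_le.2 n) (eq_bot_iff.2 fun x a =>
    ((mem_zpowers_inv h).1 a.2).elim id fun e => absurd (e ▸ a.1) m), Nat.card_zpowers, orderOf_inv2 h1 h, mul_comm]

omit [Finite G] in
theorem comm_of (h : ∀ v ∈ V, v * v = 1) (a : x ∈ V) (b : y ∈ V) : x * y = y * x :=
  (mem_cent.1 (comm_of_sq h b) x a)

omit [Finite G] in
theorem cent1_of (h : ∀ v ∈ V, v * v = 1) (a : x ∈ V) : V ≤ C[x] := (comm_of_sq h).trans (cent_le_cent1 a)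

omit [Finite G] in
theorem norm_of (h : ∀ v ∈ V, v * v = 1) (a : x ∈ V) (b : A ≤ V) : x ∈ N(A) :=
  cent_le_norm _ (cent_mono b (comm_of_sq h a))

omit [Finite G] in
theorem sq_sup (a : ∀ x ∈ A, x * x = 1) (b : ∀ x ∈ B, x * x = 1) (c : A ≤ C(B)) : ∀ x ∈ A ⊔ B, x * x = 1 := by
  intro x hx
  obtain ⟨p, hp, q, hq, rfl⟩ := (mem_sup_of_norm' (norms_of_cents c)).1 hx
  calc p * q * (p * q) = p * (q * p) * q := by simp only [mul_assoc]
    _ = p * p * (q * q) := by rw [mem_cent.1 (c hp) q hq]; simp only [mul_assoc]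
    _ = 1 := by rw [a p hp, b q hq, one_mul]

omit [Finite G] in
theorem comm_of_sq3 (a : x * x = 1) (b : y * y = 1) (c : x * y * (x * y) = 1) : x * y = y * x := by
  rw [← inv_eq_of_mul_eq_one_right c, mul_inv_rev, inv_eq_of_mul_eq_one_right a, inv_eq_of_mul_eq_one_right b]

theorem lt_card (h : A ≤ B) (a : x ∈ B) (b : x ∉ A) : #A < #B := card_lt (lt_of_le_of_ne h fun e => b (e ▸ a))

theorem idx2 (h : ∀ x ∈ A, ∀ y ∈ A, x ∉ B → y ∉ B → x * y ∈ B) : #A ≤ 2 * #(A ⊓ B) := by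
  by_cases k : A ≤ B
  · rw [inf_eq_left.2 k]; omega
  obtain ⟨a, ha, hb⟩ := SetLike.not_le_iff_exists.1 k
  have : B.relIndex A = 2 := index_eq_two_iff.2 ⟨⟨a, ha⟩, fun b => by
    by_cases c : (b : G) ∈ B
    · exact .inr ⟨c, fun d => hb ((mul_mem_cancel_left c).1 d)⟩
    · exact .inl ⟨h b b.2 a ha c hb, c⟩⟩
  rw [← card_inf_mul_relIndex B A, this, inf_comm]; omega

omit [Finite G] in
theorem pure_sq (h : Pure z V) : ∀ v ∈ V, v * v = 1 := fun v a => by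
  by_cases n : v = 1
  exacts [by simp [n], (h v a n).1]

theorem mem_QU_adj (h : MG z) (a : Sing z U) (b : IsConj z s) (c : U ≤ Qo s) (d : x ∈ QU U) (e : x ∈ Qo s) :
    x ∈ QU (U ⊔ zpowers s) := mem_QU.2 fun u hu n => by
  have hs : s ∈ N(U) := cent_le_norm _ (le_cent1_iff.1 (c.trans (es h b).le_cent))
  rcases (mem_adj hs (sq h b)).1 hu with k | k
  · exact mem_QU.1 d u k n
  by_cases n1 : u * s = 1
  · rwa [eq_inv_of_mul_eq_one_left n1, (es h b).zinv]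
  have := inf_le_mul h b (a _ k n1).1 (c k) (by simpa using n) ⟨e, mem_QU.1 d _ k n1⟩
  rwa [mul_assoc, sq h b, mul_one] at this

end

theorem ca : CA := fun G _ _ z 𝒜 cx V hV => by
  have sqV := pure_sq hV
  obtain ⟨u, ⟨bu, cu⟩, mx⟩ := Set.exists_max_image {u | IsConj z u ∧ V ≤ C[u]} (fun u => #(V ⊓ Qo u))
    (Set.toFinite _) (exB cx.mg (pg_of_sq sqV))
  refine ⟨u, bu, fun t ht => by_contra fun nt => ?_⟩
  have key : ∀ s, IsConj z s → V ≤ C[s] → V ⊓ Qo u ≤ Qo s → t ∈ Qo s → False := fun s a b c d =>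
    absurd (mx s ⟨a, b⟩) (not_le.2 (lt_card (le_inf inf_le_left c) ⟨ht, d⟩ fun k => nt k.2))
  have ct : V ≤ C[t] := cent1_of sqV ht
  rcases cx.kind bu (cu ht) nt (sqV t ht) with ⟨E, hE, uE, tE⟩ | ⟨s, bs, -, -, ts, c1, c2, -⟩
  · have inE : ∀ w ∈ V, w ∈ Qo u ⊔ E → w ∉ Qo u → w ∈ E := fun w a b c => by_contra fun d =>
      (hV w a fun e => c (e ▸ one_mem _)).2.2 ((cx.kf hE).a0 u uE bu w b c d (sqV w a)).1
    have tE' := inE t ht tE nt
    have l : V ⊓ Qo u ≤ E := fun y a => (mul_mem_cancel_right tE').1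
      (inE _ (mul_mem a.1 ht) (mul_mem (mem_sup_left a.2) tE) fun k => nt ((mul_mem_cancel_left (mem_inf.1 a).2).1 k))
    have AV : V ⊓ Qo u ⊔ zpowers t ≤ V := sup_le inf_le_left (zpowers_le.2 ht)
    obtain ⟨s, -, a, b, c⟩ := (cx.lb hE).fixa _ (sup_le l (zpowers_le.2 tE')) (fun x a => hV x (AV a)) V
      (pg_of_sq sqV) ((le_inf cu ct).trans ((cx.ark hE).e2 u uE bu t tE nt)) ((comm_of_sq sqV).trans (cent_mono AV))
    exact key s a b (le_sup_left.trans c) (c (mem_sup_right (mem_zpowers t)))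
  · exact key s bs ((le_inf cu ct).trans c1) ((le_inf inf_le_right (inf_le_left.trans ct)).trans c2) ts

theorem bs : BS := fun G _ _ z 𝒜 cx U hU nU => by
  have h := cx.mg
  by_cases c8 : #U ≤ 8
  · exact ⟨U, .inr (.inl ⟨nU, hU, c8⟩), le_rfl⟩
  by_cases c16 : #U = 16
  · exact ⟨FU z U, .inr (.inr (.inl ⟨U, hU, c16, rfl⟩)), fun g a => mem_norm_iff_cj.2 (by rw [cj_FU, cj_of_mem_norm a])⟩
  have sqU := hU.sq h
  obtain ⟨k, hk⟩ := (pg_of_sq sqU).exists_card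
  have k4 : 4 ≤ k := by
    by_contra n
    have : k ≤ 3 := by omega
    exact c8 (hk ▸ Nat.pow_le_pow_right two_pos this)
  have : Fact (Nat.Prime 2) := ⟨Nat.prime_two⟩
  obtain ⟨K, hK⟩ := Sylow.exists_subgroup_card_pow_prime (G := U) 2 (n := 4) (hk ▸ pow_dvd_pow 2 k4)
  obtain ⟨W, WU, cW⟩ : ∃ W ≤ U, #W = 16 :=
    ⟨K.map U.subtype, map_subtype_le K, by rw [card_map_of_injective U.subtype_injective, hK]; rfl⟩
  have hW := hU.mono WU
  obtain ⟨g, T⟩ := cx.t4 W hW cW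
  have UQ : U ≤ QU W := hU.le_QU.trans (QU_anti WU)
  obtain ⟨s, sU, sW⟩ := SetLike.not_le_iff_exists.1 (fun k : U ≤ W => c16 (le_antisymm k WU ▸ cW))
  have n1 : ∀ {x}, x ∉ W → x ≠ 1 := fun a e => a (e ▸ one_mem _)
  obtain ⟨bs, Us⟩ := hU s sU (n1 sW)
  have ns : s ∈ N(W) := norm_of sqU sU WU
  have eU : U = W ⊔ zpowers s := le_antisymm (fun x a => (mem_adj ns (sq h bs)).2 (or_iff_not_imp_left.2 fun b =>
    T.d3 x (UQ a) s (UQ sU) (hU x a (n1 b)).1 bs b sW ((hU x a (n1 b)).2 sU))) (sup_le WU (zpowers_le.2 sU))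
  obtain ⟨gQ, bg, gW, dd⟩ := T.dist
  have gg := sq h bg
  have ng : g ∈ N(W) := cent_le_norm _ (hW.QU_cent h gQ)
  by_cases sg : s * g ∈ W
  · refine ⟨U, .inr (.inr (.inl ⟨W, hW, cW, ?_⟩)), le_rfl⟩
    rw [T.FU_eq gg]
    refine le_antisymm (eU ▸ sup_le le_sup_left (zpowers_le.2 ((mem_adj ng gg).2 (.inr sg))))
      (sup_le WU (zpowers_le.2 ((mul_mem_cancel_left sU).1 (WU sg))))
  have a2 := dd s (UQ sU) bs sW sg
  have cm := comm_of_sq3 (sq h bs) gg a2.1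
  have nb : ¬ IsConj z (g * s) := cm ▸ a2.2.2
  have gs : g ∉ Qo s := fun k => nb (mul_b h bs bg k fun e => a2.2.1 (by rw [e, sq h bs]))
  rcases cx.kind bs (mem_cent1.2 cm.symm) gs gg with ⟨E, hE, sE, gE⟩ | ⟨_, -, -, -, -, -, -, c⟩
  swap
  · exact absurd (bg.trans c) nb
  have gE' : g ∈ E := by_contra fun d => nb ((cx.kf hE).a0 s sE bs g gE gs d gg).2
  have WE : W ≤ E := (le_inf (WU.trans Us) fun u a => by
    by_cases n : u = 1
    exacts [n ▸ one_mem _, symm h (hW u a n).1 bg (mem_QU.1 gQ u a n)]).trans ((cx.lc hE).e6' s sE g gE' bs bg gs)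
  have UE : U ≤ E := eU ▸ sup_le WE (zpowers_le.2 sE)
  refine ⟨E, .inr (.inr (.inr hE)), fun n hn => mem_norm_iff_cj.2 ?_⟩
  have hE' := cx.cj n hE
  have UE' : U ≤ cj n E := cj_of_mem_norm hn ▸ cj_mono n UE
  generalize cj n E = E' at hE' UE'
  have L := cx.la hE'
  have p1 := L.perp W (WU.trans UE') hW
  have p2 := L.perp U UE' hU
  rw [cW] at p1
  rw [show #U = 32 by rw [eU, card_adj ns (sq h bs) sW, cW]] at p2
  obtain ⟨c, ⟨cE, cQ⟩, cs⟩ := SetLike.not_le_iff_exists.1 (fun k : E' ⊓ QU W ≤ Qo s => by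
    have := card_le (show E' ⊓ QU W ≤ E' ⊓ QU U from fun x a =>
      ⟨a.1, eU ▸ mem_QU_adj h hW bs (WU.trans Us) a.2 (k a)⟩)
    omega)
  have key : ∀ c ∈ E', c ∈ QU W → c ∉ Qo s → IsConj z c → g ∈ E' := fun c a b d e => by
    have : A2 z (s * c) := ⟨L.ab _ (mul_mem (UE' sU) a), fun k => d (by
      rw [eq_inv_of_mul_eq_one_right k]; exact inv_mem (self h bs)),
      by rw [comm_of L.ab (UE' sU) a]; exact (L.hyp s (UE' sU) bs c a d).1 e⟩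
    exact (mul_mem_cancel_left a).1 (UE' (WU ((T.d2 s (UQ sU) c b bs e this).resolve_left sg)))
  have gE2 : g ∈ E' := by
    by_cases b : IsConj z c
    · exact key c cE cQ cs b
    · exact key (c * s) (mul_mem cE (UE' sU)) (mul_mem cQ (UQ sU))
        (fun k => cs ((mul_mem_cancel_right (self h bs)).1 k)) (not_not.1 (mt (L.hyp s (UE' sU) bs c cE cs).2 b))
  rw [(cx.lc hE').gen s (UE' sU) g gE2 bs bg gs, ← (cx.lc hE).gen s sE g gE' bs bg gs]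

section
variable {G : Type} [Group G] [Finite G] {z s s' u x y : G} {𝒜 : Subgroup G → Prop} {A V E : Subgroup G}

/-- a subgroup of `V` inside `Q u ⊔ E` is small -/
theorem small (cx : Cx z 𝒜) (hE : 𝒜 E) (m : Mx z V s) (uV : u ∈ V) (uE : u ∈ E) (b : IsConj z u) (l : A ≤ V)
    (l' : A ≤ Qo u ⊔ E) : #A ≤ 2 * #(V ⊓ Qo s) :=
  ((cx.la hE).half u uE b A l').trans
    (Nat.mul_le_mul_left 2 ((card_le (inf_le_inf_right _ l)).trans (m.max u uV b)))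

theorem sq_Ux (cx : Cx z 𝒜) (hE : 𝒜 E) : ∀ u ∈ Ux z E x, u * u = 1 := fun u a => (cx.la hE).ab u (Ux_le a)

theorem cardV (st : St V) (s'V : s' ∈ V) (n : s' ∉ Qo s) : #(V ⊓ Qo s ⊔ zpowers s') = 2 * #(V ⊓ Qo s) :=
  card_adj (norm_of st.ab s'V inf_le_left) (st.ab _ s'V) fun k => n k.2

end

theorem a1' : A1' := fun G _ _ z 𝒜 cx V E s s' st m s'V hE sE s'E n l v hv => by_contra fun vE => by
  have cN : C(V) ≤ N(E) := (le_inf (cent_le_cent1 m.mem) (cent_le_cent1 s'V)).trans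
    ((cx.ark hE).e2 s sE m.b s' (mem_sup_right s'E) n)
  have c2 : 2 * #(V ⊓ Qo s) ≤ #(V ⊓ E) := cardV st s'V n ▸
    card_le (sup_le (le_inf inf_le_left l) (zpowers_le.2 ⟨s'V, s'E⟩))
  have pos := card_pos (V ⊓ Qo s)
  by_cases vK : v ∈ C(E)
  · obtain ⟨u, uV, uX, n1⟩ := st.P (Ux z E v) (sq_Ux cx hE)
      (ne_bot_iff_one_lt_card.2 (by rw [(cx.kf hE).k32 v vK vE (st.ab v hv)]; omega))
      ((le_inf cN (cent_le_cent1 hv)).trans norm_Ux)
    obtain ⟨uE, b, k⟩ := (((cx.lc hE).mUx v vK vE u).1 uX).resolve_left n1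
    have := small cx hE m uV uE b (A := V ⊓ E ⊔ zpowers v) (sup_le inf_le_left (zpowers_le.2 hv))
      (sup_le (inf_le_right.trans le_sup_right) (zpowers_le.2 k))
    rw [card_adj (norm_of st.ab hv inf_le_left) (st.ab v hv) fun k => vE k.2] at this
    omega
  · obtain ⟨X, nX, XE, sX, a, b⟩ := (cx.lb hE).trv v (cN (comm_of_sq st.ab hv)) (st.ab v hv) vK
    obtain ⟨u, uV, uX, n1⟩ := st.P X (sX.sq cx.mg) nX ((le_inf cN (cent_le_cent1 hv)).trans a)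
    have := (card_le (show V ⊓ E ≤ V ⊓ Qo u from fun x k =>
      ⟨k.1, mem_QU.1 (b ⟨k.2, cent1_of st.ab hv k.1⟩) u uX n1⟩)).trans (m.max u uV (sX u uX n1).1)
    omega

theorem a1 : A1 := fun G _ _ z 𝒜 cx V E s s' st m m' hE sE s'E n => by
  have h := cx.mg
  have L := cx.la hE
  have n' : s ∉ Qo s' := fun k => n (symm h m'.b m.b k)
  have cN : C(V) ≤ N(E) := (le_inf (cent_le_cent1 m.mem) (cent_le_cent1 m'.mem)).trans
    ((cx.ark hE).e2 s sE m.b s' (mem_sup_right s'E) n)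
  have key : ∀ {s s'}, Mx z V s → Mx z V s' → s ∈ E → s' ∈ E → s' ∉ Qo s → ∃ A, V ⊓ Qo s ≤ A ∧ A ≤ V ∧ A ≤ C(E) ∧
      A ≤ Qo s ⊔ E ∧ #A = 2 * #(V ⊓ Qo s) ∧ #(A ⊔ E) * #(V ⊓ E) = #A * #E := fun {s s'} m m' sE s'E n => by
    have AV : V ⊓ Qo s ⊔ zpowers s' ≤ V := sup_le inf_le_left (zpowers_le.2 m'.mem)
    have AK : V ⊓ Qo s ⊔ zpowers s' ≤ C(E) := sup_le ((le_inf inf_le_right (inf_le_left.trans
      (cent1_of st.ab m'.mem))).trans ((cx.ark hE).e1 s sE m.b s' (mem_sup_right s'E) n)) (zpowers_le.2 (L.EC s'E))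
    refine ⟨_, le_sup_left, AV, AK, sup_le_sup inf_le_right (zpowers_le.2 s'E), cardV st m'.mem n, ?_⟩
    rw [← card_sup_mul_inf (norms_of_cents (cents_symm AK))]
    congr 3
    refine le_antisymm (fun x a => ⟨(mem_adj (norm_of st.ab m'.mem inf_le_left) (st.ab _ m'.mem)).2 ?_, a.2⟩)
      (inf_le_inf_right _ AV)
    by_cases k : x ∈ Qo s
    exacts [.inl ⟨a.1, k⟩, .inr ⟨mul_mem a.1 m'.mem, L.idx s sE m.b x (mem_sup_right a.2) s' (mem_sup_right s'E) k n⟩]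
  obtain ⟨A, A0, AV, AK, AQ, cA, dA⟩ := key m m' sE s'E n
  obtain ⟨B, -, BV, BK, BQ, cB, dB⟩ := key m' m s'E sE n'
  have mm : #(V ⊓ Qo s') = #(V ⊓ Qo s) := le_antisymm (m.max s' m'.mem m'.b) (m'.max s m.mem m.b)
  have eAB : #(B ⊔ E) = #(A ⊔ E) := Nat.eq_of_mul_eq_mul_right (card_pos (V ⊓ E)) (by rw [dA, dB, cA, cB, mm])
  have AK' : A ⊔ E ≤ C(E) := sup_le AK L.EC
  have iAB : (A ⊔ E) ⊓ (B ⊔ E) = E := le_antisymm ((le_inf (inf_le_inf (sup_le AQ le_sup_right)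
    (sup_le BQ le_sup_right)) (inf_le_left.trans AK')).trans ((cx.lc hE).e6 s sE s' s'E m.b m'.b n))
    (le_inf le_sup_right le_sup_right)
  have sq2 : ∀ {X}, X ≤ V → X ≤ C(E) → ∀ x ∈ X ⊔ E, x * x = 1 := fun a b =>
    sq_sup (fun x k => st.ab x (a k)) L.ab b
  have big : #(A ⊔ E) < 2 ^ 13 := by
    have s1 := sq2 (sup_le AV BV) (sup_le AK BK)
    have e : A ⊔ B ⊔ E = (A ⊔ E) ⊔ (B ⊔ E) := sup_sup_distrib_right _ _ _
    have r := cx.rk _ s1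
    rw [e] at r s1
    have := card_sup_mul_inf (A := A ⊔ E) (B := B ⊔ E) fun x a => norm_of s1 (mem_sup_right a) le_sup_left
    rw [iAB, L.card, eAB] at this
    nlinarith
  refine A0.trans fun x₁ a₁ => by_contra fun e₁ => ?_
  have sA := sq2 AV AK
  have adj : ∀ X ≤ A ⊔ E, ∀ x ∈ A, x ∉ X → #(X ⊔ zpowers x) = 2 * #X := fun X a x b c =>
    card_adj (norm_of sA (mem_sup_left b) a) (st.ab x (AV b)) c
  have l₁ : E ⊔ zpowers x₁ ≤ A ⊔ E := sup_le le_sup_right (zpowers_le.2 (mem_sup_left a₁))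
  obtain ⟨x₂, a₂, e₂, gen⟩ : ∃ x₂ ∈ A, x₂ ∉ E ∧ A ≤ E ⊔ zpowers x₁ ⊔ zpowers x₂ := by
    by_cases k : A ≤ E ⊔ zpowers x₁
    · exact ⟨x₁, a₁, e₁, k.trans le_sup_left⟩
    obtain ⟨x₂, a₂, e₂⟩ := SetLike.not_le_iff_exists.1 k
    refine ⟨x₂, a₂, fun k => e₂ (mem_sup_left k), fun x₃ a₃ => by_contra fun e₃ => ?_⟩
    have l₂ : E ⊔ zpowers x₁ ⊔ zpowers x₂ ≤ A ⊔ E := sup_le l₁ (zpowers_le.2 (mem_sup_left a₂))
    have := card_le (sup_le l₂ (zpowers_le.2 (mem_sup_left a₃)))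
    rw [adj _ l₂ _ a₃ e₃, adj _ l₁ _ a₂ e₂, adj _ le_sup_right _ a₁ e₁, L.card] at this
    omega
  obtain ⟨y, by', ey⟩ := SetLike.not_le_iff_exists.1 (fun k : B ≤ E => by
    rw [sup_eq_right.2 k] at eAB
    exact e₁ (eq_of_le_of_card_eq le_sup_right eAB ▸ mem_sup_left a₁))
  have K := cx.kf hE
  have k8 : ∀ w ∈ V, w ∈ C(E) → w ∉ E → 8 ≤ #(Ux z E x₁ ⊓ Ux z E w) := fun w a b c =>
    (K.k8 x₁ (AK a₁) e₁ (st.ab _ (AV a₁)) w b c (st.ab _ a) (comm_of st.ab (AV a₁) a)).1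
  have nX : (Ux z E x₁ ⊓ Ux z E x₂) ⊓ (Ux z E x₁ ⊓ Ux z E y) ≠ ⊥ := fun k => by
    have c1 := card_sup_of_disjoint (fun x a => norm_of (sq_Ux cx hE) (inf_le_left (a := Ux z E x₁) a) inf_le_left) k
    have c2 := card_le (sup_le inf_le_left inf_le_left :
      (Ux z E x₁ ⊓ Ux z E x₂) ⊔ (Ux z E x₁ ⊓ Ux z E y) ≤ Ux z E x₁)
    rw [c1, K.k32 x₁ (AK a₁) e₁ (st.ab _ (AV a₁))] at c2
    have := k8 x₂ (AV a₂) (AK a₂) e₂
    have := k8 y (BV by') (BK by') ey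
    nlinarith
  have nU : ∀ w ∈ V, C(V) ≤ N(Ux z E w) := fun w a => (le_inf cN (cent_le_cent1 a)).trans norm_Ux
  obtain ⟨u, uV, uX, n1⟩ := st.P ((Ux z E x₁ ⊓ Ux z E x₂) ⊓ (Ux z E x₁ ⊓ Ux z E y))
    (fun x a => sq_Ux cx hE x a.1.1) nX (norms_inf (norms_inf (nU _ (AV a₁)) (nU _ (AV a₂))) (norms_inf (nU _ (AV a₁)) (nU _ (BV by'))))
  have M := (cx.lc hE).mUx
  obtain ⟨uE, b, k₁⟩ := ((M x₁ (AK a₁) e₁ u).1 uX.1.1).resolve_left n1
  have k₂ := (((M x₂ (AK a₂) e₂ u).1 uX.1.2).resolve_left n1).2.2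
  have k₃ := (((M y (BK by') ey u).1 uX.2.2).resolve_left n1).2.2
  have := small cx hE m uV uE b (A := A ⊔ zpowers y) (sup_le AV (zpowers_le.2 (BV by')))
    (sup_le (gen.trans (sup_le (sup_le le_sup_right (zpowers_le.2 k₁)) (zpowers_le.2 k₂))) (zpowers_le.2 k₃))
  rw [card_adj (norm_of st.ab (BV by') AV) (st.ab _ (BV by'))
    fun k => ey (iAB ▸ ⟨mem_sup_left k, mem_sup_left by'⟩), cA] at this
  have := card_pos (V ⊓ Qo s)
  omega

end H25.MX
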