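import Cfsg.Agent.H25.R2S
import Cfsg.Agent.H25.Loc

/-! The 2-fusion system of `PSp₄(q)`, `q` odd, is simple. -/

set_option autoImplicit false

namespace H25
open Subgroup Cfsg

/-- the data of `(L ∘ L).2` inside `G` -/
structure W4 {L G : Type*} [Group L] [Group G] (f : L × L →* G) (τ x : G) (m i j w : L) : Prop where
  m1 : m ≠ 1
  mm : m * m = 1
  mc : ∀ a, a * m = m * a
  ker : ∀ a b, f (a, b) = 1 → a = 1 ∧ b = 1 ∨ a = m ∧ b = m
  fm : f (m, m) = 1
  ii : i * i = m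
  jj : j * j = m
  ji : j * i = i * j * m
  wi : w * i * w⁻¹ = j
  wj : w * j * w⁻¹ = i * j
  cij : ∀ a, a * i = i * a → a * j = j * a → a = 1 ∨ a = m
  tt : τ * τ = 1
  tf : ∀ a b, τ * f (a, b) = f (b, a) * τ
  tn : ∀ a b, f (a, b) ≠ τ
  cen : ∀ g, g * f (1, m) = f (1, m) * g → ∃ a b, g = f (a, b) ∨ g = f (a, b) * τ
  xz : x * f (1, m) * x⁻¹ = τ
  xt : x * τ * x⁻¹ = f (1, m)
  xi : x * f (i, i) * x⁻¹ = f (j, j)
  xj : x * f (j, j) * x⁻¹ = f (i, i)
  x4 : x ^ 4 = 1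
  xw : x * f (w, w) * x = f (w, w) * f (w, w)

namespace W4
variable {L G : Type*} [Group L] [Group G] {f : L × L →* G} {τ x : G} {m i j w : L}
variable (h : W4 f τ x m i j w) {Q : Subgroup L} {a b c d : L} {g s : G}
include h

omit h in
theorem fmul (a b c d : L) : f (a, b) * f (c, d) = f (a * c, b * d) := by rw [← map_mul]; rfl
omit h in
theorem finv (a b : L) : (f (a, b))⁻¹ = f (a⁻¹, b⁻¹) := by rw [← map_inv]; rfl
omit h in
theorem fone : f (1, 1) = 1 := map_one f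

theorem tinv : τ⁻¹ = τ := inv_eq_of_mul_eq_one_right h.tt
theorem minv : m⁻¹ = m := inv_eq_of_mul_eq_one_right h.mm

theorem feq (e : f (a, b) = f (c, d)) : a = c ∧ b = d ∨ a = c * m ∧ b = d * m := by
  rcases h.ker (c⁻¹ * a) (d⁻¹ * b) (by rw [← fmul, ← finv, e, inv_mul_cancel]) with ⟨h1, h2⟩ | ⟨h1, h2⟩
  · exact .inl ⟨(inv_mul_eq_one.1 h1).symm, (inv_mul_eq_one.1 h2).symm⟩
  · exact .inr ⟨inv_mul_eq_iff_eq_mul.1 h1, inv_mul_eq_iff_eq_mul.1 h2⟩

theorem fne : f (a, b) ≠ f (c, d) * τ := fun e =>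
  h.tn (c⁻¹ * a) (d⁻¹ * b) (by rw [← fmul, ← finv, e, inv_mul_cancel_left])

theorem i1 : i ≠ 1 := fun e => h.m1 (by rw [← h.ii, e, mul_one])
theorem im : i ≠ m := fun e => h.m1 (by rw [← h.ii, e, h.mm])

/-- the Sylow subgroup -/
def S0 (Q : Subgroup L) : Subgroup G where
  carrier := {s | ∃ a ∈ Q, ∃ b ∈ Q, s = f (a, b) ∨ s = f (a, b) * τ}
  one_mem' := ⟨1, one_mem _, 1, one_mem _, .inl fone.symm⟩
  mul_mem' := by
    rintro _ _ ⟨a, ha, b, hb, rfl | rfl⟩ ⟨c, hc, d, hd, rfl | rfl⟩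
    · exact ⟨_, mul_mem ha hc, _, mul_mem hb hd, .inl (fmul ..)⟩
    · exact ⟨_, mul_mem ha hc, _, mul_mem hb hd, .inr (by rw [← fmul, mul_assoc])⟩
    · exact ⟨_, mul_mem ha hd, _, mul_mem hb hc, .inr (by rw [← fmul, mul_assoc, h.tf, mul_assoc])⟩
    · exact ⟨_, mul_mem ha hd, _, mul_mem hb hc, .inl (by
        rw [← fmul, mul_assoc, ← mul_assoc τ, h.tf, mul_assoc, h.tt, mul_one])⟩
  inv_mem' := by
    rintro _ ⟨a, ha, b, hb, rfl | rfl⟩
    · exact ⟨_, inv_mem ha, _, inv_mem hb, .inl (finv ..)⟩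
    · exact ⟨_, inv_mem hb, _, inv_mem ha, .inr (by rw [mul_inv_rev, finv, h.tinv, h.tf])⟩

theorem f_mem (ha : a ∈ Q) (hb : b ∈ Q) : f (a, b) ∈ h.S0 Q := ⟨a, ha, b, hb, .inl rfl⟩
theorem t_mem : τ ∈ h.S0 Q := ⟨1, one_mem _, 1, one_mem _, .inr (by rw [fone, one_mul])⟩

theorem of_mem (hm : m ∈ Q) (e : f (a, b) ∈ h.S0 Q) : a ∈ Q ∧ b ∈ Q := by
  obtain ⟨c, hc, d, hd, e | e⟩ := e
  · rcases h.feq e with ⟨rfl, rfl⟩ | ⟨rfl, rfl⟩
    · exact ⟨hc, hd⟩
    · exact ⟨mul_mem hc hm, mul_mem hd hm⟩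
  · exact absurd e h.fne

theorem isPGroup (hQ : IsPGroup 2 Q) : IsPGroup 2 (h.S0 Q) := by
  have key : ∀ a ∈ Q, ∀ b ∈ Q, ∃ k, f (a, b) ^ 2 ^ k = 1 := fun a ha b hb => by
    obtain ⟨k, hk⟩ := hQ ⟨a, ha⟩
    obtain ⟨l, hl⟩ := hQ ⟨b, hb⟩
    have hk' : a ^ 2 ^ k = 1 := congrArg Subtype.val hk
    have hl' : b ^ 2 ^ l = 1 := congrArg Subtype.val hl
    refine ⟨k + l, ?_⟩
    rw [← map_pow, Prod.pow_mk, pow_add, pow_mul, hk', one_pow, mul_comm, pow_mul, hl', one_pow, fone]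
  rintro ⟨_, a, ha, b, hb, rfl | rfl⟩
  · obtain ⟨k, hk⟩ := key a ha b hb
    exact ⟨k, Subtype.ext hk⟩
  · obtain ⟨k, hk⟩ := key _ (mul_mem ha hb) _ (mul_mem hb ha)
    refine ⟨k + 1, Subtype.ext ?_⟩
    change (f (a, b) * τ) ^ 2 ^ (k + 1) = 1
    rw [pow_succ', pow_mul, ← hk, pow_two, ← fmul, mul_assoc, ← mul_assoc τ, h.tf, mul_assoc, h.tt,
      mul_one]

theorem fm1 : f (m, 1) = f (1, m) := by
  rw [← mul_one (f (m, 1)), ← h.fm, fmul, h.mm, one_mul]

theorem z1 : f (1, m) ≠ 1 := fun e => (h.ker _ _ e).elim (fun e => h.m1 e.2) fun e => h.m1 e.1.symm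

theorem z_cen (hm : m ∈ Q) : f (1, m) ∈ h.S0 Q ⊓ cz (h.S0 Q) := by
  refine mem_inf.2 ⟨h.f_mem (one_mem _) hm, mem_cz'.2 ?_⟩
  rintro _ ⟨a, -, b, -, rfl | rfl⟩
  · rw [fmul, fmul, h.mc, mul_one, one_mul]
  · rw [mul_assoc, h.tf, h.fm1, ← mul_assoc, ← mul_assoc, fmul, fmul, h.mc, mul_one, one_mul]

theorem eq_z (hi : i ∈ Q) (hj : j ∈ Q) (hs : s ∈ h.S0 Q ⊓ cz (h.S0 Q)) (h1 : s ≠ 1) :
    s = f (1, m) := by
  obtain ⟨⟨a, ha, b, hb, rfl | rfl⟩, hc⟩ := hs
  · have k1 : ∀ c ∈ Q, a * c = c * a := fun c hc' => by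
      have := mem_cz'.1 hc _ (h.f_mem hc' (one_mem _))
      rw [fmul, fmul, one_mul, mul_one] at this
      rcases h.feq this with e | e
      · exact e.1.symm
      · exact absurd (left_eq_mul.1 e.2) h.m1
    have k2 : ∀ c ∈ Q, b * c = c * b := fun c hc' => by
      have := mem_cz'.1 hc _ (h.f_mem (one_mem _) hc')
      rw [fmul, fmul, one_mul, mul_one] at this
      rcases h.feq this with e | e
      · exact e.2.symm
      · exact absurd (left_eq_mul.1 e.1) h.m1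
    rcases h.cij a (k1 i hi) (k1 j hj) with rfl | rfl <;>
      rcases h.cij b (k2 i hi) (k2 j hj) with rfl | rfl
    · exact absurd fone h1
    · rfl
    · exact h.fm1
    · exact absurd h.fm h1
  · have := mem_cz'.1 hc _ (h.f_mem hi (one_mem _))
    rw [mul_assoc, h.tf, ← mul_assoc, ← mul_assoc, fmul, fmul, mul_left_inj, one_mul, mul_one] at this
    rcases h.feq this with e | e
    · exact absurd (mul_eq_right.1 e.1) h.i1
    · rw [h.mc] at e
      exact absurd (mul_right_cancel e.1) h.im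

theorem nz_S0 (hi : i ∈ Q) (hj : j ∈ Q) [Finite L] (hg : g ∈ nz (h.S0 Q)) :
    ∃ a ∈ nz Q, ∃ b ∈ nz Q, a * b⁻¹ ∈ Q ∧ (g = f (a, b) ∨ g = f (a, b) * τ) := by
  have hm : m ∈ Q := h.ii ▸ mul_mem hi hi
  have h1 := h.eq_z hi hj (conj_mem_of_mem_nz (mem_nz_inf hg (mem_nz_cz hg)) (h.z_cen hm))
    (by simpa using h.z1)
  obtain ⟨a, b, e⟩ := h.cen g (mul_inv_eq_iff_eq_mul.1 h1)
  have h2 : f (a, b) ∈ nz (h.S0 Q) := by
    rcases e with rfl | rfl
    · exact hg
    · exact (mul_mem_cancel_right (le_nz_self _ h.t_mem)).1 hg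
  refine ⟨a, mem_nz_of_conj_mem fun c hc => ?_, b, mem_nz_of_conj_mem fun c hc => ?_, ?_, e⟩
  · have := conj_mem_of_mem_nz h2 (h.f_mem hc (one_mem _))
    rw [finv, fmul, fmul] at this
    exact (h.of_mem hm this).1
  · have := conj_mem_of_mem_nz h2 (h.f_mem (one_mem _) hc)
    rw [finv, fmul, fmul] at this
    exact (h.of_mem hm this).2
  · have := conj_mem_of_mem_nz h2 h.t_mem
    rw [finv, mul_assoc, h.tf, ← mul_assoc, fmul, mul_mem_cancel_right h.t_mem] at this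
    exact (h.of_mem hm this).1

variable [Finite L] [Finite G]

omit h in
theorem _root_.H25.Sylow.mem_of_pow {p : ℕ} [Fact p.Prime] (Q : Sylow p L) {k : ℕ}
    (ha : a ∈ nz (Q : Subgroup L)) (e : a ^ p ^ k ∈ (Q : Subgroup L)) : a ∈ (Q : Subgroup L) :=
  (((syl_sylow Q).mono_right (le_nz_self _) le_top)).mem_of_pel le_rfl ha ⟨k, e⟩

theorem exists_sylow (Q : Sylow 2 L) (hi : i ∈ (Q : Subgroup L)) (hj : j ∈ (Q : Subgroup L)) :
    ∃ S : Sylow 2 G, (S : Subgroup G) = h.S0 Q := by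
  have hm : m ∈ (Q : Subgroup L) := h.ii ▸ mul_mem hi hi
  obtain ⟨S, hS⟩ := (h.isPGroup Q.isPGroup').exists_le_sylow
  refine ⟨S, by_contra fun hne => ?_⟩
  obtain ⟨g, g1, g2, g3⟩ := exists_mem_nz_of_lt S.isPGroup' (lt_of_le_of_ne hS (Ne.symm hne))
  obtain ⟨a, ha, b, hb, -, e⟩ := h.nz_S0 hi hj g2
  have h2 : f (a, b) ∈ (S : Subgroup G) := by
    rcases e with rfl | rfl
    · exact g1
    · exact (mul_mem_cancel_right (hS h.t_mem)).1 g1
  obtain ⟨k, hk⟩ := S.isPGroup' ⟨_, h2⟩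
  have hk' : f (a ^ 2 ^ k, b ^ 2 ^ k) = 1 := by
    rw [← Prod.pow_mk, map_pow]; exact congrArg Subtype.val hk
  have h3 : a ^ 2 ^ k ∈ (Q : Subgroup L) ∧ b ^ 2 ^ k ∈ (Q : Subgroup L) :=
    h.of_mem hm (hk' ▸ one_mem _)
  exact g3 ⟨a, Sylow.mem_of_pow Q ha h3.1, b, Sylow.mem_of_pow Q hb h3.2, e⟩

omit [Finite L] in
theorem sc_t (hi : i ∈ Q) (hj : j ∈ Q) (hQ : IsPGroup 2 Q) {T : Subgroup G} (hT : SCl (h.S0 Q) T)
    (h0 : T ≠ ⊥) : τ ∈ T ∧ ∀ a ∈ Q, f (a, a⁻¹) ∈ T := by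
  obtain ⟨z, z1, z2, z3⟩ := hT.exists_central (h.isPGroup hQ) h0
  have e := h.eq_z hi hj (mem_inf.2 ⟨hT.sc.le z1, mem_cz'.2 z3⟩) (by rintro rfl; simp at z2)
  have ht : τ ∈ T := hT.mem_of_isConj z1 h.t_mem (isConj_iff.2 ⟨x, e ▸ h.xz⟩)
  refine ⟨ht, fun a ha => ?_⟩
  have := mul_mem (conj_mem_of_mem_nz (hT.sc.S_le_nz (h.f_mem ha (one_mem _))) ht) ht
  rwa [finv, mul_assoc (f (a, 1)), h.tf, mul_assoc, mul_assoc, h.tt, mul_one, fmul, inv_one, mul_one,
    one_mul] at this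

theorem simple_A (hG : commutator G = ⊤) (Q : Sylow 2 L) (hi : i ∈ (Q : Subgroup L))
    (hj : j ∈ (Q : Subgroup L)) (hA : IsPGroup 2 (MulAut Q)) (S : Sylow 2 G) :
    (groupFusionSystem (S : Subgroup G)).IsSimple 2 := by
  have hm : m ∈ (Q : Subgroup L) := h.ii ▸ mul_mem hi hi
  obtain ⟨S₀, e⟩ := h.exists_sylow Q hi hj
  refine isSimple_group_of_perfect S₀ S hG (fun e' => h.z1 (mem_bot.1 ?_)) (fun T hT h0 => ?_)
    fun g hg hc => ?_
  · rw [← e', e]; exact (h.z_cen hm).1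
  · rw [e] at hT ⊢
    obtain ⟨t1, t2⟩ := h.sc_t hi hj Q.isPGroup' hT h0
    have hn := hT.sc.S_le_nz
    change h.S0 Q ≤ _ at hn
    have dec : ∀ s ∈ h.S0 Q, ∃ a ∈ (Q : Subgroup L), ∃ t ∈ T, s = f (a, 1) * t := by
      rintro _ ⟨a, ha, b, hb, rfl | rfl⟩
      · exact ⟨_, mul_mem ha hb, _, t2 _ (inv_mem hb), by simp [fmul]⟩
      · exact ⟨_, mul_mem ha hb, _, mul_mem (t2 _ (inv_mem hb)) t1, by simp [← mul_assoc, fmul]⟩
    refine commutator_le_iff'.2 fun s hs s' hs' => ?_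
    obtain ⟨a, ha, t, ht, rfl⟩ := dec s hs
    obtain ⟨b, hb, t', ht', rfl⟩ := dec s' hs'
    have hα := hn (h.f_mem ha (one_mem _))
    have hβ := hn (h.f_mem hb (one_mem _))
    have h1 : f (a, 1) * f (b, 1) * (f (a, 1))⁻¹ * (f (b, 1))⁻¹ ∈ T := by
      have := conj_mem_of_mem_nz (hn (h.f_mem (one_mem _) hb)) (comm_mem_of_nz' (t2 b hb) hα)
      simpa [finv, fmul, mul_assoc] using this
    have := mul_mem (mul_mem (mul_mem (conj_mem_of_mem_nz hα ht)
      (conj_mem_of_mem_nz (mul_mem hα hβ) (mul_mem ht' (inv_mem ht))))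
      (conj_mem_of_mem_nz (mul_mem (mul_mem hα hβ) (inv_mem hα)) (inv_mem ht'))) h1
    convert this using 1
    group
  · rw [e] at hg ⊢
    obtain ⟨a, ha, b, hb, -, rfl | rfl⟩ := h.nz_S0 hi hj hg
    · have k : ∀ c ∈ nz (Q : Subgroup L), ∀ n, n.Coprime 2 → c ^ n = 1 ∨ c ^ n = m →
          c ∈ (Q : Subgroup L) := fun c hc n hn e => by
        have h1 : (c * c) ^ n = 1 := by
          rw [← pow_two, ← pow_mul, mul_comm, pow_mul, pow_two]
          rcases e with e | e <;> simp [e, h.mm]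
        have h2 := mem_cz'.1 (mem_cz_of_aut hA (mul_mem hc hc)
          (hn.coprime_dvd_left (orderOf_dvd_of_pow_eq_one h1)))
        refine Sylow.mem_of_pow Q hc (k := 1) ?_
        rcases h.cij (c * c) (h2 i hi).symm (h2 j hj).symm with e | e <;> simp [pow_two, e, hm]
      have h1 := h.ker (a ^ orderOf (f (a, b))) (b ^ orderOf (f (a, b))) (by
        rw [← Prod.pow_mk, map_pow, pow_orderOf_eq_one])
      have h2 := h.f_mem (k a ha _ hc (h1.imp And.left And.left)) (k b hb _ hc (h1.imp And.right And.right))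
      exact (PEl.of_isPGroup (h.isPGroup Q.isPGroup') h2).mem_of_coprime hc
    · obtain ⟨n, hn⟩ := (Nat.coprime_two_right.1 hc)
      have h1 := pow_orderOf_eq_one (f (a, b) * τ)
      rw [hn, pow_succ, pow_mul, pow_two, mul_assoc, ← mul_assoc τ, h.tf, mul_assoc, h.tt, mul_one,
        fmul, ← map_pow, Prod.pow_mk, ← mul_assoc, fmul, ← fone (f := f)] at h1
      exact absurd h1.symm h.fne

omit [Finite L] [Finite G] in
theorem ord_i : orderOf i = 2 ^ 2 :=
  orderOf_eq_prime_pow (p := 2) (n := 1) (by simpa [pow_two, h.ii] using h.m1)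
    (by rw [show 2 ^ (1 + 1) = 2 * 2 from rfl, pow_mul, pow_two, pow_two, h.ii, h.mm])

omit [Finite L] [Finite G] in
theorem iinv : i⁻¹ = i * m := inv_eq_of_mul_eq_one_right (by rw [← mul_assoc, h.ii, h.mm])

omit [Finite G] in
theorem cases8 (hi : i ∈ Q) (hj : j ∈ Q) (h8 : Nat.card Q = 8) (hc : c ∈ Q) :
    ∃ e, (e = 1 ∨ e = m) ∧ (c = e ∨ c = i * e ∨ c = j * e ∨ c = i * j * e) := by
  have hj' : j ∉ zpowers i := fun ⟨n, hn⟩ => h.m1 (by
    have := h.ji
    rw [← hn, (Commute.zpow_self i n).eq] at this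
    exact (left_eq_mul.1 this))
  have M : H10.MC Q 2 i (-1) := H10.MC.of_gen hi h.ord_i le_rfl
    (H10.relIndex_zpowers_of_card hi h.ord_i h8) (by decide) hj hj' (by
      rw [h.ji, mul_assoc, mul_assoc, ← h.mc, mul_inv_cancel_left, ← h.iinv]; simp)
  have key : ∀ n : ℤ, ∃ e, (e = 1 ∨ e = m) ∧ (i ^ n = e ∨ i ^ n = i * e) := fun n => by
    have : i ^ n = i ^ (n % 4) := by
      have := zpow_mod_orderOf i n
      rw [h.ord_i] at this
      exact this.symm
    rw [this]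
    have h1 : 0 ≤ n % 4 := Int.emod_nonneg _ (by decide)
    have h2 : n % 4 < 4 := Int.emod_lt_of_pos _ (by decide)
    interval_cases n % 4
    · exact ⟨1, .inl rfl, .inl (by simp)⟩
    · exact ⟨1, .inl rfl, .inr (by simp)⟩
    · exact ⟨m, .inr rfl, .inl (by rw [← h.ii]; exact zpow_two i)⟩
    · exact ⟨m, .inr rfl, .inr (by rw [← h.ii, ← mul_assoc]; exact_mod_cast pow_three' i)⟩
  rcases M.cases hj hj' hc with ⟨n, rfl⟩ | ⟨n, rfl⟩
  · obtain ⟨e, h1, h2⟩ := key n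
    exact ⟨e, h1, h2.imp_right .inl⟩
  · obtain ⟨e, h1, h2⟩ := key n
    have : e * j = j * e := by rcases h1 with rfl | rfl <;> simp [h.mc]
    exact ⟨e, h1, .inr (.inr (h2.imp (fun e' => by rw [e', this]) fun e' => by
      rw [e', mul_assoc, this, mul_assoc]))⟩

omit [Finite L] [Finite G] in
theorem wk : w * (i * j) * w⁻¹ = i := by
  calc _ = (w * i * w⁻¹) * (w * j * w⁻¹) := by group
    _ = i := by rw [h.wi, h.wj, ← mul_assoc, h.ji, mul_assoc, ← h.mc, mul_assoc, ← mul_assoc j, h.jj,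
      h.mm, mul_one]

omit [Finite G] in
theorem le8 (hi : i ∈ Q) (hj : j ∈ Q) (h8 : Nat.card Q = 8) {K : Subgroup L} (ki : i ∈ K)
    (kj : j ∈ K) : Q ≤ K := fun c hc => by
  obtain ⟨e, h1, h2⟩ := h.cases8 hi hj h8 hc
  have : e ∈ K := by
    rcases h1 with rfl | rfl
    · exact one_mem _
    · exact h.ii ▸ mul_mem ki ki
  rcases h2 with rfl | rfl | rfl | rfl
  exacts [this, mul_mem ki this, mul_mem kj this, mul_mem (mul_mem ki kj) this]

omit [Finite G] in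
theorem w_mem (hi : i ∈ Q) (hj : j ∈ Q) (h8 : Nat.card Q = 8) : w ∈ nz Q :=
  mem_nz_of_le (cj_le_iff.2 (h.le8 hi hj h8 (mem_cj.2 (by simpa [h.wi] using hj))
    (mem_cj.2 (by simpa [h.wj] using mul_mem hi hj))))

omit [Finite G] in
theorem nz8 (Q : Sylow 2 L) (hi : i ∈ (Q : Subgroup L)) (hj : j ∈ (Q : Subgroup L))
    (h8 : Nat.card Q = 8) {K : Subgroup L} (h1 : ↑Q ≤ K) (h2 : w ∈ K) : nz (Q : Subgroup L) ≤ K := by
  have hm : m ∈ (Q : Subgroup L) := h.ii ▸ mul_mem hi hi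
  have ec : ∀ e, e = 1 ∨ e = m → (∀ a, a * e = e * a) ∧ e * e = 1 := by
    rintro _ (rfl | rfl)
    · simp
    · exact ⟨h.mc, h.mm⟩
  have key : ∀ a ∈ nz (Q : Subgroup L), ∀ e, e = 1 ∨ e = m → a * i * a⁻¹ = i * e →
      a ∈ (Q : Subgroup L) := fun a ha e he hai => by
    obtain ⟨e1, e2⟩ := ec e he
    have h3 : a * a * i * (a * a)⁻¹ = i := by
      calc _ = a * (a * i * a⁻¹) * a⁻¹ := by group
        _ = (a * i * a⁻¹) * e := by rw [mul_assoc (a * i), e1, hai, mul_assoc, mul_assoc, mul_assoc]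
        _ = i := by rw [hai, mul_assoc, e2, mul_one]
    obtain ⟨e', he', h4⟩ := h.cases8 hi hj h8 (conj_mem_of_mem_nz (mul_mem ha ha) hj)
    obtain ⟨e3, e4⟩ := ec e' he'
    have h5 : a * a * e' * (a * a)⁻¹ = e' := by rw [e3, mul_inv_cancel_right]
    have h6 : ∃ t, a * a * j * (a * a)⁻¹ = t * j ∧ a * a * t * (a * a)⁻¹ = t ∧ t ^ 4 = 1 := by
      have h7 : a * a * (i * e') * (a * a)⁻¹ = i * e' := by
        conv_rhs => rw [← h3, ← h5]
        group
      rcases h4 with h4 | h4 | h4 | h4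
      · rw [← h5, mul_left_inj, mul_right_inj] at h4
        exact absurd (h.jj.symm.trans (h4 ▸ e4)) h.m1
      · rw [← h7, mul_left_inj, mul_right_inj] at h4
        have := h.ji
        rw [h4, mul_assoc, ← e3] at this
        exact absurd (left_eq_mul.1 this) h.m1
      · exact ⟨e', h4.trans (e3 _), h5, by rw [show 4 = 2 * 2 from rfl, pow_mul, pow_two e', e4, one_pow]⟩
      · exact ⟨i * e', by rw [h4, mul_assoc, e3 j, mul_assoc], h7, by
          rw [(show Commute i e' from e3 i).mul_pow, show 4 = 2 * 2 from rfl, pow_mul, pow_mul, pow_two e',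
            e4, pow_two i, h.ii, pow_two, h.mm, one_pow, one_mul]⟩
    obtain ⟨t, t1, t2, t3⟩ := h6
    have h7 := conj_pow_of_fix t1 t2 4
    have h8 := conj_pow_of_fix (c := 1) (h3.trans (one_mul i).symm) (by simp) 4
    rw [t3, one_mul, mul_inv_eq_iff_eq_mul] at h7
    rw [one_pow, one_mul, mul_inv_eq_iff_eq_mul] at h8
    refine Sylow.mem_of_pow Q ha (k := 3) ?_
    rw [show 2 ^ 3 = 2 * 4 from rfl, pow_mul, pow_two]
    rcases h.cij _ h8 h7 with e | e <;> simp [e, hm]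
  intro a ha
  have hw := h.w_mem hi hj h8
  obtain ⟨e, he, h4⟩ := h.cases8 hi hj h8 (conj_mem_of_mem_nz ha hi)
  obtain ⟨e1, e2⟩ := ec e he
  rcases h4 with h4 | h4 | h4 | h4
  · have : i = e := by rw [mul_inv_eq_iff_eq_mul, ← e1] at h4; exact mul_left_cancel h4
    exact absurd (h.ii.symm.trans (this ▸ e2)) h.m1
  · exact h1 (key a ha e he h4)
  · refine (mul_mem_cancel_left (inv_mem h2)).1 (h1 (key _ (mul_mem (inv_mem hw) ha) e he ?_))
    calc _ = w⁻¹ * (a * i * a⁻¹) * w := by group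
      _ = _ := by rw [h4, ← h.wi, mul_assoc, mul_assoc, ← e1]; group
  · refine (mul_mem_cancel_left h2).1 (h1 (key _ (mul_mem hw ha) e he ?_))
    calc _ = w * (a * i * a⁻¹) * w⁻¹ := by group
      _ = _ := by rw [h4, ← mul_assoc, mul_assoc _ e, ← e1, ← mul_assoc, h.wk]

theorem simple_B (Q : Sylow 2 L) (hi : i ∈ (Q : Subgroup L))
    (hj : j ∈ (Q : Subgroup L)) (h8 : Nat.card Q = 8) (S : Sylow 2 G) :
    (groupFusionSystem (S : Subgroup G)).IsSimple 2 := by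
  have hm : m ∈ (Q : Subgroup L) := h.ii ▸ mul_mem hi hi
  have hw := h.w_mem hi hj h8
  obtain ⟨S₀, e⟩ := h.exists_sylow Q hi hj
  refine isSimple_group S₀ S (fun e' => h.z1 (mem_bot.1 ?_)) (fun T hT h0 => ?_)
    fun K k1 _ k3 g hg => ?_
  · rw [← e', e]; exact (h.z_cen hm).1
  · rw [e] at hT ⊢
    obtain ⟨t1, t2⟩ := h.sc_t hi hj Q.isPGroup' hT h0
    have cw : ∀ a ∈ (Q : Subgroup L), ∀ b ∈ (Q : Subgroup L), f (a, b) ∈ T → f (w * a * w⁻¹, b) ∈ T :=
      fun a ha b hb e => hT.mem_of_isConj e (h.f_mem (conj_mem_of_mem_nz hw ha) hb)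
        (isConj_iff.2 ⟨f (w, 1), by simp [finv, fmul]⟩)
    have h1 := mul_mem (cw _ hi _ (inv_mem hi) (t2 i hi)) (inv_mem (t2 i hi))
    rw [finv, fmul, h.wi, mul_inv_cancel, h.iinv, ← mul_assoc, h.ji, mul_assoc, h.mm, mul_one] at h1
    have h2 := cw _ (mul_mem hi hj) _ (one_mem _) h1
    rw [h.wk] at h2
    have h3 := cw _ hi _ (one_mem _) h2
    rw [h.wi] at h3
    have h4 : ∀ a ∈ (Q : Subgroup L), f (a, 1) ∈ T :=
      h.le8 hi hj h8 (K := T.comap (f.comp (MonoidHom.inl L L))) h2 h3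
    have h5 : ∀ a ∈ (Q : Subgroup L), ∀ b ∈ (Q : Subgroup L), f (a, b) ∈ T := fun a ha b hb => by
      simpa [fmul] using mul_mem (h4 _ (mul_mem ha hb)) (t2 _ (inv_mem hb))
    rintro _ ⟨a, ha, b, hb, rfl | rfl⟩
    exacts [h5 a ha b hb, mul_mem (h5 a ha b hb) t1]
  · rw [e] at k1 k3 hg
    let D : L →* G := f.comp ((MonoidHom.id L).prod (MonoidHom.id L))
    set E : Subgroup G := closure {f (i, i), f (j, j), f (1, m), τ} with hE
    have e1 : f (i, i) ∈ E := subset_closure (by simp)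
    have e2 : f (j, j) ∈ E := subset_closure (by simp)
    have e3 : f (1, m) ∈ E := subset_closure (by simp)
    have e4 : τ ∈ E := subset_closure (by simp)
    have e5 : ∀ a ∈ (Q : Subgroup L), f (a, a) ∈ E := h.le8 hi hj h8 (K := E.comap D) e1 e2
    have e6 : ∀ a ∈ (Q : Subgroup L), f (a, a * m) ∈ E := fun a ha => by
      simpa [fmul] using mul_mem (e5 a ha) e3
    have nE : ∀ g, g * f (i, i) * g⁻¹ ∈ E → g * f (j, j) * g⁻¹ ∈ E → g * f (1, m) * g⁻¹ ∈ E →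
        g * τ * g⁻¹ ∈ E → g ∈ nz E := fun g a b c d => mem_nz_of_le (by
      conv_lhs => rw [hE, cj_closure]
      rw [closure_le]
      rintro _ ⟨_, rfl | rfl | rfl | rfl, rfl⟩ <;> assumption)
    have nD : ∀ a ∈ nz (Q : Subgroup L), f (a, a) ∈ nz E ⊓ nz (h.S0 Q) := fun a ha => by
      have t0 : f (a, a) * τ * (f (a, a))⁻¹ = τ := by rw [← h.tf, mul_inv_cancel_right]
      refine mem_inf.2 ⟨nE _ ?_ ?_ ?_ (t0.symm ▸ e4), mem_nz_of_conj_mem ?_⟩
      · rw [finv, fmul, fmul]; exact e5 _ (conj_mem_of_mem_nz ha hi)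
      · rw [finv, fmul, fmul]; exact e5 _ (conj_mem_of_mem_nz ha hj)
      · rw [finv, fmul, fmul, h.mc]; simpa using e3
      · rintro _ ⟨c, hc, d, hd, rfl | rfl⟩
        · rw [finv, fmul, fmul]
          exact h.f_mem (conj_mem_of_mem_nz ha hc) (conj_mem_of_mem_nz ha hd)
        · rw [mul_assoc, mul_assoc, finv, h.tf, ← mul_assoc, ← mul_assoc, fmul, fmul]
          exact mul_mem (h.f_mem (conj_mem_of_mem_nz ha hc) (conj_mem_of_mem_nz ha hd)) h.t_mem
    have sq8 : ∀ a ∈ (Q : Subgroup L), f (1, a * a) ∈ E := fun a ha => by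
      obtain ⟨e, he, h4⟩ := h.cases8 hi hj h8 ha
      have kk : i * j * (i * j) = m := by
        calc _ = i * (j * i) * j := by group
          _ = i * i * (j * m) * j := by rw [h.ji]; group
          _ = m := by rw [h.ii, h.mc j, ← mul_assoc, h.mm, one_mul, h.jj]
      have mk : ∀ c, c * m * (c * m) = c * c := fun c => by
        rw [mul_assoc, ← mul_assoc m, ← h.mc, mul_assoc, h.mm, mul_one]
      rcases he with rfl | rfl <;> rcases h4 with rfl | rfl | rfl | rfl <;>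
        simp [h.ii, h.jj, h.mm, kk, mk, e3, fone]
    have inv8 : ∀ a ∈ (Q : Subgroup L), f (a, a⁻¹) ∈ E := fun a ha => by
      simpa [finv, fmul] using mul_mem (e5 a ha) (inv_mem (sq8 a ha))
    have n1 : ∀ b ∈ (Q : Subgroup L), f (1, b) ∈ nz E := fun b hb => by
      have k : ∀ c ∈ (Q : Subgroup L), f (1, b) * f (c, c) * (f (1, b))⁻¹ ∈ E := fun c hc => by
        simpa [finv, fmul, mul_assoc] using
          mul_mem (mul_mem (sq8 _ (mul_mem hb hc)) (inv8 c hc)) (inv_mem (sq8 b hb))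
      refine nE _ (k i hi) (k j hj) ?_ ?_
      · rw [finv, fmul, fmul, h.mc]; simpa using e3
      · rw [mul_assoc, finv, h.tf, ← mul_assoc, fmul]
        simpa using mul_mem (inv8 _ (inv_mem hb)) e4
    have nS : h.S0 Q ≤ nz E := by
      have : ∀ a ∈ (Q : Subgroup L), ∀ b ∈ (Q : Subgroup L), f (a, b) ∈ nz E := fun a ha b hb => by
        simpa [fmul] using mul_mem (nD a (le_nz_self _ ha)).1 (n1 _ (mul_mem (inv_mem ha) hb))
      rintro _ ⟨a, ha, b, hb, rfl | rfl⟩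
      exacts [this a ha b hb, mul_mem (this a ha b hb) (le_nz_self _ e4)]
    have hx : x ∈ nz E := nE x (h.xi ▸ e2) (h.xj ▸ e1) (h.xz ▸ e4) (h.xt ▸ e3)
    have hx' : x ∈ pgen 2 (nz E) := by
      obtain ⟨k, -, hk⟩ := (Nat.dvd_prime_pow Nat.prime_two).1
        (orderOf_dvd_of_pow_eq_one (n := 2 ^ 2) h.x4)
      exact mem_pgen hx hk
    have hK : f (w, w) ∈ K := k3 E (by
      rw [hE, closure_le]
      rintro _ (rfl | rfl | rfl | rfl)
      exacts [h.f_mem hi hi, h.f_mem hj hj, h.f_mem (one_mem _) hm, h.t_mem]) nS (by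
      have : ∀ a ∈ (Q : Subgroup L), ∀ b, τ * f (a, b) = f (a, b) * τ → f (a, b) ∈ E := fun a ha b e => by
        rw [h.tf, mul_left_inj] at e
        rcases h.feq e with ⟨rfl, -⟩ | ⟨rfl, -⟩
        exacts [e5 _ ha, e6 _ ha]
      rintro _ ⟨⟨a, ha, b, hb, rfl | rfl⟩, hc⟩
      · exact this a ha b (mem_cz'.1 hc τ e4)
      · refine mul_mem (this a ha b ?_) e4
        have := mem_cz'.1 hc τ e4
        rwa [← mul_assoc, mul_left_inj] at this) ⟨(nD w hw).2, by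
      have := mul_mem hx' (conj_mem_of_mem_nz (nz_le_nz_pgen _ (le_nz_self _ (nD w hw).1)) hx')
      rwa [← mul_assoc, ← mul_assoc, h.xw, mul_inv_cancel_right] at this⟩
    obtain ⟨a, ha, b, hb, hab, e⟩ := h.nz_S0 hi hj hg
    have h1 : f (b, b) ∈ K := h.nz8 Q hi hj h8 (K := K.comap D) (fun c hc => k1 (h.f_mem hc hc)) hK hb
    have h2 : f (a, b) ∈ K := by
      simpa [fmul] using mul_mem (k1 (h.f_mem hab (one_mem _))) h1
    rcases e with rfl | rfl
    exacts [h2, mul_mem h2 (k1 h.t_mem)]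

end W4

section
open Matrix
open scoped MatrixGroups
variable {F : Type*} [Field F]

local notation "M2" => Matrix (Fin 2) (Fin 2) F
local notation "Sp4" => symplecticGroup (Fin 2) F

/-- a `2 × 2` matrix of `2 × 2` blocks, in symplectic coordinates -/
def blk (a b c d : M2) : Matrix (Fin 2 ⊕ Fin 2) (Fin 2 ⊕ Fin 2) F :=
  fromBlocks !![a 0 0, b 0 0; c 0 0, d 0 0] !![a 0 1, b 0 1; c 0 1, d 0 1]
    !![a 1 0, b 1 0; c 1 0, d 1 0] !![a 1 1, b 1 1; c 1 1, d 1 1]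

variable {a b c d a' b' c' d' : Matrix (Fin 2) (Fin 2) F}

theorem blk_mul (a b c d a' b' c' d' : M2) : blk a b c d * blk a' b' c' d' =
    blk (a * a' + b * c') (a * b' + b * d') (c * a' + d * c') (c * b' + d * d') := by
  ext (r | r) (s | s) <;> fin_cases r <;> fin_cases s <;>
    simp [blk, Matrix.mul_apply, Fin.sum_univ_two] <;> ring

theorem blk_one : blk (1 : M2) 0 0 1 = 1 := by
  ext (r | r) (s | s) <;> fin_cases r <;> fin_cases s <;> simp [blk]

theorem blk_neg (a b c d : M2) : -blk a b c d = blk (-a) (-b) (-c) (-d) := by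
  ext (r | r) (s | s) <;> fin_cases r <;> fin_cases s <;> simp [blk]

theorem blk_tr (a b c d : M2) : (blk a b c d)ᵀ = blk aᵀ cᵀ bᵀ dᵀ := by
  ext (r | r) (s | s) <;> fin_cases r <;> fin_cases s <;> simp [blk]

theorem blk_J : J (Fin 2) F = blk !![0, -1; 1, 0] 0 0 !![0, -1; 1, 0] := by
  ext (r | r) (s | s) <;> fin_cases r <;> fin_cases s <;> simp [blk, J]

theorem blk_inj : blk a b c d = blk a' b' c' d' ↔ a = a' ∧ b = b' ∧ c = c' ∧ d = d' := by
  refine ⟨fun h => ?_, fun ⟨h1, h2, h3, h4⟩ => by rw [h1, h2, h3, h4]⟩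
  obtain ⟨h1, h2, h3, h4⟩ := fromBlocks_inj.1 h
  simp only [EmbeddingLike.apply_eq_iff_eq, vecCons_inj, and_true] at h1 h2 h3 h4
  refine ⟨?_, ?_, ?_, ?_⟩ <;> ext r s <;> fin_cases r <;> fin_cases s <;> simp [*]

theorem blk_surj (g : Matrix (Fin 2 ⊕ Fin 2) (Fin 2 ⊕ Fin 2) F) : ∃ a b c d, g = blk a b c d :=
  ⟨of fun r s => g (![.inl 0, .inr 0] r) (![.inl 0, .inr 0] s),
    of fun r s => g (![.inl 0, .inr 0] r) (![.inl 1, .inr 1] s),
    of fun r s => g (![.inl 1, .inr 1] r) (![.inl 0, .inr 0] s),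
    of fun r s => g (![.inl 1, .inr 1] r) (![.inl 1, .inr 1] s), by
    ext (r | r) (s | s) <;> fin_cases r <;> fin_cases s <;> simp [blk]⟩

theorem j0_conj (a : M2) : a * !![0, -1; 1, 0] * aᵀ = a.det • !![0, -1; 1, 0] := by
  ext r s
  fin_cases r <;> fin_cases s <;> simp [Matrix.mul_apply, Fin.sum_univ_two, det_fin_two] <;> ring

theorem blk_diag_mem : blk a 0 0 d ∈ Sp4 ↔ a.det = 1 ∧ d.det = 1 := by
  rw [SymplecticGroup.mem_iff, blk_J, blk_tr, blk_mul, blk_mul, blk_inj]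
  simp only [mul_zero, zero_mul, add_zero, zero_add, transpose_zero, j0_conj, true_and]
  have : ∀ t : F, t • (!![0, -1; 1, 0] : M2) = !![0, -1; 1, 0] ↔ t = 1 := fun t =>
    ⟨fun h => by simpa using congrFun (congrFun h 1) 0, fun h => by rw [h, one_smul]⟩
  rw [this, this]

/-- `SL₂ × SL₂ → Sp₄` -/
def spI : SL(2, F) × SL(2, F) →* Sp4 where
  toFun g := ⟨blk g.1.1 0 0 g.2.1, blk_diag_mem.2 ⟨g.1.2, g.2.2⟩⟩
  map_one' := Subtype.ext blk_one
  map_mul' g h := Subtype.ext (by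
    change blk (g.1.1 * h.1.1) 0 0 (g.2.1 * h.2.1) = blk _ _ _ _ * blk _ _ _ _
    simp [blk_mul])

theorem spI_val (a b : SL(2, F)) : (spI (a, b)).1 = blk a.1 0 0 b.1 := rfl

/-- the swap -/
def spT : Sp4 := ⟨blk 0 1 1 0, by
  rw [SymplecticGroup.mem_iff, blk_J, blk_tr, blk_mul, blk_mul]; simp⟩

theorem spT_val : (spT : Sp4).1 = blk 0 1 1 0 := rfl

theorem exists_spI (h2 : (2 : F) ≠ 0) (g : Sp4) (h : g.1 * blk 1 0 0 (-1) = blk 1 0 0 (-1) * g.1) :
    ∃ a b, g = spI (a, b) := by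
  obtain ⟨g, hg⟩ := g
  obtain ⟨a, b, c, d, rfl⟩ := blk_surj g
  simp only [blk_mul, blk_inj, mul_one, mul_zero, add_zero, zero_add, one_mul, zero_mul, mul_neg,
    neg_mul] at h
  have k : ∀ x : M2, -x = x → x = 0 := fun x hx => by
    have : (2 : F) • x = 0 := by rw [two_smul]; nth_rewrite 1 [← hx]; simp
    exact (smul_eq_zero.1 this).resolve_left h2
  obtain rfl := k b h.2.1
  obtain rfl := k c h.2.2.1.symm
  exact ⟨⟨a, (blk_diag_mem.1 hg).1⟩, ⟨d, (blk_diag_mem.1 hg).2⟩, rfl⟩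

theorem sl2_cij (h2 : (2 : F) ≠ 0) {s t : F} (hst : s * s + t * t = -1) {g : SL(2, F)}
    (h₁ : g.1 * !![0, -1; 1, 0] = !![0, -1; 1, 0] * g.1)
    (h₂ : g.1 * !![s, t; t, -s] = !![s, t; t, -s] * g.1) : g = 1 ∨ g = -1 := by
  obtain ⟨g, hg⟩ := g
  have e1 := congrFun (congrFun h₁ 0) 0
  have e2 := congrFun (congrFun h₁ 0) 1
  have e3 := congrFun (congrFun h₂ 0) 0
  have e4 := congrFun (congrFun h₂ 0) 1
  simp only [Matrix.mul_apply, Fin.sum_univ_two, of_apply, cons_val', cons_val_zero, cons_val_one,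
    cons_val_fin_one] at e1 e2 e3 e4
  rw [det_fin_two] at hg
  have a1 : g 0 1 = 0 := by grind
  have a2 : g 1 0 = 0 := by grind
  have a3 : g 1 1 = g 0 0 := by grind
  have a4 : g 0 0 = 1 ∨ g 0 0 = -1 := by grind
  refine a4.imp (fun e => Subtype.ext ?_) fun e => Subtype.ext ?_
  · change g = 1
    ext r s; fin_cases r <;> fin_cases s <;> simp [*]
  · change g = -1
    ext r s; fin_cases r <;> fin_cases s <;> simp [*]

set_option maxHeartbeats 1600000 in
theorem exists_w4 [Finite F] (h2 : (2 : F) ≠ 0) : ∃ τ x i j w,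
    W4 ((QuotientGroup.mk' (center Sp4)).comp spI) τ x (-1) i j w := by
  obtain ⟨s, t, hst⟩ := H12.exists_sq_add_sq h2 one_ne_zero one_ne_zero (-1 : F)
  replace hst : s * s + t * t = -1 := by linear_combination hst
  obtain ⟨u, hu⟩ : ∃ u : F, 2 * u = 1 := ⟨2⁻¹, mul_inv_cancel₀ h2⟩
  let i : SL(2, F) := ⟨!![0, -1; 1, 0], by simp [det_fin_two]⟩
  let j : SL(2, F) := ⟨!![s, t; t, -s], by rw [det_fin_two_of]; grind⟩
  let w : SL(2, F) := ⟨!![u * (1 + s - t), u * (s + t - 1); u * (1 + s + t), u * (1 - s + t)], by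
    rw [det_fin_two_of]; grind⟩
  let c : M2 := !![u * (1 - t), u * s; u * s, u * (1 + t)]
  have hc : c.det = u := by rw [det_fin_two_of]; grind
  let x : Sp4 := ⟨blk c c c (-c), by
    rw [SymplecticGroup.mem_iff, blk_J, blk_tr, blk_mul, blk_mul]
    simp only [mul_zero, add_zero, zero_add, j0_conj, hc, neg_mul, mul_neg, transpose_neg, neg_neg,
      add_neg_cancel, ← add_smul, show u + u = 1 by rw [← two_mul, hu], one_smul]⟩
  have mv : ∀ a b : SL(2, F), (a * b).1 = a.1 * b.1 := fun _ _ => rfl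
  have nv : (-1 : SL(2, F)).1 = -1 := rfl
  have n1 : (-1 : SL(2, F)) ≠ 1 := fun e => h2 (by
    have := congrFun (congrFun (congrArg Subtype.val e) 0) 0
    change -(1 : M2) 0 0 = (1 : M2) 0 0 at this
    simp only [one_apply_eq] at this
    linear_combination -this)
  have cij : ∀ a : SL(2, F), a * i = i * a → a * j = j * a → a = 1 ∨ a = -1 := fun a e1 e2 =>
    sl2_cij h2 hst (congrArg Subtype.val e1) (congrArg Subtype.val e2)
  have mm : (spI (-1, -1) : Sp4).1 = -1 := by simp [spI_val, nv, ← blk_one, blk_neg]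
  have tf : ∀ a b : SL(2, F), spT * spI (a, b) = spI (b, a) * spT := fun a b => Subtype.ext (by
    simp [spI_val, spT_val, blk_mul])
  have zv : (spI (1, -1) : Sp4).1 = blk 1 0 0 (-1) := rfl
  have inj : ∀ a b c d : SL(2, F), spI (a, b) = spI (c, d) → a = c ∧ b = d := fun a b c d e =>
    let e' := blk_inj.1 (congrArg Subtype.val e)
    ⟨Subtype.ext e'.1, Subtype.ext e'.2.2.2⟩
  have hz : ∀ g : Sp4, g ∈ center Sp4 ↔ g.1 = 1 ∨ g.1 = -1 := fun g => by
    rw [mem_center_iff]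
    refine ⟨fun h => ?_, fun h k => Subtype.ext (by rcases h with h | h <;> simp [h])⟩
    obtain ⟨a, b, rfl⟩ := exists_spI h2 g (congrArg Subtype.val (h (spI (1, -1)))).symm
    have := h spT
    rw [tf, mul_left_inj] at this
    obtain rfl := (inj _ _ _ _ this).1
    have k : ∀ c, b * c = c * b := fun c => by
      have := h (spI (c, c))
      rw [W4.fmul, W4.fmul] at this
      exact (inj _ _ _ _ this).1.symm
    rcases cij b (k i) (k j) with rfl | rfl
    · exact .inl (congrArg Subtype.val (map_one spI))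
    · exact .inr mm
  set π := QuotientGroup.mk' (center Sp4) with hπ
  have pe : ∀ g k : Sp4, π g = π k ↔ g.1 = k.1 ∨ g.1 = -k.1 := fun g k => by
    rw [eq_comm, hπ, QuotientGroup.mk'_apply, QuotientGroup.mk'_apply, QuotientGroup.eq, hz]
    have : g.1 = k.1 * (k⁻¹ * g).1 := congrArg Subtype.val (mul_inv_cancel_left k g).symm
    refine or_congr ⟨fun e => by rw [this, e, mul_one], fun e => ?_⟩
      ⟨fun e => by rw [this, e, mul_neg, mul_one], fun e => ?_⟩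
    · rw [Subtype.ext e, inv_mul_cancel]; rfl
    · change (k⁻¹).1 * g.1 = -1
      rw [e, mul_neg, ← Submonoid.coe_mul, inv_mul_cancel]; rfl
  have cj : ∀ g k l : Sp4, g.1 * k.1 = l.1 * g.1 ∨ g.1 * k.1 = -(l.1 * g.1) →
      π g * π k * (π g)⁻¹ = π l := fun g k l e => by
    rw [mul_inv_eq_iff_eq_mul, ← map_mul, ← map_mul, pe]; exact e
  refine ⟨π spT, π x, i, j, w, n1, by simp, by simp, fun a b e => ?_, ?_, ?_, ?_, ?_, ?_, ?_, cij, ?_,
    fun a b => ?_, fun a b e => ?_, fun g e => ?_, cj _ _ _ (.inl ?_), cj _ _ _ (.inl ?_),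
    cj _ _ _ (.inl ?_), cj _ _ _ (.inr ?_), ?_, ?_⟩
  · rw [← map_one π, ← map_one spI, MonoidHom.comp_apply, pe] at e
    refine e.imp (fun e => inj _ _ _ _ (Subtype.ext e)) fun e => inj _ _ _ _ (Subtype.ext ?_)
    rw [e, mm, map_one]; rfl
  · rw [← map_one π, MonoidHom.comp_apply, pe]; exact .inr mm
  · refine Subtype.ext ?_
    rw [mv, nv]; ext r s; fin_cases r <;> fin_cases s <;> simp [i]
  · refine Subtype.ext ?_
    rw [mv, nv]; ext r s; fin_cases r <;> fin_cases s <;> simp [j] <;> grind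
  · refine Subtype.ext ?_
    rw [mv, mv, mv, nv]; ext r s; fin_cases r <;> fin_cases s <;> simp [i, j]
  · refine mul_inv_eq_iff_eq_mul.2 (Subtype.ext ?_)
    rw [mv, mv]; ext r s; fin_cases r <;> fin_cases s <;> simp [i, j, w] <;> grind
  · refine mul_inv_eq_iff_eq_mul.2 (Subtype.ext ?_)
    rw [mv, mv, mv]; ext r s; fin_cases r <;> fin_cases s <;> simp [i, j, w] <;> grind
  · rw [← map_mul, ← map_one π, pe]
    exact .inl (by simp [spT_val, blk_mul, blk_one])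
  · simp only [MonoidHom.comp_apply, ← map_mul, tf]
  · rw [MonoidHom.comp_apply, pe, spI_val, spT_val, blk_neg, blk_inj, blk_inj] at e
    simp at e
  · obtain ⟨g, rfl⟩ := QuotientGroup.mk'_surjective _ g
    rw [MonoidHom.comp_apply, ← hπ, ← map_mul, ← map_mul, pe] at e
    rcases e with e | e
    · obtain ⟨a, b, rfl⟩ := exists_spI h2 g e
      exact ⟨a, b, .inl rfl⟩
    · obtain ⟨a, b, e'⟩ := exists_spI h2 (g * spT⁻¹) (by
        have k : blk 1 0 0 (-1) * (spT : Sp4).1 = -((spT : Sp4).1 * blk 1 0 0 (-1)) := by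
          simp [spT_val, blk_mul, blk_neg]
        have k' : (spT⁻¹ : Sp4) = spT := inv_eq_of_mul_eq_one_right (Subtype.ext (by
          simp [spT_val, blk_mul, blk_one]))
        change g.1 * blk 1 0 0 (-1) = -(blk 1 0 0 (-1) * g.1) at e
        rw [k', Submonoid.coe_mul, ← mul_assoc, ← neg_eq_iff_eq_neg.2 e, neg_mul, mul_assoc, mul_assoc,
          k, mul_neg, neg_neg])
      exact ⟨a, b, .inr (by rw [mul_inv_eq_iff_eq_mul.1 e', map_mul]; rfl)⟩
  · simp [zv, spT_val, x, blk_mul]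
  · simp [zv, spT_val, x, blk_mul]
  · have : c * i.1 = j.1 * c := by
      ext r s; fin_cases r <;> fin_cases s <;> simp [i, j, c] <;> grind
    simp [spI_val, x, blk_mul, this]
  · have : c * j.1 = -(i.1 * c) := by
      ext r s; fin_cases r <;> fin_cases s <;> simp [i, j, c] <;> grind
    simp [spI_val, x, blk_mul, blk_neg, this]
  · have k : c * c + c * c = i.1 * j.1 := by
      ext r s; fin_cases r <;> fin_cases s <;> simp [i, j, c] <;> grind
    have k' : i.1 * j.1 * (i.1 * j.1) = -1 := by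
      ext r s; fin_cases r <;> fin_cases s <;> simp [i, j] <;> grind
    rw [← map_pow, ← map_one π, pe, show 4 = 2 * 2 from rfl, pow_mul, pow_two, pow_two]
    refine .inr ?_
    simp [x, blk_mul, k, k', ← blk_one, blk_neg]
  · have k : c * w.1 * c + c * w.1 * c = w.1 * w.1 := by
      ext r s; fin_cases r <;> fin_cases s <;> simp [w, c] <;> grind
    rw [MonoidHom.comp_apply, ← map_mul, ← map_mul, ← map_mul, pe]
    refine .inl ?_
    simp [x, spI_val, blk_mul, k]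

theorem psp4_simple [Fintype F] (h : Fintype.card F % 2 = 1) (S : Sylow 2 (PSp 2 F)) :
    (groupFusionSystem (S : Subgroup (PSp 2 F))).IsSimple 2 := by
  have h2 : (2 : F) ≠ 0 := H11.two_ne_zero_of_odd_card (Nat.odd_iff.2 h)
  obtain ⟨τ, x, i, j, w, H⟩ := exists_w4 h2
  have hs : IsSimpleGroup (PSp 2 F) := H11.psp_simple le_rfl fun _ => by
    have := Fintype.one_lt_card (α := F)
    omega
  have hG : commutator (PSp 2 F) = ⊤ := (hs.eq_bot_or_eq_top_of_normal _ inferInstance).resolve_left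
    fun e => by
      have h1 := ((commutator_eq_bot_iff_center_eq_top _).1 e).ge (mem_top τ)
      have h3 := H.tf i 1
      rw [← mem_center_iff.1 h1, mul_left_inj] at h3
      exact (H.feq h3).elim (fun e => H.i1 e.1) fun e => H.im (e.1.trans (one_mul _))
  obtain ⟨Q, hQ⟩ := (isPGroup_sup_of_le_nz (P := zpowers j) (Q := zpowers i)
    (isPGroup_zpowers_of_orderOf (p := 2) (k := 2) (orderOf_eq_prime_pow (p := 2) (n := 1)
      (by simpa [pow_two, H.jj] using H.m1)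
      (by rw [show 2 ^ (1 + 1) = 2 * 2 from rfl, pow_mul, pow_two, pow_two, H.jj, H.mm])))
    (isPGroup_zpowers_of_orderOf H.ord_i) (zpowers_le.2 (mem_nz.2 (by
      rw [cj_zpowers, H.ji, mul_assoc, mul_assoc, ← H.mc, mul_inv_cancel_left, ← H.iinv,
        zpowers_inv])))).exists_le_sylow
  have hi := hQ (mem_sup_right (mem_zpowers i))
  have hj := hQ (mem_sup_left (mem_zpowers j))
  obtain ⟨k, hk, ⟨e⟩⟩ := H11.sylow_two_sl2 h2 Q
  have hc : Nat.card Q = 4 * 2 ^ k := by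
    rw [Nat.card_congr e.toEquiv, Nat.card_eq_fintype_card, QuaternionGroup.card]
  by_cases h8 : Nat.card Q = 8
  · exact H.simple_B Q hi hj h8 S
  refine H.simple_A hG Q hi hj (H10.isPGroup_mulAut_two Q.isPGroup' (a := e.symm (.a 1)) ?_
    (fun h' => ?_) fun ⟨e'⟩ => h8 ?_) S
  · have := (zpowers (e.symm (.a 1))).index_mul_card
    rw [Nat.card_zpowers, MulEquiv.orderOf_eq, QuaternionGroup.orderOf_a_one, hc,
      show 4 * 2 ^ k = 2 * (2 * 2 ^ k) by ring] at this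
    exact (Nat.eq_of_mul_eq_mul_right (by positivity) this).dvd
  · have := Nat.pow_le_pow_right two_pos hk
    rw [h'.card_four] at hc
    omega
  · rw [Nat.card_congr e'.toEquiv, Nat.card_eq_fintype_card, QuaternionGroup.card]

end
end H25
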