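/-
Fusion systems on a Sylow `p`-subgroup of `G₂(q)`, part 0: coordinates.
-/
import Cfsg.Agent.H8.PU2

set_option autoImplicit false
set_option linter.unusedSectionVars false
set_option linter.unusedSimpArgs false

namespace H25.GC
open Subgroup H25 H8.PU

variable {K : Type*} [Field K]

/-- coordinates of `x_a(a) · n(u, s, r, v; z)`; the roots are `a, b, a+b, 2a+b, 3a+b, 3a+2b` -/
@[ext] structure Gc (K : Type*) where
  (a u s r v z : K)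

namespace Gc
@[simps] instance : One (Gc K) := ⟨⟨0, 0, 0, 0, 0, 0⟩⟩
@[simps] instance : Mul (Gc K) := ⟨fun c d => {
  a := c.a + d.a
  u := c.u + d.u
  s := c.s + d.s + d.a * c.u
  r := c.r + d.r + 2 * d.a * c.s + d.a ^ 2 * c.u
  v := c.v + d.v + 3 * d.a * c.r + 3 * d.a ^ 2 * c.s + d.a ^ 3 * c.u
  z := c.z + d.z + c.u * d.v - 3 * (c.s + d.a * c.u) * d.r - 3 * c.u * d.a ^ 2 * c.s - 3 * d.a * c.s ^ 2 -
    d.a ^ 3 * c.u ^ 2 }⟩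
@[simps] instance : Inv (Gc K) := ⟨fun c => {
  a := -c.a
  u := -c.u
  s := c.a * c.u - c.s
  r := 2 * c.a * c.s - c.r - c.a ^ 2 * c.u
  v := 3 * c.a * c.r - c.v - 3 * c.a ^ 2 * c.s + c.a ^ 3 * c.u
  z := c.u * c.v - c.z - 3 * c.s * c.r - 3 * c.u * c.a ^ 2 * c.s + 3 * c.a * c.s ^ 2 + c.a ^ 3 * c.u ^ 2 }⟩
instance : Group (Gc K) := Group.ofLeftAxioms
  (fun c d e => by ext <;> simp only [mul_a, mul_u, mul_s, mul_r, mul_v, mul_z] <;> ring)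
  (fun c => by ext <;> simp)
  (fun c => by
    ext <;> simp only [mul_a, mul_u, mul_s, mul_r, mul_v, mul_z, inv_a, inv_u, inv_s, inv_r, inv_v, inv_z, one_a, one_u,
      one_s, one_r, one_v, one_z] <;> ring)
/-- the coordinates -/
def eqv : Gc K ≃ K × K × K × K × K × K :=
  ⟨fun c => (c.a, c.u, c.s, c.r, c.v, c.z), fun x => ⟨x.1, x.2.1, x.2.2.1, x.2.2.2.1, x.2.2.2.2.1, x.2.2.2.2.2⟩,
    fun _ => rfl, fun _ => rfl⟩
instance [Finite K] : Finite (Gc K) := Finite.of_equiv _ eqv.symm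
instance [Fintype K] : Fintype (Gc K) := Fintype.ofEquiv _ eqv.symm
instance [DecidableEq K] : DecidableEq (Gc K) := fun c d =>
  decidable_of_iff (c.a = d.a ∧ c.u = d.u ∧ c.s = d.s ∧ c.r = d.r ∧ c.v = d.v ∧ c.z = d.z) Gc.ext_iff.symm
theorem card : Nat.card (Gc K) = Nat.card K ^ 6 := by
  rw [Nat.card_congr eqv]; simp only [Nat.card_prod]; ring

/-- root elements; `el a u s r = (a, u, s, r, 0, 0)` -/
@[simps] def el (a u s r : K) : Gc K := ⟨a, u, s, r, 0, 0⟩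
@[simps] def xa (a : K) : Gc K := ⟨a, 0, 0, 0, 0, 0⟩
@[simps] def xu (u : K) : Gc K := ⟨0, u, 0, 0, 0, 0⟩
@[simps] def xs (s : K) : Gc K := ⟨0, 0, s, 0, 0, 0⟩
@[simps] def xr (r : K) : Gc K := ⟨0, 0, 0, r, 0, 0⟩
@[simps] def xv (v : K) : Gc K := ⟨0, 0, 0, 0, v, 0⟩
@[simps] def xz (z : K) : Gc K := ⟨0, 0, 0, 0, 0, z⟩

/-- a subgroup given by a predicate -/
def sb (p : Gc K → Prop) (h1 : p 1) (h2 : ∀ c d, p c → p d → p (c * d)) (h3 : ∀ c, p c → p c⁻¹) : Subgroup (Gc K) :=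
  ⟨⟨⟨{c | p c}, fun {c d} => h2 c d⟩, h1⟩, fun {c} => h3 c⟩
theorem mem_sb {p : Gc K → Prop} {h1 h2 h3} {c : Gc K} : c ∈ sb p h1 h2 h3 ↔ p c := Iff.rfl
variable (K)
def Z1 : Subgroup (Gc K) := sb (fun c => c.a = 0 ∧ c.u = 0 ∧ c.s = 0 ∧ c.r = 0 ∧ c.v = 0) (by simp)
  (fun _ _ h h' => by simp [h, h']) fun _ h => by simp [h]
def Z2 : Subgroup (Gc K) := sb (fun c => c.a = 0 ∧ c.u = 0 ∧ c.s = 0 ∧ c.r = 0) (by simp)
  (fun _ _ h h' => by simp [h, h']) fun _ h => by simp [h]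
def Z3 : Subgroup (Gc K) := sb (fun c => c.a = 0 ∧ c.u = 0 ∧ c.s = 0) (by simp)
  (fun _ _ h h' => by simp [h, h']) fun _ h => by simp [h]
def Z4 : Subgroup (Gc K) := sb (fun c => c.a = 0 ∧ c.u = 0) (by simp) (fun _ _ h h' => by simp [h, h']) fun _ h => by simp [h]
def Q1 : Subgroup (Gc K) := sb (fun c => c.a = 0) (by simp) (fun _ _ h h' => by simp [h, h']) fun _ h => by simp [h]
def Q2 : Subgroup (Gc K) := sb (fun c => c.u = 0) (by simp) (fun _ _ h h' => by simp [h, h']) fun _ h => by simp [h]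
/-- `X_a Z₃`, `X_a Z₂`, `X_{a+b} Z₂` and the root group `X_{3a+b}` -/
def R2 : Subgroup (Gc K) := sb (fun c => c.u = 0 ∧ c.s = 0) (by simp) (fun _ _ h h' => by simp [h, h']) fun _ h => by simp [h]
def Ya : Subgroup (Gc K) := sb (fun c => c.u = 0 ∧ c.s = 0 ∧ c.r = 0) (by simp) (fun _ _ h h' => by simp [h, h'])
  fun _ h => by simp [h]
def Ys : Subgroup (Gc K) := sb (fun c => c.a = 0 ∧ c.u = 0 ∧ c.r = 0) (by simp) (fun _ _ h h' => by simp [h, h'])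
  fun _ h => by simp [h]
def Zv : Subgroup (Gc K) := sb (fun c => c.a = 0 ∧ c.u = 0 ∧ c.s = 0 ∧ c.r = 0 ∧ c.z = 0) (by simp)
  (fun _ _ h h' => by simp [h, h']) fun _ h => by simp [h]
variable {K} {c : Gc K}
theorem mZ1 : c ∈ Z1 K ↔ c.a = 0 ∧ c.u = 0 ∧ c.s = 0 ∧ c.r = 0 ∧ c.v = 0 := Iff.rfl
theorem mZ2 : c ∈ Z2 K ↔ c.a = 0 ∧ c.u = 0 ∧ c.s = 0 ∧ c.r = 0 := Iff.rfl
theorem mZ3 : c ∈ Z3 K ↔ c.a = 0 ∧ c.u = 0 ∧ c.s = 0 := Iff.rfl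
theorem mZ4 : c ∈ Z4 K ↔ c.a = 0 ∧ c.u = 0 := Iff.rfl
theorem mQ1 : c ∈ Q1 K ↔ c.a = 0 := Iff.rfl
theorem mQ2 : c ∈ Q2 K ↔ c.u = 0 := Iff.rfl
theorem mR2 : c ∈ R2 K ↔ c.u = 0 ∧ c.s = 0 := Iff.rfl
theorem mYa : c ∈ Ya K ↔ c.u = 0 ∧ c.s = 0 ∧ c.r = 0 := Iff.rfl
theorem mYs : c ∈ Ys K ↔ c.a = 0 ∧ c.u = 0 ∧ c.r = 0 := Iff.rfl
theorem mZv : c ∈ Zv K ↔ c.a = 0 ∧ c.u = 0 ∧ c.s = 0 ∧ c.r = 0 ∧ c.z = 0 := Iff.rfl

/-- the semilinear diagonal automorphism with weights `k`, `l` on the simple roots -/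
@[simps] def sc (k l : K) (φ : K ≃+* K) (c : Gc K) : Gc K :=
  ⟨k * φ c.a, l * φ c.u, l * k * φ c.s, l * k ^ 2 * φ c.r, l * k ^ 3 * φ c.v, l ^ 2 * k ^ 3 * φ c.z⟩
/-- the Weyl element of the short root Levi factor on `Q₁` -/
@[simps] def m1 (c : Gc K) : Gc K := ⟨0, c.v, -c.r, c.s, -c.u, c.z - c.u * c.v + 3 * c.s * c.r⟩
/-- the Weyl element of the long root Levi factor on `Q₂` -/
@[simps] def m2 (c : Gc K) : Gc K := ⟨-c.s, 0, c.a, c.r - 2 * c.a * c.s, 3 * c.a * c.s ^ 2 - c.z - 3 * c.s * c.r,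
  3 * c.s * c.a ^ 2 + c.v - 3 * c.a * c.r⟩
end Gc
open Gc

variable {Γ : Type*} [Group Γ]

/-- coordinates on `S` -/
structure Co (S : Subgroup Γ) (ev : Gc K →* Γ) : Prop where
  inj : Function.Injective ev
  mem : ∀ w, w ∈ S ↔ ∃ c, w = ev c

namespace Co
variable {S : Subgroup Γ} {ev : Gc K →* Γ} (h : Co S ev) {c c' : Gc K} {w : Γ} {X Y Z : Subgroup (Gc K)}
include h
theorem mul (c c' : Gc K) : ev c * ev c' = ev (c * c') := (ev.map_mul c c').symm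
theorem inv (c : Gc K) : (ev c)⁻¹ = ev c⁻¹ := (ev.map_inv c).symm
theorem eq1 : ev c = 1 ↔ c = 1 := by rw [← ev.map_one, h.inj.eq_iff]
theorem mm : ev c ∈ X.map ev ↔ c ∈ X := mem_map_iff_mem h.inj
theorem mS (c : Gc K) : ev c ∈ S := (h.mem _).2 ⟨c, rfl⟩
theorem ex (hw : w ∈ S) : ∃ c, True ∧ ev c = w := let ⟨c, e⟩ := (h.mem w).1 hw; ⟨c, trivial, e.symm⟩
theorem le (X : Subgroup (Gc K)) : X.map ev ≤ S := fun _ ⟨c, _, e⟩ => e ▸ h.mS c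
theorem top : (⊤ : Subgroup (Gc K)).map ev = S := le_antisymm (h.le _) fun _ hw => let ⟨c, _, e⟩ := h.ex hw; ⟨c, trivial, e⟩
end Co

/-- translation to coordinates -/
macro "gs" h:term:max "[" ls:Lean.Parser.Tactic.simpLemma,* "]" loc:(Lean.Parser.Tactic.location)? : tactic => `(tactic|
  simp only [Co.mul $h, Co.inv $h, Co.eq1 $h, (Co.inj $h).eq_iff, Co.mm $h, Co.mS $h, Subgroup.mem_bot, Subgroup.mem_top, SetLike.mem_coe,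
  Gc.ext_iff, Gc.mZ1, Gc.mZ2, Gc.mZ3, Gc.mZ4, Gc.mQ1, Gc.mQ2, Gc.mR2, Gc.mYa, Gc.mYs, Gc.mZv, Gc.mem_sb,
  Gc.mul_a, Gc.mul_u, Gc.mul_s, Gc.mul_r, Gc.mul_v, Gc.mul_z, Gc.inv_a, Gc.inv_u, Gc.inv_s, Gc.inv_r, Gc.inv_v, Gc.inv_z,
  Gc.one_a, Gc.one_u, Gc.one_s, Gc.one_r, Gc.one_v, Gc.one_z, Gc.el_a, Gc.el_u, Gc.el_s, Gc.el_r, Gc.el_v, Gc.el_z,
  Gc.xa_a, Gc.xa_u, Gc.xa_s, Gc.xa_r, Gc.xa_v, Gc.xa_z, Gc.xu_a, Gc.xu_u, Gc.xu_s, Gc.xu_r, Gc.xu_v, Gc.xu_z,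
  Gc.xs_a, Gc.xs_u, Gc.xs_s, Gc.xs_r, Gc.xs_v, Gc.xs_z, Gc.xr_a, Gc.xr_u, Gc.xr_s, Gc.xr_r, Gc.xr_v, Gc.xr_z,
  Gc.xv_a, Gc.xv_u, Gc.xv_s, Gc.xv_r, Gc.xv_v, Gc.xv_z, Gc.xz_a, Gc.xz_u, Gc.xz_s, Gc.xz_r, Gc.xz_v, Gc.xz_z,
  Gc.sc_a, Gc.sc_u, Gc.sc_s, Gc.sc_r, Gc.sc_v, Gc.sc_z, Gc.m1_a, Gc.m1_u, Gc.m1_s, Gc.m1_r, Gc.m1_v, Gc.m1_z,
  Gc.m2_a, Gc.m2_u, Gc.m2_s, Gc.m2_r, Gc.m2_v, Gc.m2_z, RingEquiv.refl_apply, RingEquiv.map_zero, RingEquiv.map_one,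
  mul_zero, zero_mul, add_zero, zero_add, sub_zero, neg_zero, mul_one, one_mul, sub_self, add_neg_cancel, neg_add_cancel,
  ne_eq, OfNat.ofNat_ne_zero, not_false_eq_true, zero_pow, one_pow, and_self, and_true, true_and, $ls,*] $[$loc]?)
/-- coordinates of an element of `S` or of a pattern subgroup -/
macro "gb" h:term:max hx:ident c:ident hc:ident : tactic => `(tactic| (
  first | obtain ⟨$c:ident, -, e⟩ := Co.ex $h $hx | obtain ⟨$c:ident, $hc:ident, e⟩ := $hx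
  subst e))
/-- inclusions between pattern subgroups -/
macro "gl" h:term:max : tactic => `(tactic| (intro x hx; gb $h hx c hc; gs $h [] at hc ⊢; gs $h [hc]))
/-- commutator relations between pattern subgroups -/
macro "gk" h:term:max : tactic => `(tactic| (
  intro x hx y hy
  gb $h hx c hc
  gb $h hy c' hc'
  try gs $h [] at hc
  try gs $h [] at hc'
  first | gs $h [hc, hc'] | gs $h [hc'] | gs $h [hc] | gs $h []
  all_goals cg))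

namespace Gc
/-- commutators `c d c⁻¹ d⁻¹` -/
theorem cm_a (c d : Gc K) : (c * d * c⁻¹ * d⁻¹).a = 0 := by simp
theorem cm_u (c d : Gc K) : (c * d * c⁻¹ * d⁻¹).u = 0 := by simp
theorem cm_s (c d : Gc K) : (c * d * c⁻¹ * d⁻¹).s = d.a * c.u - c.a * d.u := by simp; ring
/-- inside `Q₂` -/
theorem cm_r {c d : Gc K} (h : c.u = 0) (h' : d.u = 0) : (c * d * c⁻¹ * d⁻¹).r = 2 * (d.a * c.s - c.a * d.s) := by
  simp [h, h']; ring
/-- with an element of `Z₄` -/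
theorem cm4_s (c : Gc K) {d : Gc K} (h : d.a = 0) (h' : d.u = 0) : (c * d * c⁻¹ * d⁻¹).s = 0 := by
  simp [h, h']; ring
theorem cm4_r (c : Gc K) {d : Gc K} (h : d.a = 0) (h' : d.u = 0) : (c * d * c⁻¹ * d⁻¹).r = -(2 * c.a * d.s) := by
  simp [h, h']; ring
theorem cm4_v (c : Gc K) {d : Gc K} (h : d.a = 0) (h' : d.u = 0) :
    (c * d * c⁻¹ * d⁻¹).v = 3 * c.a * (c.a * d.s - d.r) := by simp [h, h']; ring
/-- with an element of `Z₃` -/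
theorem cm3_z (c : Gc K) {d : Gc K} (h : d.a = 0) (h' : d.u = 0) (h'' : d.s = 0) :
    (c * d * c⁻¹ * d⁻¹).z = c.u * d.v - 3 * c.s * d.r := by simp [h, h', h'']; ring
/-- inside `Q₁` -/
theorem cm1_z {c d : Gc K} (h : c.a = 0) (h' : d.a = 0) :
    (c * d * c⁻¹ * d⁻¹).z = c.u * d.v - d.u * c.v - 3 * c.s * d.r + 3 * d.s * c.r := by simp [h, h']; ring
end Gc

namespace Co
variable {S : Subgroup Γ} {ev : Gc K →* Γ} (h : Co S ev) {w x : Γ}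
include h
theorem cSS : CC S S ((Z4 K).map ev) := by gk h
theorem cS4 : CC S ((Z4 K).map ev) ((Z3 K).map ev) := by gk h
theorem cS3 : CC S ((Z3 K).map ev) ((Z2 K).map ev) := by gk h
theorem cS2 : CC S ((Z2 K).map ev) ((Z1 K).map ev) := by gk h
theorem cS1 : CC S ((Z1 K).map ev) ⊥ := by gk h
theorem c11 : CC ((Q1 K).map ev) ((Q1 K).map ev) ((Z1 K).map ev) := by gk h
theorem c22 : CC ((Q2 K).map ev) ((Q2 K).map ev) ((Z3 K).map ev) := by gk h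
theorem c2Z : CC ((Q2 K).map ev) ((Z2 K).map ev) ⊥ := by gk h
theorem c33 : CC ((Z3 K).map ev) ((Z3 K).map ev) ⊥ := by gk h
theorem cRR : CC ((R2 K).map ev) ((R2 K).map ev) ((Zv K).map ev) := by gk h
theorem caa : CC ((Ya K).map ev) ((Ya K).map ev) ⊥ := by gk h
theorem css : CC ((Ys K).map ev) ((Ys K).map ev) ⊥ := by gk h
theorem l12 : (Z1 K).map ev ≤ (Z2 K).map ev := by gl h
theorem l23 : (Z2 K).map ev ≤ (Z3 K).map ev := by gl h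
theorem l34 : (Z3 K).map ev ≤ (Z4 K).map ev := by gl h
theorem l41 : (Z4 K).map ev ≤ (Q1 K).map ev := by gl h
theorem l42 : (Z4 K).map ev ≤ (Q2 K).map ev := by gl h
theorem l3R : (Z3 K).map ev ≤ (R2 K).map ev := by gl h
theorem lR2 : (R2 K).map ev ≤ (Q2 K).map ev := by gl h
theorem lv2 : (Zv K).map ev ≤ (Z2 K).map ev := by gl h
theorem l2a : (Z2 K).map ev ≤ (Ya K).map ev := by gl h
theorem l2s : (Z2 K).map ev ≤ (Ys K).map ev := by gl h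
theorem laR : (Ya K).map ev ≤ (R2 K).map ev := by gl h
theorem ls4 : (Ys K).map ev ≤ (Z4 K).map ev := by gl h
variable {p : ℕ} [CharP K p]
theorem pwS (hw : w ∈ S) : w ^ p ∈ (Z4 K).map ev := by
  gb h hw c hc
  exact ev.map_pow c p ▸ h.mm.2 ⟨pw_add Gc.a (fun _ _ _ _ => rfl) (mem_top c), pw_add Gc.u (fun _ _ _ _ => rfl) (mem_top c)⟩
theorem pw2 (hw : w ∈ (Q2 K).map ev) : w ^ p ∈ (Z3 K).map ev := by
  gb h hw c hc
  exact ev.map_pow c p ▸ h.mm.2 ⟨pw_add Gc.a (fun _ _ _ _ => rfl) hc, pw_add Gc.u (fun _ _ _ _ => rfl) hc,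
    pw_add Gc.s (fun _ k _ _ => by simp [mQ2.1 k]) hc⟩
theorem pw1 (hw : w ∈ (Q1 K).map ev) : w ^ p ∈ (Z1 K).map ev := by
  gb h hw c hc
  exact ev.map_pow c p ▸ h.mm.2 ⟨pw_add Gc.a (fun _ _ _ _ => rfl) hc, pw_add Gc.u (fun _ _ _ _ => rfl) hc,
    pw_add Gc.s (fun _ _ _ k => by simp [mQ1.1 k]) hc, pw_add Gc.r (fun _ _ _ k => by simp [mQ1.1 k]) hc,
    pw_add Gc.v (fun _ _ _ k => by simp [mQ1.1 k]) hc⟩
theorem pw3 (hw : w ∈ (Z3 K).map ev) : w ^ p = 1 := by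
  have k := h.pw1 (p := p) (h.l41 (h.l34 hw))
  gb h hw c hc
  rw [← ev.map_pow, h.mm] at k
  rw [← ev.map_pow, h.eq1]
  exact Gc.ext k.1 k.2.1 k.2.2.1 k.2.2.2.1 k.2.2.2.2 (pw_add Gc.z (fun _ k _ k' => by simp [mZ3.1 k, mZ3.1 k']) hc)
end Co

end H25.GC
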