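/-
Fusion systems on a Sylow `p`-subgroup of `G₂(q)`, part 1: the interface.
-/
import Cfsg.Agent.H2.G0
import Cfsg.Prelude.Def_G2
import Cfsg.Prelude.Def_FusionSystem

set_option autoImplicit false
set_option linter.unusedSectionVars false
set_option linter.unusedSimpArgs false

namespace H25.GC
open Subgroup H25 H8.PU Gc H2.G
universe u v w
variable {K : Type v} [Field K] {Γ : Type u} [Group Γ]

/-- `τ` acts as the semilinear diagonal automorphism with weights `k`, `l` on the simple roots -/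
structure Wt (ev : Gc K →* Γ) (τ : Γ) (k l : K) (φ : K ≃+* K) : Prop where
  k0 : k ≠ 0
  l0 : l ≠ 0
  cj : ∀ c, τ * ev c * τ⁻¹ = ev (sc k l φ c)
/-- `g` acts on `S / Z₄` with weights `k`, `l` -/
def Ac (ev : Gc K →* Γ) (g : Γ) (k l : K) (φ : K ≃+* K) : Prop :=
  ∀ c c', g * ev c * g⁻¹ = ev c' → c'.a = k * φ c.a ∧ c'.u = l * φ c.u
/-- `g` acts on `Q₂ / Z₃` by the matrix `(α β; γ δ)` -/
def Ac2 (ev : Gc K →* Γ) (g : Γ) (α β γ δ : K) : Prop :=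
  ∀ c c', c.u = 0 → g * ev c * g⁻¹ = ev c' → c'.a = α * c.a + β * c.s ∧ c'.s = γ * c.a + δ * c.s
/-- the Weyl elements -/
structure Wy (ev : Gc K →* Γ) (M1 M2 : Γ) : Prop where
  f1 : ∀ c : Gc K, c.a = 0 → M1 * ev c * M1⁻¹ = ev (m1 c)
  f2 : ∀ c : Gc K, c.u = 0 → M2 * ev c * M2⁻¹ = ev (m2 c)
/-- the model: `L = G₂(q)`, `C0` the semilinear diagonal group -/
structure Md (p : ℕ) (S : Subgroup Γ) (ev : Gc K →* Γ) (L C0 : Subgroup Γ) (M1 M2 : Γ) : Prop extends Co S ev, Wy ev M1 M2 where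
  pg : IsPGroup p S
  syl : Syl p S L
  CL : C0 ≤ nz L
  wt : ∀ τ ∈ C0, ∃ k l φ, Wt ev τ k l φ
  ex' : ∀ k l φ, k ≠ 0 → l ≠ 0 → ∃ τ ∈ C0, Wt ev τ k l φ
  fa : ∀ τ ∈ C0, Wt ev τ 1 1 (.refl K) → τ = 1
  nl : ∀ g ∈ L, g ∈ nz S → ∃ s ∈ S, ∃ τ k l, Wt ev τ k l (.refl K) ∧ g = s * τ
  M1L : M1 ∈ L
  M2L : M2 ∈ L

/-- `x ↦ x³` is not additive on the orbits of `κ` -/
def Rg (κ : K) : Prop := ∀ f : K →+ K, (∀ x, f (κ * x) = κ ^ 3 * f x) → ∀ x, f x = 0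
/-- the Weyl element `m1` twisted by a central automorphism (`q = 4`) -/
@[simps] def m1' (β : K) (c : Gc K) : Gc K := ⟨0, c.v, -c.r, c.s, -c.u, c.z - c.u * c.v + 3 * c.s * c.r + β * (c.u ^ 2 + c.v ^ 2)⟩
/-- the Weyl element `m2` twisted by a central automorphism (`q = 2`) -/
@[simps] def m2' (β : K) (c : Gc K) : Gc K := ⟨-c.s, 0, c.a, c.r - 2 * c.a * c.s, 3 * c.a * c.s ^ 2 - c.z - 3 * c.s * c.r + β * c.a,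
  3 * c.s * c.a ^ 2 + c.v - 3 * c.a * c.r + β * c.s⟩

/-! linear algebra on `V = Q₁ / Z₁`, coordinates `(u, s, r, v)` -/
/-- squares in `Q₁` for `p = 2` -/
def qf (x : VV K) : K := x.1 * x.2.2.2 - 3 * x.2.1 * x.2.2.1
/-- `g` fixes the point `∞` -/
def Bo (g : AZ K) : Prop := ∃ c, g (0, 0, 0, 1) = (0, 0, 0, c)
/-- the image in `GL(V)` of the subgroup of the automizer of `Q₁` acting on `Z₁` by scalars -/
structure LH [Finite K] (p : ℕ) (G : Subgroup (AZ K)) : Prop where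
  syl : Syl p (TZ K) G
  fm : ∀ g ∈ G, ∃ μ : K, ∀ x y, oZ (g x) (g y) = μ * oZ x y
  sq : p = 2 → ∀ g ∈ G, ∀ x, qf x = 0 → qf (g x) = 0
  bor : ∀ g ∈ G, Bo g → ∃ τ k l, k ≠ 0 ∧ l ≠ 0 ∧ DZ ((tZ τ)⁻¹ * g) k l (.refl K)
  ti : ∀ g ∈ G, ∀ τ, τ ≠ 0 → g * tZ τ * g⁻¹ ∈ TZ K → Bo g
  ne : ∃ g ∈ G, ¬ Bo g
  tt : ∀ l, l ≠ 0 → ∃ g ∈ G, DZ g l⁻¹ (l ^ 2) (.refl K)
/-- the points lie on the twisted cubic -/
def Pt (G : Subgroup (AZ K)) : Prop := ∀ g ∈ G, Bo g ∨ ∃ τ c, g (0, 0, 0, 1) = (c, c * τ, c * τ ^ 2, c * τ ^ 3)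
/-- `G` contains `SL₂(q)` and has the standard points -/
def Su (G : Subgroup (AZ K)) : Prop := (∀ ν, ν ≠ 0 → ∃ g ∈ G, DZ g (ν ^ 2) (ν ^ 3)⁻¹ (.refl K)) ∧ nZ ∈ G ∧
  ∀ g ∈ G, Bo g ∨ ∃ τ, Bo (nZ * tZ τ * g)
theorem oZ_nd (h3 : (3 : K) ≠ 0) {x : VV K} (h : ∀ y, oZ x y = 0) : x = 0 := by
  have h1 := h (1, 0, 0, 0)
  have h2 := h (0, 1, 0, 0)
  have h4 := h (0, 0, 1, 0)
  have h5 := h (0, 0, 0, 1)
  simp [oZ, h3] at h1 h2 h4 h5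
  exact Prod.ext h5 (Prod.ext h4 (Prod.ext h2 h1))
/-- similitudes are linear -/
theorem lin_of (h3 : (3 : K) ≠ 0) {g : AZ K} {μ : K} (h : ∀ x y, oZ (g x) (g y) = μ * oZ x y) (c : K) (x : VV K) :
    g (c • x) = c • g x := sub_eq_zero.1 (oZ_nd h3 fun y => by
  obtain ⟨y, rfl⟩ := g.surjective y
  have e1 := h (c • x) y
  have e2 := h x y
  simp only [oZ, Prod.smul_fst, Prod.smul_snd, Prod.fst_sub, Prod.snd_sub, smul_eq_mul] at e1 e2 ⊢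
  linear_combination e1 - c * e2)
theorem LH.lin [Finite K] {p : ℕ} {G : Subgroup (AZ K)} (h : LH p G) (h3 : (3 : K) ≠ 0) {g : AZ K} (hg : g ∈ G) (c : K) (x : VV K) :
    g (c • x) = c • g x := let ⟨_, e⟩ := h.fm g hg; lin_of h3 e c x
/-- `q = 2`: `V` consists of the matrices `[[u, r], [s, v]]`; the involutions `nL = wL tR`, `nR = tL wR`, `nD = wL tR wR tR` -/
def nL : AZ (ZMod 2) := ⟨⟨⟨fun x => (x.2.1, x.1, x.2.2.2 + x.2.1, x.2.2.1 + x.1), by decide⟩, fun n x => by ext <;> simp [mul_add]⟩,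
  fun x => (x.2.1, x.1, x.2.2.2 + x.2.1, x.2.2.1 + x.1), fun x => by revert x; decide, fun x => by revert x; decide⟩
def nR : AZ (ZMod 2) := ⟨⟨⟨fun x => (x.2.2.1, x.2.2.2 + x.2.2.1, x.1, x.2.1 + x.1), by decide⟩, fun n x => by ext <;> simp [mul_add]⟩,
  fun x => (x.2.2.1, x.2.2.2 + x.2.2.1, x.1, x.2.1 + x.1), fun x => by revert x; decide, fun x => by revert x; decide⟩
def nD : AZ (ZMod 2) := ⟨⟨⟨fun x => (x.2.2.2 + x.2.1, x.2.2.1 + x.1, x.2.2.2, x.2.2.1), by decide⟩, fun n x => by ext <;> simp [mul_add]⟩,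
  fun x => (x.2.2.2 + x.2.1, x.2.2.1 + x.1, x.2.2.2, x.2.2.1), fun x => by revert x; decide, fun x => by revert x; decide⟩
theorem nL_ap (x : VV (ZMod 2)) : nL x = (x.2.1, x.1, x.2.2.2 + x.2.1, x.2.2.1 + x.1) := rfl
theorem nR_ap (x : VV (ZMod 2)) : nR x = (x.2.2.1, x.2.2.2 + x.2.2.1, x.1, x.2.1 + x.1) := rfl
theorem nD_ap (x : VV (ZMod 2)) : nD x = (x.2.2.2 + x.2.1, x.2.2.1 + x.1, x.2.2.2, x.2.2.1) := rfl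

theorem n23 {p : ℕ} [hp : Fact p.Prime] [CharP K p] (h : 5 ≤ p) : (2 : K) ≠ 0 ∧ (3 : K) ≠ 0 :=
  ⟨fun e => absurd (Nat.le_of_dvd two_pos ((CharP.cast_eq_zero_iff K p 2).1 (by simpa using e))) (by omega),
    fun e => absurd (Nat.le_of_dvd three_pos ((CharP.cast_eq_zero_iff K p 3).1 (by simpa using e))) (by omega)⟩

/-! the chunks; standing instances `[Finite K] [Finite Γ] [Fact p.Prime] [CharP K p]` -/
section chunks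
variable (K Γ) (p : ℕ) [Finite K] [Finite Γ]
def ES : Prop := 5 ≤ p → Nat.card K ≠ 7 → ∀ (F : FS Γ) (ev : Gc K →* Γ), F.Sat p → Co F.S ev → ∀ P, F.Ess P →
  P = (Q1 K).map ev ∨ P = (Q2 K).map ev
def E2 : Prop := p = 2 → ∀ (S P A : Subgroup Γ) (ev : Gc K →* Γ), Co S ev → Es p S P A →
  P = (Q1 K).map ev ∨ P = (Q2 K).map ev
def G3 : Prop := p = 2 → ∀ (S A : Subgroup Γ) (ev : Gc K →* Γ), Co S ev → Es p S ((Q2 K).map ev) A →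
  A ≤ nz ((Z3 K).map ev) ∨ (∀ x : K, x ^ 4 = x) ∧ A ≤ nz ((Ys K).map ev)
def AU : Prop := ∀ (S : Subgroup Γ) (ev : Gc K →* Γ), Co S ev → ∀ g ∈ nz S, g ∈ nz ((Q1 K).map ev) → g ∈ nz ((Q2 K).map ev) →
  g ∈ nz ((Z3 K).map ev) → ∃ k l φ, k ≠ 0 ∧ l ≠ 0 ∧ Ac ev g k l φ
def BO1 : Prop := (3 : K) ≠ 0 → ∀ (S A : Subgroup Γ) (ev : Gc K →* Γ), Co S ev → Es p S ((Q1 K).map ev) A →
  TI S ((Q1 K).map ev) A (A ⊓ nz (ai S ((Q1 K).map ev))) → ∀ g ∈ A, g ∈ nz ((Z2 K).map ev) → g ∈ nz (ai S ((Q1 K).map ev))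
def G2 : Prop := (3 : K) ≠ 0 → ∀ (S : Subgroup Γ) (ev : Gc K →* Γ) (M1 M2 : Γ), Co S ev → Wy ev M1 M2 →
  ∀ g ∈ nz ((Q2 K).map ev), g ∈ nz ((Z3 K).map ev) → g ∈ nz ((Z4 K).map ev) ∨ ∃ u ∈ S, M2 * u * g ∈ nz ((Z4 K).map ev)
def S2 : Prop := (3 : K) ≠ 0 → ∀ (S A : Subgroup Γ) (ev : Gc K →* Γ) (M1 M2 : Γ), Co S ev → Wy ev M1 M2 →
  Es p S ((Q2 K).map ev) A → A ≤ nz ((Z3 K).map ev) →
  (∀ l, l ≠ 0 → ∃ g ∈ A, Ac2 ev g l⁻¹ 0 0 l) ∧ ∃ g ∈ A, Ac2 ev g 0 (-1) 1 0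
def N2 : Prop := (3 : K) ≠ 0 → ∀ (S A : Subgroup Γ) (ev : Gc K →* Γ) (M1 M2 : Γ), Co S ev → Wy ev M1 M2 →
  Es p S ((Q2 K).map ev) A → A ≤ nz ((Z3 K).map ev) → (∃ τ ∈ A, ∃ κ, Wt ev τ κ 1 (.refl K) ∧ Rg κ) →
  (∃ g ∈ A, Ac2 ev g 0 (-1) 1 0) → M2 ∈ A
def IN : Prop := (3 : K) ≠ 0 → ∀ (S : Subgroup Γ) (ev : Gc K →* Γ) (g : Γ) (f : VV K → K), Co S ev →
  (∀ c x, f (c • x) = c * f x) → (∀ c : Gc K, c.a = 0 → g * ev c * g⁻¹ = ev (c * xz (f (pv c)))) →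
  g ∈ ai ((Q1 K).map ev) ((Q1 K).map ev)
def N1 : Prop := (3 : K) ≠ 0 → 2 < Nat.card K → ∀ (S A : Subgroup Γ) (ev : Gc K →* Γ) (M1 M2 : Γ), Co S ev → Wy ev M1 M2 →
  Es p S ((Q1 K).map ev) A → (∀ k l, k ≠ 0 → l ≠ 0 → ∃ τ ∈ A, Wt ev τ k l (.refl K)) → nZ ∈ imZ ev A →
  ∃ β, (β = 0 ∨ ∀ x : K, x ^ 4 = x) ∧ ∃ g ∈ A, ∀ c : Gc K, c.a = 0 → g * ev c * g⁻¹ = ev (m1' β c)
def AV : Prop := 8 ≤ Nat.card K → ∀ (f1 f2 f3 f4 : VV K →ₗ[K] K) (x : VV K) [Fintype K] [Fintype Kˣ],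
  ∑ l : Kˣ, ∑ τ : K, (l : K) ^ 2 * (let y := tZ τ x; let y' : VV K := ((l : K)⁻¹ ^ 2 * y.1, (l : K)⁻¹ * y.2.1, y.2.2.1, l * y.2.2.2)
    f1 y' * f2 y' * f3 y' * f4 y') = 0
def LA : Prop := 5 ≤ p → 8 ≤ Nat.card K → ∀ G : Subgroup (AZ K), LH p G → Pt G
def LB : Prop := p = 2 → 2 < Nat.card K → ∀ G : Subgroup (AZ K), LH p G → Pt G
def LC : Prop := (3 : K) ≠ 0 → 2 < Nat.card K → ∀ G : Subgroup (AZ K), LH p G → Pt G → Su G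
def TR : Prop := (3 : K) ≠ 0 → ∀ (S A D : Subgroup Γ) (ev : Gc K →* Γ) (M1 M2 : Γ), Co S ev → Wy ev M1 M2 →
  Es p S ((Q1 K).map ev) A → TI S ((Q1 K).map ev) A (A ⊓ nz (ai S ((Q1 K).map ev))) →
  (∀ g ∈ A, g ∈ nz ((Z2 K).map ev) → ∃ u ∈ S, ∃ τ ∈ D, ∃ k l φ, Wt ev τ k l φ ∧ Agree ((Q1 K).map ev) g (u * τ)) →
  (∀ l, l ≠ 0 → ∃ τ ∈ A, Wt ev τ l⁻¹ (l ^ 2) (.refl K)) →
  ∃ A0 ≤ A, LH p (imZ ev A0) ∧ A ⊓ cz ((Z1 K).map ev) ≤ A0 ∧ (Su (imZ ev A0) →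
    (∀ ν, ν ≠ 0 → ∃ τ ∈ D, Wt ev τ (ν ^ 2) (ν ^ 3)⁻¹ (.refl K)) ∧
      ∀ g ∈ A, g ∈ nz ((Z2 K).map ev) ∨ ∃ u ∈ S, M1 * u * g ∈ nz ((Z2 K).map ev))
def N22 : Prop := ∀ (S A : Subgroup Γ) (ev : Gc (ZMod 2) →* Γ), Co S ev → Es 2 S ((Q2 _).map ev) A → A ≤ nz ((Z3 _).map ev) →
  (∃ g ∈ A, Ac2 ev g 0 (-1) 1 0) → ∃ β, ∃ g ∈ A, ∀ c : Gc (ZMod 2), c.u = 0 → g * ev c * g⁻¹ = ev (m2' β c)
def MD : Prop := ∃ (G : Type v) (_ : Group G) (_ : Finite G) (ev : Gc K →* G) (L C0 : Subgroup G) (M1 M2 : G),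
  Md p ev.range ev L C0 M1 M2
end chunks
def LQ : Prop := ∀ G : Subgroup (AZ (ZMod 2)), LH 2 G → G = closure {tZ 1, nZ} ∨ G = closure {tZ 1, nD} ∨
  G = closure {tZ 1, nL} ∨ G = closure {tZ 1, nR} ∨ G = closure {tZ 1, nZ, nR}
/-- a finite group with Sylow 2-subgroup `S` (`q = 2`) of the given type -/
def Mo (a b : Prop) : Prop := ∃ (G : Type) (_ : Group G) (_ : Finite G) (ev : Gc (ZMod 2) →* G) (H : Subgroup G),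
  Function.Injective ev ∧ Syl 2 ev.range H ∧ (∃ g ∈ H, ∀ c : Gc (ZMod 2), c.u = 0 → g * ev c * g⁻¹ = ev (m2 c)) ∧
    (nZ ∈ imZ ev H ↔ a) ∧ (nR ∈ imZ ev H ↔ b)
/-- `G₂(2)`, `M₁₂`, `G₂(3)` -/
def MA : Prop := Mo True False
def MB : Prop := Mo False True
def MC : Prop := Mo True True
def SY : Prop := ∀ (K : Type v) [Field K] [Fintype K] (p : ℕ) [Fact p.Prime] [CharP K p] (T : Sylow p (Cfsg.Lie.G2 K)),
  Nonempty (Gc K ≃* (T : Subgroup (Cfsg.Lie.G2 K)))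
/-- the conclusion of a branch -/
def Br (K : Type v) [Field K] (p : ℕ) : Prop := ∀ (Ω : Type w) [Group Ω] (S : Subgroup Ω) [Finite S], IsPGroup p S →
  ∀ F : Cfsg.FusionSystem S, F.IsSaturated p → (S ≃* Gc K) → F.IsRealizable p
/-- change of field -/
def Gc.cg {K' : Type*} [Field K'] (φ : K ≃+* K') : Gc K ≃* Gc K' where
  toFun c := ⟨φ c.a, φ c.u, φ c.s, φ c.r, φ c.v, φ c.z⟩
  invFun c := ⟨φ.symm c.a, φ.symm c.u, φ.symm c.s, φ.symm c.r, φ.symm c.v, φ.symm c.z⟩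
  left_inv c := by simp
  right_inv c := by simp
  map_mul' c d := by ext <;> simp [map_ofNat]
theorem Br.cg {K' : Type*} [Field K'] {p : ℕ} (h : Br.{_, w} K' p) (φ : K ≃+* K') : Br.{_, w} K p :=
  fun Ω _ S _ hS F hF e => h Ω S hS F hF (e.trans (Gc.cg φ))

end H25.GC
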