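import Cfsg.Agent.H25.ZL5

/-! Groups of order `|M₂₄|`: `N(E)` does not normalize `R` (conclusion). -/

set_option autoImplicit false
set_option linter.unusedSectionVars false

namespace H25.ZL
open Cfsg Subgroup H19 H13.Z H17.GS

variable {G : Type*} [Group G] [Finite G] {a b c g p r s t u v w x y : G} {D E H K L P Q R S T X Y : Subgroup G}

section
variable (h : EG w u r R E)
include h

theorem two (ht : t ∈ C(R)) (hi : t * w * t⁻¹ = w⁻¹) : ∃ a ∈ R, ∃ b ∈ R, a ≠ b ∧ IsConj r (t * a) ∧ IsConj r (t * b) := by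
  have l := l4 h
  have c : {s | IsConj r s ∧ s * w * s⁻¹ = w⁻¹}.ncard = 15 := h.j15
  have k : ∀ s, IsConj r s → s * w * s⁻¹ = w⁻¹ → ∃ a ∈ R, IsConj r (t * a) ∧ ∃ g ∈ zpowers w, g * (t * a) * g⁻¹ = s := by
    intro s k1 k2
    have n : s ∈ N(zpowers w) := mem_norm_of_cj_le (by rw [H19.cj_zpowers, k2, zpowers_inv])
    have ss : s * s = 1 := let ⟨g, e⟩ := isConj_iff.1 k1; e ▸ conj_sq (sq_one l.ab h.rR) g
    have m := card_mod Nat.prime_two (sq s ▸ ss) (nR h.l5 n)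
    obtain ⟨a, ha, a1⟩ := exists_ne_one (H := R ⊓ C[s]) fun e => by
      rw [e, card_bot, h.c4] at m; exact absurd m (by decide)
    have cw : R ⊔ zpowers w = C[a] ⊓ C[w] := eq_of_le_of_card_eq (sup_le (le_inf (l.Rc ha.1) h.l5.Rle)
      (zpowers_le.2 (mem_inf.2 ⟨wc h.l5 ha.1, mem_cent1_self w⟩))) (by
        rw [cwc h.l5 ha.1 a1 (l.Rc ha.1), card_sup_of_disjoint (le_normalizer.trans (nR h.l5))
          (inf_eq_bot_of_cop (by rw [h.c4, cz h.l5.ow]; decide)), cz h.l5.ow])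
    obtain ⟨b, hb, y, hy, e⟩ := (mem_sup_of_norm (le_normalizer.trans (nR h.l5))).1 (cw.ge (show t⁻¹ * s ∈ _ from
      mem_inf.2 ⟨mul_mem (inv_mem (cent_le_cent1 ha.1 ht)) (mem_cent1_symm.1 ha.2), mem_cent1.2 (cc' (by
        rw [← conj_conj', k2, ← hi]; group))⟩))
    have i : ∀ y ∈ zpowers w, s * y * s⁻¹ = y⁻¹ := by
      rintro _ ⟨j, rfl⟩; simp only; rw [← conj_zpow, k2, inv_zpow]
    have y5 : y ^ 5 = 1 := orderOf_dvd_iff_pow_eq_one.1 (cz h.l5.ow ▸ orderOf_dvd_card' hy)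
    have e2 : y ^ 3 * s * (y ^ 3)⁻¹ = t * b := by
      rw [show y ^ 3 * s * (y ^ 3)⁻¹ = s * ((s⁻¹ * y ^ 3 * s⁻¹⁻¹) * (y ^ 3)⁻¹) by group, inv2 ss, i _ (pow_mem hy 3),
        ← mul_inv_rev, ← pow_add, show 3 + 3 = 5 + 1 from rfl, pow_succ, y5, one_mul, inv_mul_eq_iff_eq_mul.1 e]
      group
    exact ⟨b, hb, e2 ▸ k1.trans (isConj_iff.2 ⟨_, rfl⟩), _, inv_mem (pow_mem hy 3), by rw [← e2]; group⟩
  by_contra! n
  obtain ⟨s, k1, k2⟩ := Set.nonempty_of_ncard_ne_zero (c.trans_ne (by decide))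
  obtain ⟨a, ha, k3, -⟩ := k s k1 k2
  have := (Set.ncard_le_ncard (t := (fun g => g * (t * a) * g⁻¹) '' zpowers w) (s := {s | IsConj r s ∧ s * w * s⁻¹ = w⁻¹})
    fun s hs => by
      obtain ⟨b, hb, k4, k5⟩ := k s hs.1 hs.2
      rwa [show a = b from by_contra fun e => n a ha b hb e k3 k4]).trans (Set.ncard_image_le)
  rw [c, show (zpowers w : Set G).ncard = 5 from cz h.l5.ow] at this
  omega

theorem no3 (hM : ∀ g ∈ N(E), g * r * g⁻¹ ∈ R) : False := by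
  have l := l4 h
  have A := ea h
  obtain ⟨S0, f, p0, l0, f0, fi⟩ := exf h
  obtain ⟨S, hS, l1⟩ := p0.exists_syl l0
  have cS : #S = 2 ^ 9 := Nat.dvd_antisymm (hS.pi.dvd_of_dvd_mul (b := 15) (PiN.of_not_dvd (by decide))
    ((card_dvd hS.le).trans (by rw [h.cr]; decide))) (hS.dvd (PiN.prime_pow Nat.prime_two 9) (by rw [h.cr]; decide))
  have lE : E ≤ C[r] := ab_cent1 A (h.ee.Rle h.rR)
  have nE : E ⊴ S := ⟨hS.le_of_norm' lE (ab_pg A) (hS.le.trans h.ee.nr), hS.le.trans h.ee.nr⟩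
  obtain ⟨T, pT, lT, cT⟩ := up h.l5.card hS.pi cS (by decide)
  obtain ⟨n, g, g1, -, g3, g4⟩ := idx2 pT lT cT
  obtain ⟨nE', nD⟩ := tw_norm nE (n g1) g3
  have A' := abelem_J A g
  have cE' : #(H19.cj g E) = 64 := (H19.card_cj g E).trans h.ee.card
  set E' := H19.cj g E with hE'
  have ne : ¬ E' ≤ E := fun e => by
    have := card_dvd (g4 ▸ sup_le nE.norm (zpowers_le.2 (mem_norm_of_cj_le e)) : T ≤ N(E))
    rw [cT, cS, cM h hM] at this; omega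
  have t0 : f * f ∉ E := fun e => by
    have : f * f ∈ R := EN h ▸ mem_inf.2 ⟨e, mem_norm_of_cj_le (by rw [H19.cj_zpowers, fi, zpowers_inv])⟩
    rw [cc (mem_cent1.1 (h.l5.Rle this)), eq_inv_iff_mul_eq_one] at fi
    exact absurd (h.l5.ow ▸ orderOf_dvd_of_pow_eq_one (sq w ▸ fi)) (by decide)
  have ms := @mem_sup_of_norm _ _ _ _ (nE.norms nE'.le)
  have lt : E ⊔ E' < S := (sup_le nE.le nE'.le).lt_of_ne fun e => by
    obtain ⟨a, ha, b, hb, rfl⟩ := ms.1 (e.ge (l1 f0))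
    refine t0 ?_
    rw [show a * b * (a * b) = a * (b * a * b⁻¹) * (b * b) by group, sq_one A' hb, mul_one]
    exact mul_mem ha (nE.conj_mem (nE'.le hb) ha)
  have c1 := hS.pi.card_mul_le lt
  have c2 := card_sup_mul_inf (nE.norms nE'.le)
  rw [h.ee.card, cE'] at c2
  have c3 : 16 ≤ #(E ⊓ E') := by rw [cS] at c1; nlinarith
  have K : ∀ t ∈ E', t ∉ E → E ⊓ C[t] = E ⊓ E' ∧ u ∈ N(E ⊓ E') ∧ #(E ⊓ E') = 16 := fun t ht t1 => by
    have i : E ⊓ E' ≤ E ⊓ C[t] := inf_le_inf_left _ (ab_cent1 A' ht)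
    obtain ⟨k1, k2⟩ := c16 h hM (nE.norm (nE'.le ht)) t1 (c3.trans (card_le i))
    have e := eq_of_le_of_card_eq i (le_antisymm (card_le i) (k2 ▸ c3))
    exact ⟨e.symm, e ▸ k1, e ▸ k2⟩
  obtain ⟨t1, m1, m2⟩ := SetLike.not_le_iff_exists.1 ne
  obtain ⟨-, uD, cD⟩ := K t1 m1 m2
  obtain ⟨e, he, t, ht, et⟩ := ms.1 (mul_self_mem_of_index_two (H := (E ⊔ E').subgroupOf S) (by
    have := card_mul_relIndex lt.le
    rw [cD] at c2; rw [cS, show #(E ⊔ E') = 256 by omega] at this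
    exact (by omega : (E ⊔ E').relIndex S = 2)) ⟨f, l1 f0⟩)
  replace et : f * f = e * t := et
  have tE : t ∉ E := fun k => t0 (et ▸ mul_mem he k)
  have RD : R ≤ E ⊓ E' := fun x hx => by
    have m : r ∈ E ⊓ E' := (K t ht tE).1 ▸ mem_inf.2 ⟨h.ee.Rle h.rR, mem_cent1_symm.1 (hS.le (nE'.le ht))⟩
    rcases l.mem h.rR h.r1 hx with rfl | rfl | rfl | rfl
    exacts [one_mem _, m, conj_mem_of_norm uD m, mul_mem m (conj_mem_of_norm uD m)]
  have tR : t ∈ C(R) := cent_mono (RD.trans inf_le_right) (ab_cent A' ht)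
  obtain ⟨a, ha, b, hb, ab, ka, kb⟩ := two h (et ▸ mul_mem (cent_mono h.ee.Rle (ab_cent A he)) tR) fi
  have eD : ∀ a ∈ R, IsConj r (f * f * a) → f * f * a * t ∈ E ⊓ E' := fun a ha k => by
    have ss : f * f * a * (f * f * a) = 1 := let ⟨g, e⟩ := isConj_iff.1 k; e ▸ conj_sq (sq_one l.ab h.rR) g
    have m := mul_mem he (h.ee.Rle ha)
    rw [et, mul_assoc e, ← mem_cent.1 tR a ha, ← mul_assoc e a t] at ss ⊢
    rw [mul_assoc, sq_one A' ht, mul_one, ← (K t ht tE).1]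
    refine mem_inf.2 ⟨m, mem_cent1.2 ?_⟩
    rw [mul_eq_one_iff_eq_inv, mul_inv_rev, inv_eq A' ht, inv_eq A m] at ss
    exact ss
  let O : G → Set G := fun s => (fun g => g * s * g⁻¹) '' E
  have sE : ∀ s, s * t ∈ E ⊓ E' → s ∈ E' ∧ s ∉ E := fun s k =>
    ⟨(mul_mem_cancel_right ht).1 k.2, fun j => tE ((mul_mem_cancel_left j).1 k.1)⟩
  have o1 : ∀ s, s * t ∈ E ⊓ E' → (O s).ncard = 4 := fun s k => by
    have := card_inf_mul_relIndex C[s] E
    rw [inf_comm, (K s (sE s k).1 (sE s k).2).1, cD, h.ee.card, ← ncard_cls] at this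
    simp only [O]; omega
  have o2 : ∀ s, IsConj r s → s * t ∈ E ⊓ E' → O s ⊆ {x | IsConj r x ∧ x * t ∈ E ⊓ E'} := by
    rintro s k1 k2 _ ⟨x, hx, rfl⟩
    refine ⟨k1.trans (isConj_iff.2 ⟨x, rfl⟩), ?_⟩
    rw [show x * s * x⁻¹ * t = x * s * x⁻¹ * s⁻¹ * (s * t) by group]
    exact mul_mem (commg_le_inf (nE.norms nE'.le) (nE'.norms nE.le) (comm_mem hx (sE s k2).1)) k2
  have dp := ab_cent_dprod A.1 (zpowers_le.2 (wE h)) (cop5 h)
  rw [cent_zpowers, Ew h] at dp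
  have d : Disjoint (O (f * f * a)) (O (f * f * b)) := Set.disjoint_left.2 fun _ ⟨x, hx, e1⟩ ⟨y, hy, e2⟩ => by
    obtain ⟨p, hp, q, hq, e3⟩ := dp.sd.mem (mul_mem (inv_mem hy) hx)
    have sN : f * f * a ∈ N(zpowers w) := mul_mem (mem_norm_of_cj_le (by rw [H19.cj_zpowers, fi, zpowers_inv]))
      (cN h.l5 (h.l5.Rle ha))
    have sW := zpowers_le.1 (norms_comm (zpowers_le.2 (h.ee.nw sN)) (zpowers_le.2 sN))
    have cR := (ab_cent A').trans (cent_mono (RD.trans inf_le_right))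
    have s1 := cR (sE _ (eD a ha ka)).1
    have s2 := cR (sE _ (eD b hb kb)).1
    have e4 : q * (f * f * a) * q⁻¹ = f * f * b := by
      rw [← cc (mem_cent.1 s2 _ (inv_mem hp)), show f * f * b = (y⁻¹ * x) * (f * f * a) * (y⁻¹ * x)⁻¹ by
        rw [← conj_conj', show x * _ * x⁻¹ = _ from e1.trans e2.symm]; group, e3]
      group
    refine ab (inv_mul_eq_one.1 (mem_bot.1 (dp.inf.le (mem_inf.2 ⟨mul_mem (inv_mem ha) hb, ?_⟩))))
    rw [show a⁻¹ * b = (f * f * a)⁻¹ * (f * f * b) by group, ← e4, ← mul_assoc, ← mul_assoc]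
    exact mul_mem (conj_mem_of_norm' sW hq) (inv_mem hq)
  have b1 := Set.ncard_le_ncard (Set.union_subset (o2 _ ka (eD a ha ka)) (o2 _ kb (eD b hb kb)))
  rw [Set.ncard_union_eq d, o1 _ (eD a ha ka), o1 _ (eD b hb kb)] at b1
  have gD := inv_mem (nD (mem_sup_right (mem_zpowers g)))
  have b2 := big h inf_le_left uD (H19.mem_cj.1 ht) fun k => tE (by
    simpa [mul_assoc] using (conj_mem_of_norm' gD k).1)
  have b3 : {x | IsConj r x ∧ x * t ∈ E ⊓ E'}.ncard ≤ {x | IsConj r x ∧ x * (g⁻¹ * t * g) ∈ E ⊓ E'}.ncard :=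
    Set.ncard_le_ncard_of_injOn (fun x => g⁻¹ * x * g) (fun x k => ⟨k.1.trans (isConj_iff.2 ⟨g⁻¹, by simp⟩), by
      simpa [mul_assoc] using conj_mem_of_norm gD k.2⟩) fun _ _ _ _ e => by simpa using e
  omega

end
end H25.ZL
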