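import Mathlib

/-! The hexacode hyperoval in `𝔽₂⁶` and its affine stabilizer. -/

set_option autoImplicit false
set_option maxRecDepth 100000

namespace H25.ZL
open Subgroup

/-- the vector space `𝔽₂⁶`, written multiplicatively -/
def V := Fin 64

instance : DecidableEq V := inferInstanceAs (DecidableEq (Fin 64))
instance : Fintype V := inferInstanceAs (Fintype (Fin 64))
instance (priority := high) (p : V → Prop) [h : DecidablePred p] : Decidable (∀ x, p x) :=
  @Nat.decidableForallFin 64 p h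
instance (priority := high) (p : V → Prop) [h : DecidablePred p] : Decidable (∃ x, p x) :=
  @Nat.decidableExistsFin 64 p h

instance : CommGroup V where
  mul x y := ⟨x.1 ^^^ y.1, Nat.xor_lt_two_pow (n := 6) x.2 y.2⟩
  one := ⟨0, by decide⟩
  inv x := x
  mul_assoc x y z := Fin.ext (Nat.xor_assoc _ _ _)
  one_mul x := Fin.ext (Nat.zero_xor _)
  mul_one x := Fin.ext (Nat.xor_zero _)
  inv_mul_cancel x := Fin.ext (Nat.xor_self _)
  mul_comm x y := Fin.ext (Nat.xor_comm _ _)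

theorem cardV : Nat.card V = 64 := Nat.card_fin 64
theorem sqV (x : V) : x * x = 1 := Fin.ext (Nat.xor_self _)

def vv (n : Fin 64) : V := n

/-- the product of the elements selected by the bits -/
def ev {H : Type*} [Group H] (a b c d e f : H) (x : V) : H :=
  (bif x.1.testBit 0 then a else 1) * (bif x.1.testBit 1 then b else 1) * (bif x.1.testBit 2 then c else 1) *
    (bif x.1.testBit 3 then d else 1) * (bif x.1.testBit 4 then e else 1) * (bif x.1.testBit 5 then f else 1)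

theorem map_ev {H K F : Type*} [Group H] [Group K] [FunLike F H K] [MonoidHomClass F H K] (φ : F) (a b c d e f : H)
    (x : V) : φ (ev a b c d e f x) = ev (φ a) (φ b) (φ c) (φ d) (φ e) (φ f) x := by
  simp only [ev, map_mul, Bool.apply_cond φ, map_one]

theorem conj_ev {H : Type*} [Group H] (g a b c d e f : H) (x : V) : g * ev a b c d e f x * g⁻¹ =
    ev (g * a * g⁻¹) (g * b * g⁻¹) (g * c * g⁻¹) (g * d * g⁻¹) (g * e * g⁻¹) (g * f * g⁻¹) x :=
  map_ev (MulAut.conj g) a b c d e f x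

theorem ev_one {H : Type*} [Group H] (x : V) : ev (1 : H) 1 1 1 1 1 x = 1 := by simp [ev]

theorem ev_bs : ∀ x, ev (vv 1) (vv 2) (vv 4) (vv 8) (vv 16) (vv 32) x = x := by decide +kernel

theorem hom_eq {K F : Type*} [Group K] [FunLike F V K] [MonoidHomClass F V K] (φ : F) (x : V) :
    φ x = ev (φ (vv 1)) (φ (vv 2)) (φ (vv 4)) (φ (vv 8)) (φ (vv 16)) (φ (vv 32)) x := by
  rw [← map_ev, ev_bs]

def lin {A : Type*} [CommGroup A] (h : ∀ x : A, x * x = 1) (a b c d e f : A) : V →* A :=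
  MonoidHom.mk' (ev a b c d e f) fun x y => by
    have k : ∀ (p q : Bool) (a : A), (bif p ^^ q then a else 1) = (bif p then a else 1) * (bif q then a else 1) := by
      rintro (_ | _) (_ | _) a <;> simp [h]
    change ev a b c d e f ⟨x.1 ^^^ y.1, _⟩ = _
    simp only [ev, Nat.testBit_xor, k]
    ac_rfl

def Aw : V → V := ev (vv 1) (vv 2) (vv 8) (vv 16) (vv 32) (vv 60)
def Uc (c : V) : V → V := ev (vv 2) (vv 3) c (Aw c) (Aw (Aw c)) (Aw (Aw (Aw c)))
def U : V → V := ev (vv 2) (vv 3) (vv 52) (vv 20) (vv 40) (vv 44)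
def sg : V →* V := lin sqV (vv 1) (vv 2) (vv 4) (vv 16) (vv 60) (vv 8)
def P0 (x : V) : Prop := Nat.testBit 2902645012384875054 x.1 = true
def P1 (x : V) : Prop := Nat.testBit 1229782938247303454 x.1 = true
instance (x : V) : Decidable (P0 x) := instDecidableEqBool _ _
instance (x : V) : Decidable (P1 x) := instDecidableEqBool _ _
def pt (x : V) : Fin 6 :=
  ⟨(61874513319886187573368144931340572532630120206373519360 >>> (3 * x.1) &&& 7) % 6, Nat.mod_lt _ (by decide)⟩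
def rep : Fin 6 → V := ![vv 1, vv 5, vv 9, vv 17, vv 33, vv 61]

theorem ker_Aw : ∀ x : V, x = 1 ∨ x = vv 1 ∨ x = vv 2 ∨ x = vv 1 * vv 2 ∨
    ∃ y, ev x (Aw x) (Aw (Aw x)) (Aw (Aw (Aw x))) (Aw (Aw (Aw (Aw x)))) 1 y = vv 4 := by decide +kernel
theorem Uc_cases : ∀ c, vv 4 * Uc c (vv 4) * Uc c (Uc c (vv 4)) = 1 → Uc c (Aw (vv 32)) = Aw (Uc c (vv 32)) →
    (∀ x, Uc c x = U x) ∨ ∀ x, Uc c (sg x) = sg (U x) := by decide +kernel
theorem sg_Aw : ∀ x, sg (Aw x) = Aw (Aw (sg x)) := by decide +kernel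
theorem sg_inj : ∀ x y, sg x = sg y → x = y := by decide +kernel
theorem card_P0 : {x | P0 x}.ncard = 18 := by rw [Set.ncard_eq_toFinset_card']; decide +kernel
theorem card_P1 : {x | P1 x}.ncard = 18 := by rw [Set.ncard_eq_toFinset_card']; decide +kernel
theorem gen_P0 : ∀ x, P0 x → ∃ k : Fin 3, x = U^[k] (vv 1) ∨ ∃ i : Fin 5, x = U^[k] (Aw^[i] (vv 1 * vv 4)) := by
  decide +kernel
theorem gen_P1 : ∀ x, P1 x → ∃ k : Fin 3, x = U^[k] (vv 1) ∨ ∃ i : Fin 5, x = U^[k] (Aw^[i] (vv 4)) := by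
  decide +kernel

theorem no_P1 (γ : MulAut V) (h : ∀ x, P1 (γ x) ↔ P1 x) : γ (vv 1) ≠ vv 4 := fun e => by
  have k : ∀ z, P1 z → P1 (vv 4 * z) → γ.symm z = vv 2 ∨ γ.symm z = vv 3 := fun z h1 h2 =>
    (by decide +kernel : ∀ y, P1 y → P1 (vv 1 * y) → y = vv 2 ∨ y = vv 3) _ ((h _).1 (by simpa))
      ((h _).1 (by simpa [e]))
  have i : ∀ {a b}, γ.symm a = γ.symm b → a = b := fun h => γ.symm.injective h
  rcases k (vv 8) (by decide +kernel) (by decide +kernel) with a | a <;>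
    rcases k (vv 16) (by decide +kernel) (by decide +kernel) with b | b <;>
    rcases k (vv 32) (by decide +kernel) (by decide +kernel) with c | c <;>
    first | exact absurd (i (a.trans b.symm)) (by decide) | exact absurd (i (a.trans c.symm)) (by decide) |
      exact absurd (i (b.trans c.symm)) (by decide)

/-- the stabilizer of the hyperoval -/
def G0 : Subgroup (MulAut V) where
  carrier := {γ | ∀ x, P0 (γ x) ↔ P0 x}
  one_mem' := fun _ => Iff.rfl
  mul_mem' := fun {a b} ha hb x => (ha (b x)).trans (hb x)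
  inv_mem' := fun {a} ha x => (ha _).symm.trans (by simp)

theorem pt_iff : ∀ x, P0 x → ∀ y, P0 y → (pt x = pt y ↔ x = y ∨ P0 (x * y)) := by decide +kernel
theorem rep_ok : ∀ i, P0 (rep i) ∧ pt (rep i) = i := by decide +kernel

theorem pt_map (γ : G0) {x y : V} (hx : P0 x) (hy : P0 y) : pt (γ.1 x) = pt (γ.1 y) ↔ pt x = pt y := by
  rw [pt_iff _ ((γ.2 x).2 hx) _ ((γ.2 y).2 hy), pt_iff _ hx _ hy, ← map_mul, γ.2, γ.1.injective.eq_iff]

instance : MulAction G0 (Fin 6) where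
  smul γ i := pt (γ.1 (rep i))
  one_smul i := (rep_ok i).2
  mul_smul γ δ i := (pt_map γ ((δ.2 _).2 (rep_ok i).1) (rep_ok _).1).2 (rep_ok _).2.symm

def pi6 : G0 →* Equiv.Perm (Fin 6) := MulAction.toPermHom G0 (Fin 6)

def Q (i : Fin 6) (x : V) : Prop := P0 x ∧ pt x = i
instance (i : Fin 6) (x : V) : Decidable (Q i x) := instDecidableAnd

theorem ker_chk : ∀ a, Q 0 a → ∀ b, Q 0 b → ∀ c, Q 1 c → ∀ d, Q 1 d → ∀ e, Q 2 e → ∀ f, Q 2 f →
    Q 3 (ev a b c d e f (vv 38)) → Q 3 (ev a b c d e f (vv 59)) → Q 4 (ev a b c d e f (vv 41)) →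
    Q 4 (ev a b c d e f (vv 62)) → Q 5 (ev a b c d e f (vv 26)) → Q 5 (ev a b c d e f (vv 47)) →
    ∃ k : Fin 3, ∀ x, ev a b c d e f x = U^[k] (ev (vv 1) (vv 2) (vv 5) (vv 54) (vv 9) (vv 22) x) := by
  decide +kernel

theorem ker_pi {γ : G0} (h : pi6 γ = 1) : ∃ k : Fin 3, ∀ x, γ.1 x = U^[k] x := by
  have q : ∀ i x, Q i x → Q i (γ.1 x) := fun i x hx => ⟨(γ.2 x).2 hx.1,
    ((pt_map γ hx.1 (rep_ok i).1).2 (hx.2.trans (rep_ok i).2.symm)).trans (DFunLike.congr_fun h i)⟩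
  have m := map_ev γ.1 (vv 1) (vv 2) (vv 5) (vv 54) (vv 9) (vv 22)
  obtain ⟨k, hk⟩ := ker_chk _ (q _ (vv 1) (by decide +kernel)) _ (q _ (vv 2) (by decide +kernel))
    _ (q _ (vv 5) (by decide +kernel)) _ (q _ (vv 54) (by decide +kernel)) _ (q _ (vv 9) (by decide +kernel))
    _ (q _ (vv 22) (by decide +kernel)) (m _ ▸ q _ _ (by decide +kernel)) (m _ ▸ q _ _ (by decide +kernel))
    (m _ ▸ q _ _ (by decide +kernel)) (m _ ▸ q _ _ (by decide +kernel)) (m _ ▸ q _ _ (by decide +kernel))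
    (m _ ▸ q _ _ (by decide +kernel))
  refine ⟨k, fun x => ?_⟩
  obtain ⟨y, rfl⟩ := (by decide +kernel : ∀ x, ∃ y, ev (vv 1) (vv 2) (vv 5) (vv 54) (vv 9) (vv 22) y = x) x
  rw [m, hk]

theorem pi_U {γ : G0} (h : ∀ x, γ.1 x = U x) : pi6 γ = 1 := Equiv.ext fun i => by
  change pt (γ.1 (rep i)) = i
  rw [h]; revert i; decide +kernel

/-- the affine group -/
abbrev Gam := V ⋊[G0.subtype] G0

instance : Finite Gam := Finite.of_equiv _ SemidirectProduct.equivProd.symm

theorem card_Gam : ¬ 2048 ∣ Nat.card Gam := fun h => by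
  have o : ¬ 2 ∣ Nat.card pi6.ker := fun d => by
    obtain ⟨⟨γ, hγ⟩, o⟩ := exists_prime_orderOf_dvd_card' 2 d
    obtain ⟨k, hk⟩ := ker_pi hγ
    have : (⟨γ, hγ⟩ : pi6.ker) ^ 3 = 1 := Subtype.ext (Subtype.ext (MulEquiv.ext fun x => by
      change γ.1 (γ.1 (γ.1 x)) = x
      rw [hk, hk, hk]; clear hk; revert k x; decide +kernel))
    exact absurd (o ▸ orderOf_dvd_of_pow_eq_one this) (by decide)
  have d := pi6.range.card_subgroup_dvd_card
  rw [Nat.card_perm, Nat.card_fin] at d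
  rw [SemidirectProduct.card, cardV, ← pi6.ker.card_mul_index, index_ker] at h
  have := (Nat.Coprime.pow_left 5 ((Nat.Prime.coprime_iff_not_dvd Nat.prime_two).2 o)).dvd_of_dvd_mul_left
    (Nat.dvd_of_mul_dvd_mul_left (k := 64) (by decide) h)
  exact absurd (this.trans d) (by decide)

end H25.ZL
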