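import Cfsg.Agent.H25.FB6

/-! Coprime operator groups with central fixed involutions: solvability. -/

set_option autoImplicit false
set_option linter.unusedVariables false
set_option linter.unusedSectionVars false

namespace H25.FB
open Cfsg Subgroup H18 H17.GS
open H19 hiding eq_bot_mono
open H8.FS hiding Fx Md Mc Nb Rd Lk Cx det_false rd_kc exists_hv main_aux main_of Main
open scoped commutatorElement

universe u
variable {X : Type u} [Group X] [Finite X] {A B C D E F G H K L M N O P Q R S T U V W Y Z : Subgroup X}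
  {a b c d e f g k n s t u v w x y z : X} {p r : ℕ}

local notation "p2" => Nat.prime_two

theorem Ez.blk (h : Ez A G) (nL : L ⊴ G) (lA : B ≤ A) (nB : B ≤ N(L)) (hb : ∀ a ∈ A, a ∉ B → cj a L ≤ C(L)) :
    Ez B L := by
  have c : (#B).Coprime #L := (h.c.coprime_dvd_left (card_dvd lA)).coprime_dvd_right (card_dvd nL.le)
  have k : ∀ x ∈ L, x ∈ C(B) → ∀ a ∈ A, a * x * a⁻¹ ≠ x → a * x * a⁻¹ ∈ C(L) := fun x hx cx a ha ne =>
    hb a ha (fun m => ne (by rw [mem_cent.1 cx a m]; group)) (conj_mem_cj.2 hx)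
  refine ⟨nB, c, fun x hx cx x2 P lP hP nP => ?_, fun t ht ct t2 => ?_⟩
  · obtain ⟨S, hS, nS⟩ := csyl h.n h.c 2
    obtain ⟨g, hg, l⟩ := inv_syl_le_cj nB c.symm (sol_cop c) lP nP hP (hS.inf_normal nL) (norms_inf (lA.trans nS) nB)
    have k1 : ∀ x ∈ L, x ∈ C(B) → PiE {2} x → x ∈ C(S ⊓ L) := fun x hx cx x2 => by
      obtain ⟨j, hj, cj⟩ := orbp (A := A) (y := x) (H := G ⊓ C(L)) fun a ha ne =>
        ⟨⟨conj_mem_of_norm (h.n ha) (nL.le hx), k x hx cx a ha ne⟩, cent_le_cent1 hx (k x hx cx a ha ne)⟩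
      obtain ⟨m, hm, o⟩ := two_part (x * j)
      have := h.z2 _ (pow_mem (mul_mem (nL.le hx) hj.1) m) (pow_mem cj m) o S hS.le hS.pi nS
      rw [Commute.mul_pow (mem_cent.1 hj.2 x hx)] at this
      exact zpowers_le.2 ((mul_mem_cancel_right (pow_mem (cent_mono inf_le_right hj.2) m)).1
        (cent_mono inf_le_left this)) (mem_zp_pow x2 hm)
    refine cent_mono l ?_
    rw [← H19.cj_cent]
    exact mem_cj.2 (k1 _ (mul_mem (mul_mem (inv_mem hg.1) hx) hg.1) (mul_mem (mul_mem (inv_mem hg.2) cx) hg.2)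
      (by simpa using x2.e_conj g⁻¹))
  · have ea := orb_ea (A := A) t2 fun a ha => by
      by_cases e : a * t * a⁻¹ = t
      · rw [e]; exact mem_cent1_self t
      · exact cent_le_cent1 ht (k t ht ct a ha e)
    have tE : t ∈ Kc (zpowers t) A := le_Kc (mem_zpowers t)
    obtain ⟨j, hj, cj⟩ := orbp (A := A) (y := t) (H := Kc (zpowers t) A ⊓ C(L)) fun a ha ne =>
      ⟨⟨conj_mem_of_norm (Kc_norm ha) tE, k t ht ct a ha ne⟩, cent_le_cent1 ht (k t ht ct a ha ne)⟩
    have m := mul_mem tE hj.1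
    exact (C(L).mul_mem_cancel_right hj.2).1 (cent_mono nL.le (h.i3 _ (Kc_le_of (zpowers_le.2 (nL.le ht)) h.n m) cj
      (sq_one ea m)))

theorem card_quo_lt (nK : K ⊴ G) (k1 : K ≠ ⊥) : #(quo K G) < #G := by
  rw [card_quo nK.norm, ← card_mul_relIndex nK.le]
  exact lt_mul_left (relIndex_pos _ _) (ne_bot_iff_one_lt_card.1 k1)

theorem sol_ext (nK : K ⊴ G) (h1 : Sol K) (h2 : Sol (quo K G)) : Sol G :=
  sol_of_quo nK.norm (sol_mono h1 inf_le_left) h2

theorem step (h : Ez A G) (n : ⊤ ≤ N(G))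
    (ih : ∀ {Y : Type u} [Group Y] [Finite Y] {B H : Subgroup Y}, #H < #G → Ez B H → Sol H) : Sol G := by
  by_contra s
  have ih1 : ∀ H, H < G → A ≤ N(H) → Sol H := fun H l nH => ih (card_lt l) (h.mono l.le nH)
  have nO : O(G) ⊴ G := Oc_normal _ G
  have o1 : O(G) = ⊥ := by_contra fun m => s (sol_ext nO (O_og G).sol (ih (card_quo_lt nO m)
    (h.im _ (norms_Oc _ h.n) nO.norm fun x _ e => (O_og G).elt (qmk_eq_one.1 e))))
  obtain ⟨R, ⟨lR, n1, n2⟩, mx⟩ := (wellFounded_gt (α := Subgroup X)).has_min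
    {D | D < G ∧ G ≤ N(D) ∧ A ≤ N(D)} ⟨⊥, bot_lt_iff_ne_bot.2 fun e => s (e ▸ sol_of_nil nil_bot),
      norms_of_cents (by simp), norms_of_cents (by simp)⟩
  have sR := ih1 R lR n2
  have nR : R ⊴ G := ⟨lR.le, n1⟩
  have max : ∀ D ≤ G, G ≤ N(D) → A ≤ N(D) → D = G ∨ D ≤ R := fun D l k1 k2 => or_iff_not_imp_left.2 fun m =>
    by_contra fun m' => mx (D ⊔ R) ⟨lt_of_le_of_ne (sup_le l lR.le) fun e => s (e ▸ sol_sup
      (ih1 D (lt_of_le_of_ne l m) k2) sR (lR.le.trans k1)), norms_sup k1 n1, norms_sup k2 n2⟩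
      (lt_of_le_of_ne le_sup_right fun e => m' (le_sup_left.trans e.ge))
  have rZ : R ≤ Z(G) := le_inf lR.le (by
    by_cases k : ∀ x ∈ G, x ∈ C(A) → PiE {2} x → x ∈ R
    · by_contra m
      refine s (sol_ext nR sR (ih (card_quo_lt nR fun e => m (by simp [e])) (Fx.ez (A := quo R A)
        ⟨quo_norms h.n, cop_im h.c _, fun y hy cy y2 => ?_⟩)))
      obtain ⟨x, a, b, c, rfl⟩ := lift _ h.n h.c n2 n1 hy cy y2
      exact qmk_eq_one.2 (k x a b c)
    · push Not at k
      obtain ⟨x, a, b, c, m⟩ := k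
      have nQ := norms_Oc {2} n1
      have aQ := norms_Oc {2} n2
      have e := (max _ inf_le_left (norms_inf le_normalizer (norms_cent nQ)) (norms_inf h.n (norms_cent aQ))).resolve_right
        fun l => m (l ⟨a, h.z2 x a b c _ ((Oc_le _ _).trans lR.le) (Oc_pi _ _) aQ⟩)
      have e1 := Fit_eq_Oc (le_bot_iff.1 (o1 ▸ Oc_le_Oc nR : O(R) ≤ ⊥))
      have c1 : G ≤ C(Oc {2} R) := e.ge.trans inf_le_right
      have := cent_Fit_le sR
      rw [e1] at this
      exact ((le_inf le_rfl (lR.le.trans c1)).trans this).trans (cents_symm c1))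
  have nZ : Z(G) ⊴ G := center_normal G
  have sZ : Sol Z(G) := sol_of_ab (comm_center G)
  have pz : PG 2 Z(G) := by
    have e1 := Fit_eq_Oc (le_bot_iff.1 (o1 ▸ Oc_le_Oc nZ : O(Z(G)) ≤ ⊥))
    have := cent_Fit_le sZ
    rw [e1] at this
    exact (Oc_pi _ _).of_le ((le_inf le_rfl (inf_le_right.trans (cent_mono ((Oc_le _ _).trans inf_le_left)))).trans this)
  have s' : ¬ Sol (quo Z(G) G) := fun k => s (sol_ext nZ sZ k)
  have g1 : quo Z(G) G ≠ ⊥ := fun e => s' (e ▸ sol_of_nil nil_bot)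
  have nA := quo_norms (K := Z(G)) h.n
  have mV : MinNormal (quo Z(G) G) (quo Z(G) G ⊔ quo Z(G) A) := ⟨g1, (left_normal_sup nA).norm, fun W l k => by
    rw [← quo_qpre W]
    exact ((max _ (h.pre_le l) (norms_qpre h.gZ (le_sup_left.trans k)) (norms_qpre h.nZ (le_sup_right.trans k))).symm.imp
      (fun e => quo_eq_bot (e.trans rZ)) fun e => by rw [e])⟩
  refine h.core pz n ⟨simple_iff.2 ⟨g1, fun M l n => by_contra fun m => ?_⟩, fun a => s' (sol_of_ab a)⟩ ih1
  rw [not_or] at m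
  obtain ⟨T, lT, mT⟩ := H18.minnormal_exists m.1 n
  have lV := lT.trans l
  have ns := H4.OZ.min_nsol mV nA s' mT lV
  set K := qpre Z(G) T with hK
  have nK : K ⊴ G := qpre_normal nZ ⟨lV, mT.norm⟩
  have nL : ⁅K, K⁆ ⊴ G := ⟨(der_le K).trans nK.le, norms_der nK.norm⟩
  have lt : ⁅K, K⁆ < G := lt_of_le_of_lt (der_le K) (lt_of_le_of_ne nK.le fun e => m.2 (le_antisymm l
    ((quo_mono _ e.ge).trans ((quo_qpre T).le.trans lT))))
  have sL := ih (card_lt lt) (h.blk nL inf_le_left (inf_le_right.trans (norms_der (le_refl N(K)))) fun a ha k => ?_)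
  · refine ns (quo_qpre T ▸ sol_quo (sol_ext ⟨der_le K, norms_der le_normalizer⟩ sL (sol_of_ab ?_)) _)
    exact (ab_quo_iff (norms_der le_normalizer)).2 le_rfl
  have a' := mem_im_of (f := qmk Z(G)) (x := ⟨a, h.nZ ha⟩) ha
  have m' := H4.OZ.MinNormal.cj mT (nA a')
  have lK := cj_le_of_mem_norm (h.n ha) nK.le
  have e : quo Z(G) (cj a K) = cj (qmk Z(G) ⟨a, h.nZ ha⟩) T := by rw [quo_cj (h.nZ ha), hK, quo_qpre]
  have c1 : ⁅K, cj a K⁆ ≤ Z(G) := (quo_cents_iff (nK.le.trans h.gZ) (lK.trans h.gZ)).1 (by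
    rw [e, hK, quo_qpre]
    exact cents_of_norms_disjoint ((cj_le_of_mem_norm (nA a') lV).trans mT.norm) (lV.trans m'.norm)
      ((mT.min _ inf_le_left (norms_inf mT.norm m'.norm)).resolve_right fun e' =>
        k ⟨ha, norms_qpre (zpowers_le.2 (h.nZ ha)) (by
          rw [quo_zpowers (h.nZ ha)]
          exact zpowers_le.2 (mem_norm_of_le_cj (e'.ge.trans inf_le_right))) (mem_zpowers a)⟩))
  have c2 : ⁅⁅K, cj a K⁆, K⁆ = ⊥ := commg_eq_bot.2 (c1.trans (inf_le_right.trans (cent_mono nK.le)))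
  exact (cj_mono a (der_le K)).trans (cents_symm (commg_eq_bot.1 (three_subgroup c2 (by rwa [commg_comm (cj a K)]))))

theorem main_aux (n : ℕ) : ∀ {X : Type u} [Group X] [Finite X] {A G : Subgroup X}, #G = n → Ez A G → Sol G := by
  induction n using Nat.strong_induction_on with
  | _ n ih =>
  intro X _ _ A G e h
  subst e
  have nG := left_normal_sup h.n
  have f : Ez (A.subgroupOf (G ⊔ A)) (G.subgroupOf (G ⊔ A)) := by
    simpa [im] using h.im (MonoidHom.id ↥(G ⊔ A)) le_sup_right le_sup_left fun x _ e => by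
      rw [show x = 1 from e]; exact PiN.e_one
  have := step f (@normalIn_top _ _ _ nG.subgroupOf).norm fun l k => ih _ (card_subgroupOf' nG.le ▸ l) rfl k
  exact Group.isSolvable_of_surjective (f := (subgroupOfEquivOfLe nG.le).toMonoidHom) (MulEquiv.surjective _)

/-- the main theorem -/
theorem Ez.sol (h : Ez A G) : Sol G := main_aux _ rfl h

/-- no fixed involutions -/
theorem Fx.sol (h : Fx A G) : Sol G := h.ez.sol

end H25.FB
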