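import Cfsg.Agent.H25.Loc
import Cfsg.Agent.H25.QTrans

/-! The Camina–Herzog theorem for fusion systems: if every element of the `2`-group `S` is
conjugate into `Z(S)`, then `S` is abelian. -/

set_option autoImplicit false

namespace H25
open Subgroup

theorem exists_pow_mem_of_lt {Γ : Type*} [Group Γ] {p : ℕ} [Fact p.Prime] {P Q : Subgroup Γ}
    [Finite Q] (hQ : IsPGroup p Q) (h : P < Q) : ∃ t ∈ Q, t ∈ nz P ∧ t ∉ P ∧ t ^ p ∈ P := by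
  classical
  obtain ⟨x, hx, hn, hP⟩ := exists_mem_nz_of_lt hQ h
  have h1 : ∃ n, x ^ p ^ n ∈ P := PEl.of_isPGroup hQ hx
  obtain ⟨n, hn'⟩ := Nat.exists_eq_succ_of_ne_zero (n := Nat.find h1) fun e =>
    hP (by simpa [e] using Nat.find_spec h1)
  refine ⟨x ^ p ^ n, pow_mem hx _, pow_mem hn _, Nat.find_min h1 (by omega), ?_⟩
  rw [← pow_mul, ← pow_succ, ← Nat.succ_eq_add_one, ← hn']
  exact Nat.find_spec h1

namespace FS
variable {Γ : Type*} [Group Γ] [Finite Γ] {F : FS Γ} {p : ℕ} {x g z : Γ} {N : Subgroup Γ}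

theorem Sat.ext_cen [Fact p.Prime] (hF : F.Sat p) (H : F.T (zpowers x) g)
    (h : g * x * g⁻¹ ∈ cz F.S) : ∃ h, F.T (F.C (zpowers x)) h ∧ h * x * h⁻¹ = g * x * g⁻¹ := by
  obtain ⟨k, H', e⟩ := hF.ext_C H (FC_of_le_cz H.cj_le (by
    rw [cj_zpowers]; exact le_cz_comm.1 (zpowers_le.2 h)))
  exact ⟨k, H'.mono le_sup_right, agree_zpowers.1 e⟩

/-- conjugates of the `2^e`-th powers of central elements are central if `exp S ∣ 2^(e+1)` -/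
theorem Sat.mem_cz_of_conj_pow (hF : F.Sat 2) {e : ℕ} (he : ∀ s ∈ F.S, s ^ 2 ^ (e + 1) = 1)
    (hz : z ∈ F.C F.S) (H : F.T (zpowers x) g) (h : g * x * g⁻¹ = z ^ 2 ^ e) : x ∈ cz F.S := by
  generalize hP : F.C (zpowers x) = P
  induction P using card_induction_down generalizing x g with
  | h P ih =>
  have hx : x ∈ F.S := H.le (mem_zpowers x)
  have hxP : x ∈ P := hP ▸ mem_inf.2 ⟨hx, mem_cz_zpowers.2 (by group)⟩
  have hPS : P ≤ F.S := hP ▸ inf_le_left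
  obtain ⟨k, Hk, hk⟩ := hF.exists_FN hPS
  have hPN : P ≤ F.N P := le_N hPS
  have Hx : F.T (zpowers (k * x * k⁻¹)) (g * k⁻¹) := by
    rw [← cj_zpowers]
    exact ((Hk.mono (zpowers_le.2 (hPN hxP))).inv).mul (by rwa [cj_inv_cj])
  have hx' : g * k⁻¹ * (k * x * k⁻¹) * (g * k⁻¹)⁻¹ = z ^ 2 ^ e := by rw [← h]; group
  suffices h1 : k * x * k⁻¹ ∈ cz F.S by
    by_contra h2
    have h3 : P < F.S := lt_of_le_of_ne hPS fun e => h2 (le_cz_comm.1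
      (e.ge.trans (hP.ge.trans inf_le_right)) (mem_zpowers x))
    obtain ⟨t, ht, htn, htP⟩ := exists_mem_nz_of_lt hF.pg h3
    refine htP (hP ▸ mem_inf.2 ⟨ht, mem_cz_zpowers.2 ?_⟩)
    have h4 := mem_cz'.1 h1 _ (Hk.conj_mem (mem_inf.2 ⟨ht, htn⟩))
    calc t * x * t⁻¹ = k⁻¹ * (k * t * k⁻¹ * (k * x * k⁻¹)) * k * t⁻¹ := by group
      _ = x := by rw [h4]; group
  set y := k * x * k⁻¹ with hy
  set Q := cj k P with hQ
  have hQS : Q ≤ F.S := hk.le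
  have hyQ : y ∈ Q := conj_mem_cj k hxP
  have hQC : Q ≤ F.C (zpowers y) := le_inf hQS (by
    rw [hQ, hy, ← cj_zpowers, ← cj_cz]; exact cj_mono _ (hP.ge.trans inf_le_right))
  rcases hQC.eq_or_lt with hQC | hQC
  swap
  · exact ih _ (card_cj k P ▸ card_lt_of_lt hQC) Hx hx' rfl
  by_contra h2
  have hc : F.Centric Q := (hF.fc hk).centric
    ((inf_le_inf_left _ (cz_anti (zpowers_le.2 hyQ))).trans hQC.ge)
  obtain ⟨u, Hu, hu⟩ := hF.ext_cen Hx (hx' ▸ pow_mem (mem_inf.1 hz).2 _)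
  rw [← hQC] at Hu
  rw [hx'] at hu
  have hz' : z ∈ F.C (cj u Q) := inf_le_inf_left _ (cz_anti Hu.cj_le) hz
  have hwQ : u⁻¹ * z * u ∈ Q := mem_cj.1 ((hc.cj Hu).C_le hz')
  have hwc : u⁻¹ * z * u ∈ cz Q := mem_cj.1 (by rw [cj_cz]; exact (mem_inf.1 hz').2)
  have hwy : (u⁻¹ * z * u) ^ 2 ^ e = y := by
    rw [show u⁻¹ * z * u = u⁻¹ * z * u⁻¹⁻¹ by group, conj_pow, ← hu]; group
  set w := u⁻¹ * z * u
  have h3 : Q < F.S := lt_of_le_of_ne hQS fun e => h2 (le_cz_comm.1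
    (e.ge.trans (hQC.le.trans inf_le_right)) (mem_zpowers y))
  obtain ⟨t, ht, htn, htQ, ht2⟩ := exists_pow_mem_of_lt hF.pg h3
  have hw' : t⁻¹ * w * t ∈ cz Q := conj_mem_of_mem_nz' (mem_nz_cz htn) hwc
  have c1 : Commute (t ^ 2) (t⁻¹ * w * t * w) := mem_cz'.1 (mul_mem hw' hwc) _ ht2
  have c2 : Commute (t⁻¹ * w * t) w := (mem_cz'.1 hw' _ hwQ).symm
  have h4 := he _ (mul_mem ht (hQS hwQ))
  rw [pow_succ', pow_mul, show (t * w) ^ 2 = t ^ 2 * (t⁻¹ * w * t * w) by rw [sq, sq]; group,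
    c1.mul_pow, c2.mul_pow, ← pow_mul, ← pow_succ', he t ht, hwy,
    show t⁻¹ * w * t = t⁻¹ * w * t⁻¹⁻¹ by group, conj_pow, hwy] at h4
  have h5 : y * y = 1 := by rw [← hwy, ← pow_two, ← pow_mul, ← pow_succ]; exact he _ (hQS hwQ)
  refine htQ (hQC.ge (mem_inf.2 ⟨ht, mem_cz_zpowers.2 ?_⟩))
  have h6 : t⁻¹ * y * t = y := mul_right_cancel (b := y) (by rw [h5, ← h4]; group)
  calc t * y * t⁻¹ = t * (t⁻¹ * y * t) * t⁻¹ := by rw [h6]
    _ = y := by group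

/-- the subgroup of `n`-th powers of the centre of `S` -/
def zpw (S : Subgroup Γ) (n : ℕ) : Subgroup Γ where
  carrier := {x | ∃ z ∈ S ⊓ cz S, z ^ n = x}
  one_mem' := ⟨1, one_mem _, one_pow _⟩
  mul_mem' := by
    rintro _ _ ⟨a, ha, rfl⟩ ⟨b, hb, rfl⟩
    exact ⟨a * b, mul_mem ha hb, Commute.mul_pow (mem_cz'.1 (mem_inf.1 hb).2 _ (mem_inf.1 ha).1) n⟩
  inv_mem' := by
    rintro _ ⟨a, ha, rfl⟩
    exact ⟨a⁻¹, inv_mem ha, inv_pow _ _⟩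

omit [Finite Γ] in
theorem zpw_le (S : Subgroup Γ) (n : ℕ) : zpw S n ≤ S ⊓ cz S := by
  rintro _ ⟨a, ha, rfl⟩; exact pow_mem ha n

theorem Sat.sc_zpw (hF : F.Sat 2) {e : ℕ} (he : ∀ s ∈ F.S, s ^ 2 ^ (e + 1) = 1) :
    F.SC (zpw F.S (2 ^ e)) := by
  refine sc_iff_zpowers.2 ⟨(zpw_le _ _).trans inf_le_left, ?_⟩
  rintro _ ⟨z, hz, rfl⟩ g H
  obtain ⟨h, H', e'⟩ := hF.ext_cen H (hF.mem_cz_of_conj_pow he hz (cj_zpowers g _ ▸ H.inv)
    (by group))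
  have H2 : F.T F.S h := H'.mono (le_inf le_rfl (le_cz_comm.1 (zpowers_le.2
    (pow_mem (mem_inf.1 hz).2 _))))
  have h1 := mem_nz_of_le H2.cj_le
  exact ⟨h * z * h⁻¹, conj_mem_of_mem_nz (mem_nz_inf h1 (mem_nz_cz h1)) hz, by rw [conj_pow, e']⟩

/-- every element of `S` is conjugate into `Z(S)` -/
def CHz (F : FS Γ) : Prop := ∀ x ∈ F.S, ∃ g, F.T (zpowers x) g ∧ g * x * g⁻¹ ∈ cz F.S

theorem Sat.comm_of_sc [Fact p.Prime] (hF : F.Sat p) (h : F.CHz) (hN : F.SC N) (hc : N ≤ cz F.S)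
    (hS : ⁅F.S, F.S⁆ ≤ N) : F.S ≤ cz F.S := fun x hx => by
  obtain ⟨g, H, hg⟩ := h x hx
  obtain ⟨k, H', e⟩ := hF.ext_cen H hg
  set P := F.C (zpowers x)
  have hNP : N ≤ P := le_inf hN.le (hc.trans (cz_anti H.le))
  have hn : ∀ Q, N ≤ Q → Q ≤ F.S → F.S ≤ nz Q ⊓ (stab Q N ⊓ cz N) := fun Q h1 h2 s hs =>
    have h3 := fun y hy => commutator_le_iff'.1 hS s hs y (h2 hy)
    have h4 : s ∈ nz Q := mem_nz_of_conj_mem fun y hy => by
      simpa using mul_mem (h1 (h3 y hy)) hy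
    ⟨h4, mem_stab'.2 ⟨h4, h3⟩, le_cz_comm.1 hc hs⟩
  have hk : cj k N = N := hN.cj_eq H' hNP
  have hNQ : N ≤ cj k P := hk.ge.trans (cj_mono _ hNP)
  have hQ : F.FN (cj k P) := FN_of_le_nz H'.cj_le ((hn _ hNQ H'.cj_le).trans inf_le_left)
  have hSN : F.S ≤ F.N P := le_inf le_rfl ((hn _ hNP H'.le).trans inf_le_left)
  obtain ⟨u, Hu, eu⟩ := (hF.rec_fn hQ).ext H' rfl hSN (by
    refine le_trans (le_inf ((cj_mono _ hSN).trans H'.cj_N_le_A) ?_) (((hF.fa hQ).stab_cz_le hF.pg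
      hNQ fun a ha => hN.wc.mem_nz (T_of_mem_A H'.cj_le ha) hNQ).trans (ai_mono inf_le_left _))
    rw [← hk, ← cj_stab, ← cj_cz, ← cj_inf]
    exact cj_mono _ ((hn _ hNP H'.le).trans inf_le_right))
  have h1 := mem_nz_of_le (Hu.mono le_sup_right).cj_le
  have h2 := conj_mem_of_mem_nz' (mem_nz_cz h1) (e ▸ hg)
  rw [← eu x (mem_inf.2 ⟨hx, mem_cz_zpowers.2 (by group)⟩)] at h2
  simpa [mul_assoc] using h2

omit [Finite Γ] in
theorem Epi.cHz {Γ' : Type*} [Group Γ'] {F' : FS Γ'} {π : N →* Γ'} (m : Epi π F F') (h : F.CHz) :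
    F'.CHz := fun y hy => by
  obtain ⟨s, hs, rfl⟩ := m.exists_ex hy
  obtain ⟨g, H, hg⟩ := h s hs
  obtain ⟨g', H', e⟩ := m.ind H
  refine ⟨g', im_zpowers π (m.le hs) ▸ H', ?_⟩
  rw [← e s (mem_zpowers s), m.S_eq]
  exact ex_mem_cz π (m.le (H.conj_mem (mem_zpowers s))) m.le hg

theorem Sat.comm_step (hF : F.Sat 2) (h : F.CHz) (ih : ∀ (M : ℕ) (F' : FS (Univ M)),
    Nat.card F'.S < Nat.card F.S → F'.Sat 2 → F'.CHz → F'.S ≤ cz F'.S) : F.S ≤ cz F.S := by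
  classical
  have h1 : ∃ m, ∀ z ∈ F.C F.S, z ^ 2 ^ m = 1 := by
    obtain ⟨m, hm⟩ := IsPGroup.iff_card.1 hF.pg
    exact ⟨m, fun z hz => by
      simpa [hm, Subtype.ext_iff] using pow_card_eq_one' (x := (⟨z, (mem_inf.1 hz).1⟩ : F.S))⟩
  have h2 : ∀ s ∈ F.S, s ^ 2 ^ Nat.find h1 = 1 := fun s hs => by
    obtain ⟨g, H, hg⟩ := h s hs
    have := Nat.find_spec h1 _ (mem_inf.2 ⟨H.conj_mem (mem_zpowers s), hg⟩)
    rwa [conj_pow, conj_eq_one_iff] at this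
  rcases he : Nat.find h1 with _ | e
  · rw [he] at h2
    exact fun s hs => by rw [show s = 1 by simpa using h2 s hs]; exact one_mem _
  rw [he] at h2
  have hN := hF.sc_zpw h2
  obtain ⟨M, π, F', m, hK⟩ := hF.exists_quo' hN
  have h3 := ih M F' (by
    rw [m.S_eq]
    refine card_im_lt π le_rfl fun e' => Nat.find_min h1 (m := e) (by omega) fun z hz => ?_
    exact mem_bot.1 (e'.le (hK.ge ⟨z, hz, rfl⟩))) (m.sat hF) (m.cHz h)
  refine hF.comm_of_sc h hN ((zpw_le _ _).trans inf_le_right) ?_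
  have h4 := commutator_pr_le (π := π) (P' := F'.S) (Q' := F'.S) m.le
  rwa [m.pr_S, commutator_eq_bot_iff_le_centralizer.2 h3, hK] at h4

/-- **Camina–Herzog** for fusion systems -/
theorem Sat.comm_of_cHz (hF : F.Sat 2) (h : F.CHz) : F.S ≤ cz F.S := by
  refine hF.comm_step h fun M F' h0 => ?_
  clear h0
  induction hn : Nat.card F'.S using Nat.strong_induction_on generalizing M with
  | _ n ih => exact fun h1 h2 => h1.comm_step h2 fun M' F'' h3 => ih _ (hn ▸ h3) M' F'' rfl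

end FS

/-- **Camina–Herzog** -/
theorem camina_herzog {G : Type*} [Group G] [Finite G] (P : Sylow 2 G)
    (h : ∀ x ∈ (P : Subgroup G), ∃ Q : Sylow 2 G, (Q : Subgroup G) ≤ cz (zpowers x)) :
    (P : Subgroup G) ≤ cz P := by
  refine (FS.sat_ofSub P.isPGroup' (syl_sylow P)).comm_of_cHz fun x hx => ?_
  obtain ⟨Q, hQ⟩ := h x hx
  obtain ⟨g, -, hg⟩ := (syl_sylow Q).exists_cj_le P.isPGroup' le_top
  have h1 : cj g⁻¹ (zpowers x) ≤ cz P := by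
    rw [le_cz_comm, ← cj_cz, ← cj_le_iff]; exact hg.trans hQ
  have h2 : cj g⁻¹ (zpowers x) ≤ P := by
    have h3 := isPGroup_cj g⁻¹ (P.isPGroup'.to_le (zpowers_le.2 hx))
    exact le_sup_left.trans ((syl_sylow P).eq_of_le (isPGroup_sup_of_le_nz h3 P.isPGroup'
      (h1.trans (cz_le_nz _))) le_sup_right le_top).le
  exact ⟨g⁻¹, FS.ofSub_top_T.2 ⟨zpowers_le.2 hx, h2⟩, h1 (conj_mem_cj _ (mem_zpowers x))⟩

end H25
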