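import Cfsg.Agent.H25.Ito3

/-! Itô's theorem: groups with at most two noncentral class sizes are solvable. -/

set_option autoImplicit false
set_option linter.unusedSectionVars false

open Cfsg Subgroup
namespace H25.Ito
open H19

universe u

variable {G : Type u} [Group G] [Finite G] {p r s t a c d : ℕ} {A B K : Subgroup G}
  {x y g b u v w : G}

theorem piN_of_ab_hall (hB : Ab B) (h : Hall {t}ᶜ B A) (hv : v ∈ A) (vs : PiE {s} v)
    (st : s ≠ t) : PiN {t} (C[v].relIndex A) := by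
  obtain ⟨S, hS, le⟩ := h.exists_syl (p := s) st
  obtain ⟨g, hg, h1⟩ := hS.sle_cj (zpowers_le.2 hv) (piG_zpowers.2 vs)
  have h2 := (h.Jmem hg).idx
  rw [compl_compl] at h2
  exact h2.dvd (relIndex_dvd_left (le_cent1_iff.2 (comm_iff_le_cent.1 (comm_cj.2 hB)
    (cj_mono g le (h1 (mem_zpowers v))))) A)

/-- two centralizer orders `a = c d`, three primes -/
structure NF (G : Type*) [Group G] (a c d : ℕ) : Prop where
  all : ∀ x : G, x ∉ center G → #C[x] = a ∨ #C[x] = c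
  mul : a = c * d
  lt : c < a
  three : ∀ s t : ℕ, ∃ r, r.Prime ∧ r ≠ s ∧ r ≠ t ∧ ∃ b : G, PiE {r} b ∧ b ∉ center G

namespace NF
variable (h : NF G a c d)
include h

theorem ne_one : d ≠ 1 := fun e => by
  have := h.mul
  have := h.lt
  subst e
  omega

theorem max (ya : #C[y] = a) (le : C[y] ≤ C[w]) (hw : w ∉ center G) : C[w] = C[y] :=
  (eq_of_le_of_card_eq le ((h.all w hw).elim (fun e => ya.trans e.symm) fun e => by
    have := card_le le
    have := h.lt
    omega)).symm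

theorem min (ya : #C[y] = c) (le : C[w] ≤ C[y]) (hw : w ∉ center G) : C[w] = C[y] :=
  eq_of_le_of_card_eq le ((h.all w hw).elim (fun e => by
    have := card_le le
    have := h.lt
    omega) fun e => e.trans ya.symm)

theorem cc (hy : y ∉ center G) (yt : PiE {t} y) (ya : #C[y] = a) (hv : v ∈ C[y])
    (vt : PiE {t}ᶜ v) (hv' : v ∉ C(C[y])) : #(C[v] ⊓ C[y]) = c := by
  have e := cent1_mul yt vt (mem_cent1.1 hv).symm
  rw [inf_comm, ← e]
  refine (h.all _ (mul_not_center hy yt vt hv)).resolve_left fun e' => hv' (le_cent1_iff.1 ?_)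
  exact (h.max e' (e.le.trans inf_le_left) hy).le.trans (e.le.trans inf_le_right)

theorem idx (h1 : #(K ⊓ A) = c) (h2 : #A = a) : K.relIndex A = d := by
  have := card_inf_mul_relIndex K A
  rw [h1, h2, h.mul] at this
  exact Nat.eq_of_mul_eq_mul_left (h1 ▸ card_pos _) this

theorem dvd {π : Set ℕ} (hd : PiN πᶜ d) (hx : x ∉ center G) (hy : y ∉ center G) (m : ℕ)
    (hm : PiN π m) (h1 : m ∣ #C[x]) : m ∣ #C[y] := by
  have h2 : m ∣ c := (h.all x hx).elim (fun e => hm.dvd_of_dvd_mul hd (h.mul ▸ e ▸ h1)) fun e => e ▸ h1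
  exact (h.all y hy).elim (fun e => e ▸ h.mul ▸ h2.mul_right d) fun e => e ▸ h2

theorem reg (ht : t.Prime) (hy : y ∉ center G) (yt : PiE {t} y) (ya : #C[y] = a) :
    (∃ B : Subgroup G, Ab B ∧ Hall {t}ᶜ B C[y]) ∨ ∃ q, q.Prime ∧ q ≠ t ∧
      ∀ s, ∀ x ∈ C[y], s.Prime → s ≠ t → s ≠ q → PiE {s} x → x ∈ C(C[y]) :=
  two_reg' ht fun _ h1 _ h2 h3 h4 h5 h6 => (h.cc hy yt ya h1 h3 h5).trans (h.cc hy yt ya h2 h4 h6).symm

theorem n1 (ht : t.Prime) (hy : y ∉ center G) (yt : PiE {t} y) (ya : #C[y] = a) (hv : v ∈ C[y])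
    (hs : s.Prime) (vs : PiE {s} v) (st : s ≠ t) (hv' : v ∉ C(C[y])) :
    PiN {t} d ∨ PiN {s} d := by
  have i1 := h.idx (h.cc hy yt ya hv (vs.sing_ne st) hv') ya
  rcases h.reg ht hy yt ya with ⟨B, hB, hH⟩ | ⟨q, -, -, h1⟩
  · exact .inl (i1 ▸ piN_of_ab_hall hB hH hv vs st)
  obtain rfl : s = q := by_contra fun e => hv' (h1 s v hv hs st e vs)
  have d2 : PiN {t, s} d := i1 ▸ piN_relIndex fun r x hx hr e xr => cent_le_cent1 hv
    (h1 r x hx hr (fun a => e (.inl a)) (fun a => e (.inr a)) xr)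
  obtain ⟨r, hr, rt, rs, b, br, hb⟩ := h.three t s
  have d3 : PiN {r}ᶜ d := d2.compl_sing fun e => e.elim rt rs
  obtain ⟨w, w1, w2, w3⟩ := exists_nc hb br (h.dvd d3 hb hy)
  have e := h.max ya (le_cent1_iff.2 (h1 r w w1 hr rt rs w2)) w3
  rcases h.reg hr w3 w2 (e ▸ ya) with ⟨B, hB, hH⟩ | ⟨q, -, -, h2⟩
  · exact absurd ((i1 ▸ piN_of_ab_hall hB (e ▸ hH) hv vs rs.symm :).eq_one d3) h.ne_one
  rw [e] at h2
  obtain rfl : s = q := by_contra fun e => hv' (h2 s v hv hs rs.symm e vs)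
  refine .inr (i1 ▸ piN_relIndex fun r' x hx hr' e' xr => cent_le_cent1 hv ?_)
  by_cases a : r' = t
  · exact h2 r' x hx hr' (a ▸ rt.symm) e' xr
  · exact h1 r' x hx hr' a e' xr

theorem lp (hd : PiN {p} d) : LP p G := by
  have cop : ∀ {t s} {g u : G}, t.Prime → s.Prime → t ≠ p → s ≠ p → s ≠ t → g ∉ center G →
      PiE {t} g → PiE {s} u → u ∈ C[g] → C[g] ≤ C[u] := fun {t s g u} ht hs tp sp st hg gt us hu => by
    rcases h.all g hg with e | e
    · refine le_cent1_iff.2 (by_contra fun hu' => h.ne_one ?_)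
      exact (h.n1 ht hg gt e hu hs us st hu').elim (fun a => hd.eq_one (a.sing_ne tp))
        fun a => hd.eq_one (a.sing_ne sp)
    · have e' := cent1_mul gt (us.sing_ne st) (mem_cent1.1 hu).symm
      exact (h.min e (e'.le.trans inf_le_left) (mul_not_center hg gt (us.sing_ne st) hu)).ge.trans
        (e'.le.trans inf_le_right)
  refine LP.mk' (fun t s g u ht hs tp sp hg gt us hu => ?_)
    (fun g u hg _ hu _ => h.dvd hd.compl_compl hg hu) fun s => h.three s p
  by_cases st : s = t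
  · obtain ⟨r, hr, rt, rp, b, br, hb⟩ := h.three t p
    obtain ⟨w, w1, w2, w3⟩ := exists_nc hb br (h.dvd (hd.sing_ne rp.symm) hb hg)
    have h1 := cop ht hr tp rp rt hg gt w2 w1
    exact h1.trans (cop hr hs rp sp (st ▸ rt.symm) w3 w2 us (h1 hu))
  · exact cop ht hs tp sp st hg gt us hu

theorem solv (hy : y ∉ center G) (ya : #C[y] = a) (xc : #C[x] = c) (le : C[x] ≤ C[y]) :
    Group.IsSolvable G := by
  obtain ⟨y', h1, t, ht, yt, h2⟩ := exists_primary hy
  have e := h.max ya (cent1_le_cent1_of_mem_zpowers h1) h2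
  rw [← e] at le ya
  obtain ⟨p, hp, hd⟩ : ∃ p, p.Prime ∧ PiN {p} d := by
    by_cases hc : ∀ s, ∀ v ∈ C[y'], s.Prime → s ≠ t → PiE {s} v → v ∈ C(C[y'])
    · exact ⟨t, ht, h.idx (by rw [inf_eq_left.2 le, xc]) ya ▸ piN_relIndex fun s v a b c d =>
        cent_le_cent1 (le (mem_cent1_self x)) (hc s v a b c d)⟩
    push Not at hc
    obtain ⟨s, v, hv, hs, st, vs, hv'⟩ := hc
    exact (h.n1 ht h2 yt ya hv hs vs st hv').elim (fun a => ⟨t, ht, a⟩) fun a => ⟨s, hs, a⟩
  obtain ⟨r, -, -, rp, b, br, hb⟩ := h.three 0 p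
  exact solv_of_hall hp ((h.lp hd).tb hb (br.sing_ne rp)).ab
    ((h.lp hd).hall_top hb (br.sing_ne rp) hp)

end NF

/-- at most two orders of centralizers of noncentral elements -/
def Two (G : Type*) [Group G] : Prop := ∀ x y z : G, x ∉ center G → y ∉ center G → z ∉ center G →
  #C[x] = #C[y] ∨ #C[x] = #C[z] ∨ #C[y] = #C[z]

/-- all centralizers of noncentral elements are abelian, with two primes -/
structure CA (G : Type*) [Group G] : Prop where
  eq : ∀ x y : G, x ∉ center G → y ∉ center G → y ∈ C[x] → C[y] = C[x]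
  two : ∀ x : G, x ∉ center G → ∀ s : ℕ, ∃ r, r.Prime ∧ r ≠ s ∧ ∃ b ∈ C[x], PiE {r} b ∧ b ∉ center G

namespace CA
variable (h : CA G) (hx : x ∉ center G)
include h hx

theorem cent : C(C[x]) = C[x] :=
  le_antisymm (cent_le_cent1 (mem_cent1_self x)) fun y hy => by
    by_cases e : y ∈ center G
    · exact center_le_cent _ e
    · exact le_cent1_iff.1 (h.eq x y hx e hy).ge

theorem tb : TB C[x] :=
  ⟨comm_iff_le_cent.2 (h.cent hx).ge, fun b hb e => (h.eq x b hx e hb).le.trans (h.cent hx).ge,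
    h.two x hx⟩

theorem syl : ∃ r, r.Prime ∧ (∃ b : G, PiE {r} b ∧ b ∉ center G) ∧ Syl r (Oc {r} C[x]) ⊤ ∧
    C(Oc {r} C[x]) = C[x] := by
  obtain ⟨r, hr, ⟨b, h1, h2, h3⟩, h4⟩ := (h.tb hx).exists_syl (by rw [h.cent hx]) fun s _ _ _ _ => by
    rw [h.cent hx]; exact nil_Oc_hall (nil_of_ab (h.tb hx).ab) _
  exact ⟨r, hr, ⟨b, h2, h3⟩, h4, ((h.tb hx).cent_Oc h1 h2 h3).trans (h.cent hx)⟩

theorem conj (hy : y ∉ center G) (e : #C[x] = #C[y]) : ∃ g : G, g⁻¹ * y * g ∈ C[x] := by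
  obtain ⟨r, -, -, h1, h2⟩ := h.syl hx
  have h3 := nil_Oc_hall (nil_of_ab (h.tb hy).ab) {r}
  obtain ⟨g, -, hg⟩ := h1.sconj (h1.of_card_dvd le_top h3.pi
    (h3.dvd h1.pi (e ▸ card_dvd (Oc_le _ _))))
  refine ⟨g, mem_cj.1 ?_⟩
  rw [← h2, cj_cent, hg]
  exact le_cent1_iff.1 (Oc_le _ _)

theorem selfn (h2 : Two G) : ∃ x : G, x ∉ center G ∧ N(C[x]) ≤ C[x] := by
  by_contra hne
  push Not at hne
  have lt : ∀ x : G, x ∉ center G → C[x] < N(C[x]) := fun x hx =>
    lt_of_le_not_ge le_normalizer (hne x hx)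
  have nc : ∀ {y : G}, (∀ g : G, g⁻¹ * y * g ∉ C[x]) → y ∉ center G := fun hy e =>
    hy 1 (by simpa using center_le_cent1 x e)
  obtain ⟨y, h3, -⟩ := H24.exists_not_two_cover le_rfl (lt x hx) le_rfl (lt x hx)
  obtain ⟨z, h4, h5⟩ := H24.exists_not_two_cover le_rfl (lt x hx) le_rfl (lt y (nc h3))
  rcases h2 x y z hx (nc h3) (nc h4) with e | e | e
  · exact (h.conj hx (nc h3) e).elim h3
  · exact (h.conj hx (nc h4) e).elim h4
  · exact (h.conj (nc h3) (nc h4) e).elim h5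

end CA

theorem Two.sub {π : Set ℕ} (h : Two G) (hK : Hall π K ⊤) (hn : K ⊴ ⊤) : Two K := by
  have k : ∀ x y : K, #C[(x : G)] = #C[(y : G)] → #C[x] = #C[y] := fun x y e => by
    have h1 := fun z : G => hK.inf_of_norm' (le_top (a := C[z])) (le_top.trans hn.norm)
    rw [card_cent_sub, card_cent_sub, inf_comm, inf_comm C[(y : G)]]
    exact Nat.dvd_antisymm ((h1 _).dvd (h1 _).pi (e ▸ card_dvd inf_le_right))
      ((h1 _).dvd (h1 _).pi (e ▸ card_dvd inf_le_right))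
  have n : ∀ {x : K}, x ∉ center K → (x : G) ∉ center G := fun hx e =>
    hx (mem_center_sub.2 (center_le_cent K e))
  exact fun x y z hx hy hz => (h x y z (n hx) (n hy) (n hz)).imp (k _ _) (Or.imp (k _ _) (k _ _))

theorem ca_of (hF : ∀ x y : G, x ∉ center G → y ∉ center G → C[x] ≤ C[y] → C[x] = C[y])
    (two : ∀ x : G, x ∉ center G → ∀ s : ℕ, ∃ r, r.Prime ∧ r ≠ s ∧
      ∃ b ∈ C[x], PiE {r} b ∧ b ∉ center G) : CA G := by
  have cop : ∀ {t s} {g u : G}, s ≠ t → g ∉ center G → PiE {t} g → PiE {s} u → u ∈ C[g] →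
      C[g] ≤ C[u] := fun {t s g u} st hg gt us hu => by
    have e' := cent1_mul gt (us.sing_ne st) (mem_cent1.1 hu).symm
    exact (hF _ _ (mul_not_center hg gt (us.sing_ne st) hu) hg (e'.le.trans inf_le_left)).ge.trans
      (e'.le.trans inf_le_right)
  refine ⟨fun x y hx hy hc => (hF x y hx hy ?_).symm, two⟩
  obtain ⟨g, h1, t, -, gt, hg⟩ := exists_primary hx
  rw [hF x g hx hg (cent1_le_cent1_of_mem_zpowers h1)] at hc ⊢
  refine le_cent1_iff.2 (mem_of_primary fun u hu s _ us => le_cent1_iff.1 ?_)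
  replace hu := zpowers_le.2 hc hu
  by_cases st : s = t
  · obtain ⟨r, -, rt, w, w1, w2, w3⟩ := two g hg t
    have h1 := cop rt hg gt w2 w1
    exact h1.trans (cop (st ▸ rt.symm) w3 w2 us (h1 hu))
  · exact cop st hg gt us hu

theorem Two.solv : ∀ (n : ℕ) {G : Type u} [Group G] [Finite G], Nat.card G = n → Two G →
    Group.IsSolvable G := by
  intro n
  induction n using Nat.strong_induction_on with | _ n ih => ?_
  intro G _ _ hn h
  by_contra hs
  have three : ∀ s t : ℕ, ∃ r, r.Prime ∧ r ≠ s ∧ r ≠ t ∧ ∃ b : G, PiE {r} b ∧ b ∉ center G := by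
    intro s t
    by_contra hne
    push Not at hne
    exact hs (solv_of_two (s := s) (t := t) fun r x a b c => hne r a b c x)
  have hF : ∀ x y : G, x ∉ center G → y ∉ center G → C[x] ≤ C[y] → C[x] = C[y] := by
    intro x y hx hy le
    by_contra ne
    have lt := card_lt (lt_of_le_of_ne le ne)
    refine hs (NF.solv ⟨fun z hz => ?_, (card_mul_relIndex le).symm, lt, three⟩ hy rfl rfl le)
    rcases h x y z hx hy hz with e | e | e
    · omega
    · exact .inr e.symm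
    · exact .inl e.symm
  have hC : CA G := ca_of hF fun x hx p => by
    by_contra hne
    push Not at hne
    have k : ∀ y : G, PiE {p}ᶜ y → y ∉ center G → #C[x] ≠ #C[y] := fun y yp hy e => by
      obtain ⟨g, h1, t, ht, gt, hg⟩ := exists_primary hy
      obtain ⟨b, b1, b2, b3⟩ := exists_nc (K := C[x]) hg gt fun m _ hm => by
        rwa [e, hF y g hy hg (cent1_le_cent1_of_mem_zpowers h1)]
      exact b3 (hne t ht (ne_of_pe gt (yp.e_of_mem_zpowers h1) hg) b b1 b2)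
    by_cases hp : p.Prime
    · rcases two_reg hp fun y z a b c d => ((h x y z hx c d).resolve_left (k y a c)).resolve_left
        (k z b d) with ⟨B, h1, h2⟩ | ⟨q, -, -, h1⟩
      · exact hs (solv_of_hall hp h1 h2)
      · exact hs (solv_of_two h1)
    · exact k x (fun r hr _ e => hp (e ▸ hr)) hx rfl
  obtain ⟨-, -, -, -, x, -, hx⟩ := three 0 0
  obtain ⟨x, hx, h1⟩ := hC.selfn hx h
  obtain ⟨r, hr, ⟨b, br, hb⟩, h2, h3⟩ := hC.syl hx
  have h4 := H18.Burnside_normal_complement h2 (inf_le_right.trans ((norm_le_norm_cent _).trans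
    (by rw [h3]; exact h1)))
  have h5 : Sol (Oc {r}ᶜ (⊤ : Subgroup G)) := ih _ (by
    rw [← hn, ← card_top (G := G)]
    exact card_lt (lt_top_iff_ne_top.2 fun e => hb ((br.e_eq_one (h4.pi.elt (e.ge trivial))).symm ▸
      one_mem _))) rfl (h.sub h4 (Oc_normal _ _))
  have h6 := sol_sup h5 h2.pi.sol (le_top.trans (Oc_norm _ _))
  rw [sup_comm, h2.sup_compl h4] at h6
  exact hs (Group.isSolvable_of_surjective (f := (⊤ : Subgroup G).subtype) fun g => ⟨⟨g, trivial⟩, rfl⟩)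

end H25.Ito
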