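/-
A simple group with a self-centralizing TI subgroup `A` acting regularly on a class of
involutions does not exist.
-/
import Cfsg.Agent.H5.SC3
import Cfsg.Agent.H5.RepEquiv
import Cfsg.Agent.H24.Rank3
import Cfsg.Agent.H7.ZStar

set_option autoImplicit false
set_option linter.unusedSectionVars false

open Cfsg
namespace H25.R4
open H19 Subgroup H5 H5.SC H24

section
variable {G : Type*} [Group G] [Fintype G]

theorem chi_mul {x w : G} (h : (cs x).Coprime (cs w)) (χ : IrrCharacter G) :
    χ.1 1 * χ.1 (x * w) = χ.1 x * χ.1 w := by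
  classical
  have c := χ.2.isClassFunction
  have k := χ.2.sum_mul_apply_mul (isClassFunction_classInd x) w
  have e : ∀ g, classInd x g * χ.1 (g * w) = classInd x g * χ.1 (x * w) := fun g => by
    by_cases hg : IsConj x g
    · obtain ⟨y, rfl⟩ := isConj_iff.1 hg
      obtain ⟨u, hu, v, hv, rfl⟩ := H2.facIn_of_coprime_index h.symm y (mem_top y)
      have : u * v * x * (u * v)⁻¹ * w = u * (x * w) * u⁻¹ := by
        rw [mul_assoc u v, mem_cent1.1 hv, mul_assoc u (x * w), mul_assoc x w,
          ← (mem_cent1.1 (inv_mem hu))]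
        group
      rw [this, c]
    · simp only [classInd, hg, if_false, zero_mul]
  rw [Finset.sum_congr rfl fun g _ => e g, sum_classInd_mul x c,
    sum_classInd_mul x (isClassFunction_const _)] at k
  have i : (C[x].index : ℂ) ≠ 0 := Nat.cast_ne_zero.2 index_ne_zero_of_finite
  have d := χ.2.apply_one_ne_zero
  field_simp at k
  linear_combination k

end

variable {G : Type*} [Group G] [Finite G] [IsSimpleGroup G] {A : Subgroup G} {x : G}

theorem ssc_cs (h : SSC A) {a : G} (ha : a ∈ A) (a1 : a ≠ 1) : cs a = A.index := by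
  rw [cs, h a ha a1]

theorem ssc_cop (h : SSC A) : (#A).Coprime A.index :=
  coprime_card_index_of_centralizer_le fun k a b => (h k a b).le

theorem ssc_e (hZ : center G = ⊥) (h : SSC A) (x1 : x ≠ 1) (hx : cs x = #A) :
    A.relIndex N(A) + 1 < #A := by
  have n1 : 1 < #A := hx ▸ one_lt_cs hZ x1
  obtain ⟨p, hp, pd⟩ := Nat.exists_prime_and_dvd n1.ne'
  have : ∃ q, q.Prime ∧ q ∣ #A ∧ q ≠ p := by
    by_contra! hq
    have := comm_of_simple_of_class_prime_pow hp x1 (hx.trans (Nat.eq_prime_pow_of_unique_prime_dvd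
      (card_ne_zero A) (fun a b => hq _ a b)))
    rw [hZ] at this
    exact x1 (mem_bot.1 (this ▸ mem_top x))
  obtain ⟨q, hq, qd, qp⟩ := this
  obtain ⟨w, hw, ow⟩ := exists_orderOf_eq_prime hp pd
  obtain ⟨v, hv, ov⟩ := exists_orderOf_eq_prime hq qd
  have w1 : w ≠ 1 := fun e => by rw [e, orderOf_one] at ow; exact hp.one_lt.ne ow
  have v1 : v ≠ 1 := fun e => by rw [e, orderOf_one] at ov; exact hq.one_lt.ne ov
  let w' : N(A) := ⟨w, le_normalizer hw⟩
  have e1 : cs w' = A.relIndex N(A) := by rw [cs_subgroup]; exact congrArg (relIndex · _) (h w hw w1)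
  have e2 := Set.ncard_image_of_injective {y : N(A) | IsConj w' y} Subtype.val_injective
  rw [ncard_isConj, e1] at e2
  have sub : insert 1 (insert v (Subtype.val '' {y : N(A) | IsConj w' y})) ⊆ (A : Set G) := by
    rintro _ (rfl | rfl | ⟨y, hy, rfl⟩)
    · exact A.one_mem
    · exact hv
    · obtain ⟨g, rfl⟩ := isConj_iff.1 hy
      exact conj_mem_of_norm g.2 hw
  have o : ∀ y ∈ Subtype.val '' {y : N(A) | IsConj w' y}, orderOf y = p := by
    rintro _ ⟨y, hy, rfl⟩
    obtain ⟨g, rfl⟩ := isConj_iff.1 hy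
    exact (orderOf_conj g.1 w).trans ow
  have := Set.ncard_le_ncard sub
  rw [Set.ncard_insert_of_notMem (by
      rintro (e | e)
      · exact v1 e.symm
      · have := o _ e; rw [orderOf_one] at this; exact hp.one_lt.ne this),
    Set.ncard_insert_of_notMem (fun e => qp (ov.symm.trans (o _ e))), e2] at this
  exact this

theorem alpha (hZ : center G = ⊥) (h : SSC A) (x1 : x ≠ 1) (hx : cs x = #A) (g : G)
    (hg : g * x * g⁻¹ ∈ C[x]) : g * x * g⁻¹ = x := by
  classical
  haveI := Fintype.ofFinite G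
  have n1 : 1 < #A := hx ▸ one_lt_cs hZ x1
  have hn := ssc_e hZ h x1 hx
  obtain ⟨F, P, X⟩ := h.ex rfl hn
  have F2 : 1 < F.card := by
    have := X.card
    by_contra! h2
    have := Nat.mul_le_mul_left (A.relIndex N(A)) h2
    omega
  have cop : ∀ a ∈ A, a ≠ 1 → (cs x).Coprime (cs a) := fun a ha a1 => by
    rw [hx, ssc_cs h ha a1]; exact ssc_cop h
  have ox : Off A x := fun y hy => by
    have := cop _ hy (by simpa using x1)
    rw [cs_conj, Nat.coprime_self] at this
    exact absurd this (one_lt_cs hZ x1).ne'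
  have oxa : ∀ a ∈ A, a ≠ 1 → Off A (x * a) := fun a ha a1 y hy => by
    by_contra e
    have := ssc_cs h hy (by simpa using e)
    rw [cs_conj, ← ssc_cs h ha a1, ← cs_mul_comm] at this
    exact cs_mul_ne_left hZ a1 x1 (cop a ha a1).symm this
  obtain ⟨w, hw, w1⟩ := exists_ne_one (ne_bot_iff_one_lt_card.2 n1)
  have key : ∀ φ : IrrCharacter G, ∑ a : A, φ.1 a = 0 → φ.1 x = -(#A - 1) * φ.1 (x * w) := by
    intro φ s
    have m := chi_mul (cop w hw w1) φ
    have d := φ.2.apply_one_ne_zero
    by_cases hφ : φ ∈ F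
    · have z : φ.1 x = 0 := by
        by_contra z
        obtain ⟨ψ, hψ, ne⟩ := Finset.exists_mem_ne F2 φ
        refine ne (Subtype.ext (funext fun y => ?_))
        by_cases o : Off A y
        · exact X.cst y o ψ hψ φ hφ
        · obtain ⟨k, hk⟩ := not_forall.1 o
          obtain ⟨k1, k2⟩ := _root_.not_imp.1 hk
          have k3 : k * y * k⁻¹ ≠ 1 := by simpa using k2
          rw [← ψ.2.isClassFunction y k, ← φ.2.isClassFunction y k]
          have a := chi_mul (cop _ k1 k3) φ
          have b := chi_mul (cop _ k1 k3) ψ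
          have c1 : ψ.1 1 = φ.1 1 := X.cst 1 off_one ψ hψ φ hφ
          have c2 : ψ.1 x = φ.1 x := X.cst x ox ψ hψ φ hφ
          have c3 : ψ.1 (x * (k * y * k⁻¹)) = φ.1 (x * (k * y * k⁻¹)) :=
            X.cst _ (oxa _ k1 k3) ψ hψ φ hφ
          rw [c1, c2, c3, a] at b
          exact (mul_left_cancel₀ z b).symm
      rw [z, zero_mul] at m
      rw [z, (mul_eq_zero.1 m).resolve_left d, mul_zero]
    · rw [← Finset.add_sum_erase _ _ (Finset.mem_univ 1), Finset.sum_congr rfl
        (g := fun _ => (P φ : ℂ)) fun (b : A) hb => X.val φ hφ b b.2 fun e =>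
          Finset.ne_of_mem_erase hb (Subtype.ext e), Finset.sum_const,
        Finset.card_erase_of_mem (Finset.mem_univ _), Finset.card_univ, ← Nat.card_eq_fintype_card,
        nsmul_eq_mul, Nat.cast_sub (card_pos A)] at s
      simp only [OneMemClass.coe_one, Nat.cast_one] at s
      rw [X.val φ hφ w hw w1] at m
      have p0 : (P φ : ℂ) ≠ 0 := fun e => d (by rw [e] at s; simpa using s)
      refine mul_right_cancel₀ p0 ?_
      linear_combination -m + φ.1 (x * w) * s
  let π : G → ℕ := fun y => Nat.card (MulAction.fixedBy (G ⧸ C[x]) y)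
  have mem : ∀ y k : G, (k : G ⧸ C[x]) ∈ MulAction.fixedBy (G ⧸ C[x]) y ↔ k⁻¹ * y * k ∈ C[x] :=
    fun y k => by
      rw [MulAction.mem_fixedBy, MulAction.Quotient.smul_mk, smul_eq_mul, eq_comm, QuotientGroup.eq,
        mul_assoc]
  have π1 : π 1 = #A := by
    simp only [π, MulAction.fixedBy_one_eq_univ, Nat.card_univ]
    exact hx
  have π0 : ∀ a ∈ A, a ≠ 1 → π a = 0 := fun a ha a1 => by
    refine Nat.card_eq_zero.2 (Or.inl ⟨fun ⟨q, hq⟩ => ?_⟩)
    obtain ⟨k, rfl⟩ := QuotientGroup.mk_surjective q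
    refine not_comm_of_coprime hZ x1 (y := k⁻¹ * a * k) (by
      intro e; apply a1; simpa [mul_assoc] using congrArg (fun z => k * z * k⁻¹) e) ?_
      ((mem a k).1 hq)
    have := cs_conj k⁻¹ a
    rw [inv_inv] at this
    rw [this]; exact cop a ha a1
  obtain ⟨c, hc⟩ := (isCharacter_perm_sub_one (G := G) (G ⧸ C[x])).exists_eq_sum_nat
  have hc' : ∀ y, (π y : ℂ) - 1 = ∑ φ, (c φ : ℂ) * φ.1 y := fun y => by
    simpa only [Finset.sum_apply, Pi.smul_apply, smul_eq_mul] using congrFun hc y
  choose m hm using fun φ : IrrCharacter G =>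
    (φ.2.isCharacter.restrict A).exists_classInner_nat isCharacter_one
  have n0 : (#A : ℂ) ≠ 0 := Nat.cast_ne_zero.2 (card_ne_zero A)
  have hm' : ∀ φ : IrrCharacter G, ∑ a : A, φ.1 a = #A * m φ := fun φ => by
    have := hm φ
    rwa [classInner_one_right, inv_mul_eq_iff_eq_mul₀ n0] at this
  have s : ∑ a : A, ((π a : ℂ) - 1) = 0 := by
    rw [Finset.sum_sub_distrib, Finset.sum_eq_single 1 (fun b _ b1 => by
      rw [π0 b b.2 fun e => b1 (Subtype.ext e), Nat.cast_zero]) (by simp)]
    simp [π1, Nat.card_eq_fintype_card]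
  simp only [hc'] at s
  rw [Finset.sum_comm] at s
  simp only [← Finset.mul_sum, hm', mul_left_comm _ (#A : ℂ)] at s
  have s' : ∑ φ, c φ * m φ = 0 := by exact_mod_cast (mul_eq_zero.1 s).resolve_left n0
  have fin : (π x : ℂ) - 1 = -(#A - 1) * (π (x * w) - 1) := by
    rw [hc', hc', Finset.mul_sum]
    refine Finset.sum_congr rfl fun φ _ => ?_
    rcases mul_eq_zero.1 (Finset.sum_eq_zero_iff.1 s' φ (Finset.mem_univ _)) with e | e
    · simp [e]
    · rw [key φ (by rw [hm', e]; simp)]; ring
  have fin' : (π x : ℤ) - 1 = -(#A - 1) * (π (x * w) - 1) := by exact_mod_cast fin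
  have p1 : 0 < π x := Nat.card_pos_iff.2 ⟨⟨⟨((1 : G) : G ⧸ C[x]), (mem x 1).2 (by
    simpa using mem_cent1_self x)⟩⟩, inferInstance⟩
  have pn : π x ≠ #A := fun e => by
    have u : MulAction.fixedBy (G ⧸ C[x]) x = Set.univ :=
      Set.eq_of_subset_of_ncard_le (Set.subset_univ _) (by
        rw [Set.ncard_univ]; exact (hx.trans e.symm).le)
    have : C[x] = ⊤ := top_le_of_conj x1 fun k => by
      simpa using (mem x k⁻¹).1 (u ▸ Set.mem_univ _)
    rw [cent_eq_top_iff, hZ, mem_bot] at this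
    exact x1 this
  have p2 : π x = 1 := by
    have : (1 : ℤ) < #A := by exact_mod_cast n1
    rcases Nat.lt_or_ge (π (x * w)) 2 with l | l
    · interval_cases π (x * w)
      · exact absurd (by omega) pn
      · omega
    · have : (2 : ℤ) ≤ π (x * w) := by exact_mod_cast l
      nlinarith
  have := (Nat.card_eq_one_iff_unique.1 p2).1.elim
    (⟨((1 : G) : G ⧸ C[x]), (mem x 1).2 (by simpa using mem_cent1_self x)⟩)
    ⟨(g⁻¹ : G), (mem x g⁻¹).2 (by simpa using hg)⟩
  have := QuotientGroup.eq.1 (congrArg Subtype.val this)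
  rw [inv_one, one_mul, inv_mem_iff] at this
  rw [mem_cent1.1 this, mul_inv_cancel_right]

theorem odd_core (x2 : orderOf x = 2) : pPrimeCore 2 G = ⊥ := by
  refine (Normal.eq_bot_or_eq_top inferInstance).resolve_right fun e => ?_
  have := H1.pPrimeCore_coprime (p := 2) (G := G)
  rw [e, card_top] at this
  exact absurd (this.symm.eq_one_of_dvd (x2 ▸ orderOf_dvd_natCard x)) (by decide)

/-- (α): no involution has class size the order of a self-centralizing subgroup -/
theorem alpha2 (hZ : center G = ⊥) (h : SSC A) (x2 : orderOf x = 2) : cs x ≠ #A := fun hx => by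
  have x1 : x ≠ 1 := fun e => by simp [e] at x2
  have := H7.zstar_mem_center (odd_core x2) ⟨x2, fun g hg => alpha hZ h x1 hx g (mem_cent1.2 hg.symm)⟩
  rw [hZ] at this
  exact x1 this

end H25.R4
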