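/-
Simple groups with at most four class sizes: the centralizer order of an involution has at most
one proper divisor among the centralizer orders.
-/
import Cfsg.Agent.H25.R4a
import Cfsg.Agent.H24.Four1
import Cfsg.Agent.H19.Amb6

set_option autoImplicit false
set_option linter.unusedSectionVars false

open Cfsg
namespace H25.R4
open H19 Subgroup H5.SC H24

variable {G : Type*} [Group G] [Finite G] {p q r : ℕ} {t u v w x y : G}

/-- at most four centralizer orders -/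
def F4 (G : Type*) [Group G] : Prop :=
  ∃ a b c d : ℕ, ∀ g : G, g ≠ 1 → #C[g] = a ∨ #C[g] = b ∨ #C[g] = c ∨ #C[g] = d

/-- at most one proper divisor of the centralizer order of an involution -/
def D2 (G : Type*) [Group G] : Prop := ∀ t u v : G, orderOf t = 2 → u ≠ 1 → v ≠ 1 →
  #C[u] ∣ #C[t] → #C[v] ∣ #C[t] → #C[u] = #C[t] ∨ #C[v] = #C[t] ∨ #C[u] = #C[v]

theorem cs_dvd (h : #C[x] ∣ #C[y]) : cs y ∣ cs x := by
  obtain ⟨k, hk⟩ := h
  refine ⟨k, Nat.eq_of_mul_eq_mul_right (card_pos C[x]) ?_⟩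
  rw [cs_mul_card, ← cs_mul_card y, hk]; ring

theorem cs_eq (h : #C[x] = #C[y]) : cs x = cs y :=
  Nat.dvd_antisymm (cs_dvd h.symm.dvd) (cs_dvd h.dvd)

theorem c_conj (g x : G) : #C[g * x * g⁻¹] = #C[x] := by rw [← cj_cent1, H19.card_cj]

theorem conj_ne (h : x ≠ 1) (g : G) : g * x * g⁻¹ ≠ 1 := by simpa using h

theorem piE_of (hp : p.Prime) (h : orderOf x = p) : PiE {p} x := by
  rw [PiE, h]; exact (piN_prime hp).2 rfl

theorem dvd_c (hp : PiE {p} x) (x1 : x ≠ 1) (h : x ∈ C[y]) : p ∣ #C[y] :=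
  (hp.dvd_of_ne_one (by simpa using x1)).2.trans (orderOf_dvd_card' h)

theorem mul_ne {π : Set ℕ} (hx : PiE π x) (hy : PiE πᶜ y) (y1 : y ≠ 1) : x * y ≠ 1 := fun e =>
  y1 (PiN.e_eq_one (by rw [eq_inv_of_mul_eq_one_right e]; exact hx.e_inv) hy)

theorem cen (hp : p.Prime) (h : p ∣ Nat.card G) (hy : PiE {p} y) :
    ∃ w : G, w ≠ 1 ∧ PiE {p} w ∧ ¬ p ∣ cs w ∧ y ∈ C[w] := by
  obtain ⟨P, hP, l⟩ := (piG_zpowers.2 hy).exists_syl le_top
  obtain ⟨x, hx, h1⟩ := exists_ne_one (hP.pi.center_ne_bot (hP.sne_bot hp (by rwa [card_top])))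
  refine ⟨x, h1, hP.pi.elt hx.1, ?_, le_cent1_iff.2 hx.2 (l (mem_zpowers y))⟩
  have := hP.not_dvd_relIndex hp (le_cent1_iff.2 hx.2)
  rwa [relIndex_top_right] at this

theorem conj_into {π : Set ℕ} {B Y : Subgroup G} (h : Hall π B Y) (hx : x ∈ Y) (hp : PiE {p} x)
    (m : p ∈ π) : ∃ g, g * x * g⁻¹ ∈ B := by
  obtain ⟨P, hP, l⟩ := h.exists_syl m
  obtain ⟨g, -, e⟩ := hP.scj_le (zpowers_le.2 hx) (piG_zpowers.2 hp)
  exact ⟨g, l (e (H19.conj_mem_cj.2 (mem_zpowers x)))⟩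

variable [IsSimpleGroup G]

theorem two_primes (hZ : center G = ⊥) (x1 : x ≠ 1) (hp : p.Prime) :
    ∃ q, q.Prime ∧ q ∣ cs x ∧ q ≠ p := by
  by_contra! hq
  have := H5.comm_of_simple_of_class_prime_pow hp x1 (Nat.eq_prime_pow_of_unique_prime_dvd
    (cs_ne_zero x) (fun a b => hq _ a b))
  rw [hZ] at this
  exact x1 (mem_bot.1 (this ▸ mem_top x))

theorem key (hZ : center G = ⊥) (h4 : F4 G) : D2 G := by
  intro t u v t2 u1 v1 hu hv
  by_contra! hn
  obtain ⟨n1, n2, n3⟩ := hn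
  obtain ⟨a, b, c, d, h4⟩ := h4
  have t1 : t ≠ 1 := ne_one_of_prime Nat.prime_two t2
  have pt := piE_of Nat.prime_two t2
  have T : ∀ w y : G, w ≠ 1 → ¬ #C[w] ∣ #C[t] → y ≠ 1 →
      #C[y] = #C[w] ∨ #C[y] = #C[t] ∨ #C[y] = #C[u] ∨ #C[y] = #C[v] := fun w y w1 hw y1 => by
    have a1 : #C[w] ≠ #C[t] := fun e => hw e.dvd
    have a2 : #C[w] ≠ #C[u] := fun e => hw (e ▸ hu)
    have a3 : #C[w] ≠ #C[v] := fun e => hw (e ▸ hv)
    have := h4 t t1; have := h4 u u1; have := h4 v v1; have := h4 w w1; have := h4 y y1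
    omega
  have T2 : ∀ w y : G, w ≠ 1 → ¬ #C[w] ∣ #C[t] → y ≠ 1 → ¬ #C[y] ∣ #C[t] → #C[y] = #C[w] :=
    fun w y w1 hw y1 hy => by
      rcases T w y w1 hw y1 with e | e | e | e
      exacts [e, (hy e.dvd).elim, (hy (e ▸ hu)).elim, (hy (e ▸ hv)).elim]
  have pc : ∀ (p : ℕ) (w : G), p ∣ cs t → ¬ p ∣ cs w → ¬ #C[w] ∣ #C[t] := fun p w d nd h =>
    nd (d.trans (cs_dvd h))
  have cop : ∀ w : G, w ≠ 1 → ¬ #C[w] ∣ #C[t] → (cs t).Coprime (cs w) := fun w w1 hw =>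
    Nat.coprime_of_dvd fun p hp d d' => by
      obtain ⟨x, x1, -, hx⟩ := exists_pcentral hp (d.trans (cs_dvd_card t))
      exact hx (cs_eq (T2 w x w1 hw x1 (pc p x d hx)) ▸ d')
  have nc : ∀ w y : G, w ≠ 1 → ¬ #C[w] ∣ #C[t] → y ≠ 1 → #C[y] = #C[t] → w ∉ C[y] :=
    fun w y w1 hw y1 e => not_comm_of_coprime hZ y1 w1 (cs_eq e ▸ cop w w1 hw)
  have pair : ∀ (p q : ℕ) (w : G), p.Prime → q.Prime → p ∣ cs t → q ∣ cs t → q ≠ p → w ≠ 1 → PiE {p} w →
      ¬ p ∣ cs w → ∃ w', w' ≠ 1 ∧ PiE {q} w' ∧ C[w'] = C[w] := by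
    intro p q w hp hq dp dq ne w1 pw nw
    have hw := pc p w dp nw
    obtain ⟨Q, hQ⟩ := H19.exists_syl q C[w]
    have qw : ¬ q ∣ cs w := fun e => hq.one_lt.ne' (Nat.eq_one_of_dvd_coprimes (cop w w1 hw) dq e)
    have hQ' : H19.Syl q Q ⊤ := hQ.of_idx le_top (by rw [relIndex_top_right]; exact PiN.of_not_dvd qw)
    obtain ⟨x, hx, x1⟩ := exists_ne_one (hQ.pi.center_ne_bot (hQ'.sne_bot hq (by
      rw [card_top]; exact dq.trans (cs_dvd_card t))))
    have px := hQ.pi.elt hx.1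
    have k : ∀ z : G, Q ≤ C[z] → ¬ #C[z] ∣ #C[t] := fun z l => pc q z dq (by
      have := hQ'.not_dvd_relIndex hq l
      rwa [relIndex_top_right] at this)
    have e := cent1_mul pw (px.sing_ne ne) (mem_cent1.1 (hQ.le hx.1)).symm
    have l := le_cent1_iff.2 hx.2
    have e1 := T2 w _ w1 hw (mul_ne pw (px.sing_ne ne) x1) (k _ (e ▸ le_inf hQ.le l))
    have e2 := T2 w x w1 hw x1 (k _ l)
    rw [e] at e1
    exact ⟨x, x1, px, (eq_of_le_of_card_eq inf_le_right (e1.trans e2.symm)).symm.trans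
      (eq_of_le_of_card_eq inf_le_left e1)⟩
  have o2 : ¬ 2 ∣ cs t := fun d => by
    obtain ⟨w, w1, -, a, b⟩ := cen Nat.prime_two (d.trans (cs_dvd_card t)) pt
    exact nc w t w1 (pc 2 w d a) t1 rfl (mem_cent1_symm.1 b)
  have main : ∀ r, r.Prime → r ∣ cs t → ¬ r ∣ #C[t] := fun r hr d d' => by
    obtain ⟨y, hy, oy⟩ := exists_orderOf_eq_prime hr d'
    have y1 := ne_one_of_prime hr oy
    have py := piE_of hr oy
    have r2 : 2 ≠ r := fun e => o2 (e ▸ d)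
    obtain ⟨w, w1, pw, a, b⟩ := cen hr (d.trans (cs_dvd_card t)) py
    obtain ⟨q, hq, dq, ne⟩ := two_primes hZ t1 hr
    obtain ⟨w', w1', pw', e⟩ := pair r q w hr hq d dq ne w1 pw a
    have hw := pc r w d a
    have hw' : ¬ #C[w'] ∣ #C[t] := e ▸ hw
    have ty : #C[y] ∣ #C[t] := by_contra fun k => nc y t y1 k t1 rfl hy
    have ny : #C[y] ≠ #C[t] := fun k => nc w y w1 hw y1 k (mem_cent1_symm.1 b)
    have wy : w' ∈ C[y] := mem_cent1_symm.1 (e ▸ b)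
    have ty' : t ∈ C[y] := mem_cent1_symm.1 hy
    have k : ∀ x ∈ C[y], PiE {r}ᶜ x → x ∉ C(C[y]) → #(C[x] ⊓ C[y]) ≠ #C[y] ∧
        (#(C[x] ⊓ C[y]) = #C[u] ∨ #(C[x] ⊓ C[y]) = #C[v]) := fun x hx px nx => by
      have e := cent1_mul px py.compl_compl (mem_cent1.1 hx)
      have k1 : #(C[x] ⊓ C[y]) ≠ #C[y] := fun k => nx (le_cent1_iff.1
        ((eq_of_le_of_card_eq inf_le_right k).ge.trans inf_le_left))
      have k2 : #(C[x] ⊓ C[y]) ∣ #C[y] := card_dvd inf_le_right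
      refine ⟨k1, ?_⟩
      rcases T w _ w1 hw (mul_ne px py.compl_compl y1) with f | f | f | f <;> rw [e] at f
      · exact (hw (f ▸ k2.trans ty)).elim
      · exact (ny (Nat.dvd_antisymm ty (f ▸ k2))).elim
      · exact .inl f
      · exact .inr f
    have ky : #C[y] = #C[u] ∨ #C[y] = #C[v] := by
      rcases T w y w1 hw y1 with f | f | f | f
      exacts [(hw (f ▸ ty)).elim, (ny f).elim, .inl f, .inr f]
    rcases H25.Ito.two_reg' (A := C[y]) hr fun x a x' a' b b' c c' => by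
        have := k x a b c
        have := k x' a' b' c'
        omega with ⟨B, hB, hB'⟩ | ⟨s, -, -, hs⟩
    · obtain ⟨g, hg⟩ := conj_into hB' ty' pt r2
      obtain ⟨g', hg'⟩ := conj_into hB' wy pw' ne
      exact nc _ _ (conj_ne w1' g') (by rwa [c_conj]) (conj_ne t1 g) (c_conj g t)
        (mem_cent1.2 (mul_comm_of_comm hB hg' hg))
    · refine nc w' t w1' hw' t1 rfl ?_
      by_cases e : 2 = s
      · exact mem_cent1_symm.1 (le_cent1_iff.2 (hs q w' wy hq ne (fun f => o2 (e ▸ f ▸ dq)) pw') ty')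
      · exact le_cent1_iff.2 (hs 2 t ty' Nat.prime_two r2 e pt) wy
  obtain ⟨p, hp, dp, -⟩ := two_primes hZ t1 Nat.prime_two
  obtain ⟨q, hq, dq, ne⟩ := two_primes hZ t1 hp
  obtain ⟨w, w1, pw, nw⟩ := exists_pcentral hp (dp.trans (cs_dvd_card t))
  obtain ⟨w', w1', pw', e⟩ := pair p q w hp hq dp dq ne w1 pw nw
  have hw := pc p w dp nw
  have t2' : ∀ y ∈ C[w], y ≠ 1 → ¬ #C[y] ∣ #C[t] := fun y hy _ k =>
    main p hp dp ((dvd_c pw w1 (mem_cent1_symm.1 hy)).trans k)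
  have st : ∀ (s : ℕ) (z y : G), z ≠ 1 → PiE {s} z → C[z] = C[w] → y ∈ C[w] → PiE {s}ᶜ y →
      C[w] ≤ C[y] := fun s z y z1 pz ez hy py => by
    have f := cent1_mul py pz.compl_compl (mem_cent1.1 (ez ▸ hy))
    have := T2 w _ w1 hw (mul_ne py pz.compl_compl z1)
      (t2' _ (mul_mem hy (ez ▸ mem_cent1_self z)) (mul_ne py pz.compl_compl z1))
    rw [f, ez] at this
    exact (eq_of_le_of_card_eq inf_le_right this).ge.trans inf_le_left
  have ssc : SSC C[w] := fun a ha a1 => by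
    refine (eq_of_le_of_card_eq ?_ (T2 w a w1 hw a1 (t2' a ha a1)).symm).symm
    refine le_cent1_iff.2 (mem_of_forall_primePow a fun y hy s k hs ho => le_cent1_iff.1 ?_)
    have hy' : y ∈ C[w] := (zpowers_le.2 ha) hy
    have py : PiE {s} y := by rw [PiE, ho]; exact PiN.prime_pow hs k
    by_cases f : s = p
    · exact st q w' y w1' pw' e hy' (py.sing_ne (f ▸ ne.symm))
    · exact st p w y w1 pw rfl hy' (py.sing_ne f)
  refine alpha2 hZ ssc t2 (Nat.dvd_antisymm ?_ ?_)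
  · exact (cop w w1 hw).dvd_of_dvd_mul_left (by rw [cs_mul_card]; exact cs_dvd_card t)
  · refine Nat.Coprime.dvd_of_dvd_mul_right (n := #C[t]) (Nat.coprime_of_dvd fun s hs d d' => ?_)
      (by rw [cs_mul_card]; exact card_subgroup_dvd_card _)
    obtain ⟨y, hy, oy⟩ := exists_orderOf_eq_prime hs d'
    refine ssc.not_dvd (fun g hg => by_contra fun y1 => ?_) hs oy d
    refine nc y t y1 ?_ t1 rfl hy
    rw [← c_conj g]
    exact t2' _ hg (conj_ne y1 g)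

end H25.R4
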