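/-
Consequences of the condition `D2` for the `2`-local structure.
-/
import Cfsg.Agent.H25.R4b
import Cfsg.Agent.H4.BGTop

set_option autoImplicit false
set_option linter.unusedSectionVars false

open Cfsg
namespace H25.R4
open H19 Subgroup H24

variable {G : Type*} [Group G] [Finite G] {p q r : ℕ} {i t u v w x y : G} {S : Subgroup G}

theorem p2 (h : orderOf t = 2) : PiE {2} t := piE_of Nat.prime_two h

theorem D2.odd (h : D2 G) (t2 : orderOf t = 2) (u1 : u ≠ 1) (l : C[u] ≤ C[t]) (ne : C[u] ≠ C[t])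
    (hy : y ∈ C[t]) (py : PiE {2}ᶜ y) : C[t] ≤ C[y] ∨ #(C[t] ⊓ C[y]) = #C[u] := by
  by_cases y1 : y = 1
  · simp [y1]
  have e := cent1_mul (p2 t2) py (mem_cent1.1 hy).symm
  rcases h t (t * y) u t2 (mul_ne (p2 t2) py y1) u1 (e ▸ card_dvd inf_le_left) (card_dvd l) with
    f | f | f
  · rw [e] at f
    exact .inl ((eq_of_le_of_card_eq inf_le_left f).ge.trans inf_le_right)
  · exact (ne (eq_of_le_of_card_eq l f)).elim
  · exact .inr (e ▸ f)

theorem D2.sol (h : D2 G) (t2 : orderOf t = 2) : H19.Sol C[t] :=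
  sol_of_two_reg' Nat.prime_two fun x hx y hy px py nx ny => by
    have x1 : x ≠ 1 := fun e => nx (e ▸ one_mem _)
    have e := cent1_mul (p2 t2) px (mem_cent1.1 hx).symm
    have := (h.odd t2 (mul_ne (p2 t2) px x1) (e ▸ inf_le_left) (fun f => nx (le_cent1_iff.1
      ((f.symm.trans e).le.trans inf_le_right))) hy py).resolve_left fun f => ny (le_cent1_iff.1 f)
    rw [inf_comm C[x], inf_comm C[y], this, e]

theorem D2.dvd (h : D2 G) (t2 : orderOf t = 2) (u1 : u ≠ 1) (l : C[u] ≤ C[t]) (hr : r.Prime)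
    (r2 : r ≠ 2) (d : r ∣ #C[t]) : r ∣ #C[u] := by
  by_cases ne : C[u] = C[t]
  · rwa [ne]
  obtain ⟨y, hy, oy⟩ := exists_orderOf_eq_prime hr d
  rcases h.odd t2 u1 l ne hy ((piE_of hr oy).sing_ne r2) with f | f
  · exact oy ▸ orderOf_dvd_card' (mem_cent1_symm.1 (f (l (mem_cent1_self u))))
  · exact f ▸ oy ▸ orderOf_dvd_card' (H := C[t] ⊓ C[y]) ⟨hy, mem_cent1_self y⟩

theorem npc_of_cs {X : Type*} [Group X] [Finite X] (hs : Group.IsSolvable X)
    (h : ∀ y : X, PiE {2}ᶜ y → ¬ 4 ∣ cs y) : HasNormalPComplement 2 X := by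
  haveI : Fact (Nat.Prime 2) := ⟨Nat.prime_two⟩
  set N := pPrimeCore 2 X with hN
  have e0 : Oc {2}ᶜ (⊤ : Subgroup (X ⧸ N)) = ⊥ := by
    rw [H18.Oc_top_p' Nat.prime_two, H1.pPrimeCore_quotient_pPrimeCore]
  have k : ∀ z : X ⧸ N, PiE {2}ᶜ z → z = 1 := fun z pz => by
    obtain ⟨y, py, rfl⟩ := exists_lift_piE N pz
    set z : X ⧸ N := QuotientGroup.mk y
    set Q := Oc {2} (⊤ : Subgroup (X ⧸ N))
    have pQ : PG 2 Q := Oc_pi _ _
    haveI nQ : Q.Normal := (Oc_normal _ _).normal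
    have d : C[z].relIndex Q ∣ cs y := (relIndex_dvd_index_of_normal_right _ _).trans (cs_quot_dvd N y)
    obtain ⟨j, hj⟩ := (pQ.relIndex C[z]).exists_pow (relIndex_ne_zero' _ _)
    have zc : Q ≤ C[z] := by
      rcases j with _ | _ | j
      · exact relIndex_eq_one.1 hj
      · intro a ha
        by_contra na
        have m : z * a * z⁻¹ ∈ Q := nQ.conj_mem _ ha z
        have na' : z * a * z⁻¹ ∉ C[z] := fun f => na (by
          rw [mem_cent1] at f ⊢
          have : z * (a * z) = z * (z * a) := by rw [← mul_assoc z z, mul_assoc, ← inv_mul_cancel_right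
            (z * (z * a)) z, mul_assoc z (z * a), ← f]; group
          exact mul_left_cancel this)
        have c : a⁻¹ * (z * a * z⁻¹) ∈ C[z] := by
          have := (mul_mem_iff_of_index_two (H := C[z].subgroupOf Q) hj (a := ⟨a⁻¹, inv_mem ha⟩)
            (b := ⟨_, m⟩)).2 (iff_of_false (fun f => na (inv_mem_iff.1 f)) na')
          exact this
        have c1 : PiE {2} (a⁻¹ * (z * a * z⁻¹)) := pQ.elt (mul_mem (inv_mem ha) m)
        have c2 : PiE {2}ᶜ (a⁻¹ * (z * a * z⁻¹)) := by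
          have e : a⁻¹ * (z * a * z⁻¹) = a⁻¹ * z * a⁻¹⁻¹ * z⁻¹ := by group
          have c' : a⁻¹ * z * a⁻¹⁻¹ ∈ C[z] := by
            have := mul_mem c (mem_cent1_self z)
            rwa [e, inv_mul_cancel_right] at this
          rw [e]
          exact (pz.e_conj _).e_mul pz.e_inv (mem_cent1.1 (mem_cent1_symm.1 (inv_mem
            (mem_cent1_symm.1 c'))))
        have := PiN.e_eq_one c1 c2
        rw [inv_mul_eq_one, eq_mul_inv_iff_mul_eq] at this
        exact na (mem_cent1.2 this)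
      · exact (h y py (Dvd.dvd.trans ⟨2 ^ j, by rw [hj]; ring⟩ d)).elim
    have := cent_Fit_le (M := (⊤ : Subgroup (X ⧸ N))) inferInstance
    rw [Fit_eq_Oc e0] at this
    exact PiN.e_eq_one (pQ.elt (this ⟨trivial, le_cent1_iff.1 zc⟩)) pz
  refine H4.hasNPC_top ⟨le_top, Oc_pi _ _, ?_⟩
  rw [H18.Oc_top_p' Nat.prime_two, relIndex_top_right, compl_compl]
  intro s hs d
  by_contra s2
  obtain ⟨z, -, oz⟩ := exists_orderOf_eq_prime (H := (⊤ : Subgroup (X ⧸ N))) hs (by rwa [card_top])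
  exact ne_one_of_prime hs oz (k z ((piE_of hs oz).sing_ne s2))

theorem D2.npc (h : D2 G) (t2 : orderOf t = 2) (u1 : u ≠ 1) (l : C[u] ≤ C[t]) (ne : C[u] ≠ C[t])
    (h4 : ¬ 4 ∣ C[u].relIndex C[t]) : HasNormalPComplement 2 C[t] :=
  npc_of_cs (h.sol t2) fun y py => by
    rw [cs_subgroup]
    rcases h.odd t2 u1 l ne y.2 (by rwa [PiE, orderOf_coe]) with f | f
    · rw [relIndex_eq_one.2 f]; decide
    · have e := card_inf_mul_relIndex C[(y : G)] C[t]
      rw [inf_comm, f, ← card_mul_relIndex l] at e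
      rwa [Nat.eq_of_mul_eq_mul_left (card_pos _) e]

theorem D2.npc' (h : D2 G) (hS : H19.Syl 2 S ⊤) (t2 : orderOf t = 2) (u1 : u ≠ 1) (l : C[u] ≤ C[t])
    (ne : C[u] ≠ C[t]) {k : ℕ} (e : #S = 2 ^ (k + 1)) (d : 2 ^ k ∣ #C[u]) :
    HasNormalPComplement 2 C[t] :=
  h.npc t2 u1 l ne fun f => by
    have := hS.dvd (PiN.prime_pow Nat.prime_two (k + 2)) ((show 2 ^ (k + 2) ∣ #C[t] by
      rw [← card_mul_relIndex l, pow_add]; exact mul_dvd_mul d f).trans (card_dvd le_top))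
    rw [e, Nat.pow_dvd_pow_iff_le_right one_lt_two] at this
    omega

theorem ab_of_sq {P : Type*} [Group P] [Finite P] (hP : IsPGroup 2 P)
    (h : ∀ u s : P, u * u ≠ 1 → Commute (u * u) s → Commute u s) (a b : P) : Commute a b := by
  haveI : Fact (Nat.Prime 2) := ⟨Nat.prime_two⟩
  by_contra n
  haveI : Nontrivial (P ⧸ center P) := ⟨⟨a, 1, fun e => n
    (mem_center_iff.1 ((QuotientGroup.eq_one_iff a).1 e) b).symm⟩⟩
  have hQ := hP.to_quotient (center P)
  haveI := hQ.center_nontrivial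
  obtain ⟨z, hz, oz⟩ := exists_orderOf_eq_prime (H := center (P ⧸ center P)) Nat.prime_two
    ((PiN.of_isPGroup Nat.prime_two (hQ.to_subgroup _)).dvd_of_ne_bot
      ((nontrivial_iff_ne_bot _).1 inferInstance))
  obtain ⟨u, rfl⟩ := QuotientGroup.mk_surjective z
  have u0 : u ∉ center P := fun e => ne_one_of_prime Nat.prime_two oz ((QuotientGroup.eq_one_iff u).2 e)
  have u2 : u * u ∈ center P := (QuotientGroup.eq_one_iff _).1 (by
    rw [QuotientGroup.mk_mul, ← pow_two, ← oz, pow_orderOf_eq_one])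
  have uu : u * u = 1 := by_contra fun e => u0 (mem_center_iff.2 fun s =>
    (h u s e (mem_center_iff.1 u2 s).symm).symm)
  have k : ∀ s, ¬ Commute u s → s * s = 1 := fun s ns => by_contra fun e => ns (h s u e (by
    have hc : u * s * (s * u)⁻¹ ∈ center P := (QuotientGroup.eq_one_iff _).1 (by
      rw [QuotientGroup.mk_mul, QuotientGroup.mk_inv, QuotientGroup.mk_mul, QuotientGroup.mk_mul,
        mem_center_iff.1 hz, mul_inv_cancel])
    obtain ⟨c, hc, e⟩ : ∃ c ∈ center P, u * s = c * (s * u) := ⟨_, hc, by group⟩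
    have m := mem_center_iff.1 hc
    have cc : c * c = 1 := by
      have : u * (u * s) = c * c * s * (u * u) := by
        rw [e, ← mul_assoc u c, m, mul_assoc c, ← mul_assoc u s, e]; group
      rw [← mul_assoc, uu, one_mul, mul_one] at this
      exact mul_right_cancel (this.symm.trans (one_mul s).symm)
    have : u * s * s = c * c * (s * s * u) := by
      rw [e, mul_assoc c, mul_assoc s, e, ← mul_assoc s c, m]; group
    rw [cc, one_mul, mul_assoc] at this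
    exact this.symm)).symm
  obtain ⟨s, hs⟩ := not_forall.1 (mt mem_center_iff.2 u0)
  have a := k s fun e => hs e.symm
  have b := k (s * u) fun e => hs (mul_right_cancel (b := u) (by rw [← e.eq, mul_assoc]))
  refine hs ?_
  rw [← inv_eq_of_mul_eq_one_right b, mul_inv_rev, inv_eq_of_mul_eq_one_right a,
    inv_eq_of_mul_eq_one_right uu]

theorem two_even (hS : PG 2 S) (nab : ¬ Ab S) :
    ∃ u i : G, PiE {2} u ∧ orderOf i = 2 ∧ i ∈ zpowers u ∧ C[u] ≠ C[i] := by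
  by_contra! h
  refine nab ⟨⟨ab_of_sq hS.isPGroup fun u s e c => Subtype.ext ?_⟩⟩
  have pu := hS.elt u.2
  have e' : (u * u : G) ≠ 1 := fun f => e (Subtype.ext f)
  obtain ⟨i, hi, oi⟩ := exists_orderOf_eq_prime (H := zpowers (u * u : G)) Nat.prime_two (by
    rw [Nat.card_zpowers]
    exact ((pu.e_mul pu rfl).dvd_of_ne_one (by simpa using e')).2)
  exact (mem_cent1.1 ((h u i pu oi (zpowers_le.2 (mul_mem (mem_zpowers _) (mem_zpowers _)) hi)).ge
    (cent1_le_cent1_of_mem_zpowers hi (mem_cent1.2 (congrArg Subtype.val c.eq).symm)))).symm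

theorem ch2_one (hc : IsCharacteristicTwoType G) (pu : PiE {2} u) (u1 : u ≠ 1) (py : PiE {2}ᶜ y)
    (hy : y ∈ C[u]) (l : C[u] ≤ C[y]) : y = 1 := by
  have k := hc.2 (zpowers u) (piG_zpowers.2 pu).isPGroup (by simpa using u1)
  have yN := cent1_le_norm_zpowers u hy
  have := PxQ (Oc_pi {2} N(zpowers u)) (piG_zpowers.2 pu) (piG_zpowers.2 py)
    (by rw [cent_zpowers]; exact zpowers_le.2 (mem_cent1_symm.1 hy))
    (le_normalizer.trans (Oc_norm _ _)) ((zpowers_le.2 yN).trans (Oc_norm _ _))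
    (by rw [cent_zpowers, cent_zpowers]; exact inf_le_right.trans l) (mem_zpowers y)
  refine PiN.e_eq_one ((Oc_pi {2} N(zpowers u)).elt ?_) py
  rw [← pCore_map_eq Nat.prime_two] at this ⊢
  exact ⟨⟨y, yN⟩, k fun z hz => Subtype.ext (this z ⟨z, hz, rfl⟩), rfl⟩

theorem D2.ch2_pg (h : D2 G) (hc : IsCharacteristicTwoType G) (t2 : orderOf t = 2) (pu : PiE {2} u)
    (u1 : u ≠ 1) (l : C[u] ≤ C[t]) (ne : C[u] ≠ C[t]) : PG 2 C[t] := fun r hr d => by
  by_contra r2
  obtain ⟨y, hy, oy⟩ := exists_orderOf_eq_prime hr (h.dvd t2 u1 l hr r2 d)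
  have py := (piE_of hr oy).sing_ne r2
  have y1 := ne_one_of_prime hr oy
  have e := cent1_mul pu py (mem_cent1.1 hy).symm
  have l' : C[u * y] ≤ C[u] := e ▸ inf_le_left
  rcases h t (u * y) u t2 (mul_ne pu py y1) u1 (card_dvd (l'.trans l)) (card_dvd l) with f | f | f
  · exact ne (le_antisymm l ((eq_of_le_of_card_eq (l'.trans l) f).ge.trans l'))
  · exact ne (eq_of_le_of_card_eq l f)
  · exact y1 (ch2_one hc pu u1 py hy ((eq_of_le_of_card_eq l' f).ge.trans (e ▸ inf_le_right)))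

/-- two distinct centralizer orders that are powers of `2` -/
def Two (G : Type*) [Group G] : Prop :=
  ∃ u i : G, u ≠ 1 ∧ i ≠ 1 ∧ C[u] ≤ C[i] ∧ #C[u] ≠ #C[i] ∧ PG 2 C[i]

theorem ne_of_zp (oi : orderOf i = 2) (hi : i ∈ zpowers u) : u ≠ 1 := fun e => by
  rw [e, zpowers_one_eq_bot, mem_bot] at hi
  simp [hi] at oi

theorem D2.two_ch2 (h : D2 G) (hc : IsCharacteristicTwoType G) (hS : PG 2 S) (nab : ¬ Ab S) :
    Two G := by
  obtain ⟨u, i, pu, oi, hi, ne⟩ := two_even hS nab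
  have l := cent1_le_cent1_of_mem_zpowers hi
  exact ⟨u, i, ne_of_zp oi hi, ne_one_of_prime Nat.prime_two oi, l, mt (eq_of_le_of_card_eq l) ne,
    h.ch2_pg hc oi pu (ne_of_zp oi hi) l ne⟩

theorem D2.two_om (h : D2 G) (hS : PG 2 S) (nab : ¬ Ab S)
    (ho : ∀ g : G, 4 ∣ orderOf g → PiE {2} g) : Two G := by
  obtain ⟨u, i, pu, oi, hi, ne⟩ := two_even hS nab
  have l := cent1_le_cent1_of_mem_zpowers hi
  have u1 := ne_of_zp oi hi
  refine ⟨u, i, u1, ne_one_of_prime Nat.prime_two oi, l, mt (eq_of_le_of_card_eq l) ne,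
    fun r hr d => by_contra fun r2 => ?_⟩
  obtain ⟨y, hy, oy⟩ := exists_orderOf_eq_prime hr (h.dvd oi u1 l hr r2 d)
  have c : Commute u y := (mem_cent1.1 hy).symm
  have e := c.orderOf_mul_eq_mul_orderOf_of_coprime (pu.coprime ((piE_of hr oy).sing_ne r2))
  refine r2 (ho (u * y) ?_ r hr (by rw [e, oy]; exact dvd_mul_left _ _))
  obtain ⟨k, hk⟩ := pu.exists_pow (orderOf_pos u).ne'
  rw [e, hk]
  rcases k with _ | _ | k
  · exact (u1 (orderOf_eq_one_iff.1 hk)).elim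
  · refine (ne (le_antisymm l (cent1_le_cent1_of_mem_zpowers ?_))).elim
    rw [eq_of_le_of_card_eq (zpowers_le.2 hi) (by rw [Nat.card_zpowers, Nat.card_zpowers, oi, hk]; rfl)]
    exact mem_zpowers u
  · exact Dvd.dvd.mul_right ⟨2 ^ k, by ring⟩ _

theorem Two.five (h : Two G) (h4 : F4 G) {x y z : G} {a b c : ℕ} (ha : a.Prime) (hb : b.Prime)
    (hc : c.Prime) (a2 : a ≠ 2) (b2 : b ≠ 2) (c2 : c ≠ 2) (x1 : x ≠ 1) (y1 : y ≠ 1) (z1 : z ≠ 1)
    (dx : a ∣ #C[x]) (dy : b ∣ #C[y]) (dz : c ∣ #C[z]) (xy : #C[x] ≠ #C[y]) (xz : #C[x] ≠ #C[z])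
    (yz : #C[y] ≠ #C[z]) : False := by
  obtain ⟨u, i, u1, i1, l, ne, pi⟩ := h
  obtain ⟨n1, n2, n3, n4, h4⟩ := h4
  have k : ∀ {r : ℕ} {g : G}, r.Prime → r ≠ 2 → r ∣ #C[g] → #C[g] ≠ #C[u] ∧ #C[g] ≠ #C[i] :=
    fun hr r2 d => ⟨fun e => r2 (pi.of_le l _ hr (e ▸ d)), fun e => r2 (pi _ hr (e ▸ d))⟩
  have := k ha a2 dx; have := k hb b2 dy; have := k hc c2 dz
  have := h4 u u1; have := h4 i i1; have := h4 x x1; have := h4 y y1; have := h4 z z1
  omega

theorem not_comp (h : ∀ t : G, orderOf t = 2 → H19.Sol C[t]) : ¬ IsComponentType G := by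
  rintro ⟨t, t2, K, -, hK, hs⟩
  haveI := h t t2
  haveI : Nontrivial K := (QuotientGroup.mk_surjective (s := center K)).nontrivial
  exact (IsSolvable.commutator_lt_top_of_nontrivial K).ne hK.commutator_eq_top

variable [IsSimpleGroup G]

theorem F4.cit (h4 : F4 G) (hZ : center G = ⊥) (hc : IsCharacteristicTwoType G) (hS : PG 2 S)
    (nab : ¬ Ab S) (t2 : orderOf t = 2) : PG 2 C[t] := fun r hr d => by
  by_contra r2
  have h := key hZ h4
  have t1 := ne_one_of_prime Nat.prime_two t2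
  obtain ⟨y, hy, oy⟩ := exists_orderOf_eq_prime hr d
  have py := (piE_of hr oy).sing_ne r2
  have y1 := ne_one_of_prime hr oy
  have e := cent1_mul (p2 t2) py (mem_cent1.1 hy).symm
  have l : C[t * y] ≤ C[t] := e ▸ inf_le_left
  obtain ⟨s, hs, ds, s2⟩ := two_primes hZ t1 Nat.prime_two
  obtain ⟨w, w1, pw, nw⟩ := exists_pcentral hs (ds.trans (cs_dvd_card t))
  exact (h.two_ch2 hc hS nab).five h4 hr hr hs r2 r2 s2 t1 (mul_ne (p2 t2) py y1) w1 d
    (oy ▸ orderOf_dvd_card' (e ▸ ⟨hy, mem_cent1_self y⟩)) (dvd_c pw w1 (mem_cent1_self w))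
    (fun f => y1 (ch2_one hc (p2 t2) t1 py hy ((eq_of_le_of_card_eq l f.symm).ge.trans
      (e ▸ inf_le_right))))
    (fun f => nw (ds.trans (cs_dvd f.symm.dvd))) fun f => nw (ds.trans (cs_dvd (f ▸ card_dvd l)))

end H25.R4
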