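import Cfsg.Agent.H1.SF12
import Cfsg.Agent.H5.CT9
import Cfsg.Agent.H10.QDCent
import Cfsg.Agent.H25.R2S
import Cfsg.Agent.H4.U3
import Cfsg.Agent.S0516
import Cfsg.Agent.S0483

/-! Simple groups all of whose involution centralizers are `2`-nilpotent. -/

set_option autoImplicit false

open Cfsg Subgroup Matrix

namespace H25

variable {G : Type*} [Group G]

/-- all involution centralizers have a normal `2`-complement -/
def NilC (G : Type*) [Group G] : Prop :=
  ∀ t : G, orderOf t = 2 → HasNormalPComplement 2 ↥(centralizer ({t} : Set G))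

theorem NilC.congr {H : Type*} [Group H] [Finite G] (h : NilC G) (e : H ≃* G) : NilC H := by
  intro t ht
  have := Finite.of_equiv _ e.symm.toEquiv
  refine H3.hasNPC_of_injective (h (e t) ((e.orderOf_eq t).trans ht))
    ((e.toMonoidHom.comp (centralizer {t}).subtype).codRestrict _ fun x => ?_) ?_
  · have := congrArg e (mem_centralizer_singleton_iff.1 x.2)
    simpa [mem_centralizer_singleton_iff] using this
  · intro a b hab
    exact Subtype.ext (e.injective (congrArg Subtype.val hab))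

theorem NilC.no_odd [Finite G] (h : NilC G) {t : G} (ht : orderOf t = 2) {T : Subgroup G}
    (hT : IsPGroup 2 T) (hTt : T ≤ centralizer {t}) {g : G} (hg : g ∈ centralizer {t})
    (hn : g ∈ normalizer (T : Set G)) (hc : (orderOf g).Coprime 2) : g ∈ centralizer (T : Set G) :=
  H3.mem_centralizer_of_hasNPC_subgroup (h t ht) hTt hT hg hn hc

theorem NilC.not_qd [Finite G] (h : NilC G) (S : Sylow 2 G) (hG : pResidual 2 G = ⊤) :
    ¬ (IsQuasiDihedral (S : Subgroup G) ∨ IsWreathed (S : Subgroup G)) := by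
  rintro (hS | hS)
  · obtain ⟨n, x, y, q⟩ := H10.exists_QD hS
    obtain ⟨T, hTP, ⟨e⟩, g, hg, hC, hc⟩ := (q.aut_of_pResidual_eq_top hG).2
    refine hC (h.no_odd q.mc.z_orderOf (S.isPGroup'.to_le hTP)
      (fun s hs => mem_centralizer_singleton_iff.2 (q.mc.z_comm (hTP hs))) ?_ hg hc)
    exact mem_centralizer_singleton_iff.2 (mul_inv_eq_iff_eq_mul.1 (q.mc.conj_z_of_q8 e hTP hg))
  · obtain ⟨n, x, y, z, w⟩ := H10.exists_Wr hS
    obtain ⟨Q, hQ, ⟨e⟩⟩ := w.exists_q8
    obtain ⟨g, hg, hC, hc⟩ := (w.oddAut_of_pResidual_eq_top hQ e hG).2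
    have hle : Q ⊔ zpowers (x * y) ≤ S :=
      sup_le hQ (zpowers_le.2 (mul_mem w.x_mem w.y_mem))
    refine hC (h.no_odd w.t_orderOf (S.isPGroup'.to_le hle)
      (fun s hs => mem_centralizer_singleton_iff.2
        (w.Z_comm H10.MC.z_mem_zpowers (hle hs))) ?_ hg hc)
    exact mem_centralizer_singleton_iff.2 (mem_centralizer_iff.1
      (w.odd_fixes_Z (w.normalizer_V_le_Z hQ e hg) hc) _ H10.MC.z_mem_zpowers).symm

theorem sol_of_npc [Finite G] (h : HasNormalPComplement 2 G) : Group.IsSolvable G := by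
  have h1 := H3.hasNPC_iff_coprime.1 h
  haveI := H20.odd_solvable (pResidual 2 G) (Nat.coprime_two_right.1 h1)
  haveI := (H3.isPGroup_quotient_pResidual (G := G) (n := 2) two_ne_zero).isNilpotent
  exact Group.isSolvable_of_ker_le_range (pResidual 2 G).subtype
    (QuotientGroup.mk' (pResidual 2 G)) (by simp)

theorem NilC.cit [Finite G] (h : NilC G) (hO : pPrimeCore 2 G = ⊥) (h3 : ¬ PRankLE 2 2 G)
    (hno : ∀ H : Subgroup G, H.index ≠ 2) : H5.CIT G := by
  intro t ht
  have c : H1.CC G := fun t t2 t1 =>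
    H1.isPConstrained_of_isSolvable (sol_of_npc (h t (H19.orderOf_of_pow Nat.prime_two t2 t1)))
  have h1 : pPrimeCore 2 (centralizer ({t} : Set G)) = ⊥ :=
    (Subgroup.map_eq_bot_iff_of_injective _ (Subgroup.subtype_injective _)).1
      (c.cpp_eq_bot hO (fun t t2 _ => H1.exists_el3_of_index h3 hno t2)
      (ht ▸ pow_orderOf_eq_one t) fun e => by simp [e] at ht)
  refine H19.PiN.of_isPGroup Nat.prime_two ?_
  have h2 : pResidual 2 (centralizer ({t} : Set G)) = ⊥ := le_bot_iff.1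
    (h1 ▸ H1.le_pPrimeCore inferInstance (H3.hasNPC_iff_coprime.1 (h t ht)))
  have h4 := H3.isPGroup_quotient_pResidual (G := centralizer ({t} : Set G)) (n := 2) two_ne_zero
  exact h4.of_injective (QuotientGroup.mk' _) (by
    rw [← MonoidHom.ker_eq_bot_iff, QuotientGroup.ker_mk', h2])

section Unitary

variable {F : Type*} [Field F] [Fintype F] {n : ℕ}

open H4 H4.U3

/-- a diagonal element of the unitary group centralizing the root involutions -/
def dgSU {q : ℕ} (hF : Fintype.card F = q ^ 2) (l : Fˣ) (hl : (l : F) * H11.frob hF l = 1) :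
    H11.suMat hF (U3.J F) :=
  ⟨⟨!![(l : F), 0, 0; 0, H11.frob hF l * H11.frob hF l, 0; 0, 0, l], by
    simp only [Matrix.det_fin_three]
    simp [-H11.frob_apply]
    linear_combination ((l : F) * H11.frob hF l + 1) * hl⟩, by
    change (Matrix.map _ (H11.frob hF))ᵀ * U3.J F * _ = U3.J F
    ext i j
    fin_cases i <;> fin_cases j <;>
      simp [U3.J, Matrix.mul_apply, Fin.sum_univ_three, -H11.frob_apply, H11.frob_frob]
    · linear_combination hl
    · linear_combination ((l : F) * H11.frob hF l + 1) * hl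
    · linear_combination hl⟩

theorem dgSU_mul {q : ℕ} (hF : Fintype.card F = q ^ 2) (l : Fˣ) (hl : (l : F) * H11.frob hF l = 1)
    (x : U3 hF) : dgSU hF l hl * toSU hF x = toSU hF (U3.dg hF (l ^ 3) x) * dgSU hF l hl := by
  refine Subtype.ext (Subtype.ext ?_)
  change (dgSU hF l hl).1.1 * mat x = mat _ * (dgSU hF l hl).1.1
  rw [mat, mat, U3.dg_a, U3.dg_b, Units.val_pow_eq_pow_val, map_mul, map_pow]
  ext i j
  fin_cases i <;> fin_cases j <;>
    simp [dgSU, Matrix.mul_apply, Fin.sum_univ_three, -H11.frob_apply] <;>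
    grind

theorem dgSU_pow {q : ℕ} (hF : Fintype.card F = q ^ 2) (l : Fˣ) (hl : (l : F) * H11.frob hF l = 1)
    (k : ℕ) : ((dgSU hF l hl ^ k).1.1 : Matrix (Fin 3) (Fin 3) F) =
      !![(l : F) ^ k, 0, 0; 0, (H11.frob hF l * H11.frob hF l) ^ k, 0; 0, 0, l ^ k] := by
  induction k with
  | zero => ext i j; fin_cases i <;> fin_cases j <;> simp
  | succ k ih =>
    rw [pow_succ]
    change (dgSU hF l hl ^ k).1.1 * (dgSU hF l hl).1.1 = _
    rw [ih]
    ext i j
    fin_cases i <;> fin_cases j <;>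
      simp [dgSU, Matrix.mul_apply, Fin.sum_univ_three, -H11.frob_apply, pow_succ]

theorem not_nilC_psu (hn : 2 ≤ n) (hF : Fintype.card F = (2 ^ n) ^ 2) :
    ¬ NilC (PSU 3 F (2 ^ n)) := by
  intro h
  obtain ⟨e⟩ := H11.nonempty_suMat_equiv hF (M := U3.J F) (n := 3)
    (by ext i j; fin_cases i <;> fin_cases j <;> simp [U3.J, -H11.frob_apply])
    (by simp [U3.J, Matrix.det_fin_three]) (by simp)
  let π : H11.suMat hF (U3.J F) →* PSU 3 F (2 ^ n) := (QuotientGroup.mk' _).comp e.toMonoidHom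
  have hinj : Function.Injective (π.comp (toSU hF)) := by
    rw [injective_iff_map_eq_one]
    intro x hx
    have h1 : e (toSU hF x) ∈ center (Cfsg.SU 3 F (2 ^ n)) := (QuotientGroup.eq_one_iff _).1 hx
    have h2 := orderOf_dvd_natCard (⟨e (toSU hF x), h1⟩ : center _)
    rw [H11.card_center_SU hF (by norm_num), Subgroup.orderOf_mk, e.orderOf_eq,
      orderOf_injective _ toSU_injective] at h2
    have h3 := orderOf_dvd_natCard x
    rw [card] at h3
    rw [← orderOf_eq_one_iff]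
    exact Nat.eq_one_of_dvd_coprimes (Nat.Coprime.pow_left 3 (by simp)) h3
      (h2.trans (Nat.gcd_dvd_right _ _))
  obtain ⟨l, hl, -⟩ := H11.exists_orderOf_eq F (d := 2 ^ n + 1)
    (by rw [H11.card_sub_one_eq hF]; exact dvd_mul_right _ _)
  have hl1 : (l : F) ^ (2 ^ n + 1) = 1 := by
    rw [← Units.val_pow_eq_pow_val, ← hl, pow_orderOf_eq_one, Units.val_one]
  have hl2 : (l : F) * H11.frob hF l = 1 := by rw [H11.frob_apply, ← pow_succ', hl1]
  have hl3 : (l : F) ^ 3 ≠ 1 := fun h3 => by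
    have : orderOf l ∣ 3 := orderOf_dvd_of_pow_eq_one (Units.ext (by simpa using h3))
    have h4 := Nat.le_of_dvd (by norm_num) this
    have : 2 ^ 2 ≤ 2 ^ n := Nat.pow_le_pow_right (by norm_num) hn
    omega
  obtain ⟨x, hx⟩ := exists_a hF 1
  set ψ := π.comp (toSU hF) with hψ
  set d := π (dgSU hF l hl2) with hd
  have hdx : ∀ y, d * ψ y = ψ (U3.dg hF (l ^ 3) y) * d := fun y => by
    simp only [hd, hψ, MonoidHom.comp_apply, ← map_mul, dgSU_mul]
  have hz : (x * x).a = 0 := sq_a x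
  have ht : orderOf (ψ (x * x)) = 2 := by
    rw [orderOf_injective _ hinj]
    refine orderOf_eq_prime (by rw [sq]; exact sq_eq_one.2 hz) fun h1 => ?_
    rw [U3.sq_eq_one, hx] at h1
    exact one_ne_zero h1
  have hdo : (orderOf d).Coprime 2 := by
    have h1 : dgSU hF l hl2 ^ (2 ^ n + 1) = 1 := Subtype.ext (Subtype.ext (by
      rw [dgSU_pow, mul_pow, ← map_pow, hl1]
      ext i j
      fin_cases i <;> fin_cases j <;> simp [-H11.frob_apply]))
    have h2 : orderOf d ∣ 2 ^ n + 1 := orderOf_dvd_of_pow_eq_one (by rw [hd, ← map_pow, h1, map_one])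
    refine Nat.Coprime.coprime_dvd_left h2 ?_
    obtain ⟨m, rfl⟩ := Nat.exists_eq_add_of_le' (show 1 ≤ n by omega)
    simp [pow_succ]
  have hP : IsPGroup 2 (U3 hF) := IsPGroup.of_card (n := n * 3) (by rw [card, pow_mul])
  have h1 := h.no_odd ht (T := ψ.range) (hP.of_equiv (MonoidHom.ofInjective hinj))
    (by
      rintro _ ⟨y, rfl⟩
      rw [mem_centralizer_singleton_iff, ← map_mul, ← map_mul, mem_center_iff.1 (mem_center.2 hz)])
    (g := d) (by
      rw [mem_centralizer_singleton_iff, hdx]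
      congr 2
      refine U3.ext (by rw [U3.dg_a, hz, mul_zero]) ?_
      rw [U3.dg_b, Units.val_pow_eq_pow_val, map_pow, ← mul_pow, hl2, one_pow, one_mul])
    (H28.mem_normalizer_of_cj_le (by
      rintro _ ⟨_, ⟨y, rfl⟩, rfl⟩
      exact ⟨_, (mul_inv_eq_iff_eq_mul.2 (hdx y)).symm⟩)) hdo
  have h2 := (mem_centralizer_iff.1 h1 (ψ x) ⟨x, rfl⟩).symm
  rw [hdx, mul_left_inj] at h2
  have h3 := congrArg U3.a (hinj h2)
  rw [U3.dg_a, hx, mul_one, Units.val_pow_eq_pow_val] at h3
  exact hl3 h3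

end Unitary

theorem NilC.simple [Finite G] [IsSimpleGroup G] (h : NilC G) (hG : ¬ IsMulCommutative G)
    (hL : ∀ {F : Type} [Field F] [Fintype F], Fintype.card F = 16 → ∀ (S : Sylow 2 G)
      (P : Sylow 2 (PSU 3 F 4)), Nonempty ((S : Subgroup G) ≃* (P : Subgroup (PSU 3 F 4))) →
      Nonempty (G ≃* PSU 3 F 4)) :
    (∃ (F : Type) (_ : Field F) (_ : Fintype F), 3 < Fintype.card F ∧
        Nonempty (G ≃* Matrix.ProjectiveSpecialLinearGroup (Fin 2) F)) ∨
      Lie.IsoSuzuki G ∨ Nonempty (G ≃* ↥(alternatingGroup (Fin 7))) ∨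
      (∃ (F : Type) (_ : Field F) (_ : Fintype F), Fintype.card F = 4 ∧
        Nonempty (G ≃* Matrix.ProjectiveSpecialLinearGroup (Fin 3) F)) := by
  obtain ⟨t, ht⟩ := exists_prime_orderOf_dvd_card' (G := G) 2 (H20.even_card_of_simple G hG).two_dvd
  have h0 := H10.pPrimeCore_eq_bot_of_simple ht
  have hc : commutator G = ⊤ :=
    (IsSimpleGroup.eq_bot_or_eq_top_of_normal _ inferInstance).resolve_left fun e =>
      hG ((commutator_eq_bot_iff G).1 e)
  have hR := pResidual_of_perfect hc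
  by_cases h3 : PRankLE 2 2 G
  · obtain ⟨S⟩ : Nonempty (Sylow 2 G) := inferInstance
    haveI : Fintype (GaloisField 2 4) := Fintype.ofFinite _
    have hF : Fintype.card (GaloisField 2 4) = 16 := by
      rw [← Nat.card_eq_fintype_card, GaloisField.card 2 4 (by norm_num)]; rfl
    obtain ⟨P⟩ : Nonempty (Sylow 2 (PSU 3 (GaloisField 2 4) 4)) := inferInstance
    rcases Cfsg.Agent.S0516.result hG h3 S hF P with ⟨n, hn, hS⟩ | hS | hS | hS
    · haveI : Group.IsPerfect G := ⟨hc⟩
      have e : G ≃* G ⧸ oddCore G :=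
        QuotientGroup.quotientBot.symm.trans (QuotientGroup.quotientMulEquivOfEq h0.symm)
      rcases Cfsg.Agent.S0483.result S n hn hS with ⟨F, _, _, -, h1, ⟨f⟩⟩ | ⟨⟨f⟩⟩
      · exact .inl ⟨F, _, _, h1, ⟨e.trans f⟩⟩
      · exact .inr (.inr (.inl ⟨e.trans f⟩))
    · exact (h.not_qd S hR (.inl hS)).elim
    · exact (h.not_qd S hR (.inr hS)).elim
    · obtain ⟨e⟩ := hL hF S P hS
      exact (not_nilC_psu (n := 2) le_rfl hF (h.congr e.symm)).elim
  · have hno : ∀ H : Subgroup G, H.index ≠ 2 := fun H e => by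
      haveI := H.normal_of_index_eq_two e
      have := H4.commutator_le_of_index_prime (p := 2) e
      rw [hc, top_le_iff] at this
      simp [this] at e
    rcases (h.cit h0 h3 hno).simple (H5.not_sol_of_simple hG) with
      ⟨F, _, _, -, h1, e⟩ | h1 | ⟨F, _, _, k, hk, h1, e⟩ | h1
    · exact .inl ⟨F, _, _, by omega, e⟩
    · exact .inr (.inl h1)
    · have : 2 ^ 3 ≤ 2 ^ k := Nat.pow_le_pow_right (by norm_num) hk
      exact .inl ⟨F, _, _, by omega, e⟩
    · exact .inr (.inr (.inr h1))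

end H25
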