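/-
Fusion systems on a Sylow `p`-subgroup of `G₂(q)`, part 2: Frattini subgroups, characteristic subgroups, Borel subgroups.
-/
import Cfsg.Agent.H25.GC1
import Cfsg.Agent.H29.TD3
import Cfsg.Agent.H29.TD5

set_option autoImplicit false
set_option linter.unusedSectionVars false
set_option linter.unusedSimpArgs false

namespace H25.GC
open Subgroup H25 H25.FS H8.PU Gc H2.G
universe u v
variable {K : Type v} [Field K] [Finite K] {Γ : Type u} [Group Γ] [Finite Γ] {p : ℕ} [Fact p.Prime]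
  {S P A X Y : Subgroup Γ} {ev : Gc K →* Γ} {g g' τ τ' w M1 M2 : Γ} {k l k' l' : K} {φ φ' : K ≃+* K} {c : Gc K} {f f' : AZ K}

theorem Wt.mul (h : Wt ev τ k l φ) (h' : Wt ev τ' k' l' φ') : Wt ev (τ * τ') (k * φ k') (l * φ l') (φ'.trans φ) :=
  ⟨mul_ne_zero h.k0 ((map_ne_zero φ).2 h'.k0), mul_ne_zero h.l0 ((map_ne_zero φ).2 h'.l0), fun c => by
    rw [cj_mul2, h'.cj, h.cj]
    refine congrArg ev ?_
    ext <;> simp only [sc, RingEquiv.trans_apply, map_mul, map_pow] <;> ring⟩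
theorem Wt.mul1 (h : Wt ev τ k l (.refl K)) (h' : Wt ev τ' k' l' (.refl K)) : Wt ev (τ * τ') (k * k') (l * l') (.refl K) :=
  h.mul h'
theorem Wt.cast (h : Wt ev τ k l φ) (h1 : k = k') (h2 : l = l') : Wt ev τ k' l' φ := h1 ▸ h2 ▸ h
theorem wt_one : Wt ev 1 1 1 (.refl K) := ⟨one_ne_zero, one_ne_zero, fun c => by simp [sc]⟩
theorem ex_ne01 (h : 2 < Nat.card K) : ∃ a : K, a ≠ 0 ∧ a ≠ 1 := by
  by_contra! c
  have := Nat.card_le_card_of_surjective (fun b : Bool => if b then (0 : K) else 1) fun a =>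
    (em (a = 0)).elim (fun e => ⟨true, e.symm⟩) fun e => ⟨false, (c a e).symm⟩
  simp at this; omega
theorem ex_rg (h3 : (3 : K) ≠ 0) (h : 2 < Nat.card K) : ∃ κ : K, κ ≠ 0 ∧ Rg κ := by
  obtain ⟨κ, hκ⟩ := IsCyclic.exists_monoid_generator (α := Kˣ)
  refine ⟨κ, κ.ne_zero, fun f e => ?_⟩
  have k : ∀ x, f x = x ^ 3 * f 1 := fun x => by
    by_cases h0 : x = 0
    · simp [h0]
    obtain ⟨n, hn⟩ := hκ (Units.mk0 x h0)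
    obtain rfl : (κ : K) ^ n = x := by simpa using congrArg Units.val hn
    clear hn h0
    induction n with
    | zero => simp
    | succ n ih => rw [pow_succ', e, ih]; ring
  obtain ⟨a, a0, a1⟩ := ex_ne01 h
  have e1 := map_add f a 1
  have e2 := map_add f 1 1
  rw [k (a + 1), k a] at e1
  rw [k (1 + 1)] at e2
  have : f 1 = 0 := by_contra fun c => by
    have e3 : 3 * (a * (a + 1)) = 0 := mul_right_cancel₀ c (by linear_combination e1)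
    have e4 : (3 : K) * 2 = 0 := mul_right_cancel₀ c (by linear_combination e2)
    simp only [mul_eq_zero, h3, a0, false_or] at e3 e4
    exact a1 (by linear_combination e3 - e4)
  exact fun x => by rw [k, this, mul_zero]

/-! the action on `V` -/
theorem AcZ.ag (h : AcZ ev g' f) (e : Agree ((Q1 K).map ev) g g') : AcZ ev g f := fun c hc =>
  let ⟨c1, h1, e1, e2⟩ := h c hc
  ⟨c1, h1, (e _ (mem_map_of_mem ev hc)).trans e1, e2⟩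
theorem AcZ.nz (h : AcZ ev g f) : g ∈ nz ((Q1 K).map ev) := mem_nz_of_conj_mem (by
  rintro _ ⟨c, hc, rfl⟩
  exact let ⟨c1, h1, e1, _⟩ := h c hc; ⟨c1, h1, e1.symm⟩)
theorem ac_one : AcZ ev 1 1 := fun c h => ⟨c, h, by simp, rfl⟩
theorem acS (d : Gc K) : AcZ ev (ev d) (tZ (-d.a)) := fun c hc => ⟨d * c * d⁻¹, by simp [hc], by simp, by
  ext <;> simp [tZ_ap, hc] <;> ring⟩
theorem acM (y : Wy ev M1 M2) : AcZ ev M1 nZ := fun c hc => ⟨m1 c, rfl, y.f1 c hc, rfl⟩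
theorem imZ_mono (h : X ≤ Y) : imZ ev X ≤ imZ ev Y := fun _ ⟨g, a, b⟩ => ⟨g, h a, b⟩

namespace Co
variable (h : Co S ev)
include h
theorem up {Y' : Subgroup (Gc K)} (hY : Y ≤ X) (k : ∀ c ∈ Y', ∃ w ∈ X, w⁻¹ * ev c ∈ Y) : Y'.map ev ≤ X := by
  rintro _ ⟨c, hc, rfl⟩
  obtain ⟨w, hw, e⟩ := k c hc
  exact (mul_mem_cancel_left (inv_mem hw)).1 (hY e)
/-- `Z₁ = [c, Z₂]` for `c ∉ Q₂` -/
theorem Zle (hc : c.u ≠ 0) (k : ∀ v, ev c * ev (xv v) * (ev c)⁻¹ * (ev (xv v))⁻¹ ∈ X) : (Z1 K).map ev ≤ X :=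
  h.up bot_le fun d hd => ⟨_, k (d.z / c.u), by
    rw [mem_bot, inv_mul_eq_one, cm_eq]; gs h [] at hd; gs h [hd]; field_simp; cg⟩
theorem frZ1 (hP : IsPGroup p P) (h2 : (Z2 K).map ev ≤ P) (hS : P ≤ S) (hQ : ¬ P ≤ (Q2 K).map ev) : (Z1 K).map ev ≤ fr P := by
  obtain ⟨u, hu, k⟩ := SetLike.not_le_iff_exists.1 hQ
  obtain ⟨c, -, rfl⟩ := h.ex (hS hu)
  exact h.Zle (c := c) (by gs h [] at k; exact k) fun z => cm_fr hP hu (h2 (by gs h []))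
theorem fr1 (hS : IsPGroup p S) : (Z1 K).map ev ≤ fr ((Q1 K).map ev) :=
  h.Zle (c := xu 1) one_ne_zero fun _ => cm_fr (hS.to_le (h.le _)) (by gs h []) (by gs h [])
/-- `Z₃ = Z₂ [c, Z₄]` for `c ∉ Q₁`, `p` odd -/
theorem Z3le (h2 : (2 : K) ≠ 0) (hZ : (Z2 K).map ev ≤ X) (hc : c.a ≠ 0)
    (k : ∀ s, ev c * ev (xs s) * (ev c)⁻¹ * (ev (xs s))⁻¹ ∈ X) : (Z3 K).map ev ≤ X :=
  h.up hZ fun d hd => ⟨_, k (-d.r / (2 * c.a)), by gs h [] at hd; gs h [hd]; field_simp; cg⟩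
/-- `C_S(Z₂) = Q₂` -/
theorem cZ2 (hw : w ∈ S) (k : w ∈ cz ((Z2 K).map ev)) : w ∈ (Q2 K).map ev := by
  gb h hw c hc
  have := mem_cz'.1 k (ev (xv 1)) (by gs h [])
  gs h [] at this ⊢
  grind
theorem c42 : CC ((Z4 K).map ev) ((Z2 K).map ev) ⊥ := h.c2Z.mono h.l42 le_rfl le_rfl
theorem l31 : (Z3 K).map ev ≤ (Q1 K).map ev := h.l34.trans h.l41
theorem l32 : (Z3 K).map ev ≤ (Q2 K).map ev := h.l34.trans h.l42
theorem l24 : (Z2 K).map ev ≤ (Z4 K).map ev := h.l23.trans h.l34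
theorem i12 : (Q1 K).map ev ⊓ (Q2 K).map ev = (Z4 K).map ev := le_antisymm (fun _ ⟨⟨_, a, e⟩, b⟩ => by
  subst e; exact h.mm.2 ⟨a, h.mm.1 b⟩) (le_inf h.l41 h.l42)
theorem cen1 : S ⊓ cz ((Q1 K).map ev) ≤ (Q1 K).map ev := fun w hw => by
  obtain ⟨c, -, rfl⟩ := h.ex hw.1
  have := mem_cz'.1 hw.2 (ev (xu 1)) (by gs h [])
  gs h [] at this ⊢
  grind
theorem cen2 : S ⊓ cz ((Q2 K).map ev) ≤ (Q2 K).map ev := fun _ hw => h.cZ2 hw.1 (cz_anti (h.l24.trans h.l42) hw.2)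
theorem nS (hX : (Z4 K).map ev ≤ X) (h' : X ≤ S) : S ≤ nz X := h.cSS.nz' h' hX
theorem nQ1 : S ≤ nz ((Q1 K).map ev) := h.nS h.l41 (h.le _)
theorem nQ2 : S ≤ nz ((Q2 K).map ev) := h.nS h.l42 (h.le _)
theorem nZ4 : S ≤ nz ((Z4 K).map ev) := h.nS le_rfl (h.le _)
theorem nZ3 : S ≤ nz ((Z3 K).map ev) := h.cS3.nz' le_rfl h.l23
theorem nZ2 : S ≤ nz ((Z2 K).map ev) := h.cS2.nz' le_rfl h.l12
theorem nZ1 : S ≤ nz ((Z1 K).map ev) := h.cS1.nz' le_rfl bot_le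
theorem Z1P (e : Au p S P A) : (Z1 K).map ev ≤ P := e.cP (h.le _) e.le h.cS1
theorem q12 (h1 : g ∈ nz ((Q1 K).map ev)) (h2 : g ∈ nz ((Q2 K).map ev)) : g ∈ nz ((Z4 K).map ev) := h.i12 ▸ mem_nz_inf h1 h2
theorem q1Z4 (hg : g ∈ nz ((Q1 K).map ev)) (h2 : g ∈ nz ((Z2 K).map ev)) : g ∈ nz ((Z4 K).map ev) :=
  nz_of_cz (fun w => ⟨fun k => ⟨h.l41 k, h.c42.cz k⟩, fun ⟨k1, k2⟩ => h.i12 ▸ ⟨k1, h.cZ2 (h.le _ k1) k2⟩⟩) hg h2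
/-- characteristic two -/
theorem cS4' (h2 : (2 : K) = 0) : CC S ((Z4 K).map ev) ((Z2 K).map ev) := by gk h
theorem c22' (h2 : (2 : K) = 0) : CC ((Q2 K).map ev) ((Q2 K).map ev) ((Z2 K).map ev) := by gk h
theorem nYs (h2 : (2 : K) = 0) : S ≤ nz ((Ys K).map ev) := (h.cS4' h2).nz' h.ls4 h.l2s
theorem wn {X : Subgroup (Gc K)} (hw : Wt ev τ k l φ) (k' : ∀ c ∈ X, sc k l φ c ∈ X) : τ ∈ nz (X.map ev) :=
  mem_nz_of_conj_mem (by rintro _ ⟨c, hc, rfl⟩; exact hw.cj c ▸ h.mm.2 (k' c hc))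
theorem wS (hw : Wt ev τ k l φ) : τ ∈ nz S := h.top ▸ h.wn hw fun _ _ => trivial
theorem w1 (hw : Wt ev τ k l φ) : τ ∈ nz ((Q1 K).map ev) := h.wn hw fun _ k => by gs h [] at k; gs h [k]
theorem w2 (hw : Wt ev τ k l φ) : τ ∈ nz ((Q2 K).map ev) := h.wn hw fun _ k => by gs h [] at k; gs h [k]
theorem wZ4 (hw : Wt ev τ k l φ) : τ ∈ nz ((Z4 K).map ev) := h.wn hw fun _ k => by gs h [] at k; gs h [k]
theorem wZ3 (hw : Wt ev τ k l φ) : τ ∈ nz ((Z3 K).map ev) := h.wn hw fun _ k => by gs h [] at k; gs h [k]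
theorem wZ2 (hw : Wt ev τ k l φ) : τ ∈ nz ((Z2 K).map ev) := h.wn hw fun _ k => by gs h [] at k; gs h [k]
theorem wZ1 (hw : Wt ev τ k l φ) : τ ∈ nz ((Z1 K).map ev) := h.wn hw fun _ k => by gs h [] at k; gs h [k]
theorem agW (h1 : Wt ev τ k l φ) (h2 : Wt ev τ' k l φ) : Agree S τ τ' := fun x hx => by
  obtain ⟨c, -, rfl⟩ := h.ex hx
  rw [h1.cj, h2.cj]
theorem nM1 (y : Wy ev M1 M2) : M1 ∈ nz ((Q1 K).map ev) := mem_nz_of_conj_mem (by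
  rintro _ ⟨c, hc, rfl⟩; rw [y.f1 c hc]; gs h [])
theorem nM2 (y : Wy ev M1 M2) : M2 ∈ nz ((Q2 K).map ev) := mem_nz_of_conj_mem (by
  rintro _ ⟨c, hc, rfl⟩; rw [y.f2 c hc]; gs h [])
/-- changing coordinates by an automorphism -/
theorem aut (α : Gc K ≃* Gc K) : Co S (ev.comp α.toMonoidHom) :=
  ⟨h.inj.comp α.injective, fun w => (h.mem w).trans ⟨fun ⟨c, e⟩ => ⟨α.symm c, by simp [e]⟩, fun ⟨_, e⟩ => ⟨_, e⟩⟩⟩
theorem conj (d : Gc K) : Co S (ev.comp (MulAut.conj d).toMonoidHom) := h.aut _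
theorem conj_map (d : Gc K) {X : Subgroup (Gc K)} (hX : S ≤ nz (X.map ev)) :
    X.map (ev.comp (MulAut.conj d).toMonoidHom) = X.map ev := by
  rw [← mem_nz.1 (hX (h.mS d))]
  ext w
  exact ⟨fun ⟨c, hc, e⟩ => e ▸ by simpa using conj_mem_cj (ev d) (h.mm.2 hc), fun ⟨_, ⟨c, hc, rfl⟩, e⟩ => ⟨c, hc, by simpa using e⟩⟩
theorem in1 (e : Es p S ((Q1 K).map ev) A) (hg : g ∈ A) (k : Cm g ((Q1 K).map ev) ((Z1 K).map ev)) :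
    g ∈ ai ((Q1 K).map ev) ((Q1 K).map ev) :=
  e.kkP (l := []) trivial ⟨hg, mem_stab'.2 ⟨e.An hg, k.mono le_rfl (h.fr1 e.pg)⟩⟩
/-! the action on `V` -/
theorem val (k : AcZ ev g f) {c c' : Gc K} (hc : c.a = 0) (e : g * ev c * g⁻¹ = ev c') : pv c' = f (pv c) :=
  let ⟨_, _, e1, e2⟩ := k c hc; h.inj (e1.symm.trans e) ▸ e2
theorem uqZ (k : AcZ ev g f) (k' : AcZ ev g f') : f = f' := LinearEquiv.ext fun v =>
  let ⟨_, _, e1, e2⟩ := k ⟨0, v.1, v.2.1, v.2.2.1, v.2.2.2, 0⟩ rfl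
  e2.symm.trans (h.val k' rfl e1)
theorem exZ (hg : g ∈ nz ((Q1 K).map ev)) (hz : g ∈ nz ((Z1 K).map ev)) : ∃ f, AcZ ev g f := by
  choose F k e using fun c (hc : c ∈ Q1 K) => conj_mem_of_mem_nz hg (mem_map_of_mem ev hc)
  have z : ∀ c (hc : c ∈ Q1 K) c' (hc' : c' ∈ Q1 K), pv c = pv c' ↔ pv (F c hc) = pv (F c' hc') := fun c hc c' hc' => by
    have q : ∀ c ∈ Q1 K, ∀ c' ∈ Q1 K, pv c = pv c' ↔ (ev c)⁻¹ * ev c' ∈ (Z1 K).map ev := fun c hc c' hc' => by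
      gs h [] at hc hc'; gs h [hc, hc', pv, Prod.mk.injEq]; grind
    rw [q c hc c' hc', q _ (k c hc) _ (k c' hc'), e, e]
    exact ⟨fun q => by simpa [mul_assoc] using conj_mem_of_mem_nz hz q, fun q => by simpa [mul_assoc] using conj_mem_of_mem_nz' hz q⟩
  let G : VV K → VV K := fun v => pv (F ⟨0, v.1, v.2.1, v.2.2.1, v.2.2.2, 0⟩ rfl)
  have m : ∀ c (hc : c ∈ Q1 K), pv (F c hc) = G (pv c) := fun c hc => (z c hc ⟨0, c.u, c.s, c.r, c.v, 0⟩ rfl).1 rfl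
  have b : ∀ c ∈ Q1 K, ∀ c' ∈ Q1 K, pv (c * c') = pv c + pv c' := fun c _ c' hc' => by simp [pv, mQ1.1 hc']
  have a : ∀ v w, G (v + w) = G v + G w := fun v w => by
    have e1 : ∀ c hc c' hc', F (c * c') (mul_mem hc hc') = F c hc * F c' hc' := fun c hc c' hc' =>
      h.inj (by rw [e, map_mul, map_mul, e c hc, e c' hc', cj_mul'])
    have m1 : (⟨0, v.1, v.2.1, v.2.2.1, v.2.2.2, 0⟩ : Gc K) ∈ Q1 K := rfl
    have m2 : (⟨0, w.1, w.2.1, w.2.2.1, w.2.2.2, 0⟩ : Gc K) ∈ Q1 K := rfl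
    have := m _ (mul_mem m1 m2)
    rw [e1 _ m1 _ m2, b _ (k _ m1) _ (k _ m2), b _ m1 _ m2] at this
    exact this.symm
  have i : Function.Injective G := fun v w q =>
    (z ⟨0, v.1, v.2.1, v.2.2.1, v.2.2.2, 0⟩ rfl ⟨0, w.1, w.2.1, w.2.2.1, w.2.2.2, 0⟩ rfl).2 q
  exact ⟨(AddEquiv.ofBijective (AddMonoidHom.mk' G a) (Finite.injective_iff_bijective.1 i)).toIntLinearEquiv,
    fun c hc => ⟨_, k c hc, (e c hc).symm, m c hc⟩⟩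
theorem cmZ (k : AcZ ev g 1) : Cm g ((Q1 K).map ev) ((Z1 K).map ev) := by
  rintro _ ⟨c, hc, rfl⟩
  obtain ⟨c', h1, e1, e2⟩ := k c hc
  rw [e1]
  simp only [H24.SP.one_ap, pv, Prod.mk.injEq] at e2
  gs h [] at hc
  gs h [hc, h1, e2]
  cg
theorem nzZ1 (k : AcZ ev g f) : g ∈ nz ((Z1 K).map ev) := mem_nz_of_conj_mem (by
  rintro _ ⟨c, hc, rfl⟩
  obtain ⟨c', h1, e1, e2⟩ := k c hc.1
  rw [show pv c = 0 from Prod.ext hc.2.1 (Prod.ext hc.2.2.1 (Prod.ext hc.2.2.2.1 hc.2.2.2.2)), map_zero] at e2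
  exact e1 ▸ h.mm.2 ⟨h1, congrArg (·.1) e2, congrArg (·.2.1) e2, congrArg (·.2.2.1) e2, congrArg (·.2.2.2) e2⟩)
theorem invZ (k : AcZ ev g f) : AcZ ev g⁻¹ f⁻¹ :=
  let ⟨_, k'⟩ := h.exZ (inv_mem (AcZ.nz k)) (inv_mem (h.nzZ1 k))
  eq_inv_of_mul_eq_one_left (h.uqZ (k'.mul k) (by simpa using ac_one)) ▸ k'
theorem dgZ (w : Wt ev τ k l φ) (k' : AcZ ev τ f) : DZ f k l φ := fun v =>
  (h.val k' (c := ⟨0, v.1, v.2.1, v.2.2.1, v.2.2.2, 0⟩) rfl (w.cj _)).symm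
theorem exW (w : Wt ev τ k l φ) : ∃ f, AcZ ev τ f ∧ DZ f k l φ :=
  let ⟨f, k'⟩ := h.exZ (h.w1 w) (h.wZ1 w); ⟨f, k', h.dgZ w k'⟩

variable (h3 : (3 : K) ≠ 0)
include h3
/-- `Z₁ = [c, Z₃]` for `c ∈ Z₄ \ Z₃` -/
theorem Zle' (h1 : c.a = 0) (h2 : c.u = 0) (hc : c.s ≠ 0) (k : ∀ r, ev c * ev (xr r) * (ev c)⁻¹ * (ev (xr r))⁻¹ ∈ X) :
    (Z1 K).map ev ≤ X := h.up bot_le fun d hd => ⟨_, k (-d.z / (3 * c.s)), by
  rw [mem_bot, inv_mul_eq_one, cm_eq]; gs h [] at hd; gs h [hd, h1, h2]; field_simp; cg⟩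
/-- `Z₂ = Z₁ [c, Z₃]` for `c ∉ Q₁` -/
theorem Z2le (hZ : (Z1 K).map ev ≤ X) (hc : c.a ≠ 0) (k : ∀ r, ev c * ev (xr r) * (ev c)⁻¹ * (ev (xr r))⁻¹ ∈ X) :
    (Z2 K).map ev ≤ X := h.up hZ fun d hd => ⟨_, k (-d.v / (3 * c.a)), by gs h [] at hd; gs h [hd]; field_simp; cg⟩
theorem frZ2 (hP : IsPGroup p P) (h4 : (Z3 K).map ev ≤ P) (hS : P ≤ S) (hQ : ¬ P ≤ (Q1 K).map ev)
    (hZ : (Z1 K).map ev ≤ fr P) : (Z2 K).map ev ≤ fr P := by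
  obtain ⟨u, hu, k⟩ := SetLike.not_le_iff_exists.1 hQ
  obtain ⟨c, -, rfl⟩ := h.ex (hS hu)
  exact h.Z2le h3 hZ (c := c) (by gs h [] at k; exact k) fun z => cm_fr hP hu (h4 (by gs h []))
theorem fr22 (hS : IsPGroup p S) : (Z2 K).map ev ≤ fr ((Q2 K).map ev) := by
  have cm : ∀ c c' : Gc K, c.u = 0 → c'.u = 0 → ev c * ev c' * (ev c)⁻¹ * (ev c')⁻¹ ∈ fr ((Q2 K).map ev) := fun c c' k k' =>
    cm_fr (hS.to_le (h.le _)) (h.mm.2 k) (h.mm.2 k')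
  exact h.Z2le h3 (h.Zle' h3 (c := xs 1) rfl rfl one_ne_zero fun _ => cm _ _ rfl rfl) (c := xa 1) one_ne_zero fun _ => cm _ _ rfl rfl
theorem fr2 (h2 : (2 : K) ≠ 0) (hS : IsPGroup p S) : (Z3 K).map ev ≤ fr ((Q2 K).map ev) :=
  h.Z3le h2 (h.fr22 h3 hS) (c := xa 1) one_ne_zero fun _ => cm_fr (hS.to_le (h.le _)) (by gs h []) (by gs h [])
theorem frS2 (hS : IsPGroup p S) : (Z2 K).map ev ≤ fr S :=
  h.Z2le h3 (h.Zle (c := xu 1) one_ne_zero fun _ => cm_fr hS (h.mS _) (h.mS _)) (c := xa 1) one_ne_zero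
    fun _ => cm_fr hS (h.mS _) (h.mS _)
theorem fr4 (hq : 2 < Nat.card K) (hS : IsPGroup p S) : (Z4 K).map ev ≤ fr S := by
  obtain ⟨a, a0, a1⟩ := ex_ne01 hq
  have := sub_ne_zero.2 a1
  exact h.up (h.frS2 h3 hS) fun d hd => ⟨_, mul_mem (cm_fr hS (h.mS (xu ((a * d.s + d.r) / (a - 1)))) (h.mS (xa 1)))
    (cm_fr hS (h.mS (xu ((-d.r - d.s) / (a * (a - 1))))) (h.mS (xa a))), by gs h [] at hd; gs h [hd]; field_simp; cg⟩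
theorem cS4f (hS : IsPGroup p S) : CC S ((Z4 K).map ev) (fr ((Q2 K).map ev)) := (em ((2 : K) = 0)).elim
  (fun t => (h.cS4' t).mono le_rfl le_rfl (h.fr22 h3 hS)) fun t => h.cS4.mono le_rfl le_rfl (h.fr2 h3 t hS)
/-- `C_S(Z₃ / Z₁) = Q₁` -/
theorem cQ1 (hw : w ∈ S) (k : Cm w ((Z3 K).map ev) ((Z1 K).map ev)) : w ∈ (Q1 K).map ev := by
  gb h hw c hc
  have := k (ev (xr 1)) (by gs h [])
  gs h [] at this ⊢
  grind
/-- `C_{Q₂}(Z₃ / Z₁) = Z₄` -/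
theorem cZ4 (hw : w ∈ (Q2 K).map ev) (k : Cm w ((Z3 K).map ev) ((Z1 K).map ev)) : w ∈ (Z4 K).map ev :=
  h.i12 ▸ ⟨h.cQ1 h3 (h.le _ hw) k, hw⟩
/-- `C_S(Z₃) = Z₃` -/
theorem cZ3 (hw : w ∈ S) (k : w ∈ cz ((Z3 K).map ev)) : w ∈ (Z3 K).map ev := by
  have := h.cZ4 h3 (h.cZ2 hw (cz_anti h.l23 k)) (cm_of_cz k)
  gb h this c hc
  have := mem_cz'.1 k (ev (xr 1)) (by gs h [])
  gs h [] at hc
  gs h [hc] at this ⊢
  grind
/-- `C_S(Z₄) = Z₂` -/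
theorem cZ (hw : w ∈ S) (k : w ∈ cz ((Z4 K).map ev)) : w ∈ (Z2 K).map ev := by
  have := h.cZ3 h3 hw (cz_anti h.l34 k)
  gb h this c hc
  have := mem_cz'.1 k (ev (xs 1)) (by gs h [])
  gs h [] at hc
  gs h [hc] at this ⊢
  grind
theorem cen3 : S ⊓ cz ((Z3 K).map ev) ≤ (Z3 K).map ev := fun _ hw => h.cZ3 h3 hw.1 hw.2
/-- characteristic subgroups of `Q₂` -/
theorem q2Z2 (hg : g ∈ nz ((Q2 K).map ev)) : g ∈ nz ((Z2 K).map ev) :=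
  nz_of_cz (fun _ => ⟨fun k => ⟨h.l32 (h.l23 k), h.c2Z.symm.cz k⟩, fun k => h.cZ h3 (h.le _ k.1) (cz_anti h.l42 k.2)⟩) hg hg
theorem q2Z3 (h2 : (2 : K) ≠ 0) (hg : g ∈ nz ((Q2 K).map ev)) : g ∈ nz ((Z3 K).map ev) :=
  nz_of_char (fun w => ⟨fun k => ⟨h.l32 k, h.cS3.symm.cm k (h.le _) le_rfl⟩, fun ⟨k1, k2⟩ => by
    gb h k1 c hc
    have e1 := k2 (ev (xs 1)) (by gs h [])
    have e2 := k2 (ev (xa 1)) (by gs h [])
    gs h [mQ2.1 hc] at e1 e2 ⊢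
    grind⟩) hg hg (h.q2Z2 h3 hg)
theorem q2Z4 (hg : g ∈ nz ((Q2 K).map ev)) (h4 : g ∈ nz ((Z3 K).map ev)) (h1 : g ∈ nz ((Z1 K).map ev)) :
    g ∈ nz ((Z4 K).map ev) :=
  nz_of_char (fun _ => ⟨fun k => ⟨h.l42 k, h.c11.cm (h.l41 k) h.l31 le_rfl⟩, fun k => h.cZ4 h3 k.1 k.2⟩) hg h4 h1
/-- characteristic subgroups of `Q₁` -/
theorem q1Z1 (hg : g ∈ nz ((Q1 K).map ev)) : g ∈ nz ((Z1 K).map ev) :=
  nz_of_cz (fun w => ⟨fun k => ⟨h.l41 (h.l24 (h.l12 k)), cz_anti (h.le _) (h.cS1.symm.cz k)⟩, fun ⟨k1, k2⟩ => by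
    have := h.cZ h3 (h.le _ k1) (cz_anti h.l41 k2)
    gb h this c hc
    have := mem_cz'.1 k2 (ev (xu 1)) (by gs h [])
    gs h [] at hc
    gs h [hc] at this ⊢
    grind⟩) hg hg
theorem z4Z2 (hg : g ∈ nz ((Z4 K).map ev)) : g ∈ nz ((Z2 K).map ev) :=
  nz_of_cz (fun _ => ⟨fun k => ⟨h.l24 k, h.c42.symm.cz k⟩, fun k => h.cZ h3 (h.le _ k.1) k.2⟩) hg hg
/-- characteristic subgroups of `S` -/
theorem gZ1 (hg : g ∈ nz S) : g ∈ nz ((Z1 K).map ev) :=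
  nz_of_cz (fun w => ⟨fun k => ⟨h.le _ k, h.cS1.symm.cz k⟩, fun ⟨k1, k2⟩ => by
    have := h.cZ h3 k1 (cz_anti (h.le _) k2)
    gb h this c hc
    have := mem_cz'.1 k2 _ (h.mS (xu 1))
    gs h [] at hc
    gs h [hc] at this ⊢
    grind⟩) hg hg
theorem gZ2 (hg : g ∈ nz S) : g ∈ nz ((Z2 K).map ev) := mem_nz_of_conj_mem fun w hw => by
  obtain ⟨c, -, e⟩ := h.ex (conj_mem_of_mem_nz hg (h.le _ hw))
  have k : ∀ d, ev c * ev d * (ev c)⁻¹ * (ev d)⁻¹ ∈ (Z1 K).map ev := fun d => by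
    simpa [e, mul_assoc] using conj_mem_of_mem_nz (h.gZ1 h3 hg) (h.cS2.symm w hw _ (conj_mem_of_mem_nz' hg (h.mS d)))
  have k2 : (2 : K) = 0 → ev c * ev c = 1 := fun t => by
    rw [e, ← cj_mul', show w * w = 1 by gb h hw d hd; gs h [] at hd; gs h [hd]; grind, mul_one, mul_inv_cancel]
  have e1 := k (xu 1)
  have e2 := k (xa 1)
  have a0 : c.a = 0 := by gs h [] at e1; grind
  have u0 : c.u = 0 := by gs h [a0] at e2; grind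
  rw [← e]
  gs h [a0, u0] at e2 k2 ⊢
  have e3 : c.r = c.s := mul_left_cancel₀ h3 (by linear_combination e2.2.2)
  have e4 : 2 * c.s = 0 := by linear_combination e2.2.1
  by_cases t : (2 : K) = 0
  · have := k2 t; grind
  · grind
theorem gQ2 (hg : g ∈ nz S) : g ∈ nz ((Q2 K).map ev) :=
  nz_of_cz (fun _ => ⟨fun k => ⟨h.le _ k, h.c2Z.cz k⟩, fun k => h.cZ2 k.1 k.2⟩) hg (h.gZ2 h3 hg)
theorem gZ3 (h2 : (2 : K) ≠ 0) (hg : g ∈ nz S) : g ∈ nz ((Z3 K).map ev) := h.q2Z3 h3 h2 (h.gQ2 h3 hg)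
theorem gZ4 (hg : g ∈ nz S) : g ∈ nz ((Z4 K).map ev) := (em ((2 : K) = 0)).elim
  (fun t => nz_of_char (fun w => ⟨fun k => ⟨h.l42 k, (h.cS4' t).symm w k⟩, fun ⟨k1, k2⟩ => by
    gb h k1 c hc
    have := k2 _ (h.mS (xu 1))
    gs h [mQ2.1 hc] at this ⊢
    grind⟩) (h.gQ2 h3 hg) hg (h.gZ2 h3 hg)) fun t => h.q2Z4 h3 (h.gQ2 h3 hg) (h.gZ3 h3 t hg) (h.gZ1 h3 hg)
theorem gQ1 (hg : g ∈ nz S) : g ∈ nz ((Q1 K).map ev) :=
  nz_of_char (fun _ => ⟨fun k => ⟨h.le _ k, h.c11.cm k h.l41 le_rfl⟩, fun k => h.cQ1 h3 k.1 (k.2.mono h.l34 le_rfl)⟩) hg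
    (h.gZ4 h3 hg) (h.gZ1 h3 hg)
/-- the stabilizer of `Z₄` in the automizer of `Q₂` normalizes the Sylow subgroup -/
theorem bor2 (e : Au p S ((Q2 K).map ev) A) (hg : g ∈ A) (h2 : g ∈ nz ((Z4 K).map ev)) : g ∈ nz (ai S ((Q2 K).map ev)) := by
  have l : ∀ Y ∈ [(Z4 K).map ev], Y ≤ (Q2 K).map ev := by simp [h.l42]
  rw [e.kk_eq l (ai_le (fun s hs => kk_mem (by simp [h.nZ4 hs.1]) hs.2 ⟨h.cSS.cm hs.1 (h.le _) le_rfl,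
    (h.cS4f h3 e.pg).cm hs.1 le_rfl le_rfl⟩) (kk_cz l le_rfl))]
  exact mem_nz_inf (le_nz_self A hg) (kk_nz (by simp [h2]) (nz_le_nz_fr _ (e.An hg)) (e.An hg))
theorem ne2 (e : Es p S ((Q2 K).map ev) A) : ∃ g ∈ A, g ∉ nz ((Z4 K).map ev) := by
  by_contra! c
  exact e.not_nz fun g hg => h.bor2 h3 e.toAu hg (c g hg)
/-- `p = 2`: automorphisms trivial on `Q₂ / Z₃` are trivial on `Q₂ / Z₂` -/
theorem t22 (t : (2 : K) = 0) (hg : g ∈ nz ((Q2 K).map ev)) (k : Cm g ((Q2 K).map ev) ((Z3 K).map ev)) :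
    Cm g ((Q2 K).map ev) ((Z2 K).map ev) := by
  let R : Gc K → Prop := fun c => c.u = 0 ∧ g * ev c * g⁻¹ * (ev c)⁻¹ ∈ (Z2 K).map ev
  have k1 : ∀ c c', R c → R c' → R (c * c') := fun c c' a b => ⟨by simp [a.1, b.1], by
    simpa [mul_assoc] using mul_mem a.2 (conj_mem_of_mem_nz (h.nZ2 (h.mS c)) b.2)⟩
  have k2 : ∀ c ∈ Z2 K, R c := fun c hc => ⟨hc.2.1, cm_nz (h.q2Z2 h3 hg) _ (h.mm.2 hc)⟩
  have k3 : ∀ c : Gc K, c.u = 0 → c.r = c.a * c.s → c.v = 0 → c.z = 0 → c.a ≠ 0 ∨ c.s ≠ 0 → R c := fun c h1 h2 h4 h5 h6 => by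
    obtain ⟨d, hd, e⟩ := conj_mem_of_mem_nz hg (h.mm.2 (show c ∈ Q2 K from h1))
    have e1 := k _ (h.mm.2 (show c ∈ Q2 K from h1))
    have e2 : ev d * ev d = 1 := by
      rw [e, ← cj_mul', show ev c * ev c = 1 by gs h [h1, h2, h4, h5]; grind, mul_one, mul_inv_cancel]
    refine ⟨h1, ?_⟩
    rw [← e] at e1 ⊢
    gs h [] at hd
    gs h [h1, h2, h4, h5, hd] at e1 e2 ⊢
    grind
  have k4 : ∀ c : Gc K, c.u = 0 → c.r = c.a * c.s → c.v = 0 → c.z = 0 → R c := fun c h1 h2 h4 h5 =>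
    (em _).elim (k3 c h1 h2 h4 h5) fun n => k2 c (by rw [mZ2]; grind)
  rintro _ ⟨c, hc, rfl⟩
  have := k1 _ _ (k1 _ _ (k1 _ _ (k4 (el 1 0 c.r c.r) rfl (by simp) rfl rfl) (k4 (xa (c.a + 1)) rfl (by simp) rfl rfl))
    (k4 (xs (c.s + c.r)) rfl (by simp) rfl rfl)) (k2 ((el 1 0 c.r c.r * xa (c.a + 1) * xs (c.s + c.r))⁻¹ * c) (by
      gs h [] at hc; gs h [hc]; grind))
  rw [mul_inv_cancel_left] at this
  exact this.2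
/-- automorphisms trivial on `Q₂ / Z₃` are inner -/
theorem in2 (e : Es p S ((Q2 K).map ev) A) (hg : g ∈ A) (k : Cm g ((Q2 K).map ev) ((Z3 K).map ev)) :
    g ∈ ai ((Q2 K).map ev) ((Q2 K).map ev) :=
  e.kkP (l := []) trivial ⟨hg, mem_stab'.2 ⟨e.An hg, (em ((2 : K) = 0)).elim
    (fun t => (h.t22 h3 t (e.An hg) k).mono le_rfl (h.fr22 h3 e.pg)) fun t => k.mono le_rfl (h.fr2 h3 t e.pg)⟩⟩
theorem exZ' (hg : g ∈ nz ((Q1 K).map ev)) : ∃ f, AcZ ev g f := h.exZ hg (h.q1Z1 h3 hg)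
end Co

end H25.GC
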