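/-
Fusion systems on a Sylow `p`-subgroup of `G₂(q)`, part 3: normal forms, generic lemmas.
-/
import Cfsg.Agent.H25.GC2
import Cfsg.Agent.H8.PU4

set_option autoImplicit false
set_option linter.unusedSectionVars false
set_option linter.unusedSimpArgs false

namespace H25.GC
open Cfsg Subgroup H25 H25.FS Gc H2.G
open H8.PU hiding Co Wt Wy Md Ck G2 S2 N2 E2 TR MD
universe u v w
variable {K : Type v} [Field K] [Finite K] {Γ : Type u} [Group Γ] [Finite Γ] {p : ℕ} [hp : Fact p.Prime] [CharP K p]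
  {S P A L C0 Y : Subgroup Γ} {ev : Gc K →* Γ} {a g γ τ M1 M2 : Γ} {k l ν : K} {φ : K ≃+* K} {F F' : FS Γ}

/-- saturated on `S` -/
structure Sa (p : ℕ) (S : Subgroup Γ) (F : FS Γ) : Prop where
  sat : F.Sat p
  eS : F.S = S
/-- the automizer of `S` is diagonal -/
structure Nf (p : ℕ) (S C0 : Subgroup Γ) (F : FS Γ) : Prop extends Sa p S F where
  hA : F.A S ≤ C0 ⊔ ai S S
theorem Sa.cj (n : Sa p S F) (hγ : γ ∈ nz S) : Sa p S (cjs γ F) := ⟨n.sat.cjs γ, by rw [cjs_S, n.eS, mem_nz.1 hγ]⟩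
theorem cjs_A' (hγ : γ ∈ nz P) : (cjs γ F).A P = cj γ (F.A P) := by rw [← cjs_A, mem_nz.1 hγ]
theorem cjs_nz (hγ : γ ∈ nz P) (h : F.A P ≤ nz Y) : (cjs γ F).A P ≤ nz (cj γ Y) := by
  rw [cjs_A' hγ, ← cj_nz]; exact cj_mono γ h
theorem Nf.cj (n : Nf p S C0 F) (hC : C0 ≤ nz S) (hγ : γ ∈ nz S) (h : ∀ k ∈ C0 ⊓ F.A S, γ * k * γ⁻¹ ∈ C0 ⊔ ai S S) :
    Nf p S C0 (cjs γ F) := ⟨n.toSa.cj hγ, by
  rw [cjs_A' hγ, cj_le]
  intro a ha
  obtain ⟨y, hy, k, hk, rfl⟩ := (mem_sup_of_le_nz_left (hC.trans (nz_le_nz_ai_self S))).1 (sup_comm C0 _ ▸ n.hA ha)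
  rw [cj_mul']
  exact mul_mem (mem_sup_right (conj_mem_of_mem_nz (nz_le_nz_ai_self S hγ) hy))
    (h k ⟨hk, (mul_mem_cancel_left (ai_self_le_A n.eS.ge hy)).1 ha⟩)⟩
theorem Sa.cn (n : Sa p S F) (h6 : S ⊓ cz P ≤ P) (hP : P ≤ S) (hn : F.A S ≤ nz P) (k : ∀ X, F.Ess X → P ≤ X ∧ F.A X ≤ nz P) :
    F.Constr p := by
  obtain ⟨hF, rfl⟩ := n
  have := hF.nm_iff_ess.2 (fun X hX => hX.elim (fun c => c ▸ ⟨hP, hn⟩) (k X) : ∀ X, X = F.S ∨ F.Ess X → P ≤ X ∧ F.A X ≤ nz P)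
  exact ⟨hF, P, this, this.wc.centric h6⟩
theorem Sa.es (n : Sa p S F) (h : F.Ess P) : Es p S P (F.A P) := n.eS ▸ es_of n.sat h
theorem Sa.mA (n : Sa p S F) (h : g ∈ S) (h' : g ∈ nz P) : g ∈ F.A P := F.N_le_A P ⟨n.eS.ge h, h'⟩
theorem Sa.res (n : Sa p S F) (hP : P ≤ S) (h : g ∈ F.A S) (h' : g ∈ nz P) : g ∈ F.A P := mem_A_of_le n.eS.ge h hP h'
theorem Sa.auS (n : Sa p S F) : Au p S S (F.A S) := au_of n.sat n.eS le_rfl (le_nz_self S) inf_le_left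
theorem sa_of {H : Subgroup Γ} (h : IsPGroup p S) (s : Syl p S H) : Sa p S (ofSub H S) := ⟨sat_ofSub h s, rfl⟩
theorem Sa.le_A (n : Sa p S F) (n' : Sa p S F') (h1 : F.A S ≤ F'.A S) (hP : P ≤ S) (hn : S ≤ nz P) {M : Γ} (m : M ∈ F.A P)
    (m' : M ∈ F'.A P) (s : ∀ g ∈ F.A P, g ∈ nz Y ∨ ∃ s ∈ S, M * s * g ∈ nz Y)
    (ex : ∀ g ∈ F.A P, g ∈ nz Y → ∃ k ∈ F.A S, Agree P k g) : F.A P ≤ F'.A P := by
  have k : ∀ a ∈ F.A P, a ∈ nz Y → a ∈ F'.A P := fun a ha c =>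
    let ⟨k, hk, c'⟩ := ex a ha c
    c'.symm.mem_A (n'.res hP (h1 hk) (c'.mem_nz (F.A_le_nz P ha)))
  refine fun a ha => (s a ha).elim (k a ha) fun ⟨u, hu, c⟩ => ?_
  have := k _ (mul_mem (mul_mem m (n.mA hu (hn hu))) ha) c
  rwa [mul_mem_cancel_left (mul_mem m' (n'.mA hu (hn hu)))] at this
theorem Sa.le (n : Sa p S F) (n' : Sa p S F') (h1 : F.A S ≤ F'.A S) (h : ∀ P, F.Ess P → F.A P ≤ F'.A P) : F ≤ F' :=
  n.sat.le_of_ess fun P hP a ha => by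
    rcases hP with rfl | hP
    · exact T_of_mem_A (n.eS.trans n'.eS.symm).le (n.eS ▸ h1 (n.eS ▸ ha))
    · exact T_of_mem_A (hP.le.trans (n.eS.trans n'.eS.symm).le) (h P hP ha)
theorem Sa.rl {H : Subgroup Γ} (n : Sa p S F) (s : Syl p S H) (h : F ≤ ofSub H S) (h' : ofSub H S ≤ F) : Rl p F :=
  .inr (n.eS.symm ▸ ⟨H, s, le_antisymm h h'⟩)

variable (K Γ p) in
/-- the chunks -/
structure Ck : Prop where
  pq : 5 ≤ p ∧ Nat.card K ≠ 7 ∨ p = 2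
  es : ES K Γ p
  e2 : E2 K Γ p
  g3 : G3 K Γ p
  au : AU K Γ
  bo1 : BO1 K Γ p
  g2 : G2 K Γ
  s2 : S2 K Γ p
  n2 : N2 K Γ p
  inn : IN K Γ
  n1 : N1 K Γ p
  la : LA K p
  lb : LB K p
  lc : LC K p
  tr : TR K Γ p

theorem two0 (h : p = 2) : (2 : K) = 0 := by subst h; exact_mod_cast CharP.cast_eq_zero K 2
theorem Ck.h3 (x : Ck K Γ p) : (3 : K) ≠ 0 := x.pq.elim (fun h => (n23 h.1).2) fun h c =>
  one_ne_zero (by linear_combination c - two0 (K := K) h : (1 : K) = 0)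

namespace Co
variable (h : Co S ev)
include h
section
variable {α : MulAut (Gc K)} (e : ∀ c, γ * ev c * γ⁻¹ = ev (α c)) {X X' : Subgroup (Gc K)}
include e
theorem acj (k : ∀ c, α c ∈ X' ↔ c ∈ X) : cj γ (X.map ev) = X'.map ev := by
  ext y
  refine ⟨?_, ?_⟩
  · rintro ⟨_, ⟨c, hc, rfl⟩, rfl⟩
    exact ⟨_, (k c).2 hc, (e c).symm⟩
  · rintro ⟨c, hc, rfl⟩
    obtain ⟨c, rfl⟩ := α.surjective c
    exact e c ▸ conj_mem_cj γ (h.mm.2 ((k c).1 hc))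
theorem anz (k : ∀ c, α c ∈ X ↔ c ∈ X) : γ ∈ nz (X.map ev) := mem_nz.2 (h.acj e k)
theorem aS : γ ∈ nz S := h.top ▸ h.anz e fun _ => Iff.rfl
theorem agc (k : ∀ c, α c ∈ X ↔ c ∈ X) (q : ∀ c ∈ X, γ * (g * ev c * g⁻¹) * γ⁻¹ = a * ev (α c) * a⁻¹) :
    Agree (X.map ev) a (γ * g * γ⁻¹) := by
  rintro _ ⟨c, hc, rfl⟩
  obtain ⟨c, rfl⟩ := α.surjective c
  rw [← q c ((k c).1 hc), ← e]; group
end
theorem lin (n : Sa p S F) (hk : τ ∈ F.A S) (w : Wt ev τ k l φ) (o : PEl p (ai S S) τ) : k = 1 ∧ l = 1 ∧ φ = .refl K := by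
  obtain ⟨-, u, hu, e⟩ := mem_ai.1 (n.auS.syl.mem_of_pel n.auS.An' hk o)
  obtain ⟨u, -, rfl⟩ := h.ex hu
  have k1 : ∀ c : Gc K, k * φ c.a = c.a ∧ l * φ c.u = c.u := fun c => by
    have := e _ (h.mS c)
    rw [w.cj] at this
    gs h [] at this
    exact ⟨by linear_combination this.1, by linear_combination this.2.1⟩
  obtain rfl : k = 1 := by simpa using (k1 (xa 1)).1
  exact ⟨rfl, by simpa using (k1 (xu 1)).2, RingEquiv.ext fun z => by simpa using (k1 (xa z)).1⟩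
theorem r1 (n : Sa p S F) (ha : τ ∈ F.A S) (w : Wt ev τ k l φ) : τ ∈ F.A ((Q1 K).map ev) := n.res (h.le _) ha (h.w1 w)
theorem r2 (n : Sa p S F) (ha : τ ∈ F.A S) (w : Wt ev τ k l φ) : τ ∈ F.A ((Q2 K).map ev) := n.res (h.le _) ha (h.w2 w)
theorem imZ_ai (H : Subgroup Γ) : imZ ev (ai H ((Q1 K).map ev)) = imZ ev H := by
  ext f
  exact ⟨fun ⟨_, ⟨_, g, a, b⟩, c⟩ => ⟨g, a, AcZ.ag c b.symm⟩, fun ⟨g, a, b⟩ => ⟨g, mem_ai_of_mem a (AcZ.nz b), b⟩⟩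
variable (x : Ck K Γ p) (n : Sa p S F)
include x n
theorem ess (q : F.Ess P) : P = (Q1 K).map ev ∨ P = (Q2 K).map ev :=
  x.pq.elim (fun c => x.es c.1 c.2 F ev n.sat (n.eS ▸ h) P q) fun c => x.e2 c S P _ ev h (n.es q)
/-- Sylow subgroups of the outer automizer of `Q₁` intersect trivially -/
theorem ti (q : F.Ess ((Q1 K).map ev)) :
    TI S ((Q1 K).map ev) (F.A ((Q1 K).map ev)) (F.A ((Q1 K).map ev) ⊓ nz (ai S ((Q1 K).map ev))) := by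
  have e := n.es q
  have es := fun P => h.ess (P := P) x n
  obtain ⟨hF, rfl⟩ := n
  have k := hF.alperin (M := fun R g => (Q1 K).map ev < R → ∃ k ∈ nz F.S, Agree R g k) (fun R g g' _ _ m m' c => by
      obtain ⟨k, hk, e⟩ := m c
      obtain ⟨k', hk', e'⟩ := m' (by rw [e.cj_eq, ← mem_nz.1 (h.gQ1 x.h3 hk)]; exact cj_lt_cj.2 c)
      exact ⟨_, mul_mem hk' hk, e.mul e'⟩)
    (fun R g g' _ m e c => let ⟨k, hk, e'⟩ := m c; ⟨k, hk, e.trans e'⟩) fun Q hQ a ha R hR c => by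
      rcases hQ with rfl | hQ
      · exact ⟨a, F.A_le_nz _ ha, Agree.refl _ _⟩
      rcases es _ hQ with rfl | rfl
      · exact absurd hR (not_le_of_gt c)
      · have := (c.le.trans hR) (show ev (xu 1) ∈ _ by gs h [])
        gs h [] at this
        exact absurd this one_ne_zero
  have k2 : F.Hx ((Q1 K).map ev) ≤ nz (ai F.S ((Q1 K).map ev)) := (closure_le _).2 fun a ⟨ha, R, b, h1, h2, h3⟩ => by
    obtain ⟨k, hk, e'⟩ := k R b h2 h1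
    exact (h3.trans (e'.mono h1.le)).mem_of_cz_le ((cz_le_ai _ _).trans (le_nz_self _)) (mem_nz_ai hk (h.gQ1 x.h3 hk))
  exact ⟨le_inf e.nA (le_nz_self _), inf_le_left, fun c => e.not_nz (c.trans inf_le_right),
    fun g hg u hu n c => ⟨hg, k2 (hF.mem_Hx_of_ai q.fn hg hu n c)⟩⟩
theorem ext1 (q : F.Ess ((Q1 K).map ev)) (hg : g ∈ F.A ((Q1 K).map ev)) (k : g ∈ nz ((Z2 K).map ev)) :
    ∃ k ∈ F.A S, Agree ((Q1 K).map ev) k g :=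
  ext_of n.sat n.eS (h.le _) h.nQ1 hg (x.bo1 x.h3 _ _ _ h (n.es q) (h.ti x n q) g hg k)
theorem ext2 (hg : g ∈ F.A ((Q2 K).map ev)) (k : g ∈ nz ((Z4 K).map ev)) : ∃ k ∈ F.A S, Agree ((Q2 K).map ev) k g :=
  ext_of n.sat n.eS (h.le _) h.nQ2 hg (h.bor2 x.h3 (au_of n.sat n.eS (h.le _) h.nQ2 h.cen2) hg k)
theorem s1 : F.A S ≤ F.A ((Q1 K).map ev) := fun _ hg => n.res (h.le _) hg (h.gQ1 x.h3 (F.A_le_nz S hg))
theorem s2 : F.A S ≤ F.A ((Q2 K).map ev) := fun _ hg => n.res (h.le _) hg (h.gQ2 x.h3 (F.A_le_nz S hg))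
theorem cases : F.Constr p ∨ F.Ess ((Q1 K).map ev) ∧ F.Ess ((Q2 K).map ev) := by
  by_cases q : F.Ess ((Q1 K).map ev)
  · refine or_iff_not_imp_right.2 fun r => n.cn h.cen1 (h.le _) ((h.s1 x n).trans (F.A_le_nz _)) fun X c => ?_
    obtain rfl := (h.ess x n c).resolve_right fun c' => r ⟨q, c' ▸ c⟩
    exact ⟨le_rfl, F.A_le_nz _⟩
  · refine .inl (n.cn h.cen2 (h.le _) ((h.s2 x n).trans (F.A_le_nz _)) fun X c => ?_)
    obtain rfl := (h.ess x n c).resolve_left fun c' => q (c' ▸ c)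
    exact ⟨le_rfl, F.A_le_nz _⟩
theorem z3 (r : F.Ess ((Q2 K).map ev)) : F.A ((Q2 K).map ev) ≤ nz ((Z3 K).map ev) ∨
    (∀ x : K, x ^ 4 = x) ∧ F.A ((Q2 K).map ev) ≤ nz ((Ys K).map ev) :=
  x.pq.elim (fun c => .inl fun _ hg => h.q2Z3 x.h3 (n23 c.1).1 (F.A_le_nz _ hg)) fun c => x.g3 c S _ ev h (n.es r)
theorem z3_of (y : Wy ev M1 M2) (r : F.Ess ((Q2 K).map ev)) (m : M2 ∈ F.A ((Q2 K).map ev)) :
    F.A ((Q2 K).map ev) ≤ nz ((Z3 K).map ev) := (h.z3 x n r).resolve_right fun c => by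
  have := conj_mem_of_mem_nz (c.2 m) (show ev (xs 1) ∈ _ by gs h [])
  rw [y.f2 _ rfl] at this
  gs h [neg_eq_zero, one_ne_zero, false_and] at this
theorem le2 (y : Wy ev M1 M2) (n' : Sa p S F') (h1 : F.A S ≤ F'.A S) (r : M2 ∈ F.A ((Q2 K).map ev))
    (r' : M2 ∈ F'.A ((Q2 K).map ev)) (q : F.Ess ((Q1 K).map ev) → F.A ((Q1 K).map ev) ≤ F'.A ((Q1 K).map ev)) : F ≤ F' :=
  n.le n' h1 fun P e => by
    rcases h.ess x n e with rfl | rfl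
    exacts [q e, n.le_A n' h1 (h.le _) h.nQ2 r r' (fun g hg => x.g2 x.h3 _ _ _ _ h y g (F.A_le_nz _ hg) (h.z3_of x n y e r hg))
      fun _ => h.ext2 x n]
end Co

/-- `q ∈ {2, 4}`: the automorphism interchanging `Z₃` and `X_{a+b} Z₂` -/
def gam (h : ∀ x : K, x ^ 4 = x) : MulAut (Gc K) :=
  have t : (2 : K) = 0 := by linear_combination h (-1)
  { toFun := fun c => ⟨c.a ^ 2, c.u, c.r, c.s, c.v, c.z + c.s * c.r + c.v ^ 2⟩
    invFun := fun c => ⟨c.a ^ 2, c.u, c.r, c.s, c.v, c.z + c.s * c.r + c.v ^ 2⟩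
    left_inv := fun c => by have := h c.a; ext <;> simp only <;> grind
    right_inv := fun c => by have := h c.a; ext <;> simp only <;> grind
    map_mul' := fun c d => by have := h d.a; ext <;> simp only [mul_a, mul_u, mul_s, mul_r, mul_v, mul_z] <;> grind }
/-- reduction to the case that `Z₃` is invariant -/
theorem Co.red (h : Co S ev) (x : Ck K Γ p) (o : Ho ev)
    (k : ∀ F : FS Γ, Sa p S F → F.A ((Q2 K).map ev) ≤ nz ((Z3 K).map ev) → Rl p F) (n : Sa p S F) : Rl p F := by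
  refine (h.cases x n).elim .inl fun ⟨_, r⟩ => (h.z3 x n r).elim (k F n) fun ⟨t, c⟩ => ?_
  obtain ⟨γ, e⟩ := o (gam t)
  refine .of_cjs γ (k _ (n.cj (h.aS e)) ((cjs_nz (h.gQ2 x.h3 (h.aS e)) c).trans_eq (congrArg nz (h.acj e fun c => ?_))))
  simp [gam, mZ3, mYs]

namespace Md
variable (m : Md p S ev L C0 M1 M2) (x : Ck K Γ p)
include m
theorem CS : C0 ≤ nz S := fun τ hk => let ⟨_, _, _, w⟩ := m.wt τ hk; m.wS w
theorem dec (n : Nf p S C0 F) (ha : a ∈ F.A S) : ∃ u ∈ S, ∃ τ ∈ C0 ⊓ F.A S, ∃ k l φ, Wt ev τ k l φ ∧ Agree S a (u * τ) := by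
  obtain ⟨y, hy, k, hk, rfl⟩ := (mem_sup_of_le_nz_left (m.CS.trans (nz_le_nz_ai_self S))).1 (sup_comm C0 _ ▸ n.hA ha)
  obtain ⟨-, u, hu, e⟩ := mem_ai.1 hy
  obtain ⟨r, t, φ, w⟩ := m.wt k hk
  exact ⟨u, hu, k, ⟨hk, (mul_mem_cancel_left (ai_self_le_A n.eS.ge hy)).1 ha⟩, r, t, φ, w,
    Agree.mul_right (by rwa [mem_nz.1 (m.CS hk)])⟩
include x
theorem cjA (hq : 2 < Nat.card K) (n : Sa p S F) (hZ : F.A ((Q2 K).map ev) ≤ nz ((Z3 K).map ev)) :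
    ∃ γ ∈ nz S ⊓ nz ((Z3 K).map ev), Nf p S C0 (cjs γ F) := by
  have h1 := F.A_le_nz S
  have hZ := (m.s2 x n).trans hZ
  have c3 : C0 ≤ nz ((Z3 K).map ev) := fun g hg => let ⟨_, _, _, w⟩ := m.wt g hg; m.wZ3 w
  obtain ⟨k, hk, e⟩ := sz0 (p := p) (X := stab S ((Z4 K).map ev) ⊓ nz ((Z3 K).map ev)) (A := C0)
    (fun g hg => nz_le_nz_ai_self S hg.1.1) (m.CS.trans (nz_le_nz_ai_self S)) (h1.trans (nz_le_nz_ai_self S))
    (fun g hg => mem_nz_inf (mem_nz_stab (m.CS hg) (mem_nz_inf (m.CS hg) (m.gZ4 x.h3 (m.CS hg)))) (mem_nz_nz (c3 hg)))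
    (fun g hg => by
      obtain ⟨r, t, φ, r0, t0, e⟩ := x.au S ev m.toCo g (h1 hg) (m.gQ1 x.h3 (h1 hg)) (m.gQ2 x.h3 (h1 hg)) (hZ hg)
      obtain ⟨k, hk, w⟩ := m.ex' r t φ r0 t0
      have : g * k⁻¹ ∈ stab S ((Z4 K).map ev) := mem_stab'.2 ⟨mul_mem (h1 hg) (inv_mem (m.CS hk)), fun y hy => by
        obtain ⟨c, -, e1⟩ := m.ex (conj_mem_of_mem_nz' (m.CS hk) hy)
        obtain ⟨c', -, e2⟩ := m.ex (conj_mem_of_mem_nz (h1 hg) (m.mS c))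
        have e3 : y = ev (sc r t φ c) := by rw [← w.cj, e1]; group
        rw [cj_mul2, inv_inv, ← e1, ← e2, e3]
        gs m.toCo [e c c' e2.symm]⟩
      simpa using mul_mem_sup (mem_inf.2 ⟨this, mul_mem (hZ hg) (inv_mem (c3 hk))⟩) hk)
    (fun k hk => (kk_pel (l := []) m.pg (by simp) (stab_mono (m.fr4 x.h3 hq m.pg) hk.1)).mono (cz_le_ai _ _)) n.auS.syl.2
  exact ⟨k⁻¹, inv_mem ⟨hk.1.1, hk.2⟩, n.cj (inv_mem hk.1.1), by
    rw [cjs_A' (inv_mem hk.1.1)]; exact cj_le.2 fun a ha => by rw [inv_inv]; exact e a ha⟩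
variable (n : Nf p S C0 F)
include n
theorem h2 (r : F.Ess ((Q2 K).map ev)) (hZ : F.A ((Q2 K).map ev) ≤ nz ((Z3 K).map ev)) (l : K) (hl : l ≠ 0) :
    ∃ τ ∈ F.A S, Wt ev τ l⁻¹ (l ^ 2) (.refl K) := by
  obtain ⟨g, hg, c⟩ := (x.s2 x.h3 _ _ _ _ _ m.toCo m.toWy (n.es r) hZ).1 l hl
  obtain ⟨a, ha, e1⟩ := m.ext2 x n.toSa hg (mem_nz_of_conj_mem (by
    rintro _ ⟨u, hu, rfl⟩
    obtain ⟨u', hu', e⟩ := conj_mem_of_mem_nz (F.A_le_nz _ hg) (m.mm.2 hu.2 : ev u ∈ (Q2 K).map ev)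
    rw [← e]
    exact m.mm.2 ⟨by simp [(c u u' hu.2 e.symm).1, hu.1], hu'⟩))
  obtain ⟨u, hu, k, hk, r, t, φ, w, e2⟩ := m.dec n ha
  obtain ⟨u, -, rfl⟩ := m.ex hu
  have k1 : ∀ c' : Gc K, c'.u = 0 → _ := fun c' h0 => c c' (u * sc r t φ c' * u⁻¹) h0 (by
    rw [← e1 _ (m.mm.2 h0), e2 _ (m.mS _), cj_mul2, w.cj]; gs m.toCo [])
  have k2 : ∀ z, r * φ z = l⁻¹ * z := fun z => by have := (k1 (xa z) rfl).1; gs m.toCo [] at this; grind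
  have k3 := (k1 (xs 1) rfl).2
  have k4 := k2 1
  gs m.toCo [map_zero, map_one] at k3 k4
  obtain rfl : φ = .refl K := RingEquiv.ext fun z => mul_left_cancel₀ w.k0 (by rw [k2, k4]; rfl)
  exact ⟨k, hk.2, w.cast k4 (by grind)⟩
theorem tr (q : F.Ess ((Q1 K).map ev)) (tt : ∀ l, l ≠ 0 → ∃ τ ∈ F.A S, Wt ev τ l⁻¹ (l ^ 2) (.refl K)) :
    ∃ A0 ≤ F.A ((Q1 K).map ev), LH p (imZ ev A0) ∧ F.A ((Q1 K).map ev) ⊓ cz ((Z1 K).map ev) ≤ A0 ∧ (Su (imZ ev A0) →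
      (∀ ν, ν ≠ 0 → ∃ τ ∈ C0 ⊓ F.A S, Wt ev τ (ν ^ 2) (ν ^ 3)⁻¹ (.refl K)) ∧
        ∀ g ∈ F.A ((Q1 K).map ev), g ∈ nz ((Z2 K).map ev) ∨ ∃ u ∈ S, M1 * u * g ∈ nz ((Z2 K).map ev)) :=
  x.tr x.h3 S _ _ ev M1 M2 m.toCo m.toWy (n.es q) (m.ti x n.toSa q) (fun _ hg k =>
      let ⟨_, ha, e1⟩ := m.ext1 x n.toSa q hg k
      let ⟨u, hu, k, hk, r, t, φ, w, e2⟩ := m.dec n ha
      ⟨u, hu, k, hk, r, t, φ, w, e1.symm.trans (e2.mono (m.le _))⟩)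
    fun l hl => let ⟨k, hk, w⟩ := tt l hl; ⟨k, m.r1 n.toSa hk w, w⟩
omit x in
theorem one (hk : τ ∈ C0 ⊓ F.A S) (o : PEl p (ai S S) τ) : τ = 1 := by
  obtain ⟨_, _, _, w⟩ := m.wt τ hk.1
  obtain ⟨rfl, rfl, rfl⟩ := m.lin n.toSa hk.2 w o
  exact m.fa τ hk.1 w
omit x in
/-- the realizing group -/
theorem real (hT : ∀ k l, k ≠ 0 → l ≠ 0 → ∃ τ ∈ F.A S, Wt ev τ k l (.refl K)) : ∃ H, Syl p S H ∧ F.A S = (ofSub H S).A S ∧
    M1 ∈ (ofSub H S).A ((Q1 K).map ev) ∧ M2 ∈ (ofSub H S).A ((Q2 K).map ev) ∧ L ≤ H ∧ H ≤ nz L := by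
  have DL : C0 ⊓ F.A S ≤ nz L := inf_le_left.trans m.CL
  have SG : S ≤ L ⊔ C0 ⊓ F.A S := m.syl.1.trans le_sup_left
  refine ⟨L ⊔ C0 ⊓ F.A S, m.syl.trans ⟨le_sup_left, fun c => ?_⟩, ?_,
    ofSub_A SG (m.toCo.le _) ▸ mem_ai_of_mem (mem_sup_left m.M1L) (m.nM1 m.toWy),
    ofSub_A SG (m.toCo.le _) ▸ mem_ai_of_mem (mem_sup_left m.M2L) (m.nM2 m.toWy), le_sup_left, sup_le (le_nz_self L) DL⟩
  · rw [relIndex_eq_of_cover (H := C0 ⊓ F.A S) le_sup_right fun a ha => by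
      obtain ⟨b, hb, c, hc, rfl⟩ := (mem_sup_of_le_nz_right DL).1 (sup_comm L _ ▸ ha)
      exact ⟨b, hb, by simpa using hc⟩] at c
    obtain ⟨⟨k, hk⟩, o⟩ := exists_prime_orderOf_dvd_card' p (c.trans (relIndex_dvd_card _ _))
    rw [orderOf_mk] at o
    rw [m.one n hk ⟨1, by rw [pow_one, ← o, pow_orderOf_eq_one]; exact one_mem _⟩, orderOf_one] at o
    exact hp.out.one_lt.ne o
  rw [ofSub_A SG le_rfl]
  refine le_antisymm (fun a ha => ?_) (ai_le (fun g hg => ?_) (F.cz_le_A S))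
  · obtain ⟨u, hu, k, hk, -, -, -, -, e⟩ := m.dec n ha
    exact e.mem_ai (mem_ai_of_mem (mul_mem (SG hu) (mem_sup_right hk)) (mul_mem (le_nz_self S hu) (m.CS hk.1)))
  · obtain ⟨l, hl, b, hb, rfl⟩ := (mem_sup_of_le_nz_left DL).1 hg.1
    obtain ⟨s, hs, τ, k, l, w, rfl⟩ := m.nl l hl ((mul_mem_cancel_right (F.A_le_nz S hb.2)).1 (mem_inf.1 hg).2)
    obtain ⟨τ', h1, w'⟩ := hT k l w.k0 w.l0
    exact mul_mem (mul_mem (n.mA hs (le_nz_self S hs)) ((m.agW w w').mem_A h1)) hb.2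
end Md

/-! ### transport along embeddings -/
section map
variable {G : Type*} [Group G] [Finite G] {ev : Gc K →* G} {i : G →* Γ} (hi : Function.Injective i) {X H : Subgroup G} {g : G}
include hi
theorem cj_map {u u' : Gc K} : i g * i.comp ev u * (i g)⁻¹ = i.comp ev u' ↔ g * ev u * g⁻¹ = ev u' := by
  simp [← hi.eq_iff]
theorem nz_map : i g ∈ nz (X.map i) ↔ g ∈ nz X := ⟨fun h => mem_nz_of_conj_mem fun y hy =>
    (mem_map_iff_mem hi).1 (by simpa using conj_mem_of_mem_nz h (mem_map_of_mem i hy)), fun h => mem_nz_of_conj_mem (by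
      rintro _ ⟨y, hy, rfl⟩
      simpa using mem_map_of_mem i (conj_mem_of_mem_nz h hy))⟩
theorem imZ_map : imZ (i.comp ev) (H.map i) = imZ ev H := by
  ext f; simp only [mem_imZ, mem_map, exists_exists_and_eq_and, AcZ, cj_map hi]
theorem syl_map {p : ℕ} (h : Syl p ev.range H) : Syl p (i.comp ev).range (H.map i) := by
  rw [MonoidHom.range_comp]; exact ⟨map_mono h.1, by rw [relIndex_map_map_of_injective _ _ hi]; exact h.2⟩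
theorem Wt.map (w : Wt ev g k l φ) : Wt (i.comp ev) (i g) k l φ := ⟨w.k0, w.l0, fun u => (cj_map hi).2 (w.cj u)⟩
omit hi in
theorem co_range (h : Function.Injective ev) : Co ev.range ev :=
  ⟨h, fun _ => ⟨fun ⟨u, e⟩ => ⟨u, e.symm⟩, fun ⟨u, e⟩ => ⟨u, e.symm⟩⟩⟩
theorem Md.map {L C0 : Subgroup G} {M1 M2 : G} (m : Md p ev.range ev L C0 M1 M2) :
    Md p (i.comp ev).range (i.comp ev) (L.map i) (C0.map i) (i M1) (i M2) := by
  refine ⟨co_range (hi.comp m.inj), ⟨fun u h => (cj_map hi).2 (m.f1 u h), fun u h => (cj_map hi).2 (m.f2 u h)⟩,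
    MonoidHom.range_comp i ev ▸ m.pg.map i, syl_map hi m.syl, ?_, ?_,
    fun r t φ h1 h2 => let ⟨k, hk, e⟩ := m.ex' r t φ h1 h2; ⟨_, mem_map_of_mem i hk, e.map hi⟩, ?_, ?_,
    mem_map_of_mem i m.M1L, mem_map_of_mem i m.M2L⟩
  · rintro _ ⟨k, hk, rfl⟩; exact (nz_map hi).2 (m.CL hk)
  · rintro _ ⟨k, hk, rfl⟩
    exact let ⟨r, t, φ, e⟩ := m.wt k hk; ⟨r, t, φ, e.map hi⟩
  · rintro _ ⟨k, hk, rfl⟩ e
    rw [m.fa k hk ⟨e.k0, e.l0, fun u => (cj_map hi).1 (e.cj u)⟩, map_one]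
  · rintro _ ⟨g, hg, rfl⟩ e
    rw [MonoidHom.range_comp] at e ⊢
    obtain ⟨s, hs, τ, k, l, h3, rfl⟩ := m.nl g hg ((nz_map hi).1 e)
    exact ⟨_, mem_map_of_mem i hs, _, k, l, h3.map hi, map_mul ..⟩
end map

/-- a property of all good embeddings into suitable symmetric groups -/
def Em (R : ∀ N, (Gc K →* Univ N) → Prop) : Prop :=
  ∃ m, 0 < m ∧ ∀ N, 0 < N → m ∣ N → ∀ ev : Gc K →* Univ N, Function.Injective ev → Good ev.range → R N ev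
section
variable {R R' : ∀ N, (Gc K →* Univ N) → Prop}
theorem em_of {G : Type*} [Group G] [Finite G] {ev : Gc K →* G} (h : Function.Injective ev)
    (k : ∀ N (i : G →* Univ N), Function.Injective i → R N (i.comp ev)) : Em R :=
  ⟨_, Nat.card_pos, fun N h0 h1 f h2 h3 => let ⟨i, a, _, b⟩ := exists_good_extend h0 h1 f h2 h3 ev h
    (MonoidHom.ext b : i.comp ev = f) ▸ k N i a⟩
theorem Em.and (h : Em R) (h' : Em R') : Em fun N ev => R N ev ∧ R' N ev :=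
  let ⟨_, a, b⟩ := h; let ⟨_, c, d⟩ := h'
  ⟨_, mul_pos a c, fun N h0 h1 f h2 h3 => ⟨b N h0 (dvd_of_mul_right_dvd h1) f h2 h3, d N h0 (dvd_of_mul_left_dvd h1) f h2 h3⟩⟩
theorem em_md (md : MD K p) : Em fun _ (ev : Gc K →* _) => ∃ L C0 M1 M2, Md p ev.range ev L C0 M1 M2 :=
  let ⟨_, _, _, _, _, _, _, _, m⟩ := md; em_of m.inj fun _ _ hi => ⟨_, _, _, _, m.map hi⟩
theorem br_of (h : Em R) (k : ∀ N ev F, R N ev → Co ev.range ev → Ho ev → Sa p ev.range F → Rl p F) : Br.{v, w} K p := by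
  intro Ω _ S _ hS F hF e
  obtain ⟨m, m0, h⟩ := h
  obtain ⟨N, θ, h1, h2, h3⟩ := exists_big_embed S m m0
  have r : (θ.comp e.symm.toMonoidHom).range = θ.range := by
    rw [MonoidHom.range_comp, MonoidHom.range_eq_top.2 e.symm.surjective, ← MonoidHom.range_eq_map]
  have i : Function.Injective (θ.comp e.symm.toMonoidHom) := h2.comp e.symm.injective
  have R := URep.rep ⟨h2, h3⟩ le_rfl F
  rcases k N _ _ (h N h3.pos h1 _ i (r ▸ h3.good)) (co_range i) (fun α => (exists_conj_of_good _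
      ((θ.comp e.symm.toMonoidHom).comp α.toMonoidHom) i (i.comp α.injective) (r ▸ h3.good)
      (h3.good.mono fun _ ⟨_, e⟩ => ⟨_, e⟩)).imp fun _ e c => (e c).symm)
    ⟨R.sat hS hF, by rw [fs_S, im_self, r]⟩ with c | ⟨H, c1, c2⟩
  · exact H4.realizable_of_constr R hS c
  · exact H4.Rz.realizable (G := H) ⟨H.subtype, subtype_injective _, by rwa [range_subtype], by rwa [range_subtype]⟩ R hS
end

end H25.GC
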