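import Mathlib.Tactic
import Mathlib.GroupTheory.Perm.Basic
import Mathlib.Algebra.Group.MinimalAxioms
import Mathlib.Algebra.Group.Subgroup.Ker

/-! A table model of the group `3^3 : Sym(4)` and its action on nine points. -/

set_option autoImplicit false

namespace H25.T3

def lk (T b i : ℕ) : ℕ := (T >>> (b * i)) % 2 ^ b

def tMW : ℕ :=
  0x443214c74254b635cf84653a56d71882031c855a92873d8d8c272ad2f610c01398a44a16a6b1ee9ca30b5e9508062290e652d097b9ac94e11bdab452d0973d8d08062214c7ad2f6846534a16a635cf10c0131c85a56d78c2724254b6b1ee00443290e6b5e9594e115a9287b9ac18820398a4bdab49ca3031c8510c018c272a56d74a16a635cf290e60044394e11b5e954254b6b1ee214c70806284653ad2f652d0973d8d398a4188209ca30bdab45a9287b9ac84653a56d7214c700443635cf4254b9ca30b5e95398a410c016b1ee4a16a94e11bdab4290e6080627b9ac52d098c272ad2f631c851882073d8d5a928635cf4254ba56d78465300443214c77b9ac52d09bdab494e1108062290e673d8d5a928ad2f68c2721882031c856b1ee4a16ab5e959ca3010c01398a4b5e9594e116b1ee4254b290e600443ad2f68465373d8d52d09214c708062a56d78c272635cf4a16a31c8510c01bdab49ca307b9ac5a928398a418820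

def tIW : ℕ :=
  0xbd2b6735ec8ce505a5483988518820

def tAC : ℕ :=
  0x6d890c9d530bae58e90ba09951bf064c81981ecd24d41d45177168b161e6ab072482ee2ea28a2c56693303cd41ab07879a490474875caba0a193b6c454c2fc19951a64083559b4ce40c5cbd5e88289ec4e2b230c16ccdb0510e1bea8e8aca81571263d23301d15df542a04d82ad9990e163d35c486606af48b96828b369c1aa39038ac9ec49860b3497716ac1e607d451879a6a0d1629240eb95b6232a38e910c9df832e8254c29902193c7487e0cdb11d72b2a354c2ba093206a28cc0f879aee2d9a4ab07458a6a0c9206b996bd4851c22fceb074194b4ce9208817b55cd61483d671183d07352725a922082307eb3841cce6b2f6a94835a9349c84106758845e741ad7ab5cc21473a494b484406c14e8ad8f4db33bea95c4887095021981172e0d53d89d5e99b4f15920a239026183369eaf4c56506aa2e5bd8939028288c305f54b6675c49d15b60a63d254088708cc07359183d6a4ded5d67149c8a41a0e6104108bdae62969ceb16bd67491d0621461102d7ae7589d24d732117a969214674182206b38bdab49ca307b9ac5a928398a418820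

def tOM : ℕ :=
  0x201534867210543867210534876201543876543201867534210867534201876543210876210867534201876534201867543210876543867201534876210534876201543867210543534867201543876201543867210534876210876534201867543201867534210876543210

def tD2 : ℕ :=
  0x39ce839ce84210942128421094210941cc741cc741d0841d0841d083a108318a6318a6290a5218e5298c629ce639d0739d0742508425083a10841d083a0e63a0e642107420e839d0739d07318c5318c5294a429cc4294a6298e5318c6318c639ce739ce731ce7398e7318a5318a5398e6398c7318e6318e6294842948420c83194a321085114c231ce7398e73a1083a108420e8420e839cc639cc639d0739ce841d073a107298a5314a5210a4218c4298a629cc5318e6318e63a0e73a0e73a0e741ce731ce531ce53a10639cc739d0639d06294c4294c4214a3218a329485298c4294c5294c531cc631cc631cc6398c6298a4298a4318e5318a6318e5318e5210832108318c821948221064114a1298c6314c631ce731ce739cc739cc7318a5318a5318e6318c7398e631ce6214842908418c83194a321485218a4294c5294c531cc631cc631cc6398c6298c4298c431ce5318a6318e5318e5210a3210a3190821948221064214a3210a4210a4298a5298a5298a5314a52148321483294c429485294c4294c418c6218c62108611106118c4309080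

def tG2 : ℕ :=
  0x6904106906822494896904900900822914516904100904806db68b6d04106886832492490d00100880822492496d04100904806d964b6d04106886832494490900900880822494516d04100904806d94480c00000d80030490090000000000010110090c00000000000db00b0d80000d80c30090090c80000000012092090c80000000000d960b0c00000d80030090090c00000000012090090c00000000000d90082d14512d928b2494892912512912892914492d145129168b6db68b2d92492d92cb2492492c92512892492492492c925129164b6d964b2d12512d928b2494492d12512892892494492d125129168b6d9448

def tD1 : ℕ :=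
  0x294a60000000000000000000000000214a50000000000000000000000000190840000000000000000000000000290a50000000000000000000000000210a4000000000000000000000000018c83000000000000000000000000020c84000000000000000000000000018c830000000000000000000000000108620000000000000000000000000294a50000000000000000000000000214a40000000000000000000000000190830000000000000000000000000290a40000000000000000000000000210a3000000000000000000000000018c82000000000000000000000000020c83000000000000000000000000018c82000000000000000000000000010861000000000000000000000000021084000000000000000000000000019083000000000000000000000000010c62000000000000000000000000020c83000000000000000000000000018c82000000000000000000000000010861000000000000000000000000018862000000000000000000000000010861000000000000000000000000008440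

def tG1 : ℕ :=
  0x722000000000000000692000000000000000721000000000000000322000000000000000292000000000000000321000000000000000722000000000000000692000000000000000720000000000000000022000000000000000092000000000000000021000000000000000222000000000000000292000000000000000221000000000000000022000000000000000092000000000000000020000000000000000722000000000000000692000000000000000721000000000000000322000000000000000292000000000000000321000000000000000722000000000000000692000000000000000720

def mw (a b : Fin 24) : Fin 24 := Fin.ofNat 24 (lk tMW 5 (24 * a + b))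
def iw (a : Fin 24) : Fin 24 := Fin.ofNat 24 (lk tIW 5 a)
def ac (a : Fin 24) (v : Fin 27) : Fin 27 := Fin.ofNat 27 (lk tAC 5 (27 * a + v))
def ad (a b : Fin 27) : Fin 27 :=
  Fin.ofNat 27 (9 * ((a / 9 + b / 9) % 3) + 3 * ((a / 3 + b / 3) % 3) + (a + b) % 3)

theorem mw_assoc : ∀ a b c, mw (mw a b) c = mw a (mw b c) := by decide +kernel
theorem ad_assoc : ∀ a b c, ad (ad a b) c = ad a (ad b c) := by decide +kernel
theorem ac_ad : ∀ w a b, ac w (ad a b) = ad (ac w a) (ac w b) := by decide +kernel
theorem ac_mw : ∀ w u a, ac (mw w u) a = ac w (ac u a) := by decide +kernel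

/-- the model group -/
@[ext] structure KK : Type where
  v : Fin 27
  w : Fin 24
  deriving DecidableEq

def eqv : Fin 27 × Fin 24 ≃ KK := ⟨fun a => ⟨a.1, a.2⟩, fun a => (a.1, a.2), fun _ => rfl, fun _ => rfl⟩

instance : Fintype KK := .ofEquiv _ eqv
instance : Mul KK := ⟨fun a b => ⟨ad a.1 (ac a.2 b.1), mw a.2 b.2⟩⟩
instance : One KK := ⟨⟨0, 0⟩⟩
instance : Inv KK := ⟨fun a => ⟨ac (iw a.2) (ad a.1 a.1), iw a.2⟩⟩

theorem fa {P : KK → Prop} (h : ∀ v w, P ⟨v, w⟩) (k : KK) : P k := h k.1 k.2

instance : Group KK := Group.ofLeftAxioms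
  (fun a b c => KK.ext (show ad (ad _ _) (ac (mw _ _) _) = ad _ (ac _ (ad _ _)) by
    rw [ac_ad, ac_mw, ad_assoc]) (mw_assoc _ _ _))
  (fa (by decide +kernel)) (fa (by decide +kernel))

theorem card_KK : Nat.card KK = 648 := by
  rw [← Nat.card_congr eqv]; simp

def el (n : ℕ) : KK := ⟨Fin.ofNat 27 (n / 24), Fin.ofNat 24 n⟩
def nu (k : KK) : ℕ := 24 * k.1 + k.2

/-- the normal elementary abelian subgroup -/
def VV : Subgroup KK where
  carrier := {k | k.2 = 0}
  mul_mem' := fun {a b} (ha : a.2 = 0) (hb : b.2 = 0) => show mw a.2 b.2 = 0 by rw [ha, hb]; decide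
  one_mem' := rfl
  inv_mem' := fun {a} (ha : a.2 = 0) => show iw a.2 = 0 by rw [ha]; decide

/-- the subgroup `3^3 : 2^2` -/
def UU : Subgroup KK where
  carrier := {k | k.2 < 4}
  mul_mem' := fun {a b} => (by decide : ∀ a b : Fin 24, a < 4 → b < 4 → mw a b < 4) _ _
  one_mem' := show (0 : Fin 24) < 4 by decide
  inv_mem' := fun {a} => (by decide : ∀ a : Fin 24, a < 4 → iw a < 4) _

instance : DecidablePred (· ∈ VV) := fun k => inferInstanceAs (Decidable (k.2 = 0))
instance : DecidablePred (· ∈ UU) := fun k => inferInstanceAs (Decidable (k.2 < 4))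

theorem card_VV : Nat.card VV = 27 := by
  rw [Nat.card_eq_fintype_card]; decide +kernel

theorem card_UU : Nat.card UU = 108 := by
  rw [Nat.card_eq_fintype_card]; decide +kernel

theorem VV_exp : ∀ v ∈ VV, v * v * v = 1 := fa (by decide +kernel)

theorem VV_ab (a : KK) (ha : a ∈ VV) (b : KK) (hb : b ∈ VV) : a * b = b * a := by
  obtain ⟨a, _⟩ := a
  obtain ⟨b, _⟩ := b
  obtain rfl : _ = 0 := ha
  obtain rfl : _ = 0 := hb
  revert a b; decide +kernel

theorem VV_conj (g k : KK) (hk : k ∈ VV) : g * k * g⁻¹ ∈ VV :=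
  show mw (mw g.2 k.2) (iw g.2) = 0 by
    rw [show k.2 = 0 from hk]; generalize g.2 = w; revert w; decide +kernel

theorem mem_VV {y : KK} (h4 : y * y * y * y ∈ VV) {n : ℕ} (h : y ^ 3 ^ n = 1) : y ∈ VV := by
  have h1 : y ^ 12 = 1 := by rw [← VV_exp _ h4]; simp only [pow_succ, mul_assoc, pow_zero, one_mul]
  have h2 : orderOf y ∣ 3 := (Nat.Coprime.dvd_of_dvd_mul_left
    ((show Nat.Coprime 4 3 by decide).pow_right n |>.coprime_dvd_right
      (orderOf_dvd_of_pow_eq_one h)).symm (n := 3) (orderOf_dvd_of_pow_eq_one h1))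
  have h3 : y * y * y = 1 := by simpa [pow_succ] using orderOf_dvd_iff_pow_eq_one.1 h2
  rwa [h3, one_mul] at h4

def om (w : Fin 24) (p : Fin 9) : Fin 9 := Fin.ofNat 9 (lk tOM 4 (9 * w + p))
def ta (v : Fin 27) (p : Fin 9) : Fin 9 := Fin.ofNat 9 (3 * (p / 3) + (p + v / 3 ^ (2 - p / 3 : ℕ)) % 3)

theorem ta_ad : ∀ a b p, ta (ad a b) p = ta a (ta b p) := by decide +kernel
theorem om_mw : ∀ a b p, om (mw a b) p = om a (om b p) := by decide +kernel
theorem om_ta : ∀ w a p, ta (ac w a) (om w p) = om w (ta a p) := by decide +kernel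

instance : MulAction KK (Fin 9) where
  smul k p := ta k.1 (om k.2 p)
  one_smul := show ∀ p, ta 0 (om 0 p) = p by decide +kernel
  mul_smul a b p := show ta (ad _ (ac _ _)) (om (mw _ _) p) = ta _ (om _ (ta _ (om _ p))) by
    rw [ta_ad, om_mw, om_ta]

/-- the permutation representation -/
def ph : KK →* Equiv.Perm (Fin 9) := MulAction.toPermHom KK (Fin 9)

theorem ph_inj : Function.Injective ph := (injective_iff_map_eq_one _).2 fun k e =>
  fa (P := fun k => (∀ p, ta k.1 (om k.2 p) = p) → k = 1) (by decide +kernel) k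
    fun p => congrArg (fun s : Equiv.Perm (Fin 9) => s p) e

theorem gen_of {S : Subgroup KK} (gn : ℕ → KK) (hg : ∀ i, gn i ∈ S) (P : KK → Prop) (D T : ℕ)
    (h : ∀ k, P k → k = 1 ∨ (P ((gn (lk T 3 (nu k)))⁻¹ * k) ∧
      lk D 5 (nu ((gn (lk T 3 (nu k)))⁻¹ * k)) < lk D 5 (nu k))) (k : KK) (hk : P k) : k ∈ S := by
  induction' e : lk D 5 (nu k) using Nat.strong_induction_on with n ih generalizing k
  rcases h k hk with rfl | ⟨h1, h2⟩
  · exact one_mem _
  · simpa using mul_mem (hg (lk T 3 (nu k))) (ih _ (e ▸ h2) _ h1 rfl)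

open Equiv Subgroup

theorem range_ph : closure ({swap (0 : Fin 9) 1 * swap 1 2,
    swap (0 : Fin 9) 3 * swap 3 6 * (swap (1 : Fin 9) 4 * swap 4 7) * (swap (2 : Fin 9) 5 * swap 5 8),
    swap (0 : Fin 9) 1 * swap 3 4, swap (0 : Fin 9) 3 * swap 1 4 * swap 2 5 * swap 6 7} :
      Set (Perm (Fin 9))) = ph.range := by
  have e1 : ph (el 216) = swap (0 : Fin 9) 1 * swap 1 2 := by decide +kernel
  have e2 : ph (el 12) = swap (0 : Fin 9) 3 * swap 3 6 * (swap (1 : Fin 9) 4 * swap 4 7) *
    (swap (2 : Fin 9) 5 * swap 5 8) := by decide +kernel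
  have e3 : ph (el 3) = swap (0 : Fin 9) 1 * swap 3 4 := by decide +kernel
  have e4 : ph (el 8) = swap (0 : Fin 9) 3 * swap 1 4 * swap 2 5 * swap 6 7 := by decide +kernel
  rw [← e1, ← e2, ← e3, ← e4]
  refine le_antisymm ((closure_le _).2 ?_) ?_
  · rintro _ (rfl | rfl | rfl | rfl) <;> exact ⟨_, rfl⟩
  · rintro _ ⟨k, rfl⟩
    refine mem_comap.1 (gen_of (fun i => el ([216, 12, 3].getD i 8)) ?_ (fun _ => True) tD2 tG2
      (fa (by decide +kernel)) k trivial)
    rintro (_ | _ | _ | i) <;> exact subset_closure (by simp)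

theorem map_ph : closure ({swap (0 : Fin 9) 1 * swap 1 2, swap (3 : Fin 9) 4 * swap 4 5,
    swap (6 : Fin 9) 7 * swap 7 8, swap (0 : Fin 9) 1 * swap 3 4, swap (0 : Fin 9) 1 * swap 6 7} :
      Set (Perm (Fin 9))) = (ph.comp UU.subtype).range := by
  have e1 : ph (el 216) = swap (0 : Fin 9) 1 * swap 1 2 := by decide +kernel
  have e2 : ph (el 72) = swap (3 : Fin 9) 4 * swap 4 5 := by decide +kernel
  have e3 : ph (el 24) = swap (6 : Fin 9) 7 * swap 7 8 := by decide +kernel
  have e4 : ph (el 3) = swap (0 : Fin 9) 1 * swap 3 4 := by decide +kernel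
  have e5 : ph (el 2) = swap (0 : Fin 9) 1 * swap 6 7 := by decide +kernel
  rw [← e1, ← e2, ← e3, ← e4, ← e5]
  refine le_antisymm ((closure_le _).2 ?_) ?_
  · rintro _ (rfl | rfl | rfl | rfl | rfl) <;> exact ⟨⟨_, by decide⟩, rfl⟩
  · rintro _ ⟨k, rfl⟩
    refine (mem_comap (f := ph)).1 (gen_of (fun i => el ([216, 72, 24, 3].getD i 2)) ?_ (· ∈ UU) tD1 tG1
      (fa (by decide +kernel)) k k.2)
    rintro (_ | _ | _ | _ | i) <;> exact subset_closure (by simp)

theorem exists_hom {G K : Type*} [Group G] [Group K] {H : Subgroup G} {L : Type*} [Group L]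
    {φ : K →* L} (hφ : Function.Injective φ) {S : Subgroup L} (e : H ≃* S) (hS : S = φ.range) :
    ∃ f : K →* G, Function.Injective f ∧ f.range = H := by
  subst hS
  let e' := (MonoidHom.ofInjective hφ).trans e.symm
  refine ⟨H.subtype.comp e'.toMonoidHom, H.subtype_injective.comp e'.injective, ?_⟩
  rw [MonoidHom.range_comp, MonoidHom.range_eq_top.2 e'.surjective, ← MonoidHom.range_eq_map,
    range_subtype]

end H25.T3
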