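import Cfsg.Agent.H21.T9b
import Cfsg.Agent.H25.T33b

/-! The numerical analysis for `3^3 : Sym(4)`. -/

set_option autoImplicit false

open Finset H21.T9

namespace H25.T3

def tRR : ℕ :=
  0x955559555a55556555695555955965559955a6556a955559565655442551495552556495446551595856544525154940465051945465551955865415951565555955559595665599996651556555595926664995555
def tGM : ℕ := 0x549241155240129425045230845244c00941010200040429144a2c925108b
def tSO : ℕ :=
  0x655654595995595119169955555955556266205255555556551545262226555555655255559549525648589a2621555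
def tC : ℕ :=
  0x1249249249249249249249249249249249249249249249249249249249249249249269248a48a49149249249249249249249249249249249249249249249249249249249249249249249249249249249249249249169248a6ca4a14894914924924924924d245a49949349188b69a4924924924d24824ca4916916920d36d24924924924924924932924ca4524c264a29249249249149289249249349249249249249249249249249249249248a49a4934524da49249249249a49249249349249249a49149249249249149249249249349249249a49249249249229345245a4522884c945145249269229251229a45969a49388a69949a49a4524d248a49249a45249249249269249149249249249249249249149229248a49249249249249249249249268a4db49349249249249245249249249249349249249a49245249249a4924524d249249249229249249249249249249a48a4924924924d229249249249229249269149349249249a49245249249249229a45969b29388b69949a49a4524d248a4d149169129221324949249249a48a49449249249249249249348929249249249249249249249249249249349249249249245249265249229249249149249a49249249249245a4922d245225169149149a4924924924924924d249a4da6938d249149249249249329249249269249249249229a4924924922d249249245249249249249249249249245a49249248a49249249149a4924924924994924924934924924926924924924914d24ca4d249b4524d249249249249245268a48b48a49129a48a4924924924924926d149169149225349149249249248a49448a6926526924da292692492492493492292492492492492492492492492492492492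

def RR (j : Fin 9) (t : Fin 38) : ℤ := lk tRR 2 (9 * t + j) - 1
def GM (j k : Fin 9) : ℤ := lk tGM 3 (9 * j + k) - 1
def tt (j : Fin 9) : ℤ := if 4 ≤ j ∧ j ≤ 6 then 1 else 0
def cu (a : Fin 3) (j : Fin 9) : ℤ := lk 0x5b59bc59bb8b686868858c502c5 4 (9 * a + j) - 8
def so (t : Fin 38) (p : ℕ) : ℤ := lk tSO 2 (5 * t + p) - 1
def p1 (p : Fin 45) : Fin 9 := Fin.ofNat 9 (lk 0x877666555544444333333222222211111111000000000 4 p)
def p2 (p : Fin 45) : Fin 9 := Fin.ofNat 9 (lk 0x887876876587654876543876543287654321876543210 4 p)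
def ct (t : Fin 38) (p : Fin 45) : ℤ := lk tC 3 (45 * t + p) - 2

def J5 : Fin 9 → Fin 9 → ℤ := ![![24, -4, -5, 8, 1, 0, 0, 0, 0], ![-4, 24, -5, -13, -6, 0, 0, 0, 0],
  ![-5, -5, 20, 10, 10, 0, 0, 0, 0], ![8, -13, 10, 26, 12, 0, 0, 0, 0],
  ![1, -6, 10, 12, 19, 0, 0, 0, 0], 0, 0, 0, 0]

def J9 : Fin 9 → Fin 9 → ℤ := ![![62, -4, -10, 26, 4, -10, -12, 10, -6],
  ![-4, 64, -22, -26, -12, 4, -16, -4, -8], ![-10, -22, 62, 26, 22, -16, 12, 16, 6],
  ![26, -26, 26, 91, 39, 13, -13, 26, -26], ![4, -12, 22, 39, 51, 9, 3, 4, -18],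
  ![-10, 4, -16, 13, 9, 49, -1, -10, -20], ![-12, -16, 12, -13, 3, -1, 43, -12, 2],
  ![10, -4, 16, 26, 4, -10, -12, 36, -6], ![-6, -8, 6, -26, -18, -20, 2, -6, 40]]

theorem rows : ∀ a ∈ [-1, 0, 1], ∀ b ∈ [-1, 0, 1], ∀ c ∈ [-1, 0, 1], ∀ d ∈ [-1, 0, 1],
    ∀ e ∈ [-1, 0, 1], a * (24 * a - 8 * b - 10 * c + 16 * d + 2 * e) +
      b * (24 * b - 10 * c - 26 * d - 12 * e) + c * (20 * c + 20 * d + 20 * e) +
      d * (26 * d + 24 * e) + e * (19 * e) ≤ 35 →
    ∀ f ∈ [-1, 0, 1], ∀ g ∈ [-1, 0, 1], ∀ h ∈ [-2, -1, 0, 1, 2], ∀ k ∈ [-2, -1, 0, 1, 2],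
    a * (62 * a - 8 * b - 20 * c + 52 * d + 8 * e - 20 * f - 24 * g + 20 * h - 12 * k) +
      b * (64 * b - 44 * c - 52 * d - 24 * e + 8 * f - 32 * g - 8 * h - 16 * k) +
      c * (62 * c + 52 * d + 44 * e - 32 * f + 24 * g + 32 * h + 12 * k) +
      d * (91 * d + 78 * e + 26 * f - 26 * g + 52 * h - 52 * k) +
      e * (51 * e + 18 * f + 6 * g + 8 * h - 36 * k) + f * (49 * f - 2 * g - 20 * h - 40 * k) +
      g * (43 * g - 24 * h + 4 * k) + h * (36 * h - 12 * k) + k * (40 * k) ≤ 78 →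
    ∃ t : Fin 38, ∃ s ∈ [1, -1], s * s = 1 ∧ ∀ j, ![a, b, c, d, e, f, g, h, k] j = s * RR j t := by
  decide +kernel

theorem cert : ∀ t : Fin 38, t ≠ 0 → ∑ p, ct t p * GM (p1 p) (p2 p) = so t 0 ∧
    ∀ u, ∑ p, ct t p * RR (p1 p) u * RR (p2 p) u = (if u = t then 1 else 0) -
      (if u = 34 then so t 1 else 0) - (if u = 36 then so t 2 else 0) -
      (if u = 37 then so t 3 else 0) - (if u = 33 then so t 4 else 0) := by
  decide +kernel

variable {ι : Type*} [Fintype ι] [DecidableEq ι] {o : ι} {ρ : Fin 9 → ι → ℤ}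

theorem bessel (hg : ∀ j k, ∑ i ∈ univ.erase o, ρ j i * ρ k i = GM j k) {i : ι} (hi : i ≠ o)
    (J : Fin 9 → Fin 9 → ℤ) (D : ℤ) (D0 : 0 ≤ D)
    (hJ : ∀ j k, ∑ a, ∑ b, J j a * J k b * GM a b = D * J j k) :
    ∑ j, ∑ k, J j k * ρ j i * ρ k i ≤ D := by
  have h1 := single_le_sum (f := fun l => (∑ j, ∑ k, J j k * ρ j i * ρ k l) ^ 2)
    (fun j _ => sq_nonneg _) (mem_erase.2 ⟨hi, mem_univ i⟩)
  have h2 : ∑ l ∈ univ.erase o, (∑ j, ∑ k, J j k * ρ j i * ρ k l) ^ 2 =
      D * ∑ j, ∑ k, J j k * ρ j i * ρ k i := by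
    simp only [sq, sum_mul_sum]
    simp only [← mul_assoc, ← hJ, ← hg, sum_mul, mul_sum]
    rw [sum_comm]
    refine sum_congr rfl fun j _ => ?_
    rw [sum_comm]
    refine sum_congr rfl fun k _ => ?_
    rw [sum_comm]
    refine sum_congr rfl fun a _ => ?_
    rw [sum_comm]
    exact sum_congr rfl fun b _ => sum_congr rfl fun l _ => by ring
  rw [h2] at h1
  nlinarith

theorem exists_type (hg : ∀ j k, ∑ i ∈ univ.erase o, ρ j i * ρ k i = GM j k) (i : ι) :
    ∃ (t : Fin 38) (s : ℤ), s * s = 1 ∧ (i ≠ o → ∀ j, ρ j i = s * RR j t) := by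
  by_cases hi : i = o
  · exact ⟨0, 1, rfl, fun e => absurd hi e⟩
  have h1 := bessel hg hi J5 35 (by norm_num) (by decide +kernel)
  have h2 := bessel hg hi J9 78 (by norm_num) (by decide +kernel)
  have h3 : ∀ j, ρ j i * ρ j i ≤ GM j j := fun j => hg j j ▸ single_le_sum
    (f := fun l => ρ j l * ρ j l) (fun j _ => mul_self_nonneg _) (mem_erase.2 ⟨hi, mem_univ i⟩)
  have h4 : ∀ j, GM j j ≤ 3 → ρ j i ∈ [-1, 0, 1] := fun j e => by
    have := (h3 j).trans e
    have : -2 < ρ j i ∧ ρ j i < 2 := ⟨by nlinarith, by nlinarith⟩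
    simp; omega
  have h5 : ∀ j, ρ j i ∈ [-2, -1, 0, 1, 2] := fun j => by
    have := (h3 j).trans ((by decide +kernel : ∀ j, GM j j ≤ 4) j)
    have : -3 < ρ j i ∧ ρ j i < 3 := ⟨by nlinarith, by nlinarith⟩
    simp; omega
  simp [Fin.sum_univ_succ, J5, J9] at h1 h2
  obtain ⟨t, s, -, h, e⟩ := rows _ (h4 0 (by decide)) _ (h4 1 (by decide)) _ (h4 2 (by decide)) _
    (h4 3 (by decide)) _ (h4 4 (by decide)) (by linarith) _ (h4 5 (by decide)) _ (h4 6 (by decide))
    _ (h5 7) _ (h5 8) (by linarith)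
  refine ⟨t, s, h, fun _ j => (e j).symm ▸ ?_⟩
  fin_cases j <;> rfl

theorem red {R : Type*} [CommRing R] (c : Fin 38 → ℤ) (A : Fin 38 → R) (N : Fin 38 → ℤ)
    (hA : ∀ t, t ≠ 0 → N t = 0 → A t = 0) (L : List (Fin 38 × ℤ))
    (h : ∀ t, (t ≠ 0 ∧ N t = 0) ∨ c t = (L.map fun p => if t = p.1 then p.2 else 0).sum) :
    ∑ t, c t * A t = (L.map fun p => p.2 * A p.1).sum := by
  have : ∑ t, c t * A t = ∑ t, ((L.map fun p => if t = p.1 then p.2 else 0).sum : ℤ) * A t :=
    sum_congr rfl fun t _ => by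
      rcases h t with ⟨h1, h2⟩ | h
      · simp [hA t h1 h2]
      · rw [h]
  rw [this]
  clear this h
  induction' L with p L ih
  · simp
  · simp only [List.map_cons, List.sum_cons, Int.cast_add, add_mul, sum_add_distrib, ih]
    simp

theorem fin_num {m P Q A B : ℤ} (m0 : 0 < m) (hm : m % 27 = 1) (hA : A % 27 = 8) (hB : B % 27 = 8)
    (e1 : P + Q = A + 2 * B) (e2 : 6 * m * (P + Q) = P * Q) (e3 : 8 * m * (B + 2 * A) = 3 * A * B)
    (e4 : P ^ 2 + Q ^ 2 + A ^ 2 + 2 * B ^ 2 ≤ 648 * m) : m = 1 := by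
  have h1 : P + Q ≤ 54 := by nlinarith [sq_nonneg (P - Q), sq_nonneg A, sq_nonneg B]
  have h2 : -54 ≤ P + Q := by nlinarith [sq_nonneg (P + Q), sq_nonneg A, sq_nonneg B]
  have h3 : B + 2 * A ≤ 121 := by
    nlinarith [sq_nonneg (A - B), sq_nonneg P, sq_nonneg Q, sq_nonneg B]
  have h4 : -122 ≤ B + 2 * A := by
    nlinarith [sq_nonneg (A + B), sq_nonneg P, sq_nonneg Q, sq_nonneg B]
  obtain ⟨a, rfl⟩ : ∃ a, A = 8 + 27 * a := ⟨A / 27, by omega⟩
  obtain ⟨b, rfl⟩ : ∃ b, B = 8 + 27 * b := ⟨B / 27, by omega⟩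
  have : -3 ≤ a ∧ a ≤ 2 ∧ -2 ≤ b ∧ b ≤ 2 := by omega
  obtain ⟨_, _, _, _⟩ := this
  clear e2 e4
  interval_cases a <;> interval_cases b <;> omega

def uu (a : Fin 3) (t : Fin 38) : ℤ := ∑ j, cu a j * RR j t
def ea (e : Fin 7) : Fin 3 := ![0, 0, 0, 0, 1, 0, 1] e
def eb (e : Fin 7) : Fin 3 := ![1, 2, 1, 1, 2, 2, 2] e
def ec (e : Fin 7) : Fin 3 := ![0, 0, 2, 1, 1, 2, 2] e
def T4 (e : Fin 7) : ℤ := ![144, 0, 108, 72, 108, 162, 81] e
def nn (a b c : ℤ) (t : Fin 38) : ℤ := so t 0 + so t 1 * a + so t 2 * b + so t 3 * c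

theorem counts (n : Fin 38 → ℕ) (h : ∀ j k, ∑ t, RR j t * RR k t * n t = GM j k) :
    ∃ a b c, (∀ t, t ≠ 0 → n t = nn a b c t) ∧ (a = 1 ∧ b = 1 ∧ c = 1 ∨ a = 1 ∧ b = 0 ∧ c = 0 ∨
      a = 0 ∧ b = 0 ∧ c = 1 ∨ a = 1 ∧ b = 0 ∧ c = 1) := by
  have k : ∀ t, t ≠ 0 → n t = nn (n 34) (n 36) (n 37) t + so t 4 * n 33 := fun t ht => by
    obtain ⟨h1, h2⟩ := cert t ht
    simp only [← h, mul_sum, ← mul_assoc] at h1
    rw [sum_comm] at h1
    simp only [← sum_mul, h2, sub_mul, sum_sub_distrib, ite_mul, zero_mul, sum_ite_eq',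
      mem_univ, if_true] at h1
    rw [nn]; linarith
  have k1 := k 1 (by decide)
  have k6 := k 6 (by decide)
  have k15 := k 15 (by decide)
  have k17 := k 17 (by decide)
  have k30 := k 30 (by decide)
  have k31 := k 31 (by decide)
  simp [nn, so, lk, tSO] at k1 k6 k15 k17 k30 k31
  exact ⟨n 34, n 36, n 37, fun t ht => by rw [k t ht, show n 33 = 0 by omega]; simp, by omega⟩

theorem num {d : ι → ℕ} {m : ℕ} (hd : d o = 1) (d0 : ∀ i, 0 < d i) (ρo : ∀ j, ρ j o = tt j)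
    (hg : ∀ j k, ∑ i, ρ j i * ρ k i = GM j k + tt j * tt k) (hl : ∀ j, ∑ i, ρ j i * d i = 0)
    {u : Fin 3 → ι → ℤ} (hu : ∀ a i, u a i = ∑ j, cu a j * ρ j i)
    (hc : ∀ e, 4 * m * ∑ i, (u (ea e) i * u (eb e) i * u (ec e) i : ℝ) / d i = T4 e)
    (h27 : ∀ i, (27 : ℤ) ∣ d i + 6 * u 0 i + 12 * u 1 i + 8 * u 2 i)
    (hsq : ∑ i, (d i : ℤ) ^ 2 = 648 * m) (hm : m % 27 = 1) : m = 1 := by
  choose τ s hs h using exists_type (o := o) (ρ := ρ) fun j k => by
    have := hg j k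
    rw [← add_sum_erase _ _ (mem_univ o), ρo, ρo] at this
    linarith
  have hx : ∀ y : Fin 9 → ℤ, Sg o τ s (fun i => ∑ j, y j * ρ j i) fun t => ∑ j, y j * RR j t :=
    fun y i hi => by simp only [h i hi, mul_sum]; exact sum_congr rfl fun _ _ => by ring
  have hU : ∀ a, Sg o τ s (u a) (uu a) := fun a i hi => (hu a i).trans (hx _ i hi)
  obtain ⟨a, b, c, hn, abc⟩ := counts (fun t => (fb o τ t).card) fun j k => by
    have := hg j k
    rw [Sg.gram hs (fun i hi => h i hi j) (fun i hi => h i hi k), ρo, ρo] at this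
    linarith
  obtain ⟨A, hA⟩ : ∃ A : Fin 38 → ℤ, ∀ t, ∑ i ∈ fb o τ t, s i * d i = A t := ⟨_, fun _ => rfl⟩
  obtain ⟨Y, hY⟩ : ∃ Y : Fin 38 → ℝ, ∀ t, ∑ i ∈ fb o τ t, (1 / ((s i * d i : ℤ) : ℝ)) = Y t :=
    ⟨_, fun _ => rfl⟩
  obtain ⟨Q, hQ⟩ : ∃ Q : Fin 38 → ℤ, ∀ t, ∑ i ∈ fb o τ t, (d i : ℤ) ^ 2 = Q t := ⟨_, fun _ => rfl⟩
  have z : ∀ t, t ≠ 0 → nn a b c t = 0 → fb o τ t = ∅ := fun t ht e =>
    card_eq_zero.1 (by exact_mod_cast (hn t ht).trans e)
  have zA : ∀ t, t ≠ 0 → nn a b c t = 0 → A t = 0 := fun t ht e => by simp [← hA, z t ht e]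
  have zY : ∀ t, t ≠ 0 → nn a b c t = 0 → Y t = 0 := fun t ht e => by simp [← hY, z t ht e]
  have one : ∀ t, t ≠ 0 → nn a b c t = 1 → A t ≠ 0 ∧ Y t = 1 / A t ∧ Q t = A t ^ 2 ∧
      27 ∣ A t + 6 * uu 0 t + 12 * uu 1 t + 8 * uu 2 t := fun t ht e => by
    obtain ⟨i, hi⟩ := card_eq_one.1 (by exact_mod_cast (hn t ht).trans e : (fb o τ t).card = 1)
    obtain ⟨h1, h2⟩ := mem_filter.1 (hi ▸ mem_singleton_self i : i ∈ fb o τ t)
    have h3 := h27 i
    have := d0 i
    simp only [hU _ i (ne_of_mem_erase h1), h2] at h3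
    simp only [← hA, ← hY, ← hQ, hi, sum_singleton]
    rcases Int.eq_one_or_neg_one_of_mul_eq_one (hs i) with e | e <;> rw [e] at h3 ⊢ <;>
      exact ⟨by omega, trivial, by ring, by omega⟩
  have lin : ∀ y : Fin 9 → ℤ, ∑ j, y j * tt j + ∑ t, Int.cast (∑ j, y j * RR j t) * A t = 0 :=
    fun y => by
      have := (hx y).lin fun i => d i
      simp only [hA, ρo, hd, Nat.cast_one, mul_one] at this
      simp only [Int.cast_id, ← this]
      simp only [sum_mul, mul_assoc]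
      rw [sum_comm]
      simp only [← mul_sum, hl, mul_zero, sum_const_zero]
  have cub : ∀ z : Fin 7 → ℤ, 4 * m * ((∑ e, z e : ℤ) + ∑ t, (∑ e, z e *
      (uu (ea e) t * uu (eb e) t * uu (ec e) t) : ℤ) * Y t) = (∑ e, z e * T4 e : ℤ) := fun z => by
    have uo : ∀ a, u a o = 1 := fun a => by
      simp only [hu, ρo]; revert a; decide +kernel
    simp only [(hU _).cub hs (hU _) (hU _), hY, uo, hd] at hc
    push_cast at hc ⊢
    simp only [← hc, sum_mul]
    rw [sum_comm, ← sum_add_distrib, mul_sum]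
    refine sum_congr rfl fun e _ => ?_
    simp only [mul_assoc, ← mul_sum]; ring
  have m0 : (0 : ℝ) < m := by exact_mod_cast (by omega : 0 < m)
  rcases abc with ⟨rfl, rfl, rfl⟩ | ⟨rfl, rfl, rfl⟩ | ⟨rfl, rfl, rfl⟩ | ⟨rfl, rfl, rfl⟩
  · have l1 := lin ![0, 1, 0, 0, 0, 0, 0, 0, 0]
    have l2 := lin ![0, 1, -1, 0, 0, 1, -1, 0, -1]
    have c1 := cub ![-1, 0, 3, 0, -2, 0, 0]
    have c2 := cub ![-1, 0, 1, 0, 0, 0, 0]
    rw [red _ _ _ zA [(5, 1), (8, 1)] (by decide +kernel)] at l1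
    rw [red _ _ _ zA [(34, -1), (37, -1), (32, 1), (5, -1), (8, 1)] (by decide +kernel)] at l2
    rw [red _ _ _ zY [(34, 54), (37, 54)] (by decide +kernel)] at c1
    rw [red _ _ _ zY [(32, 24), (8, 24), (5, -24)] (by decide +kernel)] at c2
    obtain ⟨a5, y5, q5, m5⟩ := one 5 (by decide) (by decide +kernel)
    obtain ⟨a8, y8, q8, -⟩ := one 8 (by decide) (by decide +kernel)
    obtain ⟨a32, y32, q32, m32⟩ := one 32 (by decide) (by decide +kernel)
    obtain ⟨a34, y34, q34, -⟩ := one 34 (by decide) (by decide +kernel)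
    obtain ⟨a37, y37, q37, -⟩ := one 37 (by decide) (by decide +kernel)
    rw [show uu 0 5 = -4 by decide +kernel, show uu 1 5 = 2 by decide +kernel,
      show uu 2 5 = -1 by decide +kernel] at m5
    rw [show uu 0 32 = 4 by decide +kernel, show uu 1 32 = -2 by decide +kernel,
      show uu 2 32 = 1 by decide +kernel] at m32
    rw [split o τ _ (fun _ => 1) (fun i => (d i : ℤ) ^ 2) fun _ _ => by simp] at hsq
    have h5 := sum_le_sum_of_subset_of_nonneg (f := Q) (subset_univ {5, 8, 32, 34, 37})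
      fun t _ _ => hQ t ▸ sum_nonneg fun _ _ => sq_nonneg _
    simp only [hQ, one_mul] at hsq
    simp [Fin.sum_univ_succ, tt, T4, y5, y8, y32, y34, y37] at l1 l2 c1 c2
    rw [sum_insert (by decide), sum_insert (by decide), sum_insert (by decide),
      sum_pair (by decide), q5, q8, q32, q34, q37] at h5
    have e8 : A 8 = -A 5 := by omega
    rw [e8] at h5 c2 l2
    have b5 : (A 5 : ℝ) ≠ 0 := by exact_mod_cast a5
    have b32 : (A 32 : ℝ) ≠ 0 := by exact_mod_cast a32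
    have b34 : (A 34 : ℝ) ≠ 0 := by exact_mod_cast a34
    have b37 : (A 37 : ℝ) ≠ 0 := by exact_mod_cast a37
    push_cast at c2
    field_simp at c1 c2
    have := fin_num (m := m) (P := -A 34) (Q := -A 37) (A := -A 32) (B := A 5) (by omega) (by omega)
      (by omega) (by omega) (by omega) (by
        have : (6 * m * (-A 34 + -A 37) : ℝ) = -A 34 * -A 37 := by linarith
        exact_mod_cast this) (by
        have : (8 * m * (A 5 + 2 * -A 32) : ℝ) = 3 * -A 32 * A 5 := by linarith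
        exact_mod_cast this) (by nlinarith [sq_nonneg (d o : ℤ)])
    omega
  · have c1 := cub ![1, 1, 0, 1, -2, 1, -2]
    rw [red _ _ _ zY [(30, 54)] (by decide +kernel)] at c1
    obtain ⟨a1, y1, -⟩ := one 30 (by decide) (by decide +kernel)
    simp [Fin.sum_univ_succ, T4, y1, a1] at c1
    omega
  all_goals
    have l1 := lin ![1, 0, 1, 0, 0, 0, 0, 1, 0]
    rw [red _ _ _ zA [(1, 3)] (by decide +kernel)] at l1
    simp [Fin.sum_univ_succ, tt, (one 1 (by decide) (by decide +kernel)).1] at l1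

end H25.T3
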