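import Cfsg.Agent.H25.T33c
import Cfsg.Agent.H25.T33d

/-! The group `3^3 : Sym(4)` as a strongly `3`-embedded subgroup. -/

set_option autoImplicit false

open Cfsg Subgroup H28 H5 H6 Finset
open scoped ComplexConjugate

namespace H25.T3

def tCL : ℕ :=
  0xb756999d888db675b567444357b68d8899d9b7655b6744435756d8d9dd98bcc55567a442b65788d8d999567b5b67444356b7d9998d88576bb567444356579d8d98dd5ccb5567a442bc5cdd899dd8567555674a425cbc98ddd89d576555674a425c5c899889895cc5bb67aa4157b6d8889d99567bb5764443b75699d9d888576b5b76444357568d9d89dd5ccb5576a44256b79d9988d8b6755b764443b657888d999db765b57644435657d9d8dd89bcc55576a4425cbc89ddd98d567555764a42bc5cdd988dd9576555764a425c5c988998985cc5bb76aa4157568dd9d9d85675b5cc44a25756d89d8d9d57655bcc44a2b7b6998898895cc555cca4a15657d98d9d8d56755bcc44a256579dd8d8d95765b5cc44a2b6b7889989985cc555cca4a15c5c98988899b67b55cc4aa15c5c89899988b76b55cc4aa1bcbcddddddddbccbbbccaaa0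

def tCJ : ℕ :=
  0x1f5ba13c3a230461147f1cc42104a82a5c22881b454e7248324c8fa1880713822191ba0b0651d42f0ac8a30c28305c028033398fc068924c1121e803195121f0fa2584d2504f2a8c122470245c2280033f5141e8624c0e212803315b825c38110503104718842104540685a70860395140c84a5e8f82a802258202b1b82b82e0b4530ac79158280c858700783f4e41281a5e110308062b510310f81704d1744f1886f1ec600085a70048458ff2a8c25e0e0248020d5b801c3a3187d2346b068310cc181857a4c8a83f8fc188aa3a8f80680701820071ba1d0652b06706827098181e5784c0c0455173087a3a1100c806075100d0fa05016054170340f0380c1257a4c090394e4008023a0e0008021343a1f0e21f8461148f10ca91c440064a23a8a87b5bf24030829d218001194e2130220b0761902f3082a0a4880c4a03a0c06f9d406090821ea1e0041f9d219dea138951309722c722acc0004a23a090755ec1e060821ba1200125438310e0110c51484710c5718c40184ea168186f5ec0c048949d02a0052b4e0250201442e0b4af1542a0a4781e4e816030755bc12018941e830000319d02bde81385e1305f1e86118c6c124ea160007b9d72a0c0941b824000014380d0e21a48e1f0c70c81906c302aa0a94863759d4180a8709d006005074e00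1022198ad190770941906c2430a089407b7b5ef30078701e80c0040d9d007dea05016054170340f0380c24a0a9404b6f5bc00000701b800000198fa191d2084350d0232485a24c5818932828600f40f24830168221800f1f5ea1fd120781d0701f16c91164901e9308207803824068901603a1e00e1340a1300a018050100704c120441012932820480943c1e8601600a1200a2b8f82b1d00d820088371284912c482a6525e8ab0343c0c848288202a00d315e831d100781d0701f1284912c48306505e0c30940c12818280383000c2540825008018050100704c1204410246525e0930f8272a8c02800824008078f8071d2024080280b0080100c00064120481809824188a804820060120d5e80dd12024080280b0080100c000c410040300f43f30878040380c010014080100a01805010070080100c0000412040000340c008000400800000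

def tCF : ℕ :=
  0x258e492592492491c92daa591c924b2491c925924b6492491d95c96492392396492496372d764924924924923964924

def tVA : ℕ :=
  0x21084270841b08661084210841ad84f369c210842708427086610842109ce1084e10cc210842109ce13cda70842109c210836103c21084210842133a9b0842109b6108421084210842108421084210

def tVB : ℕ :=
  0x1249249249249249249249249249249249249949249249249249249248b492492492652492492492492492492812492

def cl (k : KK) : Fin 14 := Fin.ofNat 14 (lk tCL 4 (nu k))
def rp (c : Fin 14) : KK := el (lk 0x3004020010f024374dc4a0d94e12036000 10 c)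
def sz (c : Fin 14) : ℕ := lk 0x4836361b484836366c36080c0601 8 c
def wt (k : KK) : KK := el (lk tCJ 10 (nu k))
def cf (j : Fin 9) (c : Fin 14) : ℤ := lk tCF 3 (14 * j + c) - 4
def va (j : Fin 9) (c : Fin 14) : ℤ := lk tVA 5 (14 * j + c) - 16
def vb (j : Fin 9) (c : Fin 14) : ℤ := lk tVB 3 (14 * j + c) - 2
def xx (a : Fin 3) : KK := el (![216, 288, 312] a)
def iv (a : Fin 3) (c : Fin 14) : ℤ := if c.1 = a + 1 then ![108, 54, 81] a else 0

theorem wt_rp : ∀ k, wt k * rp (cl k) * (wt k)⁻¹ = k := fa (by decide +kernel)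
theorem cl_card : ∀ c, #{k | cl k = c} = sz c := by decide +kernel
theorem cl_VV : ∀ k, k ∈ VV ↔ cl k < 4 := fa (by decide +kernel)
theorem cf_chi : ∀ j c, ∑ b : Fin 14, cf j b • chi (cm · = b) (rp c) =
    (va j c, 2 * vb j c, 0, -vb j c) := by decide +kernel
theorem cl_av : ∀ k, (∀ j, va j (cl k) = 0 ∧ vb j (cl k) = 0) ∨
    (k * k * k ∈ VV ∧ k * k * k ≠ 1) ∨ (k * k * k * k ∈ VV ∧ k * k * k * k ≠ 1) :=
  fa (by decide +kernel)
theorem gram_va : ∀ j k, ∑ c, sz c * (va j c * va k c + 3 * vb j c * vb k c) =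
    648 * (GM j k + tt j * tt k) ∧ ∑ c, sz c * (va j c * vb k c + vb j c * va k c) = 0 := by
  decide +kernel
theorem one_va : ∀ j, ∑ c, sz c * (va j c * 1 + 3 * vb j c * 0) = 648 * tt j ∧
    ∑ c, sz c * (va j c * 0 + vb j c * 1) = 0 := by decide +kernel
theorem cu_va : ∀ a c, ∑ j, cu a j * va j c = iv a c ∧ ∑ j, cu a j * vb j c = 0 := by
  decide +kernel
theorem tri_iv : ∀ e, 4 * ∑ k, iv (ea e) (cl (k * xx (eb e) * k⁻¹ * xx (ec e))) = 648 * T4 e := by
  decide +kernel
theorem iv_ne : ∀ k a, iv a (cl k) ≠ 0 → k ∈ VV ∧ k ≠ 1 := fa (by decide +kernel)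
theorem core_VV : ∀ k : KK, k * k * k * k ∈ VV ∨ ∃ n : Fin 4, ∀ y, y = k * (el n * k⁻¹ * (el n)⁻¹) →
    y * y * y * y ∈ VV ∧ y ∉ VV := fa (by
  simp only [forall_eq]; decide +kernel)
theorem inv_VV : ∀ k ∈ VV, cl k = 3 ∨ ∃ t, t * t = 1 ∧ t ≠ 1 ∧ t * k = k * t := fa (by decide +kernel)
theorem inv_x : ∀ t, t * xx 2 = xx 2 * t → t * t = 1 → t = 1 := fa (by decide +kernel)

theorem sum_cl {E : KK → ℂ} (F : Fin 14 → ℂ) (h : ∀ k, E k = F (cl k)) :
    ∑ k, E k = ∑ c, sz c * F c := by
  rw [funext h, ← sum_fiberwise univ cl]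
  refine sum_congr rfl fun c _ => ?_
  rw [sum_congr rfl fun k hk => congrArg F (mem_filter.1 hk).2, sum_const, cl_card, nsmul_eq_mul]

theorem cf_cl {F : KK → ℂ} (h : IsClassFunction KK F) (k : KK) : F k = F (rp (cl k)) := by
  rw [← h (rp (cl k)) (wt k), wt_rp]

noncomputable def th (j : Fin 9) : KK → ℂ := ∑ b : Fin 14, cf j b • fun k => io (chi (cm · = b) k)

theorem th_gen (j : Fin 9) : IsGeneralizedCharacter KK (th j) :=
  gen_sum _ fun b _ => gen_zsmul (char_gen (chi_char (.id KK) (cm · = b) fun g i h =>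
    (cm_pi ..).trans h)) _

theorem th_eq (j : Fin 9) (k : KK) : th j k = va j (cl k) + vb j (cl k) * r3 := by
  rw [cf_cl (gen_cf (th_gen j)), ← io_real, ← cf_chi]
  simp only [th, Finset.sum_apply, Pi.smul_apply, map_sum, map_zsmul]

theorem inner_th (j : Fin 9) (ψ : KK → ℂ) (a b : Fin 14 → ℤ) (h : ∀ k, ψ k = a (cl k) + b (cl k) * r3)
    {N : ℤ} (e : ∑ c, sz c * (va j c * a c + 3 * vb j c * b c) = 648 * N ∧
      ∑ c, sz c * (va j c * b c + vb j c * a c) = 0) : classInner (th j) ψ = N := by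
  have c3 : conj r3 = r3 := Complex.conj_ofReal _
  simp only [classInner, h, th_eq, map_add, map_mul, map_intCast, c3, card_KK]
  rw [sum_cl (fun c => (va j c + vb j c * r3) * (a c + b c * r3)) fun _ => rfl]
  have e1 := congrArg (Int.cast (R := ℂ)) e.1
  have e2 := congrArg (Int.cast (R := ℂ)) e.2
  push_cast at e1 e2 ⊢
  rw [inv_mul_eq_iff_eq_mul₀ (by norm_num), ← e1, ← add_zero (∑ c, _ * (_ + 3 * _ * _)),
    ← mul_zero r3, ← e2, mul_sum, ← sum_add_distrib]
  exact sum_congr rfl fun c _ => by linear_combination sz c * vb j c * b c * r3_sq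

noncomputable def tu (a : Fin 3) : KK → ℂ := ∑ j, cu a j • th j

theorem tu_eq (a : Fin 3) (k : KK) : tu a k = iv a (cl k) := by
  have e1 := congrArg (Int.cast (R := ℂ)) (cu_va a (cl k)).1
  have e2 := congrArg (Int.cast (R := ℂ)) (cu_va a (cl k)).2
  push_cast at e1 e2
  simp only [tu, Finset.sum_apply, Pi.smul_apply, th_eq]
  simp only [zsmul_eq_mul, mul_add, sum_add_distrib, e1, ← mul_assoc, ← sum_mul, e2, zero_mul, add_zero]

theorem top_of_KK {G : Type*} [Group G] [Finite G] {f : KK →* G} (h : TM f VV) : f.range = ⊤ := by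
  classical
  have := Fintype.ofFinite G
  have hc := fun j => gen_cf (th_gen j)
  choose ρ hρ using fun j (χ : IrrCharacter G) => inner_gen_int (gen_ind f (th_gen j)) (irr_gen χ.2)
  have hcu : ∀ a, IsClassFunction KK (tu a) := fun a => gen_cf (gen_sum _ fun j _ => gen_zsmul (th_gen j) _)
  obtain ⟨u, hu⟩ : ∃ u : Fin 3 → IrrCharacter G → ℤ, ∀ a χ, u a χ = ∑ j, cu a j * ρ j χ :=
    ⟨_, fun _ _ => rfl⟩
  have u1 : ∀ a (χ : IrrCharacter G), classInner (ind f (tu a)) χ = u a χ := fun a χ => by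
    rw [inner_ind_left f _ χ.2.isClassFunction, tu, inner_sum_left]
    simp only [H6.inner_zsmul_left]
    simp [← inner_ind_left f _ χ.2.isClassFunction, hρ, hu]
  have u2 : ∀ a (χ : IrrCharacter G), χ.1 (f (xx a)) = u a χ := fun a χ => by
    have := u1 a χ
    rw [inner_ind_left f _ χ.2.isClassFunction, classInner, card_KK] at this
    rw [sum_cl (fun c => iv a c * conj ((χ.1 ∘ f) (rp c))) fun k => by
      rw [tu_eq, ← cf_cl (cf_comp χ.2.isClassFunction f)], sum_eq_single (cl (xx a)), ← cf_cl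
      (cf_comp χ.2.isClassFunction f), ← mul_assoc (sz _ : ℂ), ← Int.cast_natCast (sz _), ← Int.cast_mul,
      (by decide +kernel : ∀ a, sz (cl (xx a)) * iv a (cl (xx a)) = 648)] at this
    · simpa using congrArg conj this
    · intro c _ hc
      rw [(by decide +kernel : ∀ a c, c ≠ cl (xx a) → iv a c = 0) a c hc]; simp
    · simp
  have e1 := f.range.card_mul_index
  have e2 := h.index
  rw [← Nat.card_congr (MonoidHom.ofInjective h.inj).toEquiv, card_KK] at e1
  rw [card_VV] at e2
  have e3 := Nat.pos_of_ne_zero (f.range.index_ne_zero_of_finite)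
  have xV : ∀ a, xx a ∈ VV ∧ xx a ≠ 1 := by decide +kernel
  refine index_eq_one.1 (num (o := irrOne G) (ρ := ρ) (d := H21.T9.dg) H21.T9.dg_one H21.T9.dg_pos
    (fun j => ?_) (fun j k => ?_) (fun j => ?_) hu (fun e => ?_) (fun χ => ?_) ?_ (by omega))
  · have := hρ j (irrOne G)
    rw [inner_ind_left f _ (irrOne G).2.isClassFunction, inner_th j _ (fun _ => 1) (fun _ => 0)
      (fun k => by simp [irrOne]) (one_va j)] at this
    exact_mod_cast this.symm
  · have := h.inner (hc k) (ψ := th j) fun g e => by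
      rcases cl_av g with e1 | e1 | e1
      · simp [th_eq, e1 j] at e
      · exact ⟨3, by simpa [pow_succ] using e1⟩
      · exact ⟨4, by simpa [pow_succ] using e1⟩
    rw [inner_th j _ _ _ (th_eq k) (gram_va j k), inner_eq_sum_irr (cf_ind _ _)] at this
    simp only [← inner_conj (ind f (th k)), hρ, map_intCast] at this
    exact_mod_cast this
  · have := (cf_ind f (th j)).apply_eq_sum_irr 1
    rw [ind_apply_one h.inj, th_eq, ((by decide +kernel : ∀ j, va j (cl 1) = 0 ∧ vb j (cl 1) = 0) j).1,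
      ((by decide +kernel : ∀ j, va j (cl 1) = 0 ∧ vb j (cl 1) = 0) j).2] at this
    simp only [hρ, H21.T9.dg_eq] at this
    exact_mod_cast this.symm.trans (by simp : _ = (0 : ℂ))
  · have := h.sum_conj (hcu (ea e)) (xV (eb e)).1 (xV _).2 (xV (ec e)).1 (xV _).2 fun k hk => by
      have k1 := iv_ne k (ea e) (by simpa [tu_eq] using hk)
      refine ⟨k1.1, k1.2, fun e1 => hk ?_, fun e1 => hk ?_⟩ <;> rw [cf_isConj (hcu _) e1, tu_eq]
      · rw [(by decide +kernel : ∀ e, iv (ea e) (cl (xx (eb e))) = 0)]; simp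
      · rw [(by decide +kernel : ∀ e, iv (ea e) (cl (xx (eb e))⁻¹) = 0)]; simp
    simp only [u1, u2, tu_eq, H21.T9.dg_eq, ← e1] at this
    have e4 := congrArg (Int.cast (R := ℂ)) (tri_iv e)
    push_cast at e4 this
    rw [← this] at e4
    refine Complex.ofReal_injective (mul_left_cancel₀ (by norm_num : (648 : ℂ) ≠ 0) ?_)
    push_cast
    rw [← e4]
    simp only [mul_sum]
    exact sum_congr rfl fun χ _ => by ring
  · obtain ⟨n, hn, -⟩ := H21.T9.avg χ (f.comp VV.subtype)
    rw [card_VV, show ∑ k : VV, χ.1 (f.comp VV.subtype k) = ∑ k, if k ∈ VV then χ.1 (f k) else 0 by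
      rw [← sum_filter, sum_subtype (p := (· ∈ VV)) (F := inferInstance) _ (by simp)]; rfl] at hn
    rw [sum_cl (fun c => if c < 4 then χ.1 (f (rp c)) else 0) fun k =>
      if_congr (x := χ.1 (f k)) (cl_VV k) (cf_cl (cf_comp χ.2.isClassFunction f) k) rfl] at hn
    simp [Fin.sum_univ_succ, sz, lk] at hn
    rw [show rp 0 = 1 by decide +kernel, show rp 1 = xx 0 by decide +kernel, show rp 2 = xx 1 by
      decide +kernel, show rp 3 = xx 2 by decide +kernel, u2, u2, u2, map_one, H21.T9.dg_eq] at hn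
    exact ⟨n, by exact_mod_cast (by linear_combination hn :
      (H21.T9.dg χ + 6 * u 0 χ + 12 * u 1 χ + 8 * u 2 χ : ℂ) = 27 * n)⟩
  · have := sum_irr_one_sq G
    simp only [H21.T9.dg_eq, ← e1] at this
    exact_mod_cast this

end H25.T3
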