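import Cfsg.Agent.H27.MS1

/-! S5899: an extension by a free module of rank one splits. -/

set_option autoImplicit false

namespace H25.MS
open Cfsg Subgroup H18 H17.GS H28.S H27.MS
open H19 hiding eq_bot_mono
open H28.NG hiding Hyp Uniq Ch

universe u

theorem conv {P : Type*} [Group P] [Fintype P] (hP : IsPGroup 2 P) (m : P → ZMod 2) (h : ∑ s, m s = 1) :
    Function.Bijective fun (x : P → ZMod 2) t => ∑ s, x s * m (t * s) := by
  let Φ : (P → ZMod 2) →+ (P → ZMod 2) := .mk' (fun x t => ∑ s, x s * m (t * s)) fun x y => by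
    ext t; simp [add_mul, Finset.sum_add_distrib]
  refine Function.Injective.bijective_of_finite ((injective_iff_map_eq_zero Φ).2 fun x hx => by_contra fun n => ?_)
  let : MulAction P Φ.ker :=
    { smul g x := ⟨fun s => x.1 (g⁻¹ * s), funext fun t => (Equiv.sum_comp (Equiv.mulLeft g) _).symm.trans (by
        simpa [Φ, mul_assoc] using congrFun x.2 (t * g))⟩
      one_smul x := Subtype.ext (funext fun s => congrArg x.1 (by simp))
      mul_smul a b x := Subtype.ext (funext fun s => congrArg x.1 (by simp [mul_assoc])) }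
  have o : addOrderOf (⟨x, hx⟩ : Φ.ker) = 2 := addOrderOf_eq_prime (Subtype.ext (funext fun s => by
    simp [two_nsmul, CharTwo.add_self_eq_zero])) fun e => n (congrArg Subtype.val e)
  obtain ⟨b, hb, k⟩ := hP.exists_fixed_point_of_prime_dvd_card_of_fixed_point Φ.ker (o.symm.dvd.trans (addOrderOf_dvd_natCard (G := Φ.ker) _))
    (a := 0) fun g => rfl
  have e : ∀ s, b.1 s = b.1 1 := fun s => by
    have : b.1 (s⁻¹ * s) = b.1 s := congrFun (congrArg Subtype.val (hb s)) s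
    rw [← this, inv_mul_cancel]
  have z : ∑ s, b.1 s * m (1 * s) = 0 := congrFun b.2 1
  simp only [e, one_mul, ← Finset.mul_sum, h, mul_one] at z
  exact k (Subtype.ext (funext fun s => ((e s).trans z).symm))

variable {G : Type u} [Group G] {W Q : Subgroup G} {l : G → ZMod 2} {t u v x : G}

structure Lf (W Q : Subgroup G) (l : G → ZMod 2) : Prop where
  add : ∀ x ∈ W, ∀ y ∈ W, l (x * y) = l x + l y
  zero : ∀ q ∈ Q, l q = 0

theorem Lf.cj (h : Lf W Q l) (hu : u ∈ W) (hx : x ∈ W) : l (u * x * u⁻¹) = l x := by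
  have := h.add _ hu _ (inv_mem hu)
  rw [mul_inv_cancel, h.zero _ (one_mem _)] at this
  rw [h.add _ (mul_mem hu hx) _ (inv_mem hu), h.add _ hu _ hx]
  linear_combination -this
theorem Lf.conj (h : Lf W Q l) (a : t ∈ N(W)) (b : t ∈ N(Q)) : Lf W Q fun x => l (t * x * t⁻¹) :=
  ⟨fun x hx y hy => by rw [← conj_mul, h.add _ (conj_mem_of_norm a hx) _ (conj_mem_of_norm a hy)],
    fun _ hq => h.zero _ (conj_mem_of_norm b hq)⟩

theorem sep [Finite G] (h : EA Q W) (hv : v ∈ W) (n : v ∉ Q) : ∃ l, Lf W Q l ∧ l v = 1 := by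
  classical
  obtain ⟨H, ⟨h1, h2, h3⟩, m⟩ := (Set.toFinite {H | Q ≤ H ∧ H ≤ W ∧ v ∉ H}).exists_maximal ⟨Q, le_rfl, h.le, n⟩
  have k : ∀ x ∈ W, x ∉ H → v * x ∈ H := fun x hx nx => by
    have : v ∈ H ⊔ zpowers x := by_contra fun q =>
      nx (m ⟨h1.trans le_sup_left, sup_le h2 (zpowers_le.2 hx), q⟩ le_sup_left (mem_sup_right (mem_zpowers x)))
    obtain ⟨a, ha, _, ⟨j, rfl⟩, rfl⟩ := (mem_sup_of_norm (zpowers_le.2 (h.nsub h1 h2 hx))).1 this
    have s : ∀ i : ℤ, x ^ (2 * i) ∈ H := fun i => by rw [zpow_mul, zpow_two]; exact zpow_mem (h1 (h.sq x hx)) i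
    obtain ⟨i, rfl | rfl⟩ := Int.even_or_odd' j
    · exact absurd (mul_mem ha (s i)) h3
    · simpa [mul_assoc, zpow_add_one] using mul_mem ha (mul_mem (s i) (h1 (h.sq x hx)))
  refine ⟨fun x => if x ∈ H then 0 else 1, ⟨fun x hx y hy => ?_, fun q hq => if_pos (h1 hq)⟩, if_neg h3⟩
  by_cases a : x ∈ H <;> by_cases b : y ∈ H
  · simp [a, b, mul_mem a b]
  · simp [a, b, mul_mem_cancel_left a]
  · simp [a, b, mul_mem_cancel_right b]
  · have : x * y ∈ H := by simpa [mul_assoc] using mul_mem (mul_mem (h1 (h.sq x hx)) (inv_mem (k x hx a))) (k y hy b)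
    simp only [a, b, this, if_true, if_false]; rfl

theorem fr : FR.{u} := fun {G _ _ T W Q w} R pg nW nQ ea hw gen hR c tr n => by
  classical
  have : (W.subgroupOf T).Normal := normal_subgroupOf_of_le_normalizer nW.norm
  let P := T ⧸ W.subgroupOf T
  have := Fintype.ofFinite P
  let φ : (G → ZMod 2) → G → P → ZMod 2 := fun l v s => l (s.out * v * (s.out : G)⁻¹)
  have cj : ∀ {l}, Lf W Q l → ∀ t : T, Lf W Q fun x => l (t * x * (t : G)⁻¹) := fun h t => h.conj (nW.norm t.2) (nQ.norm t.2)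
  have φm : ∀ {l}, Lf W Q l → ∀ v ∈ W, ∀ t : T, φ l v t = l (t * v * (t : G)⁻¹) := fun h v hv t => by
    obtain ⟨u, e⟩ := QuotientGroup.mk_out_eq_mul (W.subgroupOf T) t
    rw [← (cj h t).cj u.2 hv]
    simp [φ, e, mul_assoc]
  have φc : ∀ {l}, Lf W Q l → ∀ t s : P, φ (fun x => l (t.out * x * (t.out : G)⁻¹)) w s = φ l w (t * s) := fun h t s => by
    conv_rhs => rw [← t.out_eq', ← s.out_eq', ← QuotientGroup.mk_mul, φm h w hw]
    simp [φ, mul_assoc]
  let M : Subgroup G :=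
    { carrier := {v | v ∈ W ∧ ∃ x : P → ZMod 2, ∀ l, Lf W Q l → l v = ∑ s, x s * φ l w s}
      one_mem' := ⟨one_mem _, 0, fun l h => by simpa using h.zero _ (one_mem _)⟩
      mul_mem' := fun ⟨a, x, h⟩ ⟨b, y, k⟩ => ⟨mul_mem a b, x + y, fun l q => by
        simp [q.add _ a _ b, h l q, k l q, add_mul, Finset.sum_add_distrib]⟩
      inv_mem' := fun {v} ⟨a, x, h⟩ => ⟨inv_mem a, x, fun l q => by
        have := q.add _ a _ (inv_mem a)
        rw [mul_inv_cancel, q.zero _ (one_mem _)] at this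
        rw [← h l q, CharTwo.add_eq_zero.1 this.symm]⟩ }
  have rep : W ≤ M := gen.trans (sup_le (Kc_le_of_cj fun g hg => cj_le_iff.2 (zpowers_le.2 (mem_cj.2 (by
    rw [inv_inv]
    exact ⟨conj_mem_of_norm (nW.norm hg) hw, Pi.single ((⟨g, hg⟩ : T) : P) 1, fun l q => by
      rw [Finset.sum_eq_single_of_mem _ (Finset.mem_univ ((⟨g, hg⟩ : T) : P)) fun b _ e => by simp [e], φm q w hw]
      simp⟩)))) fun a ha => ⟨ea.le ha, 0, fun l h => by simpa using h.zero _ ha⟩)
  have pr : ∀ L : List G, (∀ r ∈ L, r ∈ T) → (L.map fun r => r * w * r⁻¹).prod ∈ W ∧ ∀ l, Lf W Q l →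
      l (L.map fun r => r * w * r⁻¹).prod = (L.map fun r => l (r * w * r⁻¹)).sum := fun L => by
    induction L with
    | nil => exact fun _ => ⟨one_mem _, fun l h => h.zero _ (one_mem _)⟩
    | cons a L i =>
      intro k
      have a1 := conj_mem_of_norm (nW.norm (k a (by simp))) hw
      obtain ⟨i1, i2⟩ := i fun r hr => k r (by simp [hr])
      exact ⟨mul_mem a1 i1, fun l h => by rw [List.map_cons, List.prod_cons, h.add _ a1 _ i1, i2 l h]; rfl⟩
  obtain ⟨l, h, z⟩ := sep ea (pr R hR).1 n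
  have b : Function.Bijective fun i : Fin R.length => ((⟨R[i], hR _ (List.getElem_mem _)⟩ : T) : P) := by
    refine (Nat.bijective_iff_surjective_and_card _).2 ⟨fun s => ?_, ?_⟩
    · obtain ⟨r, hr, e⟩ := tr _ s.out.2
      obtain ⟨i, rfl⟩ := List.mem_iff_get.1 hr
      exact ⟨i, (QuotientGroup.eq (b := s.out) |>.2 e).trans s.out_eq'⟩
    · rw [card_eq_card_quotient_mul_card_subgroup (W.subgroupOf T), Nat.card_congr (subgroupOfEquivOfLe nW.le).toEquiv] at c
      simpa using Nat.eq_of_mul_eq_mul_right Nat.card_pos c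
  have B := conv (pg.isPGroup.to_quotient _) (φ l w) (by
    rw [← b.sum_comp, ← z, (pr R hR).2 l h, ← Fin.sum_univ_fun_getElem]
    exact Finset.sum_congr rfl fun i _ => φm h w hw _)
  let S : AddSubmonoid (P → ZMod 2) :=
    { carrier := {y | ∃ v ∈ W, φ l v = y}
      zero_mem' := ⟨1, one_mem _, funext fun s => (cj h _).zero _ (one_mem _)⟩
      add_mem' := fun ⟨a, ha, e⟩ ⟨b, hb, f⟩ => ⟨a * b, mul_mem ha hb, funext fun s => e ▸ f ▸ (cj h _).add _ ha _ hb⟩ }
  have sur : ∀ y, y ∈ S := fun y => by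
    obtain ⟨x, rfl⟩ := B.2 y
    have : ∑ s, (fun t => x s * φ l w (t * s)) ∈ S := sum_mem fun s _ => by
      rcases (by decide : ∀ c : ZMod 2, c = 0 ∨ c = 1) (x s) with e | e <;> simp only [e, zero_mul, one_mul]
      exacts [zero_mem S, ⟨_, conj_mem_of_norm (nW.norm s.out.2) hw, funext fun t => φc h t s⟩]
    convert this using 1
    ext t; simp
  let k : T → P → ZMod 2 := fun g s => l (s.out * g * ((s * g).out : G)⁻¹)
  have km : ∀ (g : T) (s : P), (s.out * g * ((s * g).out : G)⁻¹ : G) ∈ W := fun g s =>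
    (QuotientGroup.eq_one_iff (N := W.subgroupOf T) (s.out * g * (s * g).out⁻¹)).1 (by simp)
  have kc : ∀ a b s, k (a * b) s = k a s + k b (s * a) := fun a b s => by
    rw [← h.add _ (km _ _) _ (km _ _)]
    simp [k, mul_assoc]
  have kW : ∀ v : T, v.1 ∈ W → (v : P) = 1 ∧ k v = φ l v := fun v hv => by
    have : (v : P) = 1 := (QuotientGroup.eq_one_iff v).2 hv
    exact ⟨this, funext fun s => by simp [k, φ, this]⟩
  have k1 : ∀ s, k 1 s = 0 := fun s => by simpa [k] using h.zero _ (one_mem _)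
  let X : Subgroup T :=
    { carrier := {g | ∀ s, k g s = 0}
      one_mem' := k1
      mul_mem' := fun a b s => by rw [kc, a, b, add_zero]
      inv_mem' := fun {g} a s => by simpa [a _, k1] using (kc g⁻¹ g s).symm }
  refine ⟨X.map T.subtype, map_subtype_le X, fun g hg => ?_, ?_⟩
  · obtain ⟨v, hv, e⟩ := sur (k ⟨g, hg⟩)
    obtain ⟨e1, e2⟩ := kW ⟨v, nW.le hv⟩ hv
    have : (⟨v, nW.le hv⟩ : T) * ⟨g, hg⟩ ∈ X := fun s => by rw [kc, e1, e2, e, mul_one, CharTwo.add_self_eq_zero]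
    simpa using mul_mem (mem_sup_right (inv_mem hv)) (mem_sup_left (mem_map_of_mem T.subtype this) : _ ∈ _ ⊔ W)
  · rintro _ ⟨⟨v, a, rfl⟩, hv⟩
    obtain ⟨-, x, e⟩ := rep hv
    obtain rfl : x = 0 := B.1 (funext fun t => by
      simpa [φc h t] using (e _ (cj h t.out)).symm.trans (((kW v hv).2 ▸ a t :)))
    by_contra q
    obtain ⟨l', h', z'⟩ := sep ea hv q
    simpa using z'.symm.trans (e l' h')

end H25.MS
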