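/-
S1819 Theorem A, chunk A5S: the module of an `A₅`-block splits.
-/
import Cfsg.Agent.H21.UM1

set_option autoImplicit false
set_option linter.unusedVariables false
set_option linter.unusedSectionVars false

namespace H25.UM
open H9 hiding zj
open Cfsg Subgroup H28 H29 H29.PU H29.BB H28.GC Equiv H21.UM
open scoped commutatorElement

universe u
variable {X : Type u} [Group X] [Finite X] {T M S G L B Q V : Subgroup X} {x : X} {π : X → Perm (Fin 5)}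
  {ψ : X → Fin 5 → ZMod 2}

theorem tvs {a : X} (ea : IsElementaryAbelian 2 Q) (hn : a ∈ 𝐍 Q) (h : (𝐜 a).relIndex Q ≤ 2) :
    ∃ W : Subgroup X, W ≤ Q ∧ # W ≤ 2 ∧ ∀ q ∈ Q, ⁅q, a⁆ ∈ W := by
  have m : ∀ q ∈ Q, ⁅q, a⁆ ∈ Q := fun q hq => by
    rw [commutatorElement_def, mul_assoc, mul_assoc, ← mul_assoc a]
    exact mul_mem hq (conj_mem_of_mem_normalizer hn (inv_mem hq))
  let f : Q →* X := MonoidHom.mk' (fun q => ⁅q.1, a⁆) fun q r => by
    rw [coe_mul, comm_mul_left, comm_of_ea ea q.2 (m _ r.2), mul_inv_cancel_right, comm_of_ea ea (m _ r.2) (m _ q.2)]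
  refine ⟨f.range, by rintro _ ⟨q, rfl⟩; exact m _ q.2, ?_, fun q hq => ⟨⟨q, hq⟩, rfl⟩⟩
  rw [← index_ker, show f.ker = (𝐜 a).subgroupOf Q from Subgroup.ext fun q => mem_c_comm'.symm]
  exact h

theorem a5s : A5S.{u} := by
  intro X _ _ T M S G L B Q V x π ψ h
  have π1 : π 1 = 1 := (h.πk 1 (one_mem _)).2 (one_mem _)
  let f : G →* Perm (Fin 5) := MonoidHom.mk' (fun g => π g) fun a b => h.πm _ a.2 _ b.2
  have πi : ∀ a ∈ G, π a⁻¹ = (π a)⁻¹ := fun a ha => map_inv f ⟨a, ha⟩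
  have nQ : G ≤ 𝐍 Q := le_normalizer_of_cj_le fun g hg => by
    rintro _ ⟨q, hq, rfl⟩
    have hq' := h.QG hq
    exact (h.πk _ (mul_mem (mul_mem hg hq') (inv_mem hg))).1 (by
      rw [h.πm _ (mul_mem hg hq') _ (inv_mem hg), h.πm _ hg _ hq', (h.πk q hq').2 hq, πi g hg, mul_one, mul_inv_cancel])
  have up : ∀ Y : Subgroup X, Q ≤ Y → ∀ g ∈ G, ∀ a ∈ G, a ∈ Y → π g = π a → g ∈ Y := fun Y hY g hg a ha k e =>
    (mul_mem_cancel_left (inv_mem k)).1 (hY ((h.πk _ (mul_mem (inv_mem ha) hg)).1 (by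
      rw [h.πm _ (inv_mem ha) _ hg, πi a ha, e, inv_mul_cancel])))
  have QC := ea_le_centralizer h.ea
  obtain ⟨a, ha, a1, a2⟩ := h.tv
  have ex : ∀ i : Fin 4, ∃ b ∈ G, π b = swap i.castSucc i.succ ∧ (𝐜 b).relIndex Q ≤ 2 := fun i => by
    obtain ⟨σ, e⟩ : ∃ σ : Perm (Fin 5), σ * swap 0 1 * σ⁻¹ = swap i.castSucc i.succ :=
      isConj_iff.1 (Perm.isConj_swap (by decide) (Fin.castSucc_lt_succ).ne)
    obtain ⟨g, hg, rfl⟩ := h.πs σ
    refine ⟨g * a * g⁻¹, mul_mem (mul_mem hg ha) (inv_mem hg), ?_, ?_⟩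
    · rw [h.πm _ (mul_mem hg ha) _ (inv_mem hg), h.πm _ hg _ ha, πi g hg, a1, e]
    · rwa [← cj_c, ← cj_eq_self (nQ hg), H28.relIndex_cj]
  choose b hb b1 b2 using ex
  have gen : ∀ Y : Subgroup X, Q ≤ Y → (∀ i, b i ∈ Y) → G ≤ Y := fun Y hY k g hg => by
    have : ⊤ ≤ (Y.subgroupOf G).map f := by
      rw [← toSubmonoid_le, top_toSubmonoid, ← Perm.mclosure_swap_castSucc_succ, Submonoid.closure_le]
      rintro _ ⟨i, rfl⟩
      exact ⟨⟨b i, hb i⟩, k i, b1 i⟩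
    obtain ⟨y, y1, y2⟩ := this (mem_top (π g))
    exact up Y hY g hg y y.2 y1 y2.symm
  have cD : G ≤ 𝐂 (Q ⊓ 𝐂 L) := fun g hg => by
    have QD : Q ≤ 𝐂 (Q ⊓ 𝐂 L) := QC.trans (centralizer_anti inf_le_left)
    have ev : ∀ g ∈ G, Perm.sign (π g) = 1 → g ∈ 𝐂 (Q ⊓ 𝐂 L) := fun g hg e =>
      let ⟨l, hl, k⟩ := h.πL _ e; up _ QD g hg l (h.LG hl) (le_centralizer_comm.1 inf_le_right hl) k.symm
    refine (Int.units_eq_one_or _).elim (ev g hg) fun e => ?_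
    refine (mul_mem_cancel_left (le_centralizer_comm.1 h.cB ((h.πB a ha).2 (by rw [a1]; decide)))).1
      (ev _ (mul_mem ha hg) ?_)
    rw [h.πm _ ha _ hg, map_mul, a1, e, Perm.sign_swap (by decide)]; simp
  have i1 : (Q ⊓ 𝐂 L).relIndex Q ≤ 16 := by
    have l : Q ⊓ (𝐜 (b 0) ⊓ 𝐜 (b 1) ⊓ (𝐜 (b 2) ⊓ 𝐜 (b 3))) ≤ Q ⊓ 𝐂 L := fun d hd => ⟨hd.1, le_c_iff.1
      (h.LG.trans (gen _ (le_c_iff.2 (QC hd.1)) fun i => mem_c_symm.1 (by
        fin_cases i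
        exacts [hd.2.1.1, hd.2.1.2, hd.2.2.1, hd.2.2.2])))⟩
    refine (idx_anti l).trans ?_
    rw [inf_relIndex_left]
    have k := fun i j => (relIndex_inf_le (H := 𝐜 (b i)) (K := 𝐜 (b j)) (L := Q)).trans (Nat.mul_le_mul (b2 i) (b2 j))
    exact relIndex_inf_le.trans (Nat.mul_le_mul (k 0 1) (k 2 3))
  have i2 : 16 ≤ (Q ⊓ 𝐂 L).relIndex V := by
    choose v hv e using h.ψs
    have := le_relIndex_of_inj (H := Q ⊓ 𝐂 L) (K := V) (fun w : {w : Fin 5 → ZMod 2 // ∑ i, w i = 0} => v w w.2)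
      (fun w => hv _ _) fun w w' k => by
        have := h.ψm _ (hv _ w.2) _ (mul_mem (inv_mem (hv _ w.2)) (hv _ w'.2))
        rw [mul_inv_cancel_left, (h.ψk _ (mul_mem (inv_mem (hv _ w.2)) (hv _ w'.2))).2 k.2, e, e, add_zero] at this
        exact Subtype.ext this.symm
    rwa [Nat.card_eq_fintype_card, show Fintype.card _ = 16 by decide] at this
  have i3 : # V ≤ 16 := by
    choose W w1 w2 w3 using fun i => tvs h.ea (nQ (hb i)) (b2 i)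
    have n : ∀ {A C : Subgroup X}, A ≤ Q → C ≤ Q → A ≤ 𝐍 C := fun k k' =>
      le_normalizer_of_le_centralizer (k.trans (QC.trans (centralizer_anti k')))
    have s : ∀ i j, W i ⊔ W j ≤ Q := fun i j => sup_le (w1 i) (w1 j)
    have k : ∀ i j, # ↥(W i ⊔ W j) ≤ 4 := fun i j =>
      (H9.card_sup_le (n (w1 i) (w1 j))).trans (Nat.mul_le_mul (w2 i) (w2 j))
    have s' := sup_le (s 0 1) (s 2 3)
    refine (card_le_of_le' (h.VV.trans ((commutator_mono h.VQ h.LG).trans (commutator_le_of_le_cmod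
      (gen (cmod Q (W 0 ⊔ W 1 ⊔ (W 2 ⊔ W 3))) (le_cmod (n le_rfl s') ?_) fun i => ?_))))).trans
      ((H9.card_sup_le (n (s 0 1) (s 2 3))).trans (Nat.mul_le_mul (k 0 1) (k 2 3)))
    · exact (commutator_eq_bot_iff_le_centralizer.2 QC).le.trans bot_le
    · have l : W i ≤ W 0 ⊔ W 1 ⊔ (W 2 ⊔ W 3) := by
        fin_cases i
        exacts [le_sup_of_le_left le_sup_left, le_sup_of_le_left le_sup_right, le_sup_of_le_right le_sup_left,
          le_sup_of_le_right le_sup_right]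
      refine ⟨mem_normalizer_of_cj_le ?_, fun q hq => l (w3 i q hq)⟩
      rintro _ ⟨w, hw, rfl⟩
      simpa [commutatorElement_def, mul_assoc] using mul_mem (inv_mem (l (w3 i w (s' hw)))) hw
  refine ⟨inf_le_left, cD, fun q hq => ?_, fun v hv e => ?_⟩
  · obtain ⟨y, e⟩ := ((Nat.bijective_iff_injective_and_card _).2 ⟨(quotientSubgroupOfEmbeddingOfLE (Q ⊓ 𝐂 L) h.VQ).injective,
      le_antisymm (idx_mono h.VQ) (i1.trans i2)⟩).2 (QuotientGroup.mk ⟨q, hq⟩)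
    obtain ⟨v, rfl⟩ := QuotientGroup.mk_surjective y
    rw [quotientSubgroupOfEmbeddingOfLE_apply_mk, QuotientGroup.eq, mem_subgroupOf] at e
    exact ⟨v, v.2, _, e, (mul_inv_cancel_left _ _).symm⟩
  · have k := card_idx (Q ⊓ 𝐂 L) V
    have : # ↥(Q ⊓ 𝐂 L ⊓ V) ≤ 1 := by nlinarith
    exact mem_bot.1 ((eq_bot_of_card_le _ this).le ⟨⟨h.VQ hv, (h.ψk v hv).1 e⟩, hv⟩)

end H25.UM
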