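import Cfsg.Agent.H29.ND2

/-! S4780: the output fields in the case `W1`. -/

set_option autoImplicit false
set_option linter.unusedVariables false

open Subgroup MulAction H19 H20 H6 Cfsg H3.PT H3.GR H3.ND Module H24.ND
open scoped commutatorElement

namespace H25.NW

universe u
variable {G : Type u} [Group G] [Finite G] {P H X Y : Subgroup G} {p : ℕ}

/-- the conclusion of `LV` -/
def Lev (P H X Y : Subgroup G) : Prop :=
  (∀ c ∈ H, Ce Y X c ∨ Fpf X Y c) ∧ ∀ ψ ∈ Irr P, Y ≤ cker ψ → ¬ X ≤ cker ψ →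
    deg ψ ^ 2 = (X ⊔ (P ⊓ C(H))).relIndex P ∧ ∀ c ∈ H, cfj c ψ = ψ ↔ Ce Y X c

theorem one (l : Lev P H X Y) : ∃ m, ∀ ψ ∈ Irr P, Y ≤ cker ψ → ¬ X ≤ cker ψ → dd H ψ = m := by
  by_cases e : ∃ φ ∈ Irr P, Y ≤ cker φ ∧ ¬ X ≤ cker φ
  · obtain ⟨φ, a, b, c⟩ := e
    refine ⟨dd H φ, fun ψ a' b' c' => ?_⟩
    obtain ⟨d1, d2⟩ := l.2 φ a b c
    obtain ⟨e1, e2⟩ := l.2 ψ a' b' c'
    have k : H20.inertia H ψ = H20.inertia H φ := by
      ext g
      exact and_congr_right fun hg => (e2 g hg).trans (d2 g hg).symm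
    have k2 : deg ψ = deg φ := Nat.pow_left_injective two_ne_zero (e1.trans d1.symm)
    rw [dd, dd, k, k2]
  · exact ⟨0, fun ψ a b c => (e ⟨ψ, a, b, c⟩).elim⟩

theorem inv1 [Y.Normal] (l : Lev P H X Y) (hX : X ≤ g2 P) (hY : Y ≤ P) {T : Subgroup G} (hT : T ≤ H)
    {a : G} (ha : a ∈ X) (h1 : a ∉ Y) (h2 : a ∈ C(T)) :
    ∃ ψ ∈ Irr P, deg ψ ≠ 1 ∧ T ≤ H20.inertia H ψ := by
  have : ∃ ψ ∈ Irr P, Y ≤ cker ψ ∧ a ∉ cker ψ := by
    by_contra! e
    exact h1 (mem_of_forall_cker (normalIn_top.of_le hY le_top) (der_le P (hX ha)) e)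
  obtain ⟨ψ, b1, b2, b3⟩ := this
  refine ⟨ψ, b1, fun e => b3 ((lin_of_deg (irr_chr b1) e).der_le (hX ha)), fun c hc => ⟨hT hc, ?_⟩⟩
  refine ((l.2 ψ b1 b2 fun e => b3 (e ha)).2 c (hT hc)).2 ((l.1 c (hT hc)).resolve_right fun e => h1 ?_)
  refine e a ha ?_
  rw [h2 c hc]
  simp

theorem idx [P.Normal] (h : PC P H p) (hJ : ⁅P ⊓ C(H), P⁆ ≤ g3 P) :
    (g3 P).relIndex (g2 P) < (V1 P H).relIndex P := by
  obtain ⟨x, hx, x1⟩ := SetLike.not_le_iff_exists.1 h.nV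
  have q : ∀ y ∈ P, ∀ w ∈ g2 P, (QuotientGroup.mk' (g3 P)) (y * w * y⁻¹) = QuotientGroup.mk' (g3 P) w :=
    fun y hy w hw => by
      refine (QuotientGroup.eq.2 ?_).symm
      have := commutator_mem_commutator (inv_mem hw) hy
      simpa [commutatorElement_def, mul_assoc] using this
  let f : P →* G ⧸ g3 P := MonoidHom.mk' (fun y => QuotientGroup.mk' (g3 P) ⁅(y : G), x⁆) fun y z => by
    have e1 := q y y.2 _ (commutator_mem_commutator z.2 hx)
    have e2 := q _ (der_le P (commutator_mem_commutator y.2 hx)) _ (commutator_mem_commutator z.2 hx)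
    have e3 : ⁅((y * z : P) : G), x⁆ = y * ⁅(z : G), x⁆ * (y : G)⁻¹ * ⁅(y : G), x⁆ := by
      simp only [coe_mul, commutatorElement_def]; group
    rw [map_mul, map_mul, map_inv, mul_inv_eq_iff_eq_mul] at e2
    rw [e3, map_mul, e1]
    exact e2.symm
  have r : (g2 P).map (QuotientGroup.mk' (g3 P)) ≤ f.range := by
    rintro _ ⟨w, hw, rfl⟩
    obtain ⟨g, g1, g2⟩ := h.cam x hx x1 w hw
    refine ⟨⟨g, g1⟩, ?_⟩
    change QuotientGroup.mk' (g3 P) ⁅g, x⁆ = _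
    rw [commutatorElement_def, g2, mul_inv_cancel_right]
  have k : (V1 P H).subgroupOf P < f.ker := by
    refine lt_of_le_of_ne (fun y hy => ?_) fun e => x1 ?_
    · have : V1 P H ≤ (f.ker.map P.subtype) := sup_le (fun w hw => ⟨⟨w, der_le P hw⟩,
        (QuotientGroup.eq_one_iff _).2 (commutator_mem_commutator hw hx), rfl⟩) fun w hw => ⟨⟨w, hw.1⟩,
          (QuotientGroup.eq_one_iff _).2 (hJ (commutator_mem_commutator hw hx)), rfl⟩
      obtain ⟨z, z1, z2⟩ := this hy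
      rwa [← Subtype.ext z2]
    · have : (⟨x, hx⟩ : P) ∈ f.ker := by
        change QuotientGroup.mk' (g3 P) ⁅x, x⁆ = 1
        simp
      rw [← e] at this
      exact this
  calc (g3 P).relIndex (g2 P) = #((g2 P).map (QuotientGroup.mk' (g3 P))) := card_map_q.symm
    _ ≤ #f.range := card_le_of_le r
    _ = f.ker.index := (index_ker f).symm
    _ < _ := index_strictAnti k

theorem out' (h : PC P H p) (c3 : g4 P = ⊥) (hJ : ⁅P ⊓ C(H), P⁆ ≤ g4 P) (l2 : Lev P H (g2 P) (g3 P))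
    (l3 : Lev P H (g3 P) (g4 P)) : Out P H := by
  have := h.nP
  have a32 : g3 P ≤ g2 P := commutator_mono (der_le P) le_rfl
  have nl : ∀ ψ ∈ Irr P, deg ψ ≠ 1 → ¬ g2 P ≤ cker ψ := fun ψ a b e => b ((der_le_cker a).1 e)
  have hc : P ⊓ C(H) ≤ C(P) := commutator_eq_bot_iff_le_centralizer.1 (le_bot_iff.1 (c3 ▸ hJ))
  refine ⟨c3, ?_, fun ψ a b S hS _ => ?_, fun _ => hc, fun T hT e => ?_⟩
  · obtain ⟨m1, a1⟩ := one l2
    obtain ⟨m2, a2⟩ := one l3
    refine ⟨m1, m2, fun ψ a b => ?_⟩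
    by_cases e : g3 P ≤ cker ψ
    · exact .inl (a1 ψ a e (nl ψ a b))
    · exact .inr (a2 ψ a (c3 ▸ bot_le) e)
  · refine lt_of_lt_of_le ?_ (relIndex_le_of_le_left hS FiniteIndex.index_ne_zero)
    have d := dn a
    by_cases e : g3 P ≤ cker ψ
    · rw [← (l2.2 ψ a e (nl ψ a b)).1]
      nlinarith [Nat.pos_of_ne_zero d, lt_of_le_of_ne (Nat.pos_of_ne_zero d) b.symm]
    · have e1 := (l3.2 ψ a (c3 ▸ bot_le) e).1
      have hn : (P ⊓ C(H)).Normal := by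
        have t : (⊤ : Subgroup G) ≤ C(P ⊓ C(H)) :=
          h.sup ▸ sup_le (cents_symm hc) (cents_symm inf_le_right)
        exact ⟨fun n hn g => by rw [← t (mem_top g) n hn]; simpa using hn⟩
      have e2 : (g3 P ⊔ (P ⊓ C(H))).relIndex (V1 P H) ≤ (g3 P).relIndex (g2 P) := by
        have : V1 P H = (g3 P ⊔ (P ⊓ C(H))) ⊔ g2 P := by
          rw [sup_comm _ (g2 P), ← sup_assoc, sup_eq_left.2 a32]
        rw [this, relIndex_sup_left]
        exact relIndex_le_of_le_left le_sup_left FiniteIndex.index_ne_zero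
      have e3 := idx h (hJ.trans (c3 ▸ bot_le))
      rw [← relIndex_mul_relIndex _ (V1 P H) P (sup_le_sup_right a32 _)
        (sup_le (der_le P) inf_le_left)] at e1
      nlinarith
  · obtain ⟨a, ha, a1⟩ := (Subgroup.ne_bot_iff_exists_ne_one.1 e).imp fun a h => And.intro a.2 h
    by_cases b : (a : G) ∈ g3 P
    · exact inv1 l3 a32 (c3 ▸ bot_le) hT b (by rw [c3, mem_bot]; exact fun e => a1 (Subtype.ext e)) ha.2
    · exact inv1 l2 le_rfl (a32.trans (der_le P)) hT ha.1 b ha.2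

theorem w1 (ra : RA.{u}) (fp : FP.{u}) (ji : JI.{u}) (lv : LV.{u}) (so : SO.{u}) (c4 : C4.{u}) :
    W1.{u} := by
  intro G _ _ P H p h h0
  have c3' := H29.ND.c3 ra fp ji lv so c4 h h0
  have := h.nP
  have a2 : g2 P ≤ P := commutator_le_left _ _
  have a3 : g3 P ≤ g2 P := commutator_le_left _ _
  have a4 : g4 P ≤ g3 P := commutator_le_left _ _
  have aJ : P ⊓ C(H) ≤ P := inf_le_left
  have j3 := ji h a3 le_rfl le_rfl (commutator_mono aJ le_rfl) h0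
  have l2 := lv h a3 le_rfl le_rfl j3 fun x h1 h2 y h3 =>
    (h.cam x h1 h2 y h3).imp fun g hg => ⟨hg.1, by rw [hg.2, mul_inv_cancel]; exact one_mem _⟩
  have d2 := l2.1
  have b22 : ⁅g2 P, g2 P⁆ ≤ g4 P :=
    H1.three_subgroups (by rw [commutator_comm P]) le_rfl
  have b2J : ⁅g2 P, P ⊓ C(H)⁆ ≤ g4 P :=
    H1.three_subgroups (by rw [commutator_comm P]; exact commutator_mono j3 le_rfl)
      (commutator_mono j3 le_rfl)
  have f2 : ∀ c ∈ H, c ∉ C(P) → Ce (g3 P) (g2 P) c → Fpf (g3 P) (g4 P) c := fun c h1 h2 h3 =>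
    fp h a2 (by
      rw [commutator_comm (g2 P) (V1 P H)]
      exact commg_sup_left_le b22 (by rwa [commutator_comm]) nr nr) h1 h2 h3
  obtain ⟨c, c1, c2, c3⟩ := ra h a3 le_rfl le_rfl
  have j4 := ji h a4 a3 le_rfl j3 (H29.ND.fx c1 (f2 c c1 c2 c3))
  have s2 := so h a4 a3 le_rfl b22 le_rfl le_rfl d2 f2
  have l3 := lv h a4 a3 le_rfl j4 fun x h1 h2 y h3 => by
    by_cases e : x ∈ V1 P H
    · obtain ⟨w, w1, a, a1, rfl⟩ := mem_sup_of_normal_left.1 e
      obtain ⟨g, g1, g2⟩ := s2 w w1 (fun e => h2 (mul_mem_sup e a1)) y h3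
      refine ⟨g, g1, ?_⟩
      have k : ⁅g, a⁆ ∈ g4 P := j4 (commutator_comm P _ ▸ commutator_mem_commutator g1 a1)
      have := mul_mem (Normal.conj_mem inferInstance _ k (g * w * g⁻¹)) g2
      convert this using 1
      simp only [commutatorElement_def]; group
    · exact (h.cam x h1 e y (a3 h3)).imp fun g hg =>
        ⟨hg.1, by rw [hg.2, mul_inv_cancel]; exact one_mem _⟩
  exact out' h c3' j4 l2 l3

end H25.NW
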