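/-
Centralizer `2^{1+4}_-.S₄`, part 0: a concrete model of the four possible centralizers.
-/
import Cfsg.Agent.H25.SR0

set_option autoImplicit false
set_option linter.unusedSectionVars false

namespace H25.AG

universe u

def ev {X : Type u} [Group X] (g : ℕ → X) : List ℕ → X
  | [] => 1
  | a :: w => g a * ev g w
def pre : List ℕ → List ℕ → Option (List ℕ)
  | [], w => some w
  | _ :: _, [] => none
  | a :: l, b :: w => if a = b then pre l w else none
abbrev Rl := List ℕ × ℕ × List ℕ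
def tryR : List Rl → List ℕ → Option (ℕ × List ℕ)
  | [], _ => none
  | r :: R, w => match pre r.1 w with
    | some v => some (r.2.1, r.2.2 ++ v)
    | none => tryR R w
def step (R : List Rl) : List ℕ → Option (ℕ × List ℕ)
  | [] => none
  | a :: w => match tryR R (a :: w) with
    | some x => some x
    | none => (step R w).map fun x => (x.1, a :: x.2)
def nf (R : List Rl) : ℕ → ℕ × List ℕ → ℕ × List ℕ
  | 0, x => x
  | n + 1, x => match step R x.2 with
    | none => x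
    | some v => nf R n (x.1 + v.1, v.2)

section
variable {X : Type u} [Group X] {g : ℕ → X} {t : X} {R : List Rl}

theorem ev_app (v w : List ℕ) : ev g (v ++ w) = ev g v * ev g w := by
  induction v with
  | nil => simp [ev]
  | cons a v ih => simp [ev, ih, mul_assoc]

theorem pre_eq : ∀ {l w v : List ℕ}, pre l w = some v → w = l ++ v
  | [], _, _, h => Option.some.inj h
  | _ :: _, [], _, h => by simp [pre] at h
  | a :: l, b :: w, v, h => by
    unfold pre at h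
    split_ifs at h with e
    rw [e, pre_eq h, List.cons_append]

def Ok (g : ℕ → X) (t : X) (R : List Rl) : Prop := ∀ r ∈ R, ev g r.1 = t ^ r.2.1 * ev g r.2.2

theorem tryR_ok {w : List ℕ} {x : ℕ × List ℕ} : ∀ {R : List Rl}, Ok g t R → tryR R w = some x →
    ev g w = t ^ x.1 * ev g x.2
  | [], _, h => by simp [tryR] at h
  | r :: R, k, h => by
    unfold tryR at h
    split at h
    · rename_i v e
      rw [← Option.some.inj h, pre_eq e, ev_app, ev_app, k r (by simp), mul_assoc]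
    · exact tryR_ok (fun r hr => k r (by simp [hr])) h

theorem step_ok (c : ∀ x, x * t = t * x) (k : Ok g t R) : ∀ {w : List ℕ} {x : ℕ × List ℕ}, step R w = some x →
    ev g w = t ^ x.1 * ev g x.2
  | [], _, h => by simp [step] at h
  | a :: w, x, h => by
    unfold step at h
    split at h
    · rename_i v e
      exact Option.some.inj h ▸ tryR_ok k e
    · obtain ⟨v, e, rfl⟩ := Option.map_eq_some_iff.1 h
      rw [ev, ev, step_ok c k e, ← mul_assoc, ← mul_assoc, (Commute.pow_right (c _) _).eq]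

theorem nf_ok (c : ∀ x, x * t = t * x) (k : Ok g t R) : ∀ (n : ℕ) (x : ℕ × List ℕ),
    t ^ x.1 * ev g x.2 = t ^ (nf R n x).1 * ev g (nf R n x).2
  | 0, _ => rfl
  | n + 1, x => by
    unfold nf
    split
    · rfl
    · rename_i v e
      rw [← nf_ok c k n, step_ok c k e, pow_add, mul_assoc]

end

def RY : List Rl := [([0, 0], 0, []), ([1, 1], 0, []), ([2, 2], 0, []), ([3, 3], 0, []), ([1, 0], 1, [0, 1]),
  ([2, 0], 1, [0, 2]), ([2, 1], 1, [1, 2]), ([3, 0], 1, [0, 3]), ([3, 1], 1, [1, 3]), ([3, 2], 1, [2, 3])]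
def RA : List Rl := [([4, 0], 1, [1, 4]), ([4, 1], 1, [0, 4]), ([4, 2], 1, [2, 4]), ([4, 3], 1, [3, 4]),
  ([5, 0], 1, [0, 5]), ([5, 1], 1, [2, 5]), ([5, 2], 1, [1, 5]), ([5, 3], 1, [3, 5]),
  ([6, 0], 1, [0, 6]), ([6, 1], 1, [1, 6]), ([6, 2], 1, [3, 6]), ([6, 3], 1, [2, 6])]
def RS (p : ℕ) : List Rl := [([4, 4], p, []), ([5, 5], p, []), ([6, 6], p, []), ([5, 4, 5], 0, [4, 5, 4]),
  ([6, 5, 6], 0, [5, 6, 5]), ([6, 4], p / 2, [4, 6]), ([6, 5, 4, 6], p / 2, [5, 6, 5, 4])]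
def yw (e : ℕ) : List ℕ := [0, 1, 2, 3].filter e.testBit
def sw (s : ℕ) : List ℕ := [[], [4], [5], [6], [4, 5], [4, 6], [5, 4], [5, 6], [6, 5], [4, 5, 4], [4, 5, 6],
  [4, 6, 5], [5, 4, 6], [5, 6, 5], [6, 5, 4], [4, 5, 4, 6], [4, 5, 6, 5], [4, 6, 5, 4], [5, 4, 6, 5], [5, 6, 5, 4],
  [4, 5, 4, 6, 5], [4, 5, 6, 5, 4], [5, 4, 6, 5, 4], [4, 5, 4, 6, 5, 4]].getD s []

def tE : ℕ := nat_lit 0x462214e64a14b6b1cf84672a56f6ce35bef3df08043290c74256a635ee8c253ad2d7c677ae77fe10c2031ca45a9097b98d94e30b5eb4deb19ffb9d188013988552d2873dac9ca11bda95d6f38f7fbc290e608062635cf4254bad2f68c272e77dfc675b214c7004436b1ee4a16aa56d784653ef3fece37a398a41882073d8d52d09bdab49ca30f7f9dd6f1931c8510c017b9ac5a928b5e9594e11ffbbcdeb384254b6b1ee08062214c7c675bef3fe8c272a56d74a16a635cf00443290e6ce37ae77df84653ad2f652d097b9ac1882031c85d6f19ffbbc9ca30b5e955a92873d8d10c01398a4deb38f7f9d94e11bdab46b1cf4256a214e608043ef3dfc677aa56f68c253635ee4a14b290c700462e77fece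35bad2d7846727b98d52d2831ca418801ffb9dd6f38b5eb49ca1173dac5a9093988510c20f7fbcdeb19bda9594e308c272a56d7ce37ae77df08062214c74a16a635cf84653ad2f6c675bef3fe00443290e64254b6b1ee9ca30b5e95deb38f7f9d1882031c855a92873d8d94e11bdab4d6f19ffbbc10c01398a452d097b9aca56f68c253e77fece35b214e608043635ee4a14bad2d784672ef3dfc677a290c7004626b1cf4256ab5eb49ca11f7fbcdeb1931ca41880173dac5a909bda9594e30ffb9dd6f383988510c207b98d52d28ce35bef3df8c253ad2d74a14b6b1cf08043290c7c677ae77fe84672a56f64256a635ee00462214e6deb19ffb9d9ca11bda955a9097b98d1880139885d6f38f7fbc94e30b5eb452d2873dac10c2031ca4e77dfc675ba56d784653635cf4254b214c700443ef3fece37aad2f68c2726b1ee4a16a290e608062f7f9dd6f19b5e9594e1173d8d52d0931c8510c01ffbbcdeb38bdab49ca307b9ac5a928398a418820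
def tA : ℕ := nat_lit 0xff9cfb5cc7d6d4b94c62e758da54a4c65288c020f7dcfb5ce6ef18da5485de94b94c43c650984420f7dcfde94bbd8c794c43e75acc6509a548584420f7ef67b8c7d6e5352c43e769563485ce21142420ff9cfe758dbd8e6a54a4de96ac652894c628c020ffaf67b8e6ef295634a4dea5352c62ce2304a020ff9cfde96aef1acc6528b5cc794c62a54a48c020ffb5b7b94bbda5331c62e77196b128ad23029020ffaf6dea5373cc752c62e76b4ce230634a44a020f7dcfe75acd6d6ac6509b5ce6a548594c4384420f7fbc7b98dbda9539885deb195a9099ca1110c20f7ef6e769573ce663485dea72ce21152c4342420f7f5b7b96aef3196b109b5e5331c43ad21121420f7f5bb5e5373d4b31c43e7738ad2116b10921420f7ef6dea72ef2b4ce2117b8c752c436348542420ffbbc7b9acd6f195a928b5e95398a49ca3018820ffbbcb5e9573d8d398a4deb389ca305a92818820ffaf6e76b4d6e72ce2307b8e6634a452c624a020ffb5be771973d6a6b128b5e72ad23031c6229020ffb5bb5e72ef338ad2307b94b31c626b12829020f7fbcdeb1973dac5a909b5eb49ca113988510c20f7fbcb5eb4d6f389ca117b98d398855a90910c20f7f5be7738bda72ad2117b96a6b10931c4321420ffbbcdeb38bdab49ca307b9ac5a928398a418820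
def tP : ℕ := nat_lit 0xc41414e6235cb625538c24fb56970948058d4914228798f57368cbce5611c066b0614a272291eeb516a8de1518105105ae59cc49c60c4aad593ef42282983ca032eb418991bc907759b3285632021142922ab9af31ef3a32d23312291de4052cd504779a205ab971389ac0191390c2975a8523e375aab04346e3cc05889960aea695c904d14f4bcc4a29820caf0380b6aada39c50e5120f0a575a14068de43131d641e6d5c0b155423711f702269a584d348ec61a4748a966bc80bcd0a08eae8162b6a0f31b84cb00b134ae15d534241ea74e28b36ab1de478141460941798897a68a3125783041b55670167168dc882d552c48fb846e4d2c044cd2135878d5cbbc2682da8a68c32790e062446951967dcc79a555135c4844080ac659bacd8a2f23d563a3050281e650524a49f76592aa98f3242226b82b020a3ac6f072ed454d0593c8d18589380c2b5e72ad1cd6460f41ccb5246229001bdab49ca307b9ac5a928398a418820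
def tC : ℕ := nat_lit 0xeecc4205a56a327e86b6224ccc0f065d4b64fbd4ea43b41cc244a827662ebc781c3c3528a2876471ca9a9aaaa65711348e069a461862c3f92829249470771adcb2c4b38e320000009eb24c9eb24c9eb24c75d2709eb24c75d2709eb24c75d2709b1e329eb24c75d2709b1e3275d2709b1e3200000075d2709b1e320000009b1e320000009b1e32000000000000000000707e0e9b1726accccac3f03c52bd4a2899146566a636666c595a9ab9d462c9aa6ca72b1ad75514ead4a89aaaa622c3441518a846186258e71a292494eb6928dcb2c4b38e32000000000000000000000000000000000000000000000000000000000000000000000000000000000000000000000000000000000000000000000000000000000000000000000000000000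
def tI : ℕ := nat_lit 0xbd2b6849f38a9ab63927410a618820

def lk (t n m : ℕ) : ℕ := Nat.mod (Nat.shiftRight t n) m
def vA (s j : ℕ) : ℕ := lk tA (Nat.mul (nat_lit 5) (Nat.add (Nat.mul (nat_lit 32) s) j)) (nat_lit 32)
def vE (i v : ℕ) : ℕ := lk tE (Nat.mul (nat_lit 5) (Nat.add (Nat.mul (nat_lit 32) i) v)) (nat_lit 32)
def vC (p n : ℕ) : ℕ := lk tC (Nat.add (Nat.mul (nat_lit 576) p) n) (nat_lit 2)
def vP (n : ℕ) : ℕ := Nat.mod (lk tP (Nat.mul (nat_lit 5) n) (nat_lit 32)) (nat_lit 24)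
def m3 (p u n : ℕ) : ℕ := Nat.add (Nat.xor u (vC p n)) (Nat.mul (nat_lit 32) (vP n))
def m2 (p i j s : ℕ) : ℕ := m3 p (vE (Nat.mod i (nat_lit 32)) (vA s (Nat.mod j (nat_lit 32))))
  (Nat.add (Nat.mul (nat_lit 24) s) (Nat.div j (nat_lit 32)))
def mN (p i j : ℕ) : ℕ := m2 p i j (Nat.div i (nat_lit 32))
def jN (i : ℕ) : ℕ := 2 * (vA (tI >>> (5 * (i / 32)) % 32) (i % 32) / 2) + 32 * (tI >>> (5 * (i / 32)) % 32)

theorem cE : ∀ e < 32, ∀ f < 32, ((nf RY 40 (0, yw (e / 2) ++ yw (f / 2))).1 + e + f) % 2 = vE e f % 2 ∧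
    (nf RY 40 (0, yw (e / 2) ++ yw (f / 2))).2 = yw (vE e f / 2) := by decide +kernel
theorem cA : ∀ s < 24, ∀ f < 32, ((nf (RA ++ RY) 40 (0, sw s ++ yw (f / 2))).1 + f) % 2 = vA s f % 2 ∧
    (nf (RA ++ RY) 40 (0, sw s ++ yw (f / 2))).2 = yw (vA s f / 2) ++ sw s := by decide +kernel
theorem cC : ∀ p < 4, ∀ s < 24, ∀ s' < 24, (nf (RS p) 40 (0, sw s ++ sw s')).1 % 2 = vC p (24 * s + s') % 2 ∧
    (nf (RS p) 40 (0, sw s ++ sw s')).2 = sw (vP (24 * s + s')) := by decide +kernel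
theorem cX : ∀ u < 32, ∀ c < 2, Nat.xor u c / 2 = u / 2 ∧ Nat.xor u c % 2 = (u + c) % 2 := by decide

def ph {X : Type u} [Group X] (g : ℕ → X) (t : X) (i : ℕ) : X := t ^ i * (ev g (yw (i % 32 / 2)) * ev g (sw (i / 32)))

theorem ph_mul {X : Type u} [Group X] {g : ℕ → X} {t : X} {p i j : ℕ} (c : ∀ x, x * t = t * x) (tt : t * t = 1)
    (k1 : Ok g t RY) (k2 : Ok g t RA) (k3 : Ok g t (RS p)) (hp : p < 4) (hi : i < 768) (hj : j < 768) :
    ph g t (mN p i j) = ph g t i * ph g t j := by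
  have tp : ∀ {a b : ℕ}, a % 2 = b % 2 → t ^ a = t ^ b := fun e => by
    rw [pow_eq_pow_mod _ ((sq t).trans tt), e, ← pow_eq_pow_mod _ ((sq t).trans tt)]
  have cp : ∀ (n : ℕ) x y, x * (t ^ n * y) = t ^ n * (x * y) := fun n x y => by
    rw [← mul_assoc, (Commute.pow_right (c _) _).eq, mul_assoc]
  have k : ∀ {R : List Rl} {v w u : List ℕ}, Ok g t R → (nf R 40 (0, v ++ w)).2 = u →
      ∀ x, ev g v * (ev g w * x) = t ^ (nf R 40 (0, v ++ w)).1 * (ev g u * x) := fun {R v w u} k e x => by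
    have := nf_ok c k 40 (0, v ++ w)
    rw [pow_zero, one_mul, ev_app, e] at this
    rw [← mul_assoc, this, mul_assoc]
  obtain ⟨v, ev'⟩ : ∃ v, v = vA (i / 32) (j % 32) := ⟨_, rfl⟩
  obtain ⟨n, en⟩ : ∃ n, n = 24 * (i / 32) + j / 32 := ⟨_, rfl⟩
  have em : mN p i j = Nat.xor (vE (i % 32) v) (vC p n) + 32 * vP n := by rw [ev', en]; rfl
  have b1 : v < 32 := ev' ▸ Nat.mod_lt _ (by decide)
  have b2 : vP n < 24 := Nat.mod_lt _ (by decide)
  have b3 : vE (i % 32) v < 32 := Nat.mod_lt _ (by decide)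
  obtain ⟨a1, h1⟩ := cA (i / 32) (by omega) (j % 32) (by omega)
  obtain ⟨a2, h2⟩ := cE (i % 32) (by omega) v b1
  obtain ⟨a3, h3⟩ := cC p hp (i / 32) (by omega) (j / 32) (by omega)
  obtain ⟨a4, a5⟩ := cX _ b3 (vC p n) (Nat.mod_lt _ (by decide))
  rw [← ev'] at a1 h1
  rw [← en] at a3 h3
  replace h1 := k (fun r hr => (List.mem_append.1 hr).elim (k2 r) (k1 r)) h1
  replace h2 := k k1 h2
  replace h3 := k k3 h3 1
  have e1 : mN p i j % 32 / 2 = vE (i % 32) v / 2 := by omega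
  have e2 : mN p i j / 32 = vP n := by omega
  simp only [ph, e1, e2, mul_assoc, mul_one, ev_app] at h1 h3 ⊢
  rw [cp j (ev g (sw _)), cp j (ev g (yw _)), h1, cp _ (ev g (yw _)), h2, h3, cp _ (ev g (yw _))]
  simp only [← mul_assoc, ← pow_add]
  congr 2
  exact tp (by omega)

/-- the model -/
def K (_ : Fin 4) : Type := Fin 768
variable {p : Fin 4}
def k (n : ℕ) : K p := ⟨Nat.mod n (nat_lit 768), Nat.mod_lt _ (by decide)⟩
instance : Mul (K p) := ⟨fun i j => k (mN p i.1 j.1)⟩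
instance : One (K p) := ⟨k 0⟩
instance : Inv (K p) := ⟨fun i => k (jN i.1 + mN p i.1 (jN i.1))⟩
instance : DecidableEq (K p) := instDecidableEqFin 768
def allN (f : ℕ → Bool) (n : ℕ) : Bool := Nat.rec true (fun m r => f m && r) n
theorem allN_iff {f : ℕ → Bool} : ∀ {n : ℕ}, allN f n = true ↔ ∀ m < n, f m = true
  | 0 => by simp [allN]
  | n + 1 => by
    rw [Nat.forall_lt_succ_right, ← allN_iff, and_comm, ← Bool.and_eq_true]; rfl
theorem k_val (i : K p) : k i.1 = i := Fin.ext (Nat.mod_eq_of_lt i.2)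
instance (priority := low) (P : K p → Prop) [DecidablePred P] : Decidable (∀ i, P i) :=
  decidable_of_iff (allN (fun n => decide (P (k n))) 768 = true)
    (allN_iff.trans ⟨fun h i => k_val i ▸ of_decide_eq_true (h i.1 i.2), fun h _ _ => decide_eq_true (h _)⟩)
instance (priority := low) (P : K p → Prop) [DecidablePred P] : Decidable (∃ i, P i) :=
  decidable_of_iff (¬ ∀ i, ¬ P i) (by simp)
def cnt (P : K p → Prop) [DecidablePred P] : ℕ := Nat.rec 0 (fun m r => if P (k m) then r + 1 else r) 768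

theorem f_inv : ∀ p, ∀ i : K p, i * i⁻¹ = 1 := by decide +kernel

abbrev pU (i : K p) : Prop := i.1 / 2 = 0 ∨ i.1 / 2 = 15
abbrev pE (i : K p) : Prop := lk (nat_lit 0xc33c3cc3) (Nat.mod i.1 (nat_lit 32)) (nat_lit 2) = nat_lit 1
abbrev pQ (i : K p) : Prop := lk (nat_lit 0x840021) (Nat.div i.1 (nat_lit 32)) (nat_lit 2) = nat_lit 1
abbrev pS (i : K p) : Prop := lk (nat_lit 0xd4002b) (Nat.div i.1 (nat_lit 32)) (nat_lit 2) = nat_lit 1
abbrev pT (i : K p) : Prop := pQ i ∧ pE i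

abbrev pM (i : K p) : Prop := i * k 30 = k 30 * i
abbrev co (i j : K p) : K p := i * j * i⁻¹ * j⁻¹

theorem cnt_eq (P : K p → Prop) [DecidablePred P] : cnt P = {i | P i}.ncard := by
  have : ∀ n, Nat.rec 0 (fun m r => if P (k m) then r + 1 else r) n = Nat.count (fun m => P (k m)) n := fun n => by
    induction n with
    | zero => rfl
    | succ n ih => rw [Nat.count_succ, ← ih]; dsimp only; split_ifs <;> rfl
  rw [cnt, this, Nat.count_eq_card_fintype, Fintype.card_eq_nat_card, ← Nat.card_coe_set_eq]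
  exact Nat.card_congr ⟨fun m => ⟨k m.1, m.2.2⟩, fun i => ⟨i.1.1, i.1.2, (k_val i.1).symm ▸ i.2⟩,
    fun m => Subtype.ext (Nat.mod_eq_of_lt m.2.1), fun i => Subtype.ext (k_val i.1)⟩

/-- descent along the elements of a list -/
abbrev Ds (P : K p → Prop) (l : List (K p)) : Prop := ∀ i, P i → i = 1 ∨ ∃ g ∈ l, P (i * g) ∧ (i * g).1 < i.1
abbrev Gn (P : K p → Prop) (l : List (K p)) : Prop := P 1 ∧ Ds P l ∧ ∀ i, P i → ∀ g ∈ l, P (i * g) ∧ P (i * g⁻¹)

def lT : List (K p) := [k 576, k 160, k 18, k 10, k 6, k 1]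
theorem g_U : ∀ p, Gn pU [(k 30 : K p), k 1] := by decide +kernel
theorem g_T : ∀ p, Gn pT (lT : List (K p)) := by decide +kernel
theorem g_Q : ∀ p, Gn pQ (lT ++ [(k 2 : K p)]) := by decide +kernel
theorem g_S : ∀ p, Gn pS (lT ++ [(k 2 : K p), k 32]) := by decide +kernel
theorem g_H : ∀ p, Ds (fun _ => True) ([k 32, k 64, k 96, (k 2 : K p)] ++ lT) := by decide +kernel
theorem g_E : ∀ p, Ds pE ([k 32, k 64, (k 96 : K p)] ++ lT) := by decide +kernel
theorem g_M : ∀ p, Ds pM ([k 40, k 66, (k 98 : K p)] ++ lT) := by decide +kernel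
theorem g_r : ∀ p, Ds pT [co (k 736) (k 128 * k 128), co (k 576) (k 128 * k 128),
    co (k 160) (k 128 * k 128) * co (k 166) (k 128 * k 128), co (k 12) (k 128 * k 128), co (k 10) (k 128 * k 128),
    (k 1 : K p)] := by decide +kernel

end H25.AG
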