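/-
Centralizer `2^{1+4}_-.S₄`, part 5: identification.
-/
import Cfsg.Agent.H25.AG3
import Cfsg.Agent.H25.AG4
import Cfsg.Agent.H19.GG6
import Cfsg.Agent.H10.ZStar3
import Cfsg.Agent.H0.ES3
import Cfsg.Agent.H5.Burnside

set_option autoImplicit false
set_option linter.unusedSectionVars false

namespace H25.AG
open Cfsg Subgroup H17.GS H19.GG H18
open H19 hiding eq_bot_mono
open scoped MatrixGroups

universe u
variable {G : Type u} [Group G] [Finite G] {p : Fin 4} {Φ : K p → G} {P P' : K p → Prop} {l : List (K p)}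
  {i j : K p} {g n r r' u v w x : G} {A B L R : Subgroup G}

set_option hygiene false in
local notation:max "⟪" n "⟫" => Φ (k n)
set_option hygiene false in
local notation "𝐋" => pResidual 2 G

theorem tw_sub (w : TW A B) (d : Dv A B ⊥) (a : A ≤ L) (b : B ≤ L) :
    TW (A.subgroupOf L) (B.subgroupOf L) ∧ Dv (A.subgroupOf L) (B.subgroupOf L) ⊥ :=
  ⟨⟨abelem_subgroupOf w.ea, abelem_subgroupOf w.eb, fun _ hg => mem_normalizer_iff.2 fun x =>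
    mem_normalizer_iff.1 (w.na hg) x.1, fun _ hg => mem_normalizer_iff.2 fun x => mem_normalizer_iff.1 (w.nb hg) x.1,
    fun x hx y hy e => w.inv x hx y hy (congrArg Subtype.val e), fun l => w.ab fun x hx => l (x := ⟨x, a hx⟩) hx,
    fun l => w.ba fun x hx => l (x := ⟨x, b hx⟩) hx⟩,
  fun x h1 h2 y h3 h4 e => d.ne x h1 h2 y h3 h4 (congrArg Subtype.val (mem_bot.1 e)),
  fun y h1 h2 z h3 => let ⟨x, h4, e⟩ := d.exA y h1 h2 z h3; ⟨⟨x, a h4⟩, h4, mem_bot.2 (Subtype.ext (mem_bot.1 e))⟩,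
  fun y h1 h2 z h3 => let ⟨x, h4, e⟩ := d.exB y h1 h2 z h3; ⟨⟨x, b h4⟩, h4, mem_bot.2 (Subtype.ext (mem_bot.1 e))⟩⟩

namespace KS
variable (h : KS Φ)
include h

theorem fpf [R.Normal] (a : ⟪1⟫ ∉ R) : R ⊓ C[⟪1⟫] = ⊥ := eq_bot_iff.2 fun _ hx => mem_bot.2 (by_contra fun c =>
  a (h.nz (fun g _ => SR.nrm R g) hx.1 hx.2 c))
theorem le_O [R.Normal] (a : ⟪1⟫ ∉ R) : R ≤ oddCore G := by
  have := SR.modp Nat.prime_two ((pow_two _).trans h.zz) (SR.nrm R _)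
  rw [h.fpf a, card_bot] at this
  exact le_sSup ⟨‹_›, Nat.coprime_two_right.2 (Nat.odd_iff.2 this)⟩
theorem zO : ⟪1⟫ ∉ oddCore G := fun a => (Nat.not_even_iff_odd.2 (Nat.coprime_two_right.1
  (H1.pPrimeCore_coprime (p := 2) (G := G)))) (even_iff_two_dvd.2
    ((H0.orderOf_inv2 h.z1 h.zz).symm.dvd.trans (Subgroup.orderOf_dvd_natCard _ a)))
theorem invO (g : G) (a : x ∈ oddCore G) : g * ⟪1⟫ * g⁻¹ * x * (g * ⟪1⟫ * g⁻¹)⁻¹ = x⁻¹ := by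
  have := H0.inverts_of_fpf (Nat.coprime_two_right.1 (H1.pPrimeCore_coprime (p := 2) (G := G))) h.zz
    (SR.nrm _ _) (h.fpf h.zO) (Normal.conj_mem' inferInstance x a g)
  calc _ = g * (⟪1⟫ * (g⁻¹ * x * g) * ⟪1⟫⁻¹) * g⁻¹ := by group
    _ = _ := by rw [this]; group
theorem abO : IsMulCommutative (oddCore G) := ⟨⟨fun a b => Subtype.ext (inv_injective (by
  rw [coe_mul, coe_mul, ← h.invO 1 (mul_mem a.2 b.2), mul_inv_rev b.1, ← h.invO 1 a.2, ← h.invO 1 b.2]; group))⟩⟩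

theorem O_bot (s : ¬ Group.IsSolvable G) : oddCore G = ⊥ := by_contra fun c => s (by
  have z : ⟪1⟫ ∉ C(oddCore G) := fun a => c (eq_bot_iff.2 fun x hx =>
    (h.fpf h.zO).le ⟨hx, mem_cent1.2 (mem_cent.1 a x hx)⟩)
  have t : C[⟪1⟫] ⊔ oddCore G = ⊤ := eq_top_iff.2 fun g _ => by
    obtain ⟨x, hx, e⟩ := SR.lang (SR.nrm _ _) (h.fpf h.zO) (h.le_O z (show ⟪1⟫ * (g * ⟪1⟫ * g⁻¹)⁻¹ ∈ _ from
      mem_cent.2 fun x hx => by
        have h1 := h.invO 1 (inv_mem hx)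
        rw [inv_inv, ← h.invO g hx, inv_eq_of_mul_eq_one_right (h.ww g)] at h1
        rw [inv_eq_of_mul_eq_one_right (h.ww g)]
        calc _ = (1 * ⟪1⟫ * 1⁻¹ * (g * ⟪1⟫ * g⁻¹ * x * (g * ⟪1⟫ * g⁻¹)) * (1 * ⟪1⟫ * 1⁻¹)⁻¹) * (⟪1⟫ * (g * ⟪1⟫ * g⁻¹)) := by
              rw [h1]
          _ = ⟪1⟫ * (g * ⟪1⟫ * g⁻¹) * x * (g * ⟪1⟫ * g⁻¹ * (g * ⟪1⟫ * g⁻¹)) := by group
          _ = _ := by rw [h.ww, mul_one]))
    rw [← mul_inv_cancel_left x g]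
    refine mul_mem (mem_sup_right hx) (mem_sup_left (mem_cent1.2 ?_))
    calc _ = x⁻¹ * (⟪1⟫ * (g * ⟪1⟫ * g⁻¹)⁻¹)⁻¹ * ⟪1⟫ * g := by group
      _ = _ := by rw [← e]; group
  have d : (oddCore G).index ∣ 768 := by
    rw [← relIndex_top_right, ← t, relIndex_sup_right, ← h.cH]; exact relIndex_dvd_card _ _
  have : Group.IsSolvable (oddCore G) := isSolvable_of_comm h.abO.1.1
  have : Group.IsSolvable (G ⧸ oddCore G) := H5.isSolvable_of_primes_subset_pair Nat.prime_two Nat.prime_three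
    fun r hr a => ((Nat.Prime.dvd_mul hr).1 (a.trans d : r ∣ 2 ^ 8 * 3)).imp
      (fun b => (Nat.prime_dvd_prime_iff_eq hr Nat.prime_two).1 (hr.dvd_of_dvd_pow b))
      (Nat.prime_dvd_prime_iff_eq hr Nat.prime_three).1
  exact solvable_of_ker_le_range (oddCore G).subtype (QuotientGroup.mk' (oddCore G)) (by simp))

theorem LU (s : ¬ Group.IsSolvable G) : ¬ 𝐋 ≤ N(sU Φ) := fun l => s (H5.isSolvable_of_primes_subset_pair
  Nat.prime_two Nat.prime_three fun r hr a => by_contra fun c => by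
    have := Fact.mk hr
    obtain ⟨g, e⟩ := exists_prime_orderOf_dvd_card' r a
    have c2 := (not_or.1 c).1
    have h1 := SR.modp hr (e ▸ pow_orderOf_eq_one g) (l (H3.mem_pResidual
      (e ▸ (Nat.coprime_primes hr Nat.prime_two).2 c2)))
    have h2 := card_le_of_le (inf_le_left : sU Φ ⊓ C[g] ≤ _)
    have h5 := hr.five_le_of_ne_two_of_ne_three c2 (not_or.1 c).2
    rw [h.cU] at h1 h2
    rw [Nat.mod_eq_of_lt (by omega), Nat.mod_eq_of_lt (by omega)] at h1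
    have := orderOf_dvd_natCard _ (mem_cent1_symm.1 ((eq_of_le_of_card_ge inf_le_left (h.cU.trans h1).le).ge h.zU).2)
    rw [e, h.cH] at this
    exact c (((Nat.Prime.dvd_mul hr).1 (show r ∣ 2 ^ 8 * 3 from this)).imp
      (fun b => (Nat.prime_dvd_prime_iff_eq hr Nat.prime_two).1 (hr.dvd_of_dvd_pow b))
      (Nat.prime_dvd_prime_iff_eq hr Nat.prime_three).1))

theorem LT (a : x ∈ 𝐋) (b : x ∈ C[⟪1⟫]) : x ∈ sT Φ ∨ orderOf (x * x * (x * x)) = 3 := by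
  obtain ⟨i, rfl⟩ := h.ex.1 b
  rcases f_syl p i with c | ⟨j, -, c, d⟩ | ⟨c, d⟩
  · exact .inl (h.mT.2 c)
  · exact (d (h.mT.1 (h.ST (h.mS.2 c) (h.cj j i ▸ cL _ a)))).elim
  · refine .inr (orderOf_eq_prime ?_ ?_)
    · simpa only [h.mul, h.one, pow_three'] using congrArg Φ d
    · simpa only [← h.mul, ne_eq, h.one'] using c

theorem plt (s : ¬ Group.IsSolvable G) : p.1 < 2 := (f_b p).resolve_right fun ⟨f1, f2⟩ => h.LU s fun g _ => by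
  obtain ⟨o, ho, c, hc, rfl⟩ := H10.zstar_isolated_decomp (k := 1) ((pow_two _).trans h.zz) (fun g c => by
    have a := mem_cent1.2 c.eq.symm
    have b := (h.LT (cL g h.zL) a).resolve_right (by simp [h.ww])
    obtain ⟨i, e⟩ := h.ex.1 a
    have u := f1 i (h.mT.1 (e ▸ b)) (h.sq1.1 (e ▸ h.ww g))
    have n := inv_mem_iff.1 (h.lemN' (e ▸ h.mU.2 u))
    by_contra d
    refine (f2 i ?_).not_ge (h.nc.ge.trans (Set.ncard_le_ncard_of_injOn (fun x => g * x * g⁻¹) ?_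
      (fun _ _ _ _ e => by simpa using e)) |>.trans h.nc.le)
    · rcases (f_U p i u).1 with rfl | rfl | rfl | rfl
      exacts [(h.w1 g (e.symm.trans h.one)).elim, (d e.symm).elim, by simp, by simp]
    · rintro _ ⟨j, ⟨j1, j2⟩, rfl⟩
      obtain ⟨m, e'⟩ := h.ex.1 (h.sbH (h.nrT n (h.mT.2 j1)))
      exact ⟨m, ⟨h.mT.1 (e' ▸ h.nrT n (h.mT.2 j1)), h.sq.1 (by rw [e', conj_mul, h.sq.2 j2, e])⟩, e'⟩) g
  rw [mem_bot.1 ((h.O_bot s).le ho), one_mul]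
  exact h.nU hc

theorem main (s : ¬ Group.IsSolvable G) :
    ∃ (F : Type) (_ : Field F) (_ : Fintype F), Fintype.card F = 4 ∧ Nonempty (G ≃* MulAut PSL(3, F)) := by
  have p2 := h.plt s
  obtain ⟨A, eA⟩ : ∃ A, A = sT Φ ⊓ C[⟪160⟫] := ⟨_, rfl⟩
  obtain ⟨B, eB⟩ : ∃ B, B = sT Φ ⊓ C[⟪166⟫] := ⟨_, rfl⟩
  have mA : ∀ {i}, Φ i ∈ A ↔ pA i := eA ▸ and_congr h.mT (mem_cent1.trans h.cm)
  have mB : ∀ {i}, Φ i ∈ B ↔ pB i := eB ▸ and_congr h.mT (mem_cent1.trans h.cm)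
  have AT : A ≤ sT Φ := eA ▸ inf_le_left
  have BT : B ≤ sT Φ := eB ▸ inf_le_left
  have xA : ∀ {x}, x ∈ A → ∃ i, pA i ∧ Φ i = x := fun a =>
    let ⟨i, e⟩ := h.ex.1 (h.sbH (AT a)); ⟨i, mA.1 (e ▸ a), e⟩
  have xB : ∀ {x}, x ∈ B → ∃ i, pB i ∧ Φ i = x := fun a =>
    let ⟨i, e⟩ := h.ex.1 (h.sbH (BT a)); ⟨i, mB.1 (e ▸ a), e⟩
  obtain ⟨f1, f2, f3, f4, f5, f6⟩ := f_AB4 p p2
  have AB : A ⊓ B = sU Φ := le_antisymm (h.le_of (inf_le_left.trans (AT.trans h.sbH)) fun i a =>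
    h.mU.2 ((f_AB1 p p2 i (mA.1 a.1).1).2.2.1 ⟨mA.1 a.1, mB.1 a.2⟩)) (h.le_of h.sbH fun i a =>
      let b := (f_AB1 p p2 i (h.mT.1 (h.UT a))).2.2.2 (h.mU.1 a); ⟨mA.2 b.1, mB.2 b.2⟩)
  have iv : ∀ a ∈ A, ∀ b ∈ B, a * b = b * a → a ∈ B ∨ b ∈ A := fun a ha b hb e => by
    obtain ⟨i, a1, rfl⟩ := xA ha
    obtain ⟨j, b1, rfl⟩ := xB hb
    exact ((f_AB2 p p2 i a1 j b1).2.2 (h.cm.1 e)).imp mB.2 mA.2
  have w : TW A B := ⟨abelem_of_sq fun x a => ?_, abelem_of_sq fun x a => ?_, fun x a => ?_, fun x a => ?_, iv,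
    fun l => f6 (mB.1 (l (mA.2 ⟨f4, rfl⟩))).2, fun l => f6 (mA.1 (l (mB.2 ⟨f5, rfl⟩))).2.symm⟩
  rotate_left
  · obtain ⟨i, a1, rfl⟩ := xA a
    exact h.sq1.2 ((f_AB1 p p2 i a1.1).1 a1).1
  · obtain ⟨i, a1, rfl⟩ := xB a
    exact h.sq1.2 ((f_AB1 p p2 i a1.1).2.1 a1).1
  · obtain ⟨i, a1, rfl⟩ := xB a
    exact mem_norm_of_cj_le (h.nrm (AT.trans h.sbH) fun j b => mA.2 (f_AB2 p p2 j (mA.1 b) i a1).1)
  · obtain ⟨i, a1, rfl⟩ := xA a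
    exact mem_norm_of_cj_le (h.nrm (BT.trans h.sbH) fun j b => mB.2 (f_AB2 p p2 i a1 j (mB.1 b)).2.1)
  have d : Dv A B ⊥ := ⟨fun a h1 h2 b h3 h4 e => (iv a h1 b h3 (mul_inv_eq_iff_eq_mul.1
    (mul_inv_eq_one.1 (mem_bot.1 e)))).elim h2 h4, fun b h1 h2 z h3 => ?_, fun a h1 h2 z h3 => ?_⟩
  rotate_left
  · obtain ⟨j, b1, rfl⟩ := xB h1
    obtain ⟨u, -, rfl⟩ := xA h3.1
    obtain ⟨i, a1, e⟩ := (f_AB3 p p2 u (h.mU.1 (AB.le h3))).1 j b1 (mt mA.2 h2)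
    exact ⟨_, mA.2 a1, by simp [← e, h.mul, h.inv]⟩
  · obtain ⟨j, b1, rfl⟩ := xA h1
    obtain ⟨u, -, rfl⟩ := xA h3.1
    obtain ⟨i, a1, e⟩ := (f_AB3 p p2 u (h.mU.1 (AB.le h3))).2 j b1 (mt mB.2 h2)
    exact ⟨_, mB.2 a1, by simp [← e, h.mul, h.inv]⟩
  have sup : A ⊔ B = sT Φ := le_antisymm (sup_le AT BT) ((closure_le _).2 fun _ ⟨t, ht, e⟩ => by
    obtain ⟨i, a, b⟩ := f1 t ht
    have := mem_sup_right (S := A) (mB.2 b)
    rwa [h.mul, mul_mem_cancel_left (mem_sup_left (mA.2 a)), e] at this)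
  have cA : #A = 16 := (h.card_eq (AT.trans h.sbH) fun _ => mA).trans f2
  have cB : #B = 16 := (h.card_eq (BT.trans h.sbH) fun _ => mB).trans f3
  have AL := AT.trans h.TL
  have BL := BT.trans h.TL
  have nL : ⊤ ≤ N(𝐋) := fun g _ => SR.nrm _ g
  have sy : H19.Syl 2 (sT Φ) 𝐋 := by
    have := h.sylS.inf_normal ⟨le_top, nL⟩
    rwa [le_antisymm (fun x (a : x ∈ sS Φ ⊓ 𝐋) => h.ST a.1 a.2) (le_inf h.TS h.TL)] at this
  have sy' := sy.subgroupOf_top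
  rw [← sup, subgroupOf_sup AL BL] at sy'
  have o : O((⊤ : Subgroup 𝐋)) = ⊥ := H1.Oc_top'.trans ((map_eq_bot_iff_of_injective _ (subtype_injective _)).1
    ((pPrimeCore_map_eq Nat.prime_two 𝐋).trans (le_bot_iff.1 ((Oc_le_Oc ⟨le_top, nL⟩).trans
      (H1.Oc_top'.trans (h.O_bot s)).le))))
  obtain ⟨w', d'⟩ := tw_sub w d AL BL
  have ix : ∀ {X : Subgroup G}, A ⊓ B ≤ X → X ≤ 𝐋 → #X = 16 →
      (A.subgroupOf 𝐋 ⊓ B.subgroupOf 𝐋).relIndex (X.subgroupOf 𝐋) = 4 := fun a b c => by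
    have := card_mul_relIndex a
    rw [c, AB, h.cU, ← AB, ← relIndex_subgroupOf b] at this
    exact Nat.eq_of_mul_eq_mul_left (by norm_num) this
  have no : ∀ {X Y : Subgroup G}, X ≤ 𝐋 → H19.cj ⟪2⟫ X ≤ Y → #Y = #X → X ⊓ Y = sU Φ → ¬ ⊤ ≤ N(X.subgroupOf 𝐋) :=
    fun {X Y} a b c e n => h.LU s (by
      have n1 : 𝐋 ≤ N(X) := fun g hg => by
        have := (mem_norm_map (subtype_injective 𝐋)).2 (n (mem_top ⟨g, hg⟩))
        rwa [map_subgroupOf_eq_of_le a] at this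
      rw [← e, ← eq_of_le_of_card_ge b (by rw [H19.card_cj, c])]
      exact norms_inf n1 (cj_norm ⟪2⟫ X ▸ fun g hg => mem_cj.2 (n1 (cL' _ hg))))
  rcases w'.cases sy' with c | c | c | m
  · exact absurd (c.1.symm.trans (ix inf_le_left AL cA)) (by norm_num)
  · exact (no AL (h.nrm (AT.trans h.sbH) fun j a => mB.2 ((f_AB1 p p2 j (mA.1 a).1).1 (mA.1 a)).2) (cB.trans cA.symm) AB
      (w'.normal_of_syl sy' d' (ix inf_le_right BL cB).ge (by rw [card_subgroupOf' AL, cA]; norm_num) o c)).elim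
  · exact (no BL (h.nrm (BT.trans h.sbH) fun j a => mA.2 ((f_AB1 p p2 j (mB.1 a).1).2.1 (mB.1 a)).2) (cA.trans cB.symm)
      (inf_comm A B ▸ AB) (w'.symm.normal_of_syl (sup_comm (A.subgroupOf 𝐋) _ ▸ sy') (d'.symm w')
      (inf_comm (A.subgroupOf 𝐋) _ ▸ (ix inf_le_left AL cA).ge) (by rw [card_subgroupOf' BL, cB]; norm_num) o c)).elim
  obtain ⟨F, _, _, h1, ⟨e⟩⟩ := m.psl d' o rfl
  rw [ix inf_le_left AL cA] at h1
  have c0 := (m.gd' d' o).cent_Kc o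
  have eY : (Kc (A.subgroupOf 𝐋 ⊔ B.subgroupOf 𝐋) ⊤).map (Subgroup.subtype 𝐋) = Kc (sT Φ) 𝐋 := by
    rw [← subgroupOf_sup AL BL, sup, Kc, Subgroup.map_sup, map_commutator, map_subgroupOf_eq_of_le h.TL,
      ← MonoidHom.range_eq_map, range_subtype, Kc]
  replace e := ((equivMapOfInjective _ _ (subtype_injective 𝐋)).trans (MulEquiv.subgroupCongr eY)).symm.trans e
  have TY : sT Φ ≤ Kc (sT Φ) 𝐋 := le_Kc
  have YL : Kc (sT Φ) 𝐋 ≤ 𝐋 := Kc_le h.TL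
  have nY : (Kc (sT Φ) 𝐋).Normal := SR.of_nrm fun g => ((sy.frattini ⟨le_top, nL⟩).ge.trans (sup_le Kc_norm
    (norms_sup (norms_comm (le_top.trans nL) inf_le_right) inf_le_right))) (mem_top g)
  have cY : C(Kc (sT Φ) 𝐋) ≤ ⊥ := (h.le_O (R := C(Kc (sT Φ) 𝐋)) fun a => h.z1 (congrArg Subtype.val (mem_bot.1 (c0 (x := ⟨_, h.zL⟩)
    fun x hx => Subtype.ext (a x (eY.le ⟨x, hx, rfl⟩)))))).trans (h.O_bot s).le
  generalize Kc (sT Φ) 𝐋 = Y at *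
  have YH : C[⟪1⟫] ⊓ Y = sT Φ := le_antisymm (fun x a => (h.LT (YL a.2) a.1).resolve_right fun c => no6 h1
    (e ⟨_, mul_mem (TY (h.UT h.zU)) (mul_mem (mul_mem a.2 a.2) (mul_mem a.2 a.2))⟩) (by
      rw [e.orderOf_eq, ← orderOf_coe, Commute.orderOf_mul_eq_mul_orderOf_of_coprime, c, H0.orderOf_inv2 h.z1 h.zz]
      · exact (mem_cent1.1 (mul_mem (mul_mem a.1 a.1) (mul_mem a.1 a.1))).symm
      · rw [c, H0.orderOf_inv2 h.z1 h.zz]; decide)) (le_inf h.sbH TY)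
  have i1 := card_mul_relIndex (inf_le_right : C[⟪1⟫] ⊓ Y ≤ Y)
  rw [inf_relIndex_right, YH, h.cT, Nat.card_congr e.toEquiv, card_l34 h1] at i1
  have i2 := relIndex_le_of_le_right (H := C[⟪1⟫]) (le_top (a := Y)) (relIndex_top_right C[⟪1⟫] ▸ index_ne_zero_of_finite)
  have i3 := C[⟪1⟫].card_mul_index
  rw [relIndex_top_right] at i2
  rw [h.cH] at i3
  refine ⟨F, _, _, h1, ⟨MulEquiv.ofBijective ((MulAut.congr e).toMonoidHom.comp (MulAut.conjNormal (H := Y)))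
    ((Nat.bijective_iff_injective_and_card _).2 ?_)⟩⟩
  refine (fun a => ⟨a, (Nat.card_le_card_of_injective _ a).antisymm (by rw [card_a34 h1]; omega)⟩)
    ((injective_iff_map_eq_one _).2 fun g hg => cY fun x hx => ?_)
  have : MulAut.conjNormal g = 1 := (MulAut.congr e).map_eq_one_iff.1 hg
  exact (mul_inv_eq_iff_eq_mul.1 (congrArg (fun f : MulAut Y => (f ⟨x, hx⟩ : G)) this)).symm

end KS
end H25.AG
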