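/-
Centralizer `2^{1+4}_-.S₄`, part 7: the centralizer is one of the four models.
-/
import Cfsg.Agent.H25.AG6
import Cfsg.Agent.H25.AG5

set_option autoImplicit false
set_option linter.unusedSectionVars false
set_option synthInstance.maxSize 2000

namespace H25.AG
open Cfsg Subgroup H19 H25.SR
open Equiv (Perm swap)
open scoped commutatorElement

universe u
variable {X : Type u} [Group X] [Finite X] {Q : Subgroup X} {t a b c m m' : X} {y : Fin 5 → X} {w : Fin 4 → X}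
  {σ σ' : Perm (Fin 4)} {n n' : ℕ}

theorem s5_cox : ∀ a : Perm (Fin 5), a * a = 1 → ∀ b, b * b = 1 → a ≠ b → a * b * a = b * a * b → ∀ c, c * c = 1 →
    a ≠ c → b ≠ c → c * a = a * c → b * c * b = c * b * c →
    ∃ i j, a = swap i j ∧ ∃ k, b = swap j k ∧ ∃ l, c = swap k l ∧ Function.Injective ![i, j, k, l] := by
  decide +kernel
theorem v4 : ∀ i j k l : Fin 5, Function.Injective ![i, j, k, l] → ∀ m, (∃ a, ee m (![i, j, k, l] a) ≠ 0) ∧
    ∀ n, m ≠ n → ∃ a, (ee m + ee n) (![i, j, k, l] a) ≠ 0 := by decide +kernel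
theorem sp4 : ∀ s : Fin 4 → ZMod 2, ∃ l ∈ [0, 1, 2, 3].sublists,
    s = (l.map fun (i k : Fin 4) => if k = i then (0 : ZMod 2) else 1).sum := by decide +kernel

theorem mN_lt {p i j : ℕ} : mN p i j < 768 := by
  obtain ⟨u, c, v, e, h1, h2, h3⟩ : ∃ u c v, mN p i j = Nat.xor u c + 32 * v ∧ u < 32 ∧ c < 2 ∧ v < 24 :=
    ⟨_, _, _, rfl, Nat.mod_lt _ (by decide), Nat.mod_lt _ (by decide), Nat.mod_lt _ (by decide)⟩
  have := (cX u h1 c h2).1
  omega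

def Act (t : X) (w : Fin 4 → X) (m : X) (σ : Perm (Fin 4)) (n : ℕ) : Prop := ∀ k, m * w k = t ^ n * (w (σ k) * m)

structure E4 (Q : Subgroup X) (t : X) (w : Fin 4 → X) : Prop where
  tt : t * t = 1
  cen : ∀ g, g * t = t * g
  ww : ∀ i, w i * w i = 1
  nc : ∀ i j, i ≠ j → w i * w j = t * (w j * w i)
  gen : ∀ R : Subgroup X, t ∈ R → (∀ i, w i ∈ R) → Q ≤ R
  cz : ∀ m, (∀ i, m * w i = w i * m) → m = 1 ∨ m = t

namespace E4
variable (h : E4 Q t w)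
include h

theorem cp (n : ℕ) (x y : X) : x * (t ^ n * y) = t ^ n * (x * y) := by
  rw [← mul_assoc, (Commute.pow_right (h.cen _) _).eq, mul_assoc]
theorem mul (h1 : Act t w m σ n) (h2 : Act t w m' σ' n') : Act t w (m * m') (σ * σ') (n' + n) := fun k => by
  rw [mul_assoc, h2, h.cp, ← mul_assoc m, h1, pow_add]; simp [mul_assoc]
theorem tm (h1 : Act t w m σ n) : Act t w (t * m) σ n := fun k => by
  rw [mul_assoc, h1, h.cp, ← mul_assoc t, ← h.cen, mul_assoc]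
theorem eqv (h1 : Act t w m σ n) (h2 : Act t w m' σ' n') (e : σ = σ') (e' : n % 2 = n' % 2) : m = m' ∨ m = t * m' := by
  have : t ^ n = t ^ n' := by rw [pow_eq_pow_mod _ ((sq t).trans h.tt), e', ← pow_eq_pow_mod _ ((sq t).trans h.tt)]
  refine (h.cz (m'⁻¹ * m) fun k => ?_).imp (fun e => (inv_mul_eq_one.1 e).symm) fun e => by
    rw [← h.cen, ← e, mul_inv_cancel_left]
  rw [mul_assoc, h1, this, e, inv_mul_eq_iff_eq_mul, ← mul_assoc m', h2]; simp [mul_assoc]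

theorem core (ha : Act t w a (swap 0 1) 1) (hb : Act t w b (swap 1 2) 1) (hc : Act t w c (swap 2 3) 1)
    (e1 : b * (a * b) = a * (b * a)) (e2 : c * (b * c) = b * (c * b)) : ∃ (p : Fin 4) (Φ : K p → X),
      (∀ i j, Φ (i * j) = Φ i * Φ j) ∧ Φ (k 1) = t ∧ ∃ R : Subgroup X, (∀ x ∈ R, ∃ i, Φ i = x) ∧ Q ≤ R ∧
        a ∈ R ∧ b ∈ R ∧ c ∈ R := by
  have k0 : ∀ {x y : X}, x = y ∨ x = t * y → ∃ n < 2, x = t ^ n * y := fun e =>
    e.elim (fun e => ⟨0, by simp [e]⟩) fun e => ⟨1, by simp [e]⟩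
  obtain ⟨α, α2, aa⟩ := k0 (h.eqv (h.mul ha ha) (m' := 1) (σ' := 1) (n' := 0) (fun k => by simp) (by decide) rfl)
  obtain ⟨β, β2, ca⟩ := k0 (h.eqv (h.mul hc ha) (h.mul ha hc) (by decide) rfl)
  have cj : ∀ {a b : X}, b * (a * b) = a * (b * a) → a * a = t ^ α * 1 → b * b = t ^ α * 1 := fun {a b} e aa => by
    calc b * b = b * (a * b) * (a * b)⁻¹ * (b * (a * b) * (a * b)⁻¹) := by group
      _ = a * b * (a * a * (a * b)⁻¹) := by rw [e]; group
      _ = _ := by rw [aa, mul_one, h.cp]; group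
  have bb := cj e1 aa
  have cc := cj e2 bb
  have tp : t ^ (α + 2 * β) = t ^ α := by rw [pow_add, pow_mul, sq, h.tt, one_pow, mul_one]
  have ac : a * c = t ^ β * (c * a) := by rw [ca, ← mul_assoc, ← pow_add, ← two_mul, pow_mul, sq, h.tt]; simp
  let g : ℕ → X := fun n => [w 0, w 1, w 2, w 3, a, b, c].getD n 1
  have k1 : Ok g t RY := by
    simp [Ok, RY, ev, g, h.ww, h.nc 1 0, h.nc 2 0, h.nc 2 1, h.nc 3 0, h.nc 3 1, h.nc 3 2]
  have k2 : Ok g t RA := by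
    simp [Ok, RA, ev, g, ha 0, ha 1, ha 2, ha 3, hb 0, hb 1, hb 2, hb 3, hc 0, hc 1, hc 2, hc 3, Equiv.swap_apply_def]
  have k3 : Ok g t (RS (α + 2 * β)) := by
    simp only [Ok, RS, show (α + 2 * β) / 2 = β by omega, List.forall_mem_cons, List.not_mem_nil, ev, g, tp]
    simp [aa, bb, cc, e1, ← e2]
    exact ⟨ca, by rw [ac, h.cp, h.cp]; simpa [mul_assoc] using congrArg (· * a) e2⟩
  let p : Fin 4 := ⟨α + 2 * β, by omega⟩
  let Φ : K p → X := fun i => ph g t i.1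
  have mul : ∀ i j, Φ (i * j) = Φ i * Φ j := fun i j =>
    (congrArg (ph g t) (Nat.mod_eq_of_lt mN_lt)).trans (ph_mul h.cen h.tt k1 k2 k3 p.2 i.2 j.2)
  have E : ∀ n v u, n < 768 ∧ yw (n % 32 / 2) = v ∧ sw (n / 32) = u → Φ (k n) = t ^ n * (ev g v * ev g u) :=
    fun n v u ⟨h1, h2, h3⟩ => (congrArg (ph g t) (Nat.mod_eq_of_lt h1)).trans (by rw [ph, h2, h3])
  have E' : ∀ n m, 2 * n < 768 ∧ yw (2 * n % 32 / 2) ++ sw (2 * n / 32) = [m] → Φ (k (2 * n)) = g m :=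
    fun n m ⟨h1, h2⟩ => by
      rw [E _ _ _ ⟨h1, rfl, rfl⟩, ← ev_app, h2, pow_mul, sq, h.tt, one_pow, one_mul, ev, ev, mul_one]
  have one : Φ 1 = 1 := (E 0 [] [] (by decide)).trans (by simp [ev])
  have e0 : Φ (k 1) = t := (E 1 [] [] (by decide)).trans (by simp [ev])
  let R : Subgroup X :=
    { carrier := Set.range Φ
      one_mem' := ⟨1, one⟩
      mul_mem' := fun ⟨i, a⟩ ⟨j, b⟩ => ⟨i * j, by rw [mul, a, b]⟩
      inv_mem' := fun ⟨i, a⟩ => ⟨i⁻¹, eq_inv_of_mul_eq_one_right (by rw [← a, ← mul, f_inv, one])⟩ }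
  refine ⟨p, Φ, mul, e0, R, fun _ => id, h.gen R ⟨_, e0⟩ fun i => ?_,
    ⟨_, E' 16 4 (by decide)⟩, ⟨_, E' 32 5 (by decide)⟩, ⟨_, E' 48 6 (by decide)⟩⟩
  fin_cases i
  exacts [⟨_, E' 1 0 (by decide)⟩, ⟨_, E' 2 1 (by decide)⟩, ⟨_, E' 4 2 (by decide)⟩, ⟨_, E' 8 3 (by decide)⟩]

theorem br (ha : Act t w a σ 1) (hb : Act t w b σ' 1) (e : σ' * (σ * σ') = σ * (σ' * σ)) :
    ∃ b', Act t w b' σ' 1 ∧ b' * (a * b') = a * (b' * a) ∧ (b' = b ∨ t * b' = b) := by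
  rcases h.eqv (h.mul hb (h.mul ha hb)) (h.mul ha (h.mul hb ha)) e rfl with k | k
  · exact ⟨b, hb, k, .inl rfl⟩
  have c := fun x y => pow_one t ▸ h.cp 1 x y
  exact ⟨t * b, h.tm hb, by rw [c a, mul_assoc, c b, k, mul_assoc t b, c a, ← mul_assoc, h.tt, one_mul], .inr
    (by rw [← mul_assoc, h.tt, one_mul])⟩

end E4

theorem exists_KS0 [Q.Normal] (hQ : IsExtraspecial 2 Q) (cQ : #Q = 32) (m : ¬ H0.HasEA Q 3) (hC : C(Q) ≤ Q)
    (e : X ⧸ Q ≃* Perm (Fin 4)) (t1 : t ≠ 1) (cen : ∀ g, g * t = t * g) : ∃ (p : Fin 4) (Φ : K p → X),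
      (∀ i j, Φ (i * j) = Φ i * Φ j) ∧ Φ (k 1) = t ∧ Function.Bijective Φ := by
  have tC : t ∈ C(Q) := mem_cent.2 fun g _ => cen g
  obtain ⟨y, h⟩ := exists_E0 (H0.ES_of_center hQ ⟨hC tC, tC⟩ t1) cen cQ m
  obtain ⟨π, hπ⟩ := h.exists_pi
  have ei : Function.Injective ee := by decide
  have kr : ∀ {g}, π g = 1 ↔ g ∈ Q := fun {g} => ⟨fun k => sup_le le_rfl hC (h.es.mem_sup_of_triv (mem_cent1.2 (cen g))
    fun x hx => (h.beq (h.cj hx g) hx).1 (funext fun i => h.bcj hx (by simpa [k] using hπ g i))),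
    fun k => Equiv.ext fun i => ei ((hπ g i).symm.trans
      (((h.beq (h.cj (h.yQ i) g) (h.yQ i)).2 (h.es.comm_mem k (h.yQ i))).trans (h.by' i)))⟩
  let ψ := (QuotientGroup.lift Q π fun _ => kr.2).comp e.symm.toMonoidHom
  have ψe : ∀ g : X, ψ (e g) = π g := fun g => congrArg (QuotientGroup.lift Q π fun _ => kr.2) (e.symm_apply_apply g)
  have ψi : Function.Injective ψ := (injective_iff_map_eq_one _).2 fun σ k => by
    obtain ⟨σ, rfl⟩ := e.surjective σ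
    obtain ⟨g, rfl⟩ := QuotientGroup.mk_surjective σ
    rw [(QuotientGroup.eq_one_iff g).2 (kr.1 (ψe g ▸ k)), map_one]
  obtain ⟨i, j, e1, k', e2, l, e3, d⟩ := s5_cox (ψ (swap 0 1)) (by rw [← map_mul]; simp) (ψ (swap 1 2))
    (by rw [← map_mul]; simp) (ψi.ne (by decide)) (by simp only [← map_mul]; congr 1; decide) (ψ (swap 2 3))
    (by rw [← map_mul]; simp) (ψi.ne (by decide)) (ψi.ne (by decide)) (by simp only [← map_mul]; congr 1; decide)
    (by simp only [← map_mul]; congr 1; decide)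
  have v := v4 i j k' l d
  change _ = swap (![i, j, k', l] 0) (![i, j, k', l] 1) at e1
  change _ = swap (![i, j, k', l] 1) (![i, j, k', l] 2) at e2
  change _ = swap (![i, j, k', l] 2) (![i, j, k', l] 3) at e3
  generalize ![i, j, k', l] = ρ at *
  have g4 : ∀ x ∈ Q, (∀ a, bt y x (ρ a) = 0) → x ∈ zpowers t := fun x hx k => by
    rcases h.nf hx with e | ⟨m, e⟩ | ⟨m, n, mn, e⟩
    exacts [(h.bz hx).1 e, let ⟨a, b⟩ := (v m).1; (b (e ▸ k a)).elim, let ⟨a, b⟩ := (v m).2 n mn; (b (e ▸ k a)).elim]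
  have ad : ∀ s : Fin 4 → ZMod 2, ∃ x ∈ Q, x ∈ closure (Set.range (y ∘ ρ)) ∧ ∀ a, bt y x (ρ a) = s a := fun s => by
    obtain ⟨l, -, rfl⟩ := sp4 s
    induction l with
    | nil => exact ⟨1, one_mem _, one_mem _, fun a => congrFun ((h.bz (one_mem _)).2 (one_mem _)) _⟩
    | cons i l ih =>
      obtain ⟨x, h1, h2, h3⟩ := ih
      exact ⟨y (ρ i) * x, mul_mem (h.yQ _) h1, mul_mem (subset_closure ⟨i, rfl⟩) h2, fun a => by
        simp [h.bmul (h.yQ _) h1, h.by', h3, ee, d.eq_iff]⟩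
  have gn : ∀ R : Subgroup X, t ∈ R → (∀ i, (y ∘ ρ) i ∈ R) → Q ≤ R := fun R h1 h2 x hx => by
    obtain ⟨x', a1, a2, a3⟩ := ad fun a => bt y x (ρ a)
    have := zpowers_le.2 h1 (g4 _ (mul_mem hx a1) fun a => by
      rw [h.bmul hx a1, Pi.add_apply, a3, CharTwo.add_self_eq_zero])
    rwa [mul_mem_cancel_right ((closure_le R).2 (Set.range_subset_iff.2 h2) a2)] at this
  have H : E4 Q t (y ∘ ρ) := ⟨h.es.zz, cen, fun _ => h.yy _, fun i j k => h.es.mul_eq (h.yQ _) (h.yQ _)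
    (h.nc _ _ (d.ne k)), gn, fun m k => h.es.mem_zp.1 (g4 m (hC (le_cent1_iff.1 (gn _ (mem_cent1.2 (cen m).symm)
      fun i => mem_cent1.2 (k i).symm))) fun a => E0.b0.2 (k a))⟩
  have fx : ∀ i j, ψ (swap i j) = swap (ρ i) (ρ j) → ∃ g, e (g : X) = swap i j ∧ Act t (y ∘ ρ) g (swap i j) 1 :=
    fun i j k => by
      obtain ⟨σ, e0⟩ := e.surjective (swap i j)
      obtain ⟨g, rfl⟩ := QuotientGroup.mk_surjective σ
      have c : ∀ a, g * y (ρ a) * g⁻¹ * (y (ρ (swap i j a)))⁻¹ ∈ zpowers t := fun a =>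
        (h.beq (h.cj (h.yQ _) g) (h.yQ _)).1 (by rw [hπ, h.by', ← ψe, e0, k, d.swap_apply])
      obtain ⟨x, a1, -, a3⟩ := ad fun a => 1 + H0.lg (g * y (ρ (swap i j a)) * g⁻¹ * (y (ρ a))⁻¹)
      refine ⟨x * g, by rw [QuotientGroup.mk_mul, (QuotientGroup.eq_one_iff x).2 a1, one_mul, e0], fun a => ?_⟩
      have a4 := a3 (swap i j a)
      rw [Equiv.swap_apply_self] at a4
      have : ⁅x, y (ρ (swap i j a))⁆ * (g * y (ρ a) * g⁻¹ * (y (ρ (swap i j a)))⁻¹) = t :=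
        (h.es.mem_zp.1 (mul_mem (h.es.comm_mem a1 (h.yQ _)) (c a))).resolve_left fun k => by
          have := h.es.lg_mul (h.es.comm_mem a1 (h.yQ (ρ (swap i j a)))) (c a)
          rw [k, H0.lg_eq_zero.2 rfl, show H0.lg _ = _ from a4, add_assoc, CharTwo.add_self_eq_zero] at this
          simp at this
      have z := h.zc (c a)
      simp only [Function.comp, pow_one]
      rw [← this, z]
      generalize y (ρ (swap i j a)) = u at *
      calc _ = x * (g * y (ρ a) * g⁻¹ * u⁻¹) * (u * g) := by group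
        _ = _ := by rw [z x, commutatorElement_def]; group
  obtain ⟨a, a1, ha⟩ := fx _ _ e1
  obtain ⟨b, b1, hb⟩ := fx _ _ e2
  obtain ⟨c, c1, hc⟩ := fx _ _ e3
  obtain ⟨b', hb', e4, b2⟩ := H.br ha hb (by decide)
  obtain ⟨c', hc', e5, c2⟩ := H.br hb' hc (by decide)
  obtain ⟨p, Φ, mul, e0, R, r1, r2, r3, r4, r5⟩ := H.core ha hb' hc' e4 e5
  have k : ∀ {b b'}, b' ∈ R → b' = b ∨ t * b' = b → b ∈ R := fun a e =>
    e.elim (· ▸ a) (· ▸ mul_mem (r2 h.es.zQ) a)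
  refine ⟨p, Φ, mul, e0, Function.Surjective.bijective_of_nat_card_le (α := Fin 768) (fun x => r1 x ?_) (by
    rw [card_eq_card_quotient_mul_card_subgroup Q, cQ, Nat.card_congr e.toEquiv, Nat.card_perm]; simp [Nat.factorial])⟩
  obtain ⟨g, hg, eg⟩ : e x ∈ (R.map (e.toMonoidHom.comp (QuotientGroup.mk' Q))).toSubmonoid :=
    (Equiv.Perm.mclosure_swap_castSucc_succ 3).ge.trans (Submonoid.closure_le.2 (by
      rintro _ ⟨i, rfl⟩
      fin_cases i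
      exacts [⟨a, r3, a1⟩, ⟨b, k r4 b2, b1⟩, ⟨c, k r5 c2, c1⟩])) (Submonoid.mem_top _)
  simpa using mul_mem hg (r2 (QuotientGroup.eq.1 (e.injective eg)))

theorem final {G : Type u} [Group G] [Finite G] (z : G) (hz : orderOf z = 2) (E : Subgroup C[z]) [E.Normal]
    (hE : IsExtraspecial 2 E) (hE32 : Nat.card E = 32)
    (hm : ∀ A : Subgroup E, IsElementaryAbelian 2 A → Nat.card A ≠ 8) (hCE : C(E) ≤ E)
    (e : (C[z] ⧸ E) ≃* Perm (Fin 4)) {F : Type*} [Field F] [Fintype F] (hF : Fintype.card F = 4) :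
    IsMulCommutative (oddCore G) ∧
      (¬ Group.IsSolvable G → Nonempty (G ≃* MulAut (GL (Fin 3) F ⧸ center (GL (Fin 3) F)))) := by
  obtain ⟨p, Φ, mul, e0, b⟩ := exists_KS0 (t := ⟨z, mem_cent1.2 rfl⟩) hE hE32 (fun ⟨A, a, h1, h2⟩ =>
    hm (A.subgroupOf E) (H17.GS.abelem_subgroupOf h1) ((card_subgroupOf' a).trans h2)) hCE e
    (fun k => H0.ne_one_of_order hz (congrArg Subtype.val k)) fun g => Subtype.ext (mem_cent1.1 g.2)
  have h : KS fun i => (Φ i : G) := ⟨fun i j => congrArg Subtype.val (mul i j), Subtype.val_injective.comp b.1,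
    fun {g} => by
      rw [e0]
      exact ⟨fun a => let ⟨i, k⟩ := b.2 ⟨g, a⟩; ⟨i, congrArg Subtype.val k⟩, fun ⟨i, k⟩ => k ▸ (Φ i).2⟩⟩
  refine ⟨h.abO, fun s => ?_⟩
  obtain ⟨F', _, _, h1, ⟨f⟩⟩ := h.main s
  obtain ⟨f'⟩ := aut_pgl h1
  exact ⟨(f.trans f').trans (MulAut.congr
    (H11.quotCenterCongr (H11.glCongr (.refl (Fin 3)) (FiniteField.ringEquivOfCardEq (h1.trans hF.symm)))))⟩

end H25.AG
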