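import Cfsg.Agent.H19.Amb6
import Cfsg.Agent.H24.ClassSize
import Cfsg.Agent.H20.FT
import Cfsg.Agent.H3.NPC

/-! Small facts on class sizes in the ambient style. -/

set_option autoImplicit false
set_option linter.unusedSectionVars false

open Cfsg Subgroup
namespace H25
open H19

variable {G : Type*} [Group G] [Finite G] {p : ℕ} {P Q M : Subgroup G} {x y g : G}

theorem solv_of_npc (h : HasNormalPComplement 2 G) : Group.IsSolvable G := by
  haveI := Fact.mk Nat.prime_two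
  have h1 := H3.hasNPC_iff_coprime.1 h
  haveI := H20.odd_solvable (pResidual 2 G) (Nat.coprime_two_right.1 h1)
  haveI := (H3.isPGroup_quotient_pResidual (G := G) (n := 2) two_ne_zero).isNilpotent
  exact Group.isSolvable_of_ker_le_range (pResidual 2 G).subtype
    (QuotientGroup.mk' (pResidual 2 G)) (by simp)

theorem solv_of_normal_syl (h : Syl 2 P ⊤) [P.Normal] : Group.IsSolvable G := by
  haveI : Group.IsSolvable P := h.pi.sol
  haveI := H20.odd_solvable (G ⧸ P) (by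
    have := h.not_dvd Nat.prime_two
    rw [relIndex_top_right] at this
    exact Nat.odd_iff.2 (Nat.two_dvd_ne_zero.1 this))
  exact Group.isSolvable_of_ker_le_range P.subtype (QuotientGroup.mk' P) (by simp)

theorem pe_iff (hp : p.Prime) : PiE {p} x ↔ ∃ k, orderOf x = p ^ k :=
  ⟨fun h => h.exists_pow (orderOf_pos x).ne', fun ⟨k, h⟩ => by rw [PiE, h]; exact .prime_pow hp k⟩

theorem syl_le_of_index (hp : p.Prime) (h : ¬ p ∣ M.index) : ∃ P, Syl p P ⊤ ∧ P ≤ M := by
  obtain ⟨P, hP⟩ := exists_syl p M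
  exact ⟨P, hP.of_idx le_top (.of_not_dvd (by rwa [relIndex_top_right])), hP.le⟩

/-- if every `p`-element centralizes a Sylow subgroup and the Sylow subgroups of a normal subgroup
and of its quotient are abelian, then so are those of the group -/
theorem ab_of_cl (hp : p.Prime) (h : ∀ x : G, PiE {p} x → ¬ p ∣ C[x].index) (hM : M ⊴ ⊤)
    (h1 : ∀ Q, Syl p Q M → Ab Q) (h2 : ∀ P, Syl p P ⊤ → ⁅P, P⁆ ≤ M) (hP : Syl p P ⊤) : Ab P := by
  obtain ⟨Q, hQ⟩ := exists_syl p M
  have nM : ∀ K : Subgroup G, K ≤ N(M) := fun K => hM.norms le_top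
  have a1 : P ≤ M ⊔ C(Q) := fun x hx => by
    obtain ⟨R, hR, hx'⟩ := syl_le_of_index hp (h x (hP.pi.elt hx))
    obtain ⟨n, hn, e⟩ := (hR.inf_normal hM).sconj hQ
    have : n * x * n⁻¹ ∈ C(Q) := by
      rw [← e, ← cj_cent, conj_mem_cj]
      exact cent_mono inf_le_left (le_cent1_iff.1 hx')
    have h4 := mul_mem (mul_mem (inv_mem (mem_sup_left hn : n ∈ M ⊔ C(Q))) (mem_sup_right this))
      (mem_sup_left hn)
    simpa [mul_assoc] using h4
  have qc : Q ≤ C(Q) := comm_iff_le_cent.1 (h1 Q hQ)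
  obtain ⟨R, hR, hQR⟩ := hQ.pi.exists_syl qc
  have hR' : Syl p R ⊤ := hR.of_idx le_top (.of_not_dvd (by
    rw [← relIndex_mul_relIndex C(Q) (M ⊔ C(Q)) ⊤ le_sup_right le_top,
      relIndex_sup_right_of_norm (nM _), hp.dvd_mul, not_or]
    exact ⟨hQ.not_dvd_relIndex hp qc, hP.not_dvd_relIndex hp a1⟩))
  have e1 : R ⊓ M = Q := ((hQ.eq_of_le (hR'.inf_normal hM)) (le_inf hQR hQ.le)).symm
  have a2 : Ab R := comm_iff_le_cent.2 fun x hx => by
    obtain ⟨T, hT, hx'⟩ := syl_le_of_index hp (h x (hR.pi.elt hx))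
    have xN : x ∈ N(M) := nM ⊤ trivial
    have mem : ∀ {y : G}, y ∈ qpre M C(quo M (zpowers x)) ↔ ⁅zpowers y, zpowers x⁆ ≤ M := by
      intro y
      rw [← zpowers_le, ← quo_le_iff (nM _), quo_cents_iff (nM _) (nM _)]
    have b1 : R ≤ qpre M C(quo M (zpowers x)) := fun y hy => mem.2
      ((commutator_mono (zpowers_le.2 hy) (zpowers_le.2 hx)).trans (h2 R hR'))
    have b2 : T ≤ qpre M C(quo M (zpowers x)) := fun y hy => mem.2 (by
      rw [commg_eq_bot.2 (by rw [cent_zpowers]; exact zpowers_le.2 (hx' hy))]; exact bot_le)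
    obtain ⟨g, hg, e⟩ := (hT.of_le b2 le_top).sconj (hR'.of_le b1 le_top)
    have c1 : g * x * g⁻¹ ∈ C(R) := by
      rw [← e, ← cj_cent, conj_mem_cj]; exact le_cent1_iff.1 hx'
    have c2 : g * x * g⁻¹ ∈ R := hR'.mem_of_norm trivial ((hR.pi.elt hx).e_conj g)
      (cent_le_norm R c1)
    have c3 : g * x * g⁻¹ * x⁻¹ ∈ R ⊓ M := ⟨R.mul_mem c2 (R.inv_mem hx), mem.1 hg
      (commutator_mem_commutator (mem_zpowers g) (mem_zpowers x))⟩
    rw [e1] at c3
    have := mul_mem (inv_mem (cents_symm hR.le c3)) c1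
    simpa [mul_assoc] using this
  obtain ⟨g, -, rfl⟩ := hR'.sconj hP
  exact comm_cj.2 a2

end H25
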