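import Cfsg.Agent.H8.FT1

/-! Coprime operator groups without fixed involutions: the basic lemmas. -/

set_option autoImplicit false
set_option linter.unusedVariables false
set_option linter.unusedSectionVars false

namespace H25.FB
export H19 (Syl card_cj cj cj_bot cj_cj cj_cj_inv cj_closure cj_def cj_eq_bot cj_eq_iff cj_inf cj_inj cj_inv_cj cj_le_cj cj_le_iff cj_le_of_mem cj_lt_cj cj_mono cj_one cj_sup cj_top cj_zpowers conj_mem_cj exists_syl le_cj_iff mem_cj mem_cj' orderOf_conj' relIndex_cj im pre pre_le im_mono im_bot im_cj im_le_iff im_pre im_pre_le im_sup im_zpowers le_pre_im mem_im mem_pre pre_inf pre_mono syl_sylow)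
open Cfsg Subgroup H18 H17.GS
open H19 hiding eq_bot_mono
open H8.FS hiding Fx Md Mc Nb Rd Lk Cx det_false rd_kc exists_hv main_aux main_of Main
open scoped commutatorElement

universe u
variable {X : Type u} [Group X] [Finite X] {A B D E F G H K L M N O P Q R S T U V W Y Z : Subgroup X}
  {a b c d e g k n s t u v w x y z : X} {p r : ℕ}

local notation "p2" => Nat.prime_two

theorem pi2 (h : x * x = 1) : PiE {2} x := piG_zpowers.1 (pg_zpowers h)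

/-- Glauberman's fixed point lemma -/
theorem cfix (nN : A ≤ N(N)) (c : (#A).Coprime #N) (hL : ∀ a ∈ A, ∃ n ∈ N, n * a ∈ L) : ∃ n ∈ N, cj n A ≤ L := by
  set L1 := L ⊓ (N ⊔ A) with hL1
  have d : N ⊓ A = ⊥ := inf_eq_bot_of_cop c.symm
  have n1 : L1 ≤ N(N) := inf_le_right.trans (sup_le le_normalizer nN)
  have e1 : N ⊔ L1 = N ⊔ A := le_antisymm (sup_le le_sup_left inf_le_right) (sup_le le_sup_left fun b hb => by
    obtain ⟨n, hn, k⟩ := hL b hb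
    rw [← inv_mul_cancel_left n b]
    exact mul_mem_sup (inv_mem hn) ⟨k, mul_mem_sup hn hb⟩)
  have i1 : (N ⊓ L1).relIndex L1 = #A := by
    rw [inf_relIndex_right, ← relIndex_sup_of_norm n1, e1, (sdprod_sup nN d).relIndex_left]
  obtain ⟨B1, s1⟩ := (hall_of_coprime (H := N ⊓ L1) (M := L1) inf_le_right
    (i1 ▸ c.symm.coprime_dvd_left (card_dvd inf_le_left))).exists_compl (norms_inf n1 le_normalizer)
  have c1 : #B1 = #A := s1.relIndex_left.symm.trans i1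
  obtain ⟨n, hn, k⟩ := exists_cj_le_of_le_sup nN (s1.right_le.trans inf_le_right) (c1 ▸ c.symm)
    (sol_cop (c1 ▸ c))
  have k' : cj n B1 = A := eq_of_le_of_card_eq k ((card_cj _ _).trans c1)
  exact ⟨n⁻¹, inv_mem hn, by rw [← k', cj_inv_cj]; exact s1.right_le.trans inf_le_left⟩

/-- a conjugate of `w` is fixed -/
theorem celt (nN : A ≤ N(N)) (c : (#A).Coprime #N) (hw : ∀ a ∈ A, ∃ n ∈ N, a * w * a⁻¹ = n * w * n⁻¹) :
    ∃ n ∈ N, n * w * n⁻¹ ∈ C(A) := by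
  obtain ⟨n, hn, k⟩ := cfix nN c (L := C[w]) fun a ha => by
    obtain ⟨n, hn, e⟩ := hw a ha
    refine ⟨n⁻¹, inv_mem hn, mem_cent1.2 ?_⟩
    calc n⁻¹ * a * w = n⁻¹ * (a * w * a⁻¹) * a := by group
      _ = _ := by rw [e]; group
  refine ⟨n⁻¹, inv_mem hn, le_cent1_iff.1 ?_⟩
  rw [← H19.cj_cent1]; exact cj_le_iff.1 k

theorem ccos (nN : A ≤ N(N)) (c : (#A).Coprime #N) (hy : ∀ a ∈ A, a * y * a⁻¹ * y⁻¹ ∈ N) :
    ∃ n ∈ N, n * y ∈ C(A) := exists_mul_mem_cent nN c.symm (sol_cop c) hy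

theorem csyl (nN : A ≤ N(N)) (c : (#A).Coprime #N) (p : ℕ) : ∃ P, Syl p P N ∧ A ≤ N(P) :=
  inv_syl_exists p nN c.symm (sol_cop c)

/-- the product over an orbit -/
theorem orbp (h : ∀ a ∈ A, a * y * a⁻¹ ≠ y → a * y * a⁻¹ ∈ H ⊓ C[y]) : ∃ k ∈ H, y * k ∈ C(A) := by
  classical
  have := Fintype.ofFinite X
  set s : Finset X := Finset.univ.filter fun x => ∃ a ∈ A, a * y * a⁻¹ = x with hs
  have ms : ∀ x, x ∈ s ↔ ∃ a ∈ A, a * y * a⁻¹ = x := fun x => by simp [hs]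
  have cm : (s : Set X).Pairwise (Function.onFun Commute id) := fun x hx x' hx' ne => by
    obtain ⟨a, ha, rfl⟩ := (ms _).1 hx
    obtain ⟨b, hb, rfl⟩ := (ms _).1 hx'
    have := mem_cent1.1 (h _ (mul_mem (inv_mem hb) ha) fun e => ne (by
      calc _ = b * (b⁻¹ * a * y * (b⁻¹ * a)⁻¹) * b⁻¹ := by group
        _ = _ := by rw [e])).2
    show _ * _ = _ * _
    simp only [id]
    calc _ = b * (b⁻¹ * a * y * (b⁻¹ * a)⁻¹ * y) * b⁻¹ := by group
      _ = _ := by rw [this]; group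
  have ys : y ∈ s := (ms y).2 ⟨1, one_mem _, by simp⟩
  have p1 : s.noncommProd id cm ∈ C(A) := mem_cent.2 fun a ha => by
      have e := Finset.map_noncommProd s id cm (MulAut.conj a).toMonoidHom
      have e2 : s.map (MulAut.conj a).toEquiv.toEmbedding = s := by
        refine Finset.eq_of_subset_of_card_le (fun x hx => ?_) (by simp)
        obtain ⟨x, hx', rfl⟩ := Finset.mem_map.1 hx
        obtain ⟨b, hb, rfl⟩ := (ms _).1 hx'
        exact (ms _).2 ⟨a * b, mul_mem ha hb, by simp [mul_assoc]⟩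
      have e3 : a * s.noncommProd id cm * a⁻¹ = s.noncommProd id cm := by
        refine e.trans ?_
        unfold Finset.noncommProd
        congr 1
        rw [Multiset.map_id]
        exact congrArg Finset.val e2
      calc _ = a * s.noncommProd id cm * a⁻¹ * a := by group
        _ = _ := by rw [e3]
  rw [← Finset.mul_noncommProd_erase s ys id cm] at p1
  refine ⟨_, noncommProd_mem _ _ fun x hx => ?_, p1⟩
  obtain ⟨a, ha, rfl⟩ := (ms _).1 (Finset.mem_of_mem_erase hx)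
  exact (h a ha (Finset.ne_of_mem_erase hx)).1

theorem two_part (x : X) : ∃ m : ℕ, ¬ 2 ∣ m ∧ PiE {2} (x ^ m) := by
  obtain ⟨k, m, o, e⟩ := Nat.exists_eq_two_pow_mul_odd (orderOf_pos x).ne'
  refine ⟨m, o.not_two_dvd_nat, (PiN.prime_pow p2 k).dvd (orderOf_dvd_of_pow_eq_one ?_)⟩
  rw [← pow_mul, mul_comm, ← e, pow_orderOf_eq_one]

theorem mem_zp_pow {Y : Type u} [Group Y] [Finite Y] {y : Y} {m : ℕ} (h : PiE {2} y) (hm : ¬ 2 ∣ m) :
    y ∈ zpowers (y ^ m) := mem_zpowers_pow_iff.2 (Nat.Coprime.symm (PiN.coprime h (PiN.of_not_dvd hm)))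

/-- fixed `2`-elements lift to fixed `2`-elements -/
theorem lift {Y : Type u} [Group Y] [Finite Y] (f : D →* Y) (nN : A ≤ N(N)) (c : (#A).Coprime #N) (h1 : A ≤ D)
    (h2 : N ≤ D) {y : Y} (hy : y ∈ im f N) (cy : y ∈ C(im f A)) (y2 : PiE {2} y) :
    ∃ x : D, (x : X) ∈ N ∧ (x : X) ∈ C(A) ∧ PiE {2} (x : X) ∧ f x = y := by
  obtain ⟨y, hy', rfl⟩ := mem_im.1 hy
  obtain ⟨n, hn, k⟩ := ccos (N := N ⊓ pre f ⊥) (y := y)
    (norms_inf nN (norms_pre h1 (norms_of_cents (by simp)))) (c.coprime_dvd_right (card_dvd inf_le_left))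
    fun a ha => mem_inf.2 ⟨mul_mem (conj_mem_of_norm (nN ha) hy') (inv_mem hy'), by
        have := mem_cent.1 cy _ (mem_im_of (f := f) (x := ⟨a, h1 ha⟩) ha)
        refine (coe_mem_pre (f := f) (x := (⟨a, h1 ha⟩ : D) * y * (⟨a, h1 ha⟩ : D)⁻¹ * y⁻¹)).2 ?_
        simp [this]⟩
  have e : f (⟨n, h2 hn.1⟩ * y) = f y := by
    rw [map_mul, mem_bot.1 ((coe_mem_pre (x := ⟨n, h2 hn.1⟩)).1 hn.2), one_mul]
  obtain ⟨m, hm, o⟩ := two_part (n * y)
  obtain ⟨j, hj⟩ := mem_powers_iff_mem_zpowers.2 (mem_zp_pow y2 hm)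
  refine ⟨((⟨n, h2 hn.1⟩ * y) ^ m) ^ j, pow_mem (pow_mem (mul_mem hn.1 hy') m) j, pow_mem (pow_mem k m) j,
    o.e_pow j, by rw [map_pow, map_pow, e]; exact hj⟩

/-- `A` acts coprimely on `N` and fixes no involution -/
structure Fx (A N : Subgroup X) : Prop where
  n : A ≤ N(N)
  c : (#A).Coprime #N
  o : ∀ x ∈ N, x ∈ C(A) → PiE {2} x → x = 1

theorem Fx.mono (h : Fx A N) (l : M ≤ N) (nM : A ≤ N(M)) : Fx A M :=
  ⟨nM, h.c.coprime_dvd_right (card_dvd l), fun x hx => h.o x (l hx)⟩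

theorem Fx.one (h : Fx A N) (hx : x ∈ N) (hc : x ∈ C(A)) (x2 : PiE {2} x) : x = 1 := h.o x hx hc x2

theorem Fx.f (h : Fx A N) (l : P ≤ N) (hP : PG 2 P) : P ⊓ C(A) = ⊥ :=
  le_bot_iff.1 fun x hx => h.one (l hx.1) hx.2 (hP.elt hx.1)

theorem cop_im {Y : Type u} [Group Y] [Finite Y] (c : (#A).Coprime #N) (f : D →* Y) :
    (#(im f A)).Coprime #(im f N) := (c.coprime_dvd_left (card_im_dvd f A)).coprime_dvd_right (card_im_dvd f N)

theorem Fx.im {Y : Type u} [Group Y] [Finite Y] (h : Fx A N) (f : D →* Y) (h1 : A ≤ D) (h2 : N ≤ D) :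
    Fx (im f A) (im f N) := ⟨im_norms h.n, cop_im h.c f, fun y hy cy y2 => by
  obtain ⟨x, a, b, c, rfl⟩ := lift f h.n h.c h1 h2 hy cy y2
  rw [show x = 1 from Subtype.ext (h.o x a b c), map_one]⟩

theorem Fx.quo (h : Fx A N) (h1 : A ≤ N(K)) (h2 : N ≤ N(K)) : Fx (quo K A) (quo K N) := h.im _ h1 h2

theorem Fx.mem (h : Fx A N) (nM : A ≤ N(M)) (n : N ≤ N(M)) (hy : y ∈ N) (y2 : y * y = 1)
    (k : ∀ a ∈ A, a * y * a⁻¹ * y⁻¹ ∈ M) : y ∈ M :=
  qmk_eq_one.1 ((h.quo nM n).one (x := qmk M ⟨y, n hy⟩) (mem_im_of hy) (mem_cent.2 fun a ha => by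
    obtain ⟨a, ha', rfl⟩ := mem_im.1 ha
    rw [← map_mul, ← map_mul, eq_comm, ← mul_inv_eq_one, ← map_inv, ← map_mul, qmk_eq_one]
    simpa [mul_assoc] using inv_mem (k a ha')) (pi2 (by rw [← map_mul, qmk_eq_one]; simp [y2])))

theorem Fx.le_comm (h : Fx A N) (hy : y ∈ N) (y2 : y * y = 1) : y ∈ ⁅A, N⁆ :=
  h.mem (commg_norml _ _) (commg_normr _ _) hy y2 fun a ha => comm_mem ha hy

theorem sq_of_pi2 (h : PiE {2} x) (x1 : x ≠ 1) : ∃ t ∈ zpowers x, t ≠ 1 ∧ t * t = 1 := by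
  obtain ⟨t, ht, t2⟩ := exists_inv_pg (H := zpowers x) (piG_zpowers.2 h) (by simpa)
  exact ⟨t, ht, ne_one_of_ord2 t2, mul_self_of_ord2 t2⟩

/-- the normal closure of a commuting orbit of involutions -/
theorem orb_ea (y2 : y * y = 1) (h : ∀ a ∈ A, a * y * a⁻¹ ∈ C[y]) : Abelem 2 (Kc (zpowers y) A) := by
  have e : Kc (zpowers y) A ≤ closure {x | ∃ a ∈ A, a * y * a⁻¹ = x} := Kc_le_of
    (zpowers_le.2 (subset_closure ⟨1, one_mem _, by simp⟩)) fun g hg => norm_closure (by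
      rintro _ ⟨a, ha, rfl⟩; exact ⟨g * a, mul_mem hg ha, by group⟩)
  refine abelem_mono (H28.ea_closure ?_ ?_) e
  · rintro _ ⟨a, ha, rfl⟩ _ ⟨b, hb, rfl⟩
    have := mem_cent1.1 (h _ (mul_mem (inv_mem hb) ha))
    calc _ = b * (b⁻¹ * a * y * (b⁻¹ * a)⁻¹ * y) * b⁻¹ := by group
      _ = _ := by rw [this]; group
  · rintro _ ⟨a, ha, rfl⟩
    rw [conj_pow, pow_two, y2]; simp

theorem Fx.blk (h : Fx A K) (l : L ≤ K) (lA : B ≤ A) (nB : B ≤ N(L)) (hf : L ⊓ H = ⊥)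
    (hb : ∀ a ∈ A, a ∉ B → cj a L ≤ H ⊓ C(L)) : Fx B L := by
  refine ⟨nB, (h.c.coprime_dvd_left (card_dvd lA)).coprime_dvd_right (card_dvd l), fun x hx cx x2 => ?_⟩
  by_contra x1
  obtain ⟨y, hy, y1, y2⟩ := sq_of_pi2 x2 x1
  have yL : y ∈ L := zpowers_le.2 hx hy
  have yB : y ∈ C(B) := zpowers_le.2 cx hy
  have k : ∀ a ∈ A, a * y * a⁻¹ ≠ y → a * y * a⁻¹ ∈ H ⊓ C[y] := fun a ha ne => by
    have := hb a ha (fun m => ne (by rw [mem_cent.1 yB a m]; group)) (conj_mem_cj.2 yL)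
    exact ⟨this.1, cent_le_cent1 yL this.2⟩
  have ea := orb_ea (A := A) y2 fun a ha => by
    by_cases e : a * y * a⁻¹ = y
    · rw [e]; exact mem_cent1_self y
    · exact (k a ha e).2
  exact y1 (mem_bot.1 (hf ▸ mem_inf.2 ⟨yL, op Kc_norm (h.f (Kc_le_of (zpowers_le.2 (l yL)) h.n) (ab_pg ea))
    (le_Kc (mem_zpowers y)) k⟩))

end H25.FB
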