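import Cfsg.Agent.H25.FB1

/-! Module lemmas I (coprime version). -/

set_option autoImplicit false
set_option linter.unusedVariables false
set_option linter.unusedSectionVars false

namespace H25.FB
open Cfsg Subgroup H18 H17.GS
open H19 hiding eq_bot_mono
open H8.FS hiding Fx Md Mc Nb Rd Lk Cx det_false rd_kc exists_hv main_aux main_of Main
open H29.PU (zj bm)
open scoped commutatorElement

universe u
variable {X : Type u} [Group X] [Finite X] {A B C D E F G H K L M N O P Q R S T U V W Y Z : Subgroup X}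
  {a b c d e f g k n s t u v w x y z : X} {p r : ℕ}

local notation "p2" => Nat.prime_two
local notation:max "Ω(" S ")" => Ohm1 2 Z(S)

/-- a faithful `2`-reduced module -/
structure Md (V K A : Subgroup X) : Prop where
  ea : Abelem 2 V
  n : K ≤ N(V)
  ff : K ⊓ C(V) = ⊥
  sol : Sol K
  o2 : Oc {2} K = ⊥
  fK : Fx A K
  nV : A ≤ N(V)
  fV : ∃ W ≤ V, K ⊔ A ≤ N(W) ∧ V ⊓ C(A) ≤ W ∧ ⁅W, K⁆ ⊓ C(A) = ⊥

theorem Md.one (h : Md V K A) (h1 : k ∈ K) (h2 : k ∈ C(V)) : k = 1 := mem_bot.1 (h.ff ▸ mem_inf.2 ⟨h1, h2⟩)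

theorem Md.mono (h : Md V K A) (n : L ⊴ K) (nA : A ≤ N(L)) : Md V L A :=
  ⟨h.ea, n.le.trans h.n, le_bot_iff.1 (h.ff ▸ inf_le_inf_right _ n.le), sol_mono h.sol n.le,
    le_bot_iff.1 (h.o2 ▸ Oc_le_Oc n), h.fK.mono n.le nA, h.nV, by
      obtain ⟨W, k1, k2, k3, k4⟩ := h.fV
      exact ⟨W, k1, (sup_le_sup_right n.le _).trans k2, k3,
        le_bot_iff.1 (k4 ▸ inf_le_inf_right _ (commutator_mono le_rfl n.le))⟩⟩

theorem Md.comm (h : Md V K A) (h1 : L ≤ K) (h2 : M ≤ K) (c1 : ⁅V, L⁆ ≤ C(M)) (c2 : ⁅V, M⁆ ≤ C(L)) :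
    L ≤ C(M) := commg_eq_bot.1 (le_bot_iff.1 (h.ff ▸ le_inf (commg_le_of_le h1 h2) (commg_eq_bot.1
      (three_subgroup (by rw [commg_comm M]; exact commg_eq_bot.2 c2) (commg_eq_bot.2 c1)))))

theorem Md.sing0 (h : Md V K A) (ff : ∀ T ≤ K, (∀ t ∈ T, t * t = 1) → #V ≤ #T * #(V ⊓ C(T)) → T = ⊥)
    (hx : x ∈ K) (sx : Sg V x) : x = 1 := by
  by_contra x1
  set M := K ⊔ A with hM
  have nM : M ≤ N(V) := sup_le h.n h.nV
  have nK : M ≤ N(K) := sup_le le_normalizer h.fK.n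
  have xC : ∀ g ∈ M, g * x * g⁻¹ ∉ C(V) := fun g hg c =>
    x1 (by simpa using h.one (conj_mem_of_norm (nK hg) hx) c)
  obtain ⟨u, hu, u1, -⟩ := exists4 (sx.four (by simpa using xC 1 (one_mem _))) 1 1 1
  set K0 := closure {y | ∃ g ∈ M, g * x * g⁻¹ = y} with hK0
  have n0 : M ≤ N(K0) := fun g hg => norm_closure (by
    rintro _ ⟨k, hk, rfl⟩; exact ⟨g * k, mul_mem hg hk, by group⟩)
  have l0 : K0 ≤ K := (closure_le _).2 (by rintro _ ⟨k, hk, rfl⟩; exact conj_mem_of_norm (nK hk) hx)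
  have m0 : ∀ g ∈ M, g * x * g⁻¹ ∈ K0 := fun g hg => subset_closure ⟨g, hg, rfl⟩
  set L := K0 ⊔ (M ⊓ C[u]) with hL
  have lL : L ≤ M := sup_le (l0.trans le_sup_left) inf_le_left
  have mL : ∀ g ∈ L, ∃ k ∈ K0, g * u * g⁻¹ = k * u * k⁻¹ := fun g hg => by
    obtain ⟨k, hk, c, hc, rfl⟩ := (mem_sup_of_norm (inf_le_left.trans n0)).1 hg
    exact ⟨k, hk, by rw [mul_assoc k, mem_cent1.1 hc.2]; group⟩
  set K1 := closure {y | ∃ g ∈ L, g * x * g⁻¹ = y} with hK1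
  set K2 := closure {y | ∃ g ∈ M, g ∉ L ∧ g * x * g⁻¹ = y} with hK2
  have n1 : L ≤ N(K1) := fun g hg => norm_closure (by
    rintro _ ⟨k, hk, rfl⟩; exact ⟨g * k, mul_mem hg hk, by group⟩)
  have l1 : K1 ≤ K0 := closure_mono (by rintro _ ⟨k, hk, rfl⟩; exact ⟨k, lL hk, rfl⟩)
  have l2 : K2 ≤ K0 := closure_mono (by rintro _ ⟨k, hk, -, rfl⟩; exact ⟨k, hk, rfl⟩)
  have e0 : K0 ≤ K1 ⊔ K2 := (closure_le _).2 (by
    rintro _ ⟨k, hk, rfl⟩
    by_cases m : k ∈ L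
    · exact mem_sup_left (subset_closure ⟨k, m, rfl⟩)
    · exact mem_sup_right (subset_closure ⟨k, hk, m, rfl⟩))
  have sep : ∀ g ∈ L, ∀ k ∈ M, k ∉ L → bx V (g * x * g⁻¹) ≤ C[k * x * k⁻¹] ∧ bx V (k * x * k⁻¹) ≤ C[g * x * g⁻¹] :=
    fun g hg k hk m => by
      have s1 := sx.J (nM (lL hg))
      have s2 := sx.J (nM hk)
      have t1 := fun a b => tri s1.toOd s2 h.n h.ff (l0 (m0 g (lL hg))) (l0 (m0 k hk)) a b
      have t2 := fun a b => tri s2.toOd s1 h.n h.ff (l0 (m0 k hk)) (l0 (m0 g (lL hg))) a b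
      by_cases a : bx V (g * x * g⁻¹) ≤ C[k * x * k⁻¹]
      · refine ⟨a, by_contra fun b => ?_⟩
        obtain ⟨T, l, ne, k1, k2⟩ := t1 a b
        exact ne (ff T l k1 k2)
      by_cases b : bx V (k * x * k⁻¹) ≤ C[g * x * g⁻¹]
      · obtain ⟨T, l, ne, k1, k2⟩ := t2 b a
        exact absurd (ff T l k1 k2) ne
      obtain ⟨j, hj, e⟩ := link s1 s2 (xC g (lL hg)) (xC k hk) a b (m0 g (lL hg)) (m0 k hk)
        (cj_bx (nM (lL hg)) ▸ conj_mem_cj.2 hu) (cj_bx (nM hk) ▸ conj_mem_cj.2 hu) (by simpa) (by simpa)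
      refine absurd ?_ m
      have : (j * g)⁻¹ * k ∈ L := mem_sup_right (mem_inf.2 ⟨mul_mem (inv_mem (mul_mem (mem_sup_left (l0 hj)) (lL hg))) hk,
        mem_cent1.2 (by
          calc _ = (j * g)⁻¹ * (k * u * k⁻¹) * k := by group
            _ = _ := by rw [← e]; group)⟩)
      simpa only [mul_inv_cancel_left] using mul_mem (mul_mem (mem_sup_left hj) hg) this
  have c1 : ⁅V, K1⁆ ≤ V ⊓ C(K2) := comm_closure inf_le_left (by
    rintro _ ⟨g, hg, rfl⟩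
    refine le_inf (sx.J (nM (lL hg))).le (cents_symm ((closure_le _).2 ?_))
    rintro _ ⟨k, hk, m, rfl⟩
    exact le_cent1_iff.1 (sep g hg k hk m).1)
  have c2 : ⁅V, K2⁆ ≤ V ⊓ C(K1) := comm_closure inf_le_left (by
    rintro _ ⟨k, hk, m, rfl⟩
    refine le_inf (sx.J (nM hk)).le (cents_symm ((closure_le _).2 ?_))
    rintro _ ⟨g, hg, rfl⟩
    exact le_cent1_iff.1 (sep g hg k hk m).2)
  have c3 : K2 ≤ C(K1) := h.comm (l2.trans l0) (l1.trans l0) (c2.trans inf_le_right) (c1.trans inf_le_right)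
  have cjK : ∀ a ∈ A, a ∉ A ⊓ L → cj a K1 ≤ K2 := fun a ha m => by
    rw [cj_closure]
    refine closure_mono ?_
    rintro _ ⟨_, ⟨g, hg, rfl⟩, rfl⟩
    exact ⟨a * g, mul_mem (mem_sup_right ha) (lL hg), fun k => m ⟨ha, by simpa using mul_mem k (inv_mem hg)⟩,
      by group⟩
  have lU : ⁅V, K1⁆ ≤ V := c1.trans inf_le_left
  have x1' : x ∈ K1 := subset_closure ⟨1, one_mem _, by simp⟩
  have uU : u ∈ ⁅V, K1⁆ := commutator_mono le_rfl (zpowers_le.2 x1') hu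
  obtain ⟨n, hn, c⟩ := celt (A := A ⊓ L) (N := K1) (w := u) (inf_le_right.trans n1)
    ((h.fK.c.coprime_dvd_left (card_dvd inf_le_left)).coprime_dvd_right (card_dvd (l1.trans l0))) fun a ha => by
    obtain ⟨k, hk, e⟩ := mL a ha.2
    obtain ⟨k1, h1, k2, h2, rfl⟩ := (mem_sup_of_norm (norms_of_cents c3)).1 (e0 hk)
    exact ⟨k1, h1, by rw [e, mul_assoc k1, mem_cent.1 (c1 uU).2 k2 h2]; group⟩
  have wU : n * u * n⁻¹ ∈ ⁅V, K1⁆ := conj_mem_of_norm (commg_normr _ _ hn) uU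
  have ob : ∀ a ∈ A, a * (n * u * n⁻¹) * a⁻¹ ≠ n * u * n⁻¹ →
      a * (n * u * n⁻¹) * a⁻¹ ∈ (V ⊓ C(K1)) ⊓ C[n * u * n⁻¹] := fun a ha ne => ⟨⟨conj_mem_of_norm (h.nV ha) (lU wU), by
    have m : a ∉ A ⊓ L := fun m => ne (by rw [mem_cent.1 c a m]; group)
    have : cj a ⁅V, K1⁆ ≤ C(K1) := by
      rw [cj_comm, cj_of_mem_norm (h.nV ha)]
      exact (commutator_mono le_rfl (cjK a ha m)).trans (c2.trans inf_le_right)
    exact this (conj_mem_cj.2 wU)⟩, ab_cent1 h.ea (lU wU) (conj_mem_of_norm (h.nV ha) (lU wU))⟩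
  obtain ⟨W, lW, nW, w1, w2⟩ := h.fV
  have nM' : n ∈ M := mem_sup_left (l0 (l1 hn))
  have s' := sx.J (nM nM')
  have hw : n * u * n⁻¹ ∈ bx V (n * x * n⁻¹) := cj_bx (nM nM') ▸ conj_mem_cj.2 hu
  have xK : n * x * n⁻¹ ∈ K1 := mul_mem (mul_mem hn x1') (inv_mem hn)
  have w0 : n * u * n⁻¹ ≠ 1 := by simpa using u1
  generalize n * x * n⁻¹ = x' at s' hw xK
  generalize n * u * n⁻¹ = w at ob hw w0 wU
  have xW : zpowers x' ≤ N(W) := zpowers_le.2 (nW (mem_sup_left (l0 (l1 xK))))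
  obtain ⟨k, hk, ck⟩ := orbp ob
  have e1 : x' * w * x'⁻¹ * w⁻¹ ∈ W := by
    have m := w1 ⟨mul_mem (lU wU) hk.1, ck⟩
    have := mul_mem (conj_mem_of_norm (xW (mem_zpowers x')) m) (inv_mem m)
    have e : k * x'⁻¹ = x'⁻¹ * k := (mem_cent.1 hk.2 _ (inv_mem xK)).symm
    rwa [show x' * (w * k) * x'⁻¹ * (w * k)⁻¹ = x' * w * (k * x'⁻¹) * k⁻¹ * w⁻¹ by group, e,
      show x' * w * (x'⁻¹ * k) * k⁻¹ * w⁻¹ = x' * w * x'⁻¹ * w⁻¹ by group] at this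
  have e2 : bx V x' ≤ W := fun y hy => by
    by_cases y1 : y = 1
    · exact y1 ▸ one_mem _
    obtain ⟨j, hj, rfl⟩ := s'.tr _ (mul_mem (conj_mem_of_norm s'.nb hw) (inv_mem hw)) y hy (fun e => w0
      (s'.one hw (mem_cent1.2 (by rw [mul_inv_eq_one, mul_inv_eq_iff_eq_mul] at e; exact e.symm)))) y1
    exact conj_mem_of_norm (xW hj) e1
  have e3 : w ∈ ⁅W, K⁆ := commutator_mono e2 (zpowers_le.2 (l0 (l1 xK))) ((commg_commg s'.zn s'.cop).ge hw)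
  exact w0 (s'.one hw (cent_le_cent1 xK (op (norms_comm (le_sup_right.trans nW) h.fK.n) w2 e3 ob).2))

theorem det_false (hr : r.Prime) (r2 : r ≠ 2) (hC : Abelem r C) (nK : K ≤ N(C)) (nA : A ≤ N(C))
    (hK : e ∈ ⁅A, K⁆) (he : e ∈ K) (hd : d ∈ C) (d1 : d ≠ 1) (i : e * d * e⁻¹ = d⁻¹)
    (h : ∀ c ∈ C, e * c * e⁻¹ * c⁻¹ ∈ zpowers d) : False := by
  letI : CommGroup C := { (inferInstance : Group C) with mul_comm := hC.1.is_comm.comm }
  obtain ⟨δ, hδ⟩ := det_hom hr r2 C fun c => Subtype.ext (hC.2 c c.2)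
  set f := δ.comp C.normalizerMonoidHom with hf
  have k : im f ⁅A, K⁆ = ⊥ := le_bot_iff.1 (by
    rw [im_comm nA nK]
    exact commg_le_iff.2 fun x _ y _ => by simp [mul_comm])
  refine hδ (C.normalizerMonoidHom ⟨e, nK he⟩) ⟨d, hd⟩ (fun e => d1 (congrArg Subtype.val e)) (Subtype.ext i)
    (fun c => ?_) (mem_bot.1 (k ▸ mem_im_of (f := f) (x := ⟨e, nK he⟩) hK))
  obtain ⟨j, hj⟩ := h c c.2
  exact ⟨j, Subtype.ext (by simpa using hj)⟩

theorem Md.t4 (h : Md V K A) (hd : d ∈ Fit K) (c : #(bx V d) ≤ 4) : d = 1 :=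
  (h.mono (Fit_normal K) (norms_Fit h.fK.n)).sing0 (fun T l k _ => le_bot_iff.1 fun t ht =>
    (og_Fit h.o2).eq_one (l ht) (k t ht)) hd (Od.sg ⟨h.ea, h.n (Fit_le K hd), (og_Fit h.o2).elt hd⟩ c)

/-- a minimal invariant `r`-subgroup not centralised by `e` -/
structure Mc (V K A C : Subgroup X) (e : X) (r : ℕ) : Prop extends Md V K A where
  he : e ∈ K
  e2 : e * e = 1
  b : #V ≤ 4 * #(V ⊓ C[e])
  pr : r.Prime
  r2 : r ≠ 2
  le : C ≤ Fit K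
  nC : K ⊔ A ≤ N(C)
  ne : e ∉ C(C)
  ex : ∀ c ∈ C, c ^ r = 1
  min : ∀ D < C, K ⊔ A ≤ N(D) → D ≤ C(C) ⊓ C[e]

theorem Md.mc (h : Md V K A) (he : e ∈ K) (e2 : e * e = 1) (e1 : e ≠ 1) (b : #V ≤ 4 * #(V ⊓ C[e])) :
    ∃ C r, Mc V K A C e r := by
  have oF := og_Fit h.o2
  obtain ⟨r, hr, nr⟩ : ∃ r, r.Prime ∧ ¬ Oc {r} K ≤ C[e] := by
    by_contra! k
    exact e1 (oF.eq_one (cent_Fit_le h.sol ⟨he, le_cent1_iff.1 (Fit_le_of_Oc k)⟩) e2)
  have r2 : r ≠ 2 := fun e => nr (e ▸ h.o2 ▸ bot_le)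
  have nK : K ⊔ A ≤ N(K) := sup_le le_normalizer h.fK.n
  obtain ⟨C, ⟨lC, nC, ne⟩, mn⟩ := (wellFounded_lt (α := Subgroup X)).has_min
    {C | C ≤ Oc {r} K ∧ K ⊔ A ≤ N(C) ∧ e ∉ C(C)} ⟨_, le_rfl, norms_Oc _ nK, fun k => nr (le_cent1_iff.2 k)⟩
  have lF := lC.trans (Oc_le_Fit r K)
  have lK := lF.trans (Fit_le K)
  have oC : OG C := oF.of_le lF
  have eM : zpowers e ≤ K ⊔ A := zpowers_le.2 (mem_sup_left he)
  have m1 : ∀ D < C, K ⊔ A ≤ N(D) → Kc (zpowers e) (K ⊔ A) ≤ C(D) := fun D l n =>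
    Kc_cents (zpowers_le.2 (by_contra fun k => mn D ⟨l.le.trans lC, n, k⟩ l)) n
  have m2 : ⁅C, Kc (zpowers e) (K ⊔ A)⁆ = C := by_contra fun k => ne (cents_of_commg_le_cent (eM.trans nC)
    (oC.cop (pg_zpowers e2)) ((commutator_mono le_rfl le_Kc).trans (cents_symm (le_Kc.trans (m1 _
      (lt_of_le_of_ne (commg_le_left ((Kc_le eM).trans nC)) k) (norms_comm nC Kc_norm))))) (mem_zpowers e))
  have m3 : ∀ D < C, K ⊔ A ≤ N(D) → D ≤ C(C) ⊓ C[e] := fun D l n => by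
    refine le_inf (cents_symm (commg_eq_bot.1 ?_)) (le_cent1_iff.2 (m1 D l n (le_Kc (mem_zpowers e))))
    rw [← m2]
    refine three_subgroup (by rw [commg_eq_bot.2 (m1 D l n)]; simp) (commg_eq_bot.2 ?_)
    exact (commg_le_left (lK.trans (le_sup_left.trans n))).trans (cents_symm (m1 D l n))
  refine ⟨C, r, h, he, e2, b, hr, r2, lF, nC, ne, ?_, m3⟩
  have pC : PG r C := (Oc_pi _ K).of_le lC
  have d1 : ⁅C, C⁆ ≤ C(C) := (m3 _ (sol_der_lt pC.sol fun e => ne (by simp [e])) (norms_der nC)).trans inf_le_left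
  obtain ⟨c, hc, c1⟩ := exists_comm ne
  have hd : c * e * c⁻¹ * e⁻¹ ∈ C := by
    have := mul_mem hc (conj_mem_of_norm (nC (mem_sup_left he)) (inv_mem hc))
    simpa only [mul_assoc] using this
  obtain ⟨d, hd', o⟩ := exists_orderOf_eq_prime hr ((pC.of_le (zpowers_le.2 hd)).dvd_of_ne_bot (by simpa))
  obtain ⟨j, rfl⟩ := mem_zpowers_iff.1 hd'
  have m4 : Ohm1 r C = C := by_contra fun k => by
    have := inv_one (oC.elt (zpow_mem hd j)) (by rw [← conj_zpow, comm_inv e2, inv_zpow]) (m3 _ (lt_of_le_of_ne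
      (Ohm1_le r C) k) (norms_Ohm1 r nC) (H19.mem_Ohm1 (zpow_mem hd j) (o ▸ pow_orderOf_eq_one _))).2
    rw [this, orderOf_one] at o
    exact hr.one_lt.ne o
  let Ω : Subgroup X :=
    { carrier := {x | x ∈ C ∧ x ^ r = 1}
      one_mem' := ⟨one_mem _, one_pow _⟩
      inv_mem' := fun {x} (hx : x ∈ C ∧ x ^ r = 1) => ⟨inv_mem hx.1, (inv_pow x r).trans (inv_eq_one.2 hx.2)⟩
      mul_mem' := fun {x y} hx hy => ⟨mul_mem hx.1 hy.1, by
        have m := d1 (comm_mem (inv_mem hy.1) (inv_mem hx.1))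
        obtain ⟨k1, k2⟩ := pow_cls (a := x) (b := y) (c := y⁻¹ * x⁻¹ * y⁻¹⁻¹ * x⁻¹⁻¹) (by group)
          (mem_cent.1 m x hx.1) (mem_cent.1 m y hy.1) r
        rw [hy.2, one_mul, mul_one, left_eq_mul] at k2
        obtain ⟨i, hi⟩ : r ∣ r.choose 2 := hr.dvd_choose_self two_ne_zero (lt_of_le_of_ne hr.two_le r2.symm)
        rw [k1, hx.2, hy.2, hi, pow_mul, k2]; simp⟩ }
  exact fun x hx => ((Ohm1_le_iff (K := Ω)).2 (fun x h1 h2 => ⟨h1, h2⟩) (m4.symm ▸ hx)).2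

theorem Mc.lK (h : Mc V K A C e r) : C ≤ K := h.le.trans (Fit_le K)
theorem Mc.og (h : Mc V K A C e r) : OG C := (og_Fit h.o2).of_le h.le
theorem Mc.od (h : Mc V K A C e r) (hd : d ∈ C) : Od V d := ⟨h.ea, h.n (h.lK hd), h.og.elt hd⟩
theorem Mc.eN (h : Mc V K A C e r) : e ∈ N(C) := h.nC (mem_sup_left h.he)
theorem Mc.cm (h : Mc V K A C e r) (hc : c ∈ C) : c * e * c⁻¹ * e⁻¹ ∈ C := by
  simpa only [mul_assoc] using mul_mem hc (conj_mem_of_norm h.eN (inv_mem hc))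

theorem Mc.ab (h : Mc V K A C e r) (ha : Ab C) : False := by
  have zn : zpowers e ≤ N(C) := zpowers_le.2 h.eN
  have lE : ⁅C, zpowers e⁆ ≤ C := commg_le_left zn
  have iv : ∀ d ∈ ⁅C, zpowers e⁆, e * d * e⁻¹ = d⁻¹ := fun d hd => by
    have m := conj_mem_of_norm (commg_normr _ _ (mem_zpowers e)) hd
    refine eq_inv_of_mul_eq_one_left (mem_bot.1 (ab_commg_inf_cent ha zn (h.og.cop (pg_zpowers h.e2)) ▸
      mem_inf.2 ⟨mul_mem m hd, ?_⟩))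
    rw [cent_zpowers, mem_cent1, mul_comm_of_comm ha (lE m) (lE hd)]
    have : e⁻¹ = e := inv_eq_of_mul_eq_one_right h.e2
    calc _ = d * e * d := by group
      _ = e * e * d * e * d := by rw [h.e2]; group
      _ = e * (e * d * e⁻¹ * d) := by rw [this]; group
      _ = _ := by rw [mul_comm_of_comm ha (lE m) (lE hd)]
  have k : ∀ d ∈ ⁅C, zpowers e⁆, d ≠ 1 → ∀ d' ∈ ⁅C, zpowers e⁆, V ⊓ C[d] ≤ C[d'] := fun d hd d1 d' hd' => by
    have := (inv_bound (h.od (lE hd)) (h.n h.he) h.e2 h.b (iv d hd)).2.resolve_right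
      fun c => d1 (h.toMd.t4 (h.le (lE hd)) c)
    exact le_cent1_iff.2 (inv_cent h.e2 (h.og.elt (lE hd')) (iv d' hd') (le_cent1_iff.1 this)
      (norms_inf (zpowers_le.2 (h.od (lE hd')).n) (norms_cent1 (zpowers_le.2
        (mem_cent1.2 (mul_comm_of_comm ha (lE hd') (lE hd))))) (mem_zpowers d')))
  obtain ⟨c, hc, c1⟩ := exists_comm h.ne
  have hd := comm_mem hc (mem_zpowers e)
  generalize c * e * c⁻¹ * e⁻¹ = d at c1 hd
  have cy : Cyc ⁅C, zpowers e⁆ := by_contra fun m => c1 (h.one (h.lK (lE hd)) (le_cent1_iff.1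
    (le_of_cent1_le (comm_mono ha lE) m (lE.trans (h.lK.trans h.n)) (OG.cop (h.og.of_le lE) (ab_pg h.ea)).symm
      fun x hx x1 => k x hx x1 d hd)))
  obtain ⟨x, hx⟩ := cyc_iff.1 cy
  have mx : x ∈ ⁅C, zpowers e⁆ := hx ▸ mem_zpowers x
  refine det_false h.pr h.r2 ⟨ha, h.ex⟩ (le_sup_left.trans h.nC) (le_sup_right.trans h.nC) (h.fK.le_comm h.he h.e2) h.he
    (lE mx) (fun e => c1 (by rw [← hx] at hd; simpa [e] using hd)) (iv x mx) fun c hc => ?_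
  rw [hx, commg_comm]
  exact comm_mem (mem_zpowers e) hc

end H25.FB
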