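import Cfsg.Agent.H25.FB3

/-! Overgroups of the Sylow subgroup (coprime version). -/

set_option autoImplicit false
set_option linter.unusedVariables false
set_option linter.unusedSectionVars false

namespace H25.FB
open Cfsg Subgroup H18 H17.GS
open H19 hiding eq_bot_mono
open H8.FS hiding Fx Md Mc Nb Rd Lk Cx det_false rd_kc exists_hv main_aux main_of Main
open H29.PU (zj bm)
open scoped commutatorElement

universe u
variable {X : Type u} [Group X] [Finite X] {A B C D E F G H K L M N O P Q R S T U V W Y Z : Subgroup X}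
  {a b c d e f g k n s t u v w x y z : X} {p r : ℕ}

local notation "p2" => Nat.prime_two
local notation:max "Ω(" S ")" => Ohm1 2 Z(S)

/-- the local hypotheses -/
structure Fz (A H : Subgroup X) : Prop where
  n : A ≤ N(H)
  c : (#A).Coprime #H
  z2 : ∀ x ∈ H, x ∈ C(A) → PiE {2} x → ∀ P ≤ H, PG 2 P → A ≤ N(P) → x ∈ C(P)
  q3 : ∀ V ≤ H, Abelem 2 V → A ≤ N(V) → ∃ W ≤ V, (H ⊓ N(V)) ⊔ A ≤ N(W) ∧ V ⊓ C(A) ≤ W ∧
    ⁅W, H ⊓ N(V)⁆ ⊓ C(A) = ⊥

theorem Fz.mono (h : Fz A N) (l : M ≤ N) (nM : A ≤ N(M)) : Fz A M :=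
  ⟨nM, h.c.coprime_dvd_right (card_dvd l), fun x hx c x2 P lP => h.z2 x (l hx) c x2 P (lP.trans l),
    fun V lV ea nV => by
      obtain ⟨W, k1, k2, k3, k4⟩ := h.q3 V (lV.trans l) ea nV
      exact ⟨W, k1, (sup_le_sup_right (inf_le_inf_right _ l) _).trans k2, k3,
        le_bot_iff.1 (k4 ▸ inf_le_inf_right _ (commutator_mono le_rfl (inf_le_inf_right _ l)))⟩⟩

/-- `V` is a `2`-reduced module for the solvable group `H` -/
structure Rd (V H A : Subgroup X) : Prop where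
  ea : Abelem 2 V
  le : V ≤ H
  n : H ≤ N(V)
  nA : A ≤ N(V)
  fx : Fz A H
  sol : Sol H
  red : ∃ S, Syl 2 S H ∧ ∀ D, D ⊴ H → D ≤ C(V) ⊔ S → D ≤ C(V)

theorem hol_norm {Y : Type u} [Group Y] [Finite Y] {f : N(V) →* Y} {ι : V →* Y} (k : Hol V f ι) (l : W ≤ V)
    (n : E ≤ N(W)) : im f E ≤ N(im ι W) := fun g hg => mem_norm_of_cj_le fun y hy => by
  obtain ⟨g, hg', rfl⟩ := mem_im.1 hg
  obtain ⟨y, hy', rfl⟩ := mem_cj'.1 hy
  obtain ⟨v, hv, rfl⟩ := mem_im.1 hy'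
  rw [k.act]; exact mem_im_of (conj_mem_of_norm (n hg') hv)

theorem hol_comm {Y : Type u} [Group Y] [Finite Y] {f : N(V) →* Y} {ι : V →* Y} (k : Hol V f ι) :
    ⁅im ι W, im f E⁆ ≤ im ι ⁅W, E⁆ := commg_le_iff.2 fun v hv g hg => by
  obtain ⟨g, hg', rfl⟩ := mem_im.1 hg
  obtain ⟨v, hv', rfl⟩ := mem_im.1 hv
  rw [← map_inv, mul_assoc, mul_assoc, ← mul_assoc (f g), k.act, ← map_mul]
  refine mem_im_of ?_
  have := comm_mem hv' hg'
  rw [mul_assoc, mul_assoc, ← mul_assoc (g : X)] at this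
  exact this

theorem Rd.md {Y : Type u} [Group Y] [Finite Y] {f : N(V) →* Y} {ι : V →* Y} (h : Rd V H A) (k : Hol V f ι) :
    Md (im ι V) (im f H) (im f A) := by
  refine ⟨abelem_im h.ea ι, k.norm H, le_bot_iff.1 fun y hy => ?_, sol_im h.sol f, ?_,
    ⟨im_norms h.fx.n, cop_im h.fx.c f, fun y hy cy y2 => ?_⟩, k.norm A, ?_⟩
  · obtain ⟨g, -, rfl⟩ := mem_im.1 hy.1
    exact k.ker g (k.ker' g hy.2)
  · obtain ⟨S, hS, r⟩ := h.red
    have := r (H ⊓ pre f (Oc {2} (im f H))) (inf_normal_of_norm' (norms_pre h.n (Oc_norm _ _))) fun g hg => by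
      obtain ⟨m, k1⟩ := mem_pre.1 hg.2
      obtain ⟨s, hs, e⟩ := mem_im.1 (Oc_le_hall (hS.im h.n f) k1)
      have := (k.eq_one (⟨g, m⟩ * s⁻¹)).1 (by rw [map_mul, map_inv, e, mul_inv_cancel])
      rw [← inv_mul_cancel_right g s]
      exact mul_mem_sup this hs
    refine le_bot_iff.1 fun y hy => ?_
    obtain ⟨g, hg, rfl⟩ := mem_im.1 (Oc_le _ _ hy)
    exact k.ker g (this ⟨hg, coe_mem_pre.2 hy⟩)
  · obtain ⟨x, a, b, c, rfl⟩ := lift f h.fx.n h.fx.c h.nA h.n hy cy y2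
    exact k.ker x (h.fx.z2 x a b c V h.le (ab_pg h.ea) h.nA)
  · obtain ⟨W, k1, k2, k3, k4⟩ := h.fx.q3 V h.le h.ea h.nA
    rw [inf_eq_left.2 h.n] at k2 k4
    refine ⟨im ι W, im_mono k1, sup_le (hol_norm k k1 (le_sup_left.trans k2)) (hol_norm k k1 (le_sup_right.trans k2)),
      k.cent h.nA ▸ im_mono k3, le_bot_iff.1 fun y hy => ?_⟩
    obtain ⟨v, hv, rfl⟩ := mem_im.1 (hol_comm k hy.1)
    obtain ⟨w, hw, e⟩ := mem_im.1 ((k.cent h.nA).le ⟨mem_im_of v.2, hy.2⟩)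
    obtain rfl := k.inj e
    rw [show w = 1 from Subtype.ext (mem_bot.1 (k4 ▸ mem_inf.2 ⟨hv, hw.2⟩)), map_one]
    exact one_mem _

theorem Rd.off (h : Rd V H A) (l : E ≤ H) (hE : ∀ x ∈ E, x * x ∈ C(V))
    (b : #V * #(E ⊓ C(V)) ≤ 2 * #E * #(V ⊓ C(E))) : E ≤ C(V) := by
  obtain ⟨Y, _, _, f, ι, k⟩ := exists_hol V
  have l' := l.trans h.n
  have := (h.md k).off (im_mono l) (H8.FS.abelem_of_sq fun t ht => by
    obtain ⟨g, hg, rfl⟩ := mem_im.1 ht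
    rw [← map_mul]; exact k.ker _ (hE g hg)) (by
      rw [k.cent l', k.card le_rfl, k.card inf_le_left]
      refine Nat.le_of_mul_le_mul_right (b.trans ?_) (card_pos (E ⊓ C(V)))
      rw [← k.card' l']; exact le_of_eq (by ring))
  exact fun g hg => (k.eq_one ⟨g, l' hg⟩).1 (mem_bot.1 (this ▸ mem_im_of hg))

theorem Rd.n1 (h : Rd V H A) (hy : y ∈ H) (y2 : PiE {2} y) (b : #V ≤ 4 * #(V ⊓ C[y])) : y ∈ C(V) := by
  obtain ⟨Y, _, _, f, ι, k⟩ := exists_hol V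
  refine (k.eq_one ⟨y, h.n hy⟩).1 (by_contra fun m => ?_)
  obtain ⟨t, ht, t2⟩ := exists_inv_pg (H := zpowers (f ⟨y, h.n hy⟩))
    (piG_zpowers.2 (y2.dvd ((orderOf_map_dvd f _).trans (by simp)))) (by simpa)
  refine ne_one_of_ord2 t2 ((h.md k).n1 (zpowers_le.2 (mem_im_of hy) ht) (mul_self_of_ord2 t2) ?_)
  rw [k.card le_rfl]
  refine b.trans (Nat.mul_le_mul_left _ ?_)
  rw [← k.card inf_le_left, ← k.cent1 ⟨y, h.n hy⟩]
  exact card_le (inf_le_inf_left _ (cent1_le_cent1_of_mem_zpowers ht))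

theorem Rd.sing (h : Rd V H A) (hx : x ∈ H) (s : Sg V x) : x ∈ C(V) := by
  obtain ⟨Y, _, _, f, ι, k⟩ := exists_hol V
  exact (k.eq_one ⟨x, h.n hx⟩).1 ((h.md k).sing (mem_im_of hx) (k.sg ⟨x, h.n hx⟩ s))

theorem rd_kc (hS : Syl 2 S H) (fx : Fz A H) (sol : Sol H) (nA : A ≤ N(S)) (ea : Abelem 2 (Kc Ω(S) H)) :
    Rd (Kc Ω(S) H) H A :=
  ⟨ea, Kc_le ((Ohm1_le _ _).trans (inf_le_left.trans hS.le)), Kc_norm,
    norms_Kc (nA.trans (norm_le_norm_Ohm1_center 2 S)) fx.n, fx, sol, S, hS, fun D n l => cents_symm (Kc_cents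
      (cents_symm (l.trans (sup_le (cent_mono le_Kc) (cents_symm ((Ohm1_le _ _).trans inf_le_right))))) n.norm)⟩

theorem Rd.le_zj (h : Rd V H A) (l1 : V ≤ R) (l2 : R ≤ H) : V ≤ zj 2 R := fun v hv =>
  H9.mem_omegaOneCenter_JJ_iff.2 fun E hE => hE.le_of_le_centralizer l1 (H9.abE_iff_ea.2 h.ea) (cents_symm
    (h.off (hE.le.trans l2) (fun x hx => sq_one hE.ea hx ▸ one_mem _)
      ((max_bound hE hE.le hE.ea h.ea l1).trans (Nat.mul_le_mul_right _ (by omega))))) hv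

/-- the class of overgroups -/
structure Lk (S V A H : Subgroup X) : Prop where
  syl : Syl 2 S H
  fx : Fz A H
  sol : Sol H
  ch : S ⊓ C(Oc {2} H) ≤ Oc {2} H
  nb : H ⊓ N(bm 2 S) ≤ N(V)

/-- a minimal counterexample -/
structure Cx (S V A H N : Subgroup X) : Prop extends Vs S V A, Lk S V A H where
  ne : ¬ H ≤ Mx H V
  min : ∀ L, S ≤ L → L ≤ H → A ≤ N(L) → L = H ∨ L ≤ Mx H V
  lN : N ≤ Mx H V
  nN : H ≤ N(N)
  aN : A ≤ N(N)
  max : ∀ D ≤ Mx H V, H ≤ N(D) → A ≤ N(D) → D ≤ N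

namespace Cx
variable (h : Cx S V A H N)
include h

theorem lM : Mx H V ≤ H := sup_le inf_le_left inf_le_left
theorem sM : S ≤ Mx H V := (le_inf h.syl.le h.nS).trans le_sup_left
theorem aQ : A ≤ N(Oc {2} H) := norms_Oc _ h.fx.n
theorem aM : A ≤ N(Mx H V) :=
  norms_sup (norms_inf h.fx.n (norms_norm h.nA)) (norms_inf h.fx.n (norms_cent h.aQ))
theorem QS : Oc {2} H ≤ S := Oc_le_hall h.syl
theorem nrm : N ⊴ H := ⟨h.lN.trans h.lM, h.nN⟩
theorem QN : Oc {2} H ≤ N := h.max _ (h.QS.trans h.sM) (Oc_norm _ _) h.aQ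
theorem CN : H ⊓ C(Oc {2} H) ≤ N := h.max _ le_sup_right (Oc_normal _ H).inf_cent.norm
  (norms_inf h.fx.n (norms_cent h.aQ))

theorem norm (h1 : S ≤ N(Y)) (h2 : A ≤ N(Y)) : H ≤ N(Y) ∨ H ⊓ N(Y) ≤ Mx H V :=
  (h.min _ (le_inf h.syl.le h1) inf_le_left (norms_inf h.fx.n (norms_norm h2))).imp_left inf_eq_left.1

theorem s1 : S ⊓ N ≤ Oc {2} H :=
  le_Oc ⟨inf_le_left.trans h.syl.le, (h.norm (norms_inf le_normalizer (h.syl.le.trans h.nN))
    (norms_inf h.nAS h.aN)).resolve_right fun k => h.ne (((h.syl.inf_normal h.nrm).frattini h.nrm).ge.trans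
      (sup_le h.lN k))⟩ (h.syl.pi.of_le inf_le_left)

theorem s2 : Oc {2} (quo N H) = ⊥ := by
  have := h.max (qpre N (Oc {2} (quo N H))) ((qpre_mono (Oc_le_hall (h.syl.quo h.nN))).trans
    (by rw [qpre_quo (h.syl.le.trans h.nN)]; exact sup_le h.lN h.sM)) (qpre_normal h.nrm (Oc_normal _ _)).norm
    (norms_qpre h.aN (norms_Oc _ (quo_norms h.fx.n)))
  rw [← quo_qpre (Oc {2} (quo N H))]; exact quo_eq_bot this

theorem nF : qpre N (Fit (quo N H)) ⊴ H := qpre_normal h.nrm (Fit_normal _)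
theorem aF : A ≤ N(qpre N (Fit (quo N H))) := norms_qpre h.aN (norms_Fit (quo_norms h.fx.n))

theorem s3 : Mx H V ⊓ qpre N (Fit (quo N H)) ≤ N := by
  have a0 := norms_inf h.aM h.aF
  refine h.max _ inf_le_left ((h.norm (norms_inf (norms_of_le h.sM) (h.nF.norms h.syl.le)) a0).elim id fun k => ?_) a0
  have l : N ≤ Mx H V ⊓ qpre N (Fit (quo N H)) := le_inf h.lN (le_qpre _)
  have := nil_eq_of_norm_le (Fit_nil (quo N H)) (H := quo N (Mx H V ⊓ qpre N (Fit (quo N H))))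
    ((quo_mono _ inf_le_right).trans (quo_qpre _).le) fun x hx => by
      obtain ⟨x, rfl⟩ := qmk_surj N x
      have m : (x : X) ∈ qpre N (Fit (quo N H)) := coe_mem_pre.2 hx.1
      refine mem_im_of ⟨k ⟨h.nF.le m, norms_of_quo' (zpowers_le.2 x.2) (inf_le_right.trans (qpre_le_norm _)) l
        (by rw [quo_zpowers x.2]; exact zpowers_le.2 hx.2) (mem_zpowers _)⟩, m⟩
  rw [← qpre_quo_of_le (inf_le_right.trans (qpre_le_norm _)) l, this]
  exact h.nF.norm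

theorem s4 : S ⊓ qpre N (Fit (quo N H)) ≤ Oc {2} H :=
  (le_inf inf_le_left (quo_eq_bot_of_pi (inf_le_right.trans (qpre_le_norm _)) (h.syl.pi.of_le inf_le_left)
    ((og_Fit h.s2).of_le ((quo_mono _ inf_le_right).trans (quo_qpre _).le)))).trans h.s1

theorem hg (l : E ≤ S) (hE : Abelem 2 E) (m : ¬ E ≤ Oc {2} H) : ∃ B, Hyp B E ∧ E ⊓ Oc {2} H ≤ B ∧ ∃ e ∈ E,
    ∃ g ∈ H ⊓ N(B ⊔ Oc {2} H), ∃ y ∈ zpowers (e * (g * e * g⁻¹)), PiE {2}ᶜ y ∧ y ∈ qpre N (Fit (quo N H)) ∧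
      y ∉ Mx H V := by
  have lH := l.trans h.syl.le
  have nE := lH.trans h.nN
  obtain ⟨B', hB, e', he, d, hd, d1, i⟩ := exists_hyp_inv (abelem_quo hE N) (og_Fit h.s2)
    ((quo_mono N lH).trans (Fit_norm _)) fun c => m ((le_inf l ((quo_le_iff nE).1
      ((le_inf (quo_mono N lH) c).trans (cent_Fit_le (sol_quo h.sol N))))).trans h.s4)
  obtain ⟨e, he', rfl⟩ := mem_im.1 he
  obtain ⟨g0, rfl⟩ := qmk_surj N d
  have g0F : (g0 : X) ∈ qpre N (Fit (quo N H)) := coe_mem_pre.2 hd.1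
  set B := E ⊓ qpre N B' with hBd
  have qB : quo N B = B' := by rw [hBd, quo_inf_qpre, inf_eq_right.2 hB.le]
  have nB : B ≤ N(N) := inf_le_left.trans nE
  have nQ : B ≤ N(Oc {2} H) := inf_le_left.trans (lH.trans (Oc_norm _ _))
  have nR : B ⊔ Oc {2} H ≤ N(N) := sup_le nB ((Oc_le _ _).trans h.nN)
  have eY : N ⊔ (B ⊔ Oc {2} H) = N ⊔ B := le_antisymm (sup_le le_sup_left (sup_le le_sup_right
    (h.QN.trans le_sup_left))) (sup_le_sup_left le_sup_left _)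
  have sQ : Syl 2 (Oc {2} H) N := le_antisymm h.s1 (le_inf h.QS h.QN) ▸ h.syl.inf_normal h.nrm
  have sR : Syl 2 (B ⊔ Oc {2} H) (N ⊔ B) := eY ▸ syl_mk le_sup_right
    (h.syl.pi.of_le (sup_le (inf_le_left.trans l) h.QS))
    (by rw [relIndex_sup_right_of_norm nR]; exact sQ.not_dvd_relIndex p2 le_sup_right)
  have gY : (g0 : X) ∈ N(N ⊔ B) := norms_of_quo (zpowers_le.2 g0.2) nB
    (by rw [quo_zpowers g0.2, qB]; exact zpowers_le.2 (cent_le_norm _ hd.2)) (mem_zpowers _)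
  obtain ⟨y, hy, ey⟩ := (sR.Jnorm gY).sconj sR
  obtain ⟨r, hr, n, hn, rfl⟩ := (mem_sup_of_norm' nR).1 (by rw [sup_comm, eY]; exact hy)
  have nn := le_normalizer hn
  have eg : qmk N (⟨n, nn⟩ * g0) = qmk N g0 := by rw [map_mul, qmk_eq_one.2 hn, one_mul]
  obtain ⟨k, o⟩ := odd_part ((e : X) * (n * g0 * e * (n * g0)⁻¹))
  have q : qmk N ((e * (⟨n, nn⟩ * g0 * e * (⟨n, nn⟩ * g0)⁻¹)) ^ 2 ^ k) = (qmk N g0)⁻¹ ^ 2 ^ (k + 1) := by
    have e2 : (qmk N e)⁻¹ = qmk N e := inv_eq (abelem_quo hE N) he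
    rw [map_pow, map_mul, map_mul, map_mul, map_inv, eg, pow_succ', pow_mul, pow_two]
    congr 1
    nth_rw 2 [← e2]
    rw [← mul_assoc, ← mul_assoc, i]
  have yF : ((e : X) * (n * g0 * e * (n * g0)⁻¹)) ^ 2 ^ k ∈ qpre N (Fit (quo N H)) :=
    (coe_mem_pre (x := (e * (⟨n, nn⟩ * g0 * e * (⟨n, nn⟩ * g0)⁻¹)) ^ 2 ^ k)).2 (q ▸ pow_mem ((Fit _).inv_mem hd.1) _)
  refine ⟨B, ⟨inf_le_left, ?_⟩, inf_le_inf_left _ (h.QN.trans (le_qpre _)), e, he', n * g0,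
    ⟨mul_mem (h.nrm.le hn) (h.nF.le g0F), mem_norm_iff_cj.2 ?_⟩, _, pow_mem (mem_zpowers _) _, o, yF, fun k => d1 ?_⟩
  · have n1 : E ≤ N(qpre N B') := norms_qpre nE (norms_of_comm (abelem_quo hE N).1 le_rfl hB.le)
    have e1 : qpre N B' ⊔ E = N ⊔ E := le_antisymm (sup_le ((qpre_mono hB.le).trans (qpre_quo nE).le) le_sup_right)
      (sup_le_sup_right (le_qpre _) _)
    rw [hBd, inf_comm, inf_relIndex_right, ← relIndex_sup_of_norm n1, e1, relIndex_qpre' (left_normal_sup nE),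
      quo_sup_left nE, hB.idx]
  · rw [cj_mul, cj_eq_iff, cj_of_mem (inv_mem hr)] at ey
    rw [cj_mul, ey]
  · exact inv_eq_one.1 (odd_pow ((og_Fit h.s2).elt ((Fit _).inv_mem hd.1)) _ (q ▸ qmk_eq_one.2 (h.s3 ⟨k, yF⟩)))

theorem cΩ : H ≤ C(Ω(S)) := by
  have nQ := Oc_norm {2} H
  have l : Kc Ω(S) H ≤ Ω(Oc {2} H) := Kc_le_of (Ohm1_mono 2 (le_inf
    ((inf_le_inf_left _ (cent_mono h.QS)).trans h.ch) (inf_le_right.trans (cent_mono h.QS))))
    (nQ.trans (norm_le_norm_Ohm1_center 2 _))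
  have r := rd_kc h.syl h.fx h.sol h.nAS (abelem_mono (abelem_Ohm1_center 2 _) l)
  have l2 := r.le_zj (l.trans ((Ohm1_le _ _).trans (inf_le_left.trans h.QS))) h.syl.le
  have n : H ⊓ C(Kc Ω(S) H) ⊴ H := inf_cent_normal r.n
  have := Fact.mk p2
  have e := H29.BB.bm_eq_of_le (p := 2) (T := S) (S := S ⊓ (H ⊓ C(Kc Ω(S) H))) (le_inf H29.PU.bm_le
    (le_inf (H29.PU.bm_le.trans h.syl.le) (inf_le_right.trans (cent_mono l2)))) inf_le_left
  rcases h.min ((H ⊓ C(Kc Ω(S) H)) ⊔ S) le_sup_right (sup_le inf_le_left h.syl.le)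
    (norms_sup (norms_inf h.fx.n (norms_cent r.nA)) h.nAS) with k | k
  · exact k.ge.trans (sup_le (inf_le_right.trans (cent_mono le_Kc)) (cents_symm ((Ohm1_le _ _).trans inf_le_right)))
  · refine absurd (((h.syl.inf_normal n).frattini n).ge.trans (sup_le (le_sup_left.trans k) ?_)) h.ne
    exact (le_inf inf_le_left ((le_inf inf_le_left (e ▸ H29.PU.nrm_bm inf_le_right)).trans h.nb)).trans le_sup_left

theorem cZ : Z(Oc {2} H) ≤ C(qpre N (Fit (quo N H))) := by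
  set F := qpre N (Fit (quo N H)) with hF
  obtain ⟨P, hP⟩ := exists_hall {2}ᶜ (sol_mono h.sol h.nF.le)
  have sQ : Syl 2 (Oc {2} H) F := le_antisymm h.s4 (le_inf h.QS (h.QN.trans (le_qpre _))) ▸ h.syl.inf_normal h.nF
  have nZ : H ≤ N(Z(Oc {2} H)) := (Oc_norm _ _).trans (norm_le_norm_center _)
  have pH := hP.le.trans h.nF.le
  have l1 : ⁅Z(Oc {2} H), P⁆ ≤ Z(Oc {2} H) := commg_le_left (pH.trans nZ)
  have l : ⁅Z(Oc {2} H), F⁆ ≤ ⁅Z(Oc {2} H), P⁆ := sQ.sup_compl hP ▸ commg_sup_right_le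
    ((commg_eq_bot.2 inf_le_right).le.trans bot_le) le_rfl (norms_of_cents (cents_symm (l1.trans inf_le_right)))
    (commg_normr _ _)
  have lS := l.trans (l1.trans (inf_le_left.trans h.QS))
  refine commg_eq_bot.1 (by_contra fun m => ?_)
  obtain ⟨t, ht, t2⟩ := exists_inv_pg (h.syl.pi.of_le (inf_le_left.trans lS)) ((h.syl.pi.of_le lS).meet_cent h.syl.pi
    (h.syl.le.trans (norms_comm nZ h.nF.norm)) m)
  exact ne_one_of_ord2 t2 (mem_bot.1 (ab_commg_inf_cent (comm_center _) (pH.trans nZ)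
    (((Oc_pi _ H).of_le inf_le_left).coprime hP.pi) ▸ mem_inf.2 ⟨l ht.1, cents_symm (pH.trans h.cΩ)
      (H19.mem_Ohm1 ⟨lS ht.1, ht.2⟩ (t2 ▸ pow_orderOf_eq_one t))⟩))

theorem case1 : V ≤ Oc {2} H := by
  by_contra m
  obtain ⟨B, hB, lB, e, he, g, hg, y, hy, o, yF, yM⟩ := h.hg h.lS h.ea m
  have nQ := Oc_norm {2} H
  have lR : B ⊔ Oc {2} H ≤ S := sup_le (hB.le.trans h.lS) h.QS
  obtain ⟨k1, k2⟩ := h.sym hB.le (by rw [hB.card, mul_comm]) (le_sup_left.trans (cj_of_mem_norm hg.2 ▸ cj_mono g lR))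
    ((cj_le_of_mem_norm hg.2 le_sup_left).trans lR)
  have c1 : V ≤ C(B ⊔ cj g B) := cents_sup (cents_of_comm h.ea.1 le_rfl hB.le) (cents_symm k1)
  have c2 : cj g V ≤ C(B ⊔ cj g B) := cents_sup (cents_symm k2)
    (cents_of_comm (abelem_J h.ea g).1 le_rfl (cj_mono g hB.le))
  have d1 : ⁅Oc {2} H, V⁆ ≤ B := (commg_le_inf (h.lS.trans (h.syl.le.trans nQ)) (h.QS.trans h.nS)).trans
    (inf_comm V _ ▸ lB)
  have d2 : ⁅Oc {2} H, cj g V⁆ ≤ cj g B := by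
    rw [← cj_of_mem_norm (nQ hg.1), ← cj_comm]; exact cj_mono g d1
  have zl : zpowers y ≤ V ⊔ cj g V := zpowers_le.2 (zpowers_le.2 (mul_mem_sup he (conj_mem_cj.2 he)) hy)
  have yH := h.nF.le yF
  exact yM (mem_sup_right ⟨yH, cents_of_commg_le_cent (zpowers_le.2 (nQ yH)) ((Oc_pi _ H).coprime (piG_zpowers.2 o))
    (((commutator_mono le_rfl zl).trans (commg_sup_right_le (d1.trans le_sup_left) (d2.trans le_sup_right)
      (norms_of_cents c1) (norms_of_cents c2))).trans (cents_symm (zl.trans (sup_le c1 c2)))) (mem_zpowers y)⟩)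

theorem exJ : ∃ E, H9.MaxAb 2 S E ∧ ¬ E ≤ Oc {2} H := by
  by_contra! k
  have e : zj 2 (Oc {2} H) = zj 2 S := by rw [zj, H9.JJ_eq_of_le (H9.JJ_le_iff.2 k) h.QS, zj]
  have n : H ⊓ C(zj 2 S) ⊴ H := inf_cent_normal (e ▸ H29.PU.nrm_zj (Oc_norm _ _))
  have f := (h.syl.inf_normal n).frattini n
  rw [← inf_assoc, inf_eq_left.2 h.syl.le] at f
  exact h.ne ((le_inf le_rfl (f.ge.trans (sup_le (inf_le_right.trans ((cent_mono h.le).trans (cent_le_norm _)))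
    h.nb))).trans le_sup_left)

theorem false : False := by
  obtain ⟨E, hE, m⟩ := h.exJ
  obtain ⟨B, hB, lB, e, he, g, hg, y, hy, o, yF, yM⟩ := h.hg hE.le hE.ea m
  have nQ := Oc_norm {2} H
  have yH := h.nF.le yF
  have yV : y ∉ N(V) := fun k => yM (mem_sup_left ⟨yH, k⟩)
  have lR : B ⊔ Oc {2} H ≤ S := sup_le (hB.le.trans hE.le) h.QS
  have eB := abelem_mono hE.ea hB.le
  have eV := abelem_J h.ea g⁻¹
  have l1 : cj g⁻¹ V ≤ S := (cj_le_of_mem_norm (inv_mem (nQ hg.1)) h.case1).trans h.QS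
  have k1 : B ≤ C(cj g⁻¹ V) := h.offJ g⁻¹ (le_sup_left.trans (cj_of_mem_norm (inv_mem hg.2) ▸ cj_mono _ lR)) eB (by
    have := max_bound hE (hB.le.trans hE.le) eB eV l1
    rwa [card_cj, hB.card, mul_comm _ 2] at this)
  have k2 : #V ≤ 2 * #(V ⊓ C[g * e * g⁻¹]) := by
    have c1 := card_sup_mul_inf (norms_of_cents k1)
    have c2 := hE.card_le (sup_le l1 (hB.le.trans hE.le)) (H9.abE_iff_ea.2 (abelem_sup eV eB (cents_symm k1)))
    have c3 : #(cj g⁻¹ V ⊓ B) ≤ #(V ⊓ C[g * e * g⁻¹]) := by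
      rw [← card_cj g, cj_inf, cj_cj_inv, ← H19.cj_cent1]
      exact card_le (inf_le_inf_left _ (cj_mono g (hB.le.trans (ab_cent1 hE.ea he))))
    rw [card_cj] at c1
    rw [hB.card] at c2
    exact Nat.le_of_mul_le_mul_right (c1.ge.trans ((Nat.mul_le_mul c2 c3).trans (le_of_eq (by ring)))) (card_pos B)
  have k3 : V ⊓ C[g * e * g⁻¹] ≤ C[y] := le_cent1_iff.2 (zpowers_le.2 (mul_mem (le_cent1_iff.1 (inf_le_left.trans
    (h.le.trans (hE.omegaOneCenter_JJ_le.trans (ab_cent1 hE.ea he))))) (le_cent1_iff.1 inf_le_right)) hy)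
  have k4 : V ⊓ C[g * e * g⁻¹] = V ⊓ cj y V := by
    have l : V ⊓ C[g * e * g⁻¹] ≤ V ⊓ cj y V := le_inf inf_le_left
      (cj_of_mem_cent (le_cent1_iff.1 k3) ▸ cj_mono y inf_le_left)
    have := pg_lt_card (ab_pg h.ea) (lt_of_le_of_ne (inf_le_left (b := cj y V)) fun e =>
      yV (mem_norm_of_le_cj (e.ge.trans inf_le_right)))
    exact eq_of_le_of_card_eq l (le_antisymm (card_le l) (by omega))
  have n0 : Oc {2} H ≤ N(V ⊓ C[g * e * g⁻¹]) := k4 ▸ norms_inf (h.QS.trans h.nS) (by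
    rw [← cj_of_mem_norm (nQ yH), ← cj_norm]; exact cj_mono y (h.QS.trans h.nS))
  have c0 : V ⊓ C[g * e * g⁻¹] ≤ C(zpowers y) := zp_cent k3
  have c1 := commg_eq_bot.1 (three_subgroup (H := Oc {2} H) (by rw [commg_eq_bot.2 (cents_symm c0)]; simp)
    (commg_eq_bot.2 ((commg_le_left n0).trans c0)))
  have c2 : ⁅Oc {2} H, zpowers y⁆ ≤ C(V) := fun q hq => h.n1 q (h.QS (commg_le_left (zpowers_le.2 (nQ yH)) hq))
    (k2.trans (Nat.mul_le_mul (by omega) (card_le (le_inf inf_le_left (le_cent1_iff.2 (c1 hq))))))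
  exact yV (cent_le_norm _ (le_cent1_iff.1 ((le_inf h.case1 (cents_symm c2)).trans
    (ab2 (Oc_pi _ H) (nQ yH) o (h.cZ.trans (cent_le_cent1 yF))))))

end Cx

theorem vs_ab (hV : Vs S V A) (h : Lk S V A H) : H ≤ Mx H V := by
  induction H using (wellFounded_lt (α := Subgroup X)).induction with
  | _ H ih =>
  by_contra ne
  obtain ⟨N, ⟨l, n1, n2⟩, mx⟩ := (wellFounded_gt (α := Subgroup X)).has_min
    {D | D ≤ Mx H V ∧ H ≤ N(D) ∧ A ≤ N(D)} ⟨⊥, bot_le, norms_of_cents (by simp), norms_of_cents (by simp)⟩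
  refine Cx.false (N := N) ⟨hV, h, ne, fun L l1 l2 nL => or_iff_not_imp_left.2 fun m => ?_, l, n1, n2,
    fun D k1 k2 k3 => by_contra fun m => mx (D ⊔ N) ⟨sup_le k1 l, norms_sup k2 n1, norms_sup k3 n2⟩
      (lt_of_le_of_ne le_sup_right fun e => m (le_sup_left.trans e.ge))⟩
  have q : Oc {2} H ≤ Oc {2} L := Oc_le_Oc_of_le l2 ((Oc_le_hall h.syl).trans l1)
  exact (ih L (lt_of_le_of_ne l2 m) ⟨h.syl.of_le l1 l2, h.fx.mono l2 nL, sol_mono h.sol l2,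
    ((inf_le_inf_left _ (cent_mono q)).trans h.ch).trans q, (inf_le_inf_right _ l2).trans h.nb⟩).trans
    (sup_le_sup (inf_le_inf_right _ l2) (inf_le_inf l2 (cent_mono q)))

end H25.FB
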