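import Cfsg.Agent.H25.FB4
import Cfsg.Agent.H4.SC9

/-! The simple case (coprime version). -/

set_option autoImplicit false
set_option linter.unusedVariables false
set_option linter.unusedSectionVars false

namespace H25.FB
open Cfsg Subgroup H18 H17.GS
open H19 hiding eq_bot_mono
open H8.FS hiding Fx Md Mc Nb Rd Lk Cx det_false rd_kc exists_hv main_aux main_of Main
open H29.PU (zj bm)
open scoped commutatorElement

universe u
variable {X : Type u} [Group X] [Finite X] {A B C D E F G H K L M N O P Q R S T U V W Y Z : Subgroup X}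
  {a b c d e f g k n s t u v w x y z : X} {p r : ℕ}

local notation "p2" => Nat.prime_two
local notation:max "Ω(" S ")" => Ohm1 2 Z(S)

theorem vs_gen (hV : Vs S V A) (hS : Syl 2 S H) (fx : Fz A H) (sol : Sol H) (nb : H ⊓ N(bm 2 S) ≤ N(V)) :
    H ≤ O(H) ⊔ (H ⊓ N(V)) := by
  have nO : O(H) ⊴ H := Oc_normal _ H
  set D := qpre O(H) (Oc {2} (quo O(H) H)) with hD
  have nD : D ⊴ H := qpre_normal nO (Oc_normal _ _)
  have aD : A ≤ N(D) := norms_qpre (norms_Oc _ fx.n) (norms_Oc _ (quo_norms fx.n))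
  have sT := hS.inf_normal nD
  have l1 : D ≤ O(H) ⊔ (H ⊓ N(V)) := (qpre_mono (Oc_le_hall (hS.quo nO.norm))).trans (by
    rw [qpre_quo (hS.le.trans nO.norm)]; exact sup_le_sup_left (le_inf hS.le hV.nS) _)
  have q : quo O(H) (S ⊓ D) = Oc {2} (quo O(H) H) := by
    have := sT.quo (nD.le.trans nO.norm)
    rw [hD, quo_qpre] at this
    exact this.eq_self (Oc_pi _ _)
  have l2 : H ⊓ C(S ⊓ D) ≤ D := (quo_le_iff (inf_le_left.trans nO.norm)).1 (by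
    have e := Fit_eq_Oc (Oc_quo_Oc {2}ᶜ H)
    rw [← e] at q ⊢
    exact (le_inf (quo_mono _ inf_le_left) (q ▸ quo_cents inf_le_right)).trans (cent_Fit_le (sol_quo sol _)))
  have nT : S ≤ N(S ⊓ D) := norms_inf le_normalizer (nD.norms hS.le)
  have l3 : S ⊓ D ≤ Oc {2} (H ⊓ N(S ⊓ D)) := le_Oc ⟨le_inf (inf_le_left.trans hS.le) le_normalizer, inf_le_right⟩ sT.pi
  refine (sT.frattini nD).ge.trans (sup_le l1 ((vs_ab hV ⟨hS.of_le (le_inf hS.le nT) inf_le_left,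
    fx.mono inf_le_left (norms_inf fx.n (norms_norm (norms_inf hV.nAS aD))), sol_mono sol inf_le_left,
    (le_inf inf_le_left ((inf_le_inf hS.le (cent_mono l3)).trans l2)).trans l3,
    (inf_le_inf_right _ inf_le_left).trans nb⟩).trans (sup_le ((inf_le_inf_right _ inf_le_left).trans le_sup_right)
      ((inf_le_inf inf_le_left (cent_mono l3)).trans (l2.trans l1)))))

theorem exists_hv (h : Fz A G) (hG : Sim G) (n : ⊤ ≤ N(G)) (hS : Syl 2 S G) (nS : A ≤ N(S)) (s1 : S ≠ ⊥)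
    (ih : ∀ H, H < G → A ≤ N(H) → Sol H) : ∃ V, V ≠ ⊥ ∧ H4.SD.HV0 G S V := by
  have := Fact.mk p2
  have k : ∀ Y ≤ S, Y ≠ ⊥ → A ≤ N(Y) → Fz A (G ⊓ N(Y)) ∧ Sol (G ⊓ N(Y)) := fun Y l y1 nY => by
    have f := h.mono inf_le_left (norms_inf h.n (norms_norm nY))
    refine ⟨f, ih _ (lt_of_le_of_ne inf_le_left fun e => ?_) f.n⟩
    exact hG.nsol (((hG.cases (l.trans hS.le) (e.ge.trans inf_le_right)).resolve_left y1) ▸ (hS.pi.of_le l).sol)
  set V := Kc Ω(S) (G ⊓ N(bm 2 S)) with hV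
  have o1 : Ω(S) ≠ ⊥ := hS.pi.Ohm1_center_ne_bot s1
  have oS : Ω(S) ≤ S := (Ohm1_le _ _).trans inf_le_left
  have v1 : V ≠ ⊥ := ne_bot_mono le_Kc o1
  have lz : V ≤ zj 2 S := Kc_le_of (H9.omegaOneCenter_le_omegaOneCenter_JJ 2 S) (by
    have e : zj 2 (bm 2 S) = zj 2 S := by rw [zj, H9.JJ_eq_of_le H29.PU.JJ_le_bm H29.PU.bm_le, zj]
    exact e ▸ H29.PU.nrm_zj inf_le_right)
  have lS : V ≤ S := lz.trans H29.PU.zj_le
  have ea : Abelem 2 V := abelem_mono (H28.ea_omegaOneCenter 2 _) lz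
  have nV : N(S) ≤ N(V) := norms_Kc (norm_le_norm_Ohm1_center 2 S)
    (norms_inf (le_top.trans n) (norms_norm (H29.PU.nrm_bm le_rfl)))
  have sV : S ≤ G ⊓ N(V) := le_inf hS.le (le_normalizer.trans nV)
  have e : Kc Ω(S) (G ⊓ N(V)) = V := le_antisymm (Kc_le_of le_Kc inf_le_right)
    (Kc_mono le_rfl (le_inf inf_le_left Kc_norm))
  obtain ⟨f1, s2⟩ := k V lS v1 (nS.trans nV)
  have r : Rd V (G ⊓ N(V)) A := by
    have := rd_kc (hS.of_le sV inf_le_left) f1 s2 nS (e.symm ▸ ea)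
    rwa [e] at this
  have vs : Vs S V A := ⟨lz, le_normalizer.trans nV, nS.trans nV, nS, fun E l hE b => r.off (l.trans sV)
    (fun x hx => sq_one hE hx ▸ one_mem _) b, fun y hy b => r.n1 (sV hy) (hS.pi.elt hy) b⟩
  have gen : ∀ H, S ≤ H → H ≤ G → A ≤ N(H) → Sol H → H ≤ O(H) ⊔ (H ⊓ N(V)) := fun H l1 l2 nH s =>
    vs_gen vs (hS.of_le l1 l2) (h.mono l2 nH) s ((inf_le_inf_right _ l2).trans Kc_norm)
  have aΩ : A ≤ N(Ω(S)) := nS.trans (norm_le_norm_Ohm1_center 2 S)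
  have sC : Sol (G ⊓ C(Ω(S))) := sol_mono (k _ oS o1 aΩ).2 (inf_le_inf_left _ (cent_le_norm _))
  refine ⟨V, v1, n, H2.GW.syl_isSylowIn p2 hS, le_Kc, lS, ea, nV, sC, ⟨O(G ⊓ C(Ω(S))), Oc_le _ _,
    fun x hx => ((O_og _).elt hx).coprime_prime p2, Oc_norm _ _, ?_⟩, fun Y l1 l2 nY => ?_,
    fun R l1 l2 => r.le_zj l1 (l2.trans sV), fun x hx o tr => r.sing hx ⟨⟨ea, hx.2, PiN.of_coprime o⟩, tr⟩⟩
  · refine (gen _ (le_inf hS.le (cents_symm ((Ohm1_le _ _).trans inf_le_right))) inf_le_left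
      (norms_inf h.n (norms_cent aΩ)) sC).trans (sup_le (norms_of_le le_sup_right)
      (norms_sup inf_le_right (inf_le_left.trans (Oc_norm _ _))))
  · have sY : S ≤ G ⊓ N(Y) := le_inf hS.le (le_normalizer.trans nY)
    refine (gen _ sY inf_le_left (norms_inf h.n (norms_norm (nS.trans nY)))
      (k Y l2 (ne_bot_mono l1 v1) (nS.trans nY)).2).trans (sup_le ?_ inf_le_right)
    exact (Oc_cents' ⟨l2.trans sY, inf_le_right⟩ (hS.pi.of_le l2)).trans ((cent_mono l1).trans (cent_le_norm _))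

theorem Fz.simple (h : Fz A G) (hG : Sim G) (n : ⊤ ≤ N(G)) (ih : ∀ H, H < G → A ≤ N(H) → Sol H)
    (fin : ∀ S, Syl 2 S G → A ≤ N(S) → ∀ z v, ¬ H4.SC.DG G S z v) : False := by
  have ev : ¬ OG G := fun o => hG.nsol o.sol
  obtain ⟨S, hS, nS⟩ := csyl h.n h.c 2
  have s1 : S ≠ ⊥ := fun e => ev (Hall.pi'_of_eq_bot (e ▸ hS))
  obtain ⟨V, v1, hV⟩ := exists_hv h hG n hS nS s1 ih
  have sc := fun a ha g hg => H4.SD.sc0 (t := a) (g := g) hV (fin S hS nS) ha hg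
  have scl := SCl.of_syl hS hV.le sc
  have gt := gold hG hV.ea.1 scl v1
  have lG := hV.le.trans hS.le
  obtain ⟨v, hv, v2⟩ := exists_inv_pg (ab_pg hV.ea) v1
  obtain ⟨g, hg, c⟩ := celt h.n h.c (w := v) fun a ha => by
    obtain ⟨g, hg, e⟩ := gt.conj hG (lG hv) (conj_mem_of_norm (h.n ha) (lG hv)) v2 ((orderOf_conj' a v).trans v2)
    exact ⟨g, hg, e.symm⟩
  have t2 : orderOf (g * v * g⁻¹) = 2 := (orderOf_conj' g v).trans v2
  have tG := mul_mem (mul_mem hg (lG hv)) (inv_mem hg)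
  have pt := pi2 (mul_self_of_ord2 t2)
  have tV : g * v * g⁻¹ ∈ V := sc v hv g hg (zpowers_le.1 (hS.le_of_norm (zpowers_le.2 tG) (piG_zpowers.2 pt)
    (zpowers_le.2 (cent_le_norm _ (h.z2 _ tG c pt S hS.le hS.pi nS)))))
  generalize g * v * g⁻¹ = t at c t2 tG pt tV
  obtain ⟨W, k1, k2, k3, k4⟩ := h.q3 V lG hV.ea (nS.trans hV.nV)
  have tW := k3 ⟨tV, c⟩
  obtain ⟨x, hx, xS, ne⟩ : ∃ x ∈ G, x * t * x⁻¹ ∈ S ∧ x * t * x⁻¹ ≠ t := by
    by_contra! k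
    have := Hub0.zs hS (hV.le tV) k
    rw [hG.O_eq, le_bot_iff, commg_eq_bot] at this
    exact ne_one_of_ord2 t2 (mem_bot.1 (hG.center ▸ mem_inf.2 ⟨tG, cents_symm this (mem_zpowers t)⟩))
  have xV := sc t tV x hx xS
  obtain ⟨m, hm, e⟩ := scl.fusion hV.ea tV hx xV
  have sV := mul_mem xV (inv_mem tV)
  have s1 : x * t * x⁻¹ * t⁻¹ ≠ 1 := fun e => ne (mul_inv_eq_one.1 e)
  obtain ⟨y, hy, e1⟩ := gt.conj hG (lG sV) tG (orderOf_eq_prime (hV.ea.2 _ sV) s1) t2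
  obtain ⟨j, hj, e2⟩ := scl.fusion hV.ea sV hy (e1.symm ▸ tV)
  have sW : x * t * x⁻¹ * t⁻¹ ∈ ⁅W, G ⊓ N(V)⁆ := by
    rw [← e, commg_comm]; exact comm_mem hm tW
  have := conj_mem_of_norm (commg_normr _ _ hj) sW
  rw [e2, e1] at this
  exact ne_one_of_ord2 t2 (mem_bot.1 (k4 ▸ mem_inf.2 ⟨this, c⟩))

end H25.FB
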