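import Cfsg.Agent.H25.FB5

/-! Central extensions. -/

set_option autoImplicit false
set_option linter.unusedVariables false
set_option linter.unusedSectionVars false

namespace H25.FB
open Cfsg Subgroup H18 H17.GS
open H19 hiding eq_bot_mono
open H8.FS hiding Fx Md Mc Nb Rd Lk Cx det_false rd_kc exists_hv main_aux main_of Main
open scoped commutatorElement

universe u
variable {X : Type u} [Group X] [Finite X] {A B C D E F G H K L M N O P Q R S T U V W Y Z : Subgroup X}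
  {a b c d e f g k n s t u v w x y z : X} {p r : ℕ}

local notation "p2" => Nat.prime_two
local notation:max "Ω(" S ")" => Ohm1 2 Z(S)

/-- fixed `2`-elements centralise the invariant `2`-subgroups, fixed involutions are central -/
structure Ez (A G : Subgroup X) : Prop where
  n : A ≤ N(G)
  c : (#A).Coprime #G
  z2 : ∀ x ∈ G, x ∈ C(A) → PiE {2} x → ∀ P ≤ G, PG 2 P → A ≤ N(P) → x ∈ C(P)
  i3 : ∀ t ∈ G, t ∈ C(A) → t * t = 1 → t ∈ C(G)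

theorem Ez.mono (h : Ez A N) (l : M ≤ N) (nM : A ≤ N(M)) : Ez A M :=
  ⟨nM, h.c.coprime_dvd_right (card_dvd l), fun x hx c x2 P lP => h.z2 x (l hx) c x2 P (lP.trans l),
    fun t ht c t2 => cent_mono l (h.i3 t (l ht) c t2)⟩

theorem Fx.ez (h : Fx A N) : Ez A N :=
  ⟨h.n, h.c, fun x hx c x2 P _ _ _ => h.o x hx c x2 ▸ one_mem _, fun t ht c t2 => h.o t ht c (pi2 t2) ▸ one_mem _⟩

theorem Ez.z2im {Y : Type u} [Group Y] [Finite Y] (h : Ez A G) (f : D →* Y) (h1 : A ≤ D) (h2 : G ≤ D) :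
    ∀ x ∈ im f G, x ∈ C(im f A) → PiE {2} x → ∀ P ≤ im f G, PG 2 P → im f A ≤ N(P) → x ∈ C(P) :=
  fun y hy cy y2 P lP hP nP => by
  obtain ⟨x, a, b, c, rfl⟩ := lift f h.n h.c h1 h2 hy cy y2
  have n := norms_inf h.n (norms_pre h1 nP)
  obtain ⟨Q, hQ, nQ⟩ := csyl n (h.c.coprime_dvd_right (card_dvd inf_le_left)) 2
  have e : im f (G ⊓ pre f P) = P := le_antisymm ((im_mono inf_le_right).trans im_pre_le) fun y hy => by
    obtain ⟨g, hg, rfl⟩ := mem_im.1 (lP hy)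
    exact mem_im_of ⟨hg, coe_mem_pre.2 hy⟩
  have := hQ.im (inf_le_left.trans h2) f
  rw [e] at this
  rw [← this.eq_self hP]
  exact im_cent_le (mem_im_of (h.z2 x a b c Q (hQ.le.trans inf_le_left) hQ.pi nQ))

theorem Ez.im {Y : Type u} [Group Y] [Finite Y] (h : Ez A G) (f : D →* Y) (h1 : A ≤ D) (h2 : G ≤ D)
    (k : ∀ x : D, (x : X) ∈ G → f x = 1 → PiE {2}ᶜ (x : X)) : Ez (im f A) (im f G) :=
  ⟨im_norms h.n, cop_im h.c f, h.z2im f h1 h2, fun y hy cy y2 => by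
    obtain ⟨x, a, b, c, rfl⟩ := lift f h.n h.c h1 h2 hy cy (pi2 y2)
    exact im_cent_le (mem_im_of (h.i3 x a b ((c.e_mul c rfl).e_eq_one (k (x * x) (mul_mem a a) (by rwa [map_mul])))))⟩

theorem dg_data (k : H4.SC.DG G T z v) (nT : A ≤ N(T)) : ∃ ρ ∈ T, ∃ H : Subgroup X, ρ * ρ = z ∧
    v * ρ * v⁻¹ = ρ⁻¹ ∧ z ∉ H ∧ ∀ g ∈ A, g * z * g⁻¹ ≠ z → g * ρ * g⁻¹ ∈ C[v] ⊓ C[z] ∧ g * z * g⁻¹ ∈ H := by
  obtain ⟨l, ρ, s⟩ := k.ds
  obtain ⟨H, h1, h2, -⟩ := k.f0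
  have cj' : ∀ g ∈ A, H4.SC.Ds G T (g * z * g⁻¹) (g * l * g⁻¹) (g * v * g⁻¹) (g * ρ * g⁻¹) := fun g hg => by
    simpa only [H28.cj_eq_self (nT hg)] using s.conj' g
  have j : ∀ {z l a ρ z' l' a' ρ'}, H4.SC.Ds G T z l a ρ → H4.SC.Ds G T z' l' a' ρ' →
      H9.JJ 2 (T ⊓ C[z']) ≤ C[z] := fun s s' => s'.JT ▸ s.JT.le.trans ((H9.JJ_le 2 _).trans inf_le_right)
  refine ⟨ρ, s.lT s.hρ, H, s.ρρ, s.inv s.hρ, h1, fun g hg n => ?_⟩
  have s' := cj' g hg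
  have c : ∀ {u}, H4.SC.DG G T (g * z * g⁻¹) u → u ∈ C[v] := fun d =>
    s.comm2 (s'.reb' d) n.symm (j s s' (s'.memJ d)) (j s' s (s.lJ s.hρ))
  have m : g * ρ * g⁻¹ ∈ C[v] ⊓ C[z] :=
    ⟨(mul_mem_cancel_left (c s'.da)).1 (c (s'.dg _ s'.hρ)), j s s' (s'.lJ s'.hρ)⟩
  exact ⟨m, s'.ρρ ▸ h2 _ ⟨s'.lT s'.hρ, m⟩⟩

theorem sqc (hx : x ∈ G) (hy : y ∈ G) (h1 : y * x * y⁻¹ * x⁻¹ ∈ C(G)) (h2 : y * y ∈ C(G)) : x * x ∈ C[y] := by
  generalize hc : y * x * y⁻¹ * x⁻¹ = c at h1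
  have e : y * x * y⁻¹ = c * x := by rw [← hc]; group
  have cx := mem_cent.1 h1 x hx
  have cy := mem_cent.1 h1 y hy
  have c2 : c * c = 1 := by
    have : c * (c * x) = x := by
      calc _ = c * (y * x * y⁻¹) := by rw [e]
        _ = y * (c * x) * y⁻¹ := by rw [← mul_assoc, ← mul_assoc, ← cy]; group
        _ = y * y * x * (y * y)⁻¹ := by rw [← e]; group
        _ = x := by rw [← mem_cent.1 h2 x hx]; group
    rwa [← mul_assoc, mul_eq_right] at this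
  refine mem_cent1.2 ?_
  calc x * x * y = c * c * (x * x) * y := by rw [c2, one_mul]
    _ = c * x * (c * x) * y := by rw [mul_assoc c x, ← mul_assoc x, cx]; group
    _ = _ := by rw [← e]; group

namespace Ez
variable (h : Ez A G) (pz : PG 2 Z(G))
include h

theorem nZ : A ≤ N(Z(G)) := h.n.trans (norm_le_norm_center _)
theorem gZ : G ≤ N(Z(G)) := le_normalizer.trans (norm_le_norm_center _)

theorem l1 {e : N(Z(G))} (he : (e : X) ∈ G) (e2 : (e : X) * e = 1) (c : qmk Z(G) e ∈ C(quo Z(G) A)) :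
    qmk Z(G) e = 1 := by
  obtain ⟨n, hn, k⟩ := ccos (N := Ω(G)) (y := e) (h.n.trans (norm_le_norm_Ohm1_center 2 G))
    (h.c.coprime_dvd_right (card_dvd ((Ohm1_le _ _).trans inf_le_left))) fun a ha => by
      have m : a * e * a⁻¹ * (e : X)⁻¹ ∈ Z(G) := by
        have := mem_cent.1 c _ (mem_im_of (f := qmk Z(G)) (x := ⟨a, h.nZ ha⟩) ha)
        refine (qmk_eq_one (x := (⟨a, h.nZ ha⟩ : N(Z(G))) * e * (⟨a, h.nZ ha⟩ : N(Z(G)))⁻¹ * e⁻¹)).1 ?_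
        simp [this]
      refine H19.mem_Ohm1 m ?_
      generalize hc : a * e * a⁻¹ * (e : X)⁻¹ = c at m
      have e1 : a * e * a⁻¹ = c * e := by rw [← hc]; group
      calc c ^ 2 = c * c * (e * e) := by rw [e2, mul_one, pow_two]
        _ = c * e * (c * e) := by rw [mul_assoc c e, ← mul_assoc (e : X), mem_cent.1 m.2 e he]; group
        _ = a * (e * e) * a⁻¹ := by rw [← e1]; group
        _ = 1 := by rw [e2]; group
  have nZ := Ohm1_le _ _ hn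
  have := h.i3 _ (mul_mem nZ.1 he) k (by
    calc n * e * (n * e) = n * n * (e * e) := by rw [mul_assoc n e, ← mul_assoc (e : X), mem_cent.1 nZ.2 e he]; group
      _ = 1 := by rw [e2, sq_one (abelem_Ohm1_center 2 G) hn, mul_one])
  exact qmk_eq_one.2 ⟨he, (C(G).mul_mem_cancel_left nZ.2).1 this⟩

theorem l2 (l : E ≤ G) (hE : Abelem 2 E) : quo Z(G) E ⊓ C(quo Z(G) A) = ⊥ := le_bot_iff.1 fun y hy => by
  obtain ⟨e, he, rfl⟩ := mem_im.1 hy.1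
  exact h.l1 (l he) (sq_one hE he) hy.2

theorem pre_le {V : Subgroup (Quo Z(G))} (l : V ≤ quo Z(G) G) : qpre Z(G) V ≤ G := qpre_le inf_le_left l

include pz

theorem l3 {V : Subgroup (Quo Z(G))} (l : V ≤ quo Z(G) G) (hV : PG 2 V) (nV : quo Z(G) A ≤ N(V)) :
    V ⊓ C(quo Z(G) A) ≤ quo Z(G) Z(qpre Z(G) V) := fun y hy => by
  have n := norms_qpre h.nZ nV
  obtain ⟨x, a, b, c, rfl⟩ := lift (qmk Z(G)) n (h.c.coprime_dvd_right (card_dvd (h.pre_le l))) h.nZ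
    (qpre_le_norm V) ((quo_qpre V).ge hy.1) hy.2 (hV.elt hy.1)
  exact mem_im_of ⟨a, h.z2 x (h.pre_le l a) b c _ (h.pre_le l) (pz.qpre hV) n⟩

theorem fz : Fz (quo Z(G) A) (quo Z(G) G) := by
  refine ⟨quo_norms h.n, cop_im h.c _, h.z2im _ h.nZ h.gZ, fun V l ea nV => ?_⟩
  set H := qpre Z(G) (quo Z(G) G ⊓ N(V)) with hH
  have n : H ≤ N(Z(qpre Z(G) V)) := (norms_qpre (qpre_le_norm _) ((quo_qpre _).le.trans inf_le_right)).trans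
    (norm_le_norm_center _)
  refine ⟨quo Z(G) Z(qpre Z(G) V), (quo_mono _ inf_le_left).trans (quo_qpre V).le, sup_le
    (quo_qpre (quo Z(G) G ⊓ N(V)) ▸ quo_norms n) (quo_norms ((norms_qpre h.nZ nV).trans (norm_le_norm_center _))),
    h.l3 pz l (ab_pg ea) nV, ?_⟩
  rw [← quo_qpre (quo Z(G) G ⊓ N(V)), ← quo_comm (inf_le_left.trans (qpre_le_norm _)) (qpre_le_norm _)]
  have k : ⁅Z(qpre Z(G) V), H⁆ ≤ Ω(qpre Z(G) V) := commg_le_iff.2 fun w hw g hg => by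
    have m := conj_mem_of_norm (n hg) (inv_mem hw)
    have w2 : w * w ∈ Z(G) := (qmk_eq_one (x := ⟨w, qpre_le_norm V hw.1⟩ * ⟨w, qpre_le_norm V hw.1⟩)).1 (by
      rw [map_mul]; exact sq_one ea (coe_mem_pre.1 hw.1))
    rw [mul_assoc, mul_assoc, ← mul_assoc g]
    refine H19.mem_Ohm1 (mul_mem hw m) ?_
    calc _ = w * (g * w⁻¹ * g⁻¹ * w) * (g * w⁻¹ * g⁻¹) := by rw [pow_two]; group
      _ = w * w * (g * (w * w)⁻¹ * g⁻¹) := by rw [mem_cent.1 hw.2 _ m.1]; group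
      _ = 1 := by rw [mem_cent.1 (C(G).inv_mem w2.2) g (h.pre_le inf_le_left hg)]; group
  exact le_bot_iff.1 (h.l2 ((Ohm1_le _ _).trans (inf_le_left.trans (h.pre_le l))) (abelem_Ohm1_center 2 _) ▸
    inf_le_inf_right _ (quo_mono _ k))

theorem fin {T : Subgroup (Quo Z(G))} (hT : Syl 2 T (quo Z(G) G)) (nT : quo Z(G) A ≤ N(T)) (z v : Quo Z(G)) :
    ¬ H4.SC.DG (quo Z(G) G) T z v := fun k => by
  obtain ⟨ρ, hρ, H, rfl, i, h1, h2⟩ := dg_data k nT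
  obtain ⟨ρ, rfl⟩ := qmk_surj _ ρ
  obtain ⟨v, rfl⟩ := qmk_surj _ v
  have lG := h.pre_le hT.le
  have nS := norms_qpre h.nZ nT
  have ρS : (ρ : X) ∈ qpre Z(G) T := coe_mem_pre.2 hρ
  have vS : (v : X) ∈ qpre Z(G) T := coe_mem_pre.2 k.vT
  have q : ∀ a ∈ A, ∀ y : N(Z(G)), (y : X) ∈ G → (y : X) * y ∈ C(G) → ∀ ha : a ∈ N(Z(G)),
      qmk Z(G) ⟨a, ha⟩ * qmk Z(G) ρ * (qmk Z(G) ⟨a, ha⟩)⁻¹ ∈ C[qmk Z(G) y] → a * (ρ * ρ) * a⁻¹ ∈ C[(y : X)] :=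
    fun a ha y hy y2 ha' c => by
      rw [← conj_mul]
      refine sqc (conj_mem_of_norm (h.n ha) (lG ρS)) hy (And.right (?_ : _ ∈ Z(G))) y2
      refine (qmk_eq_one (x := y * (⟨a, ha'⟩ * ρ * (⟨a, ha'⟩ : N(Z(G)))⁻¹) * y⁻¹ *
        (⟨a, ha'⟩ * ρ * (⟨a, ha'⟩ : N(Z(G)))⁻¹)⁻¹)).1 ?_
      simp only [map_mul, map_inv]
      rw [← mem_cent1.1 c]; group
  have v2 : (v : X) * v ∈ Z(G) := (qmk_eq_one (x := v * v)).1 (by rw [map_mul]; exact k.vv)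
  obtain ⟨j, hj, cj⟩ := orbp (A := quo Z(G) A) (y := qmk Z(G) ρ * qmk Z(G) ρ)
    (H := quo Z(G) (qpre Z(G) T ⊓ C[(v : X)])) fun a ha ne => by
      obtain ⟨k1, k2⟩ := h2 a ha ne
      obtain ⟨a, ha', rfl⟩ := mem_im.1 ha
      refine ⟨?_, by rw [← conj_mul]; exact mul_mem k1.2 k1.2⟩
      rw [← map_mul, ← map_inv, ← map_mul, ← map_mul]
      exact mem_im_of ⟨conj_mem_of_norm (nS ha') (mul_mem ρS ρS), q a ha' v (lG vS) v2.2 a.2 k1.1⟩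
  obtain ⟨j, hj', rfl⟩ := mem_im.1 hj
  obtain ⟨w, hw, ew⟩ := mem_im.1 (h.l3 pz hT.le hT.pi nT ⟨mul_mem (mul_mem hρ hρ) (coe_mem_pre.1 hj'.1), cj⟩)
  rw [← map_mul, ← map_mul, qmk_eq] at ew
  have zv : (ρ : X) * ρ ∈ C[(v : X)] := by
    have := mul_mem (mul_mem (cent_le_cent1 vS hw.2) (cent_le_cent1 (lG vS) ew.2)) (inv_mem hj'.2)
    simpa using this
  have hc : v * ρ * (v : X)⁻¹ * ρ ∈ Z(G) := (qmk_eq_one (x := v * ρ * v⁻¹ * ρ)).1 (by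
    simp only [map_mul, map_inv]; rw [i, inv_mul_cancel])
  generalize hc' : v * ρ * (v : X)⁻¹ * ρ = c at hc
  have cρ := mem_cent.1 hc.2 ρ (lG ρS)
  have e2 : ρ * ρ * c⁻¹ * (ρ * ρ * c⁻¹) = 1 := by
    have e1 : v * ρ * (v : X)⁻¹ = c * (ρ : X)⁻¹ := by rw [← hc']; group
    have e3 : (ρ : X) * ρ = c * (ρ : X)⁻¹ * (c * (ρ : X)⁻¹) := by
      rw [← e1, conj_mul, ← mem_cent1.1 zv]; group
    have e4 : (ρ : X)⁻¹ * c = c * (ρ : X)⁻¹ := mem_cent.1 hc.2 _ (inv_mem (lG ρS))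
    have e5 : ρ * ρ * c⁻¹ = c⁻¹ * (ρ * ρ) := mem_cent.1 (C(G).inv_mem hc.2) _ (mul_mem (lG ρS) (lG ρS))
    nth_rw 1 [e5]
    nth_rw 1 [e3]
    rw [mul_assoc c, ← mul_assoc (ρ : X)⁻¹, e4]
    calc _ = c * ((ρ : X)⁻¹ * (ρ : X)⁻¹ * (ρ * ρ)) * c⁻¹ := by group
      _ = 1 := by group
  have eG : ρ * ρ * c⁻¹ ∈ G := mul_mem (mul_mem (lG ρS) (lG ρS)) (inv_mem hc.1)
  have ee : qmk Z(G) ⟨_, h.gZ eG⟩ = qmk Z(G) ρ * qmk Z(G) ρ := by
    rw [← map_mul, eq_comm, qmk_eq]; simpa [mul_assoc] using inv_mem hc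
  have ea := orb_ea (A := A) e2 fun a ha => by
    by_cases e : qmk Z(G) ⟨a, h.nZ ha⟩ * (qmk Z(G) ρ * qmk Z(G) ρ) * (qmk Z(G) ⟨a, h.nZ ha⟩)⁻¹ = qmk Z(G) ρ * qmk Z(G) ρ
    · rw [← ee, ← map_inv, ← map_mul, ← map_mul, eq_comm, qmk_eq] at e
      exact (mul_mem_cancel_left (inv_mem (mem_cent1_self _))).1 (cent_le_cent1 eG e.2)
    · rw [← conj_mul]
      exact mul_mem (q a ha ⟨_, h.gZ eG⟩ eG (e2.symm ▸ one_mem _) _ (ee ▸ (h2 _ (mem_im_of ha) e).1.2))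
        (cent_le_cent1 eG (conj_mem_of_norm (h.nZ ha) (inv_mem hc)).2)
  refine h1 (op (quo_norms Kc_norm) (h.l2 (Kc_le_of (zpowers_le.2 eG) h.n) ea)
    (ee ▸ mem_im_of (le_Kc (mem_zpowers _))) fun a ha ne => ⟨(h2 a ha ne).2, ?_⟩)
  rw [← conj_mul]; exact mul_mem (h2 a ha ne).1.2 (h2 a ha ne).1.2

theorem core (n : ⊤ ≤ N(G)) (hS : Sim (quo Z(G) G)) (ih : ∀ H, H < G → A ≤ N(H) → Sol H) : False :=
  (h.fz pz).simple hS (fun y _ => by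
    obtain ⟨y, rfl⟩ := qmk_surj _ y
    exact quo_norms n (mem_im_of (mem_top _))) (fun H l nH => quo_qpre H ▸ sol_quo (ih _ (lt_of_le_of_ne
      (h.pre_le l.le) fun e => l.ne (by rw [← quo_qpre H, e])) (norms_qpre h.nZ nH)) _) fun S hS nS => h.fin pz hS nS

end Ez

end H25.FB
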