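import Cfsg.Agent.H25.FB7
import Cfsg.Agent.H24.BurnAut
import Cfsg.Agent.H24.ClassSize

/-! Products of conjugacy classes of coprime sizes. -/

set_option autoImplicit false
set_option linter.unusedVariables false
set_option linter.unusedSectionVars false

namespace H25.FB
open Cfsg Subgroup H18 H17.GS
open H19 hiding eq_bot_mono
open H8.FS hiding Fx Md Mc Nb Rd Lk Cx det_false rd_kc exists_hv main_aux main_of Main
open scoped commutatorElement Pointwise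

universe u
variable {X : Type u} [Group X] [Finite X] {A B C D E F G H K L M N O P Q R S T U V W Y Z : Subgroup X}
  {a b c d e f g k n s t u v w x y z : X} {p r : ℕ} {π : Set ℕ}

/-- the `G`-class of `x` -/
def Cl (G : Subgroup X) (x : X) : Set X := {y | ∃ g ∈ G, g * x * g⁻¹ = y}

/-- the size of the `G`-class of `x` -/
noncomputable abbrev cl (G : Subgroup X) (x : X) : ℕ := C[x].relIndex G

theorem ncard_Cl (hx : x ∈ G) : (Cl G x).ncard = cl G x := by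
  have : Cl G x = G.subtype '' {y : G | IsConj ⟨x, hx⟩ y} := by
    ext y
    constructor
    · rintro ⟨g, hg, rfl⟩
      exact ⟨_, isConj_iff.2 ⟨⟨g, hg⟩, rfl⟩, rfl⟩
    · rintro ⟨y, hy, rfl⟩
      obtain ⟨g, rfl⟩ := isConj_iff.1 hy
      exact ⟨g, g.2, rfl⟩
  rw [this, Set.ncard_image_of_injective _ G.subtype_injective, H24.ncard_isConj, H24.cs_subgroup]

theorem self_Cl : x ∈ Cl G x := ⟨1, one_mem _, by simp⟩

theorem conj_Cl (hg : g ∈ G) (h : y ∈ Cl G x) : g * y * g⁻¹ ∈ Cl G x := by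
  obtain ⟨k, hk, rfl⟩ := h
  exact ⟨g * k, mul_mem hg hk, by group⟩

/-- the stabiliser of the class -/
def St (G : Subgroup X) (x : X) : Subgroup X := G ⊓ MulAction.stabilizer X (Cl G x)

theorem mem_St : g ∈ St G x ↔ g ∈ G ∧ ∀ y ∈ Cl G x, g * y ∈ Cl G x :=
  and_congr_right fun _ => MulAction.mem_stabilizer_set' (Set.toFinite _)

theorem St_normal : St G x ⊴ G := ⟨inf_le_left, fun g hg => mem_norm_of_cj_le fun y hy => by
  obtain ⟨y, hy', rfl⟩ := mem_cj'.1 hy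
  refine mem_St.2 ⟨mul_mem (mul_mem hg hy'.1) (inv_mem hg), fun z hz => ?_⟩
  have := conj_Cl hg ((mem_St.1 hy').2 _ (conj_Cl (inv_mem hg) hz))
  convert this using 1; group⟩

theorem card_St (hx : x ∈ G) : #(St G x) ∣ cl G x := ncard_Cl hx ▸ H24.card_dvd_ncard_of_free (G := St G x) _
  (fun g y hy => (mem_St.1 g.2).2 y hy) fun g y _ e => Subtype.ext (mul_eq_right.1 e)

theorem mul_Cl (hx : x ∈ G) (c : (cl G x).Coprime (cl G y)) (hu : u ∈ Cl G x) (hv : v ∈ Cl G y) :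
    v * u ∈ Cl G (x * y) := by
  obtain ⟨g, hg, rfl⟩ := hu
  obtain ⟨k, hk, rfl⟩ := hv
  obtain ⟨a, ha, b, hb, e⟩ := H2.exists_mul_of_coprime_relIndex c (mul_mem (inv_mem hg) hk)
  refine ⟨g * a * x⁻¹, mul_mem (mul_mem hg ha.2) (inv_mem hx), ?_⟩
  rw [inv_mul_eq_iff_eq_mul.1 e]
  calc _ = g * a * y * (x * a⁻¹) * g⁻¹ := by group
    _ = g * a * (y * b) * b⁻¹ * a⁻¹ * x * g⁻¹ := by rw [← mem_cent1.1 (inv_mem ha.1)]; group
    _ = _ := by rw [← mem_cent1.1 hb.1]; group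

theorem cl_le (hx : x ∈ G) (hy : y ∈ G) (c : (cl G x).Coprime (cl G y)) : cl G x ≤ cl G (x * y) := by
  rw [← ncard_Cl hx, ← ncard_Cl (mul_mem hx hy), ← Set.ncard_image_of_injective _ (mul_right_injective y)]
  exact Set.ncard_le_ncard (by rintro _ ⟨u, hu, rfl⟩; exact mul_Cl hx c hu self_Cl) (Set.toFinite _)

theorem cq_St (hx : x ∈ G) (hy : y ∈ G) (c : (cl G x).Coprime (cl G y)) (l : cl G (x * y) ≤ cl G x) :
    y ∈ cq G (St G x) := by
  have k : ∀ v ∈ Cl G y, (v * ·) '' Cl G x = Cl G (x * y) := fun v hv => Set.eq_of_subset_of_ncard_le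
    (by rintro _ ⟨u, hu, rfl⟩; exact mul_Cl hx c hu hv) (by
      rwa [Set.ncard_image_of_injective _ (mul_right_injective v), ncard_Cl hx, ncard_Cl (mul_mem hx hy)])
    (Set.toFinite _)
  refine inv_mem_iff.1 ⟨St_normal.norm (inv_mem hy), fun g hg => mem_St.2
    ⟨mul_mem (mul_mem (mul_mem (inv_mem hy) hg) (inv_mem (inv_mem hy))) (inv_mem hg), fun u hu => ?_⟩⟩
  obtain ⟨w, hw, e⟩ := (k y self_Cl).ge (mul_Cl hx c hu ⟨g, hg, rfl⟩)
  convert hw using 1
  rw [eq_inv_mul_of_mul_eq e]; group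

theorem cl_dvd (c : (cl G x).Coprime (cl G y)) : cl G (x * y) ∣ cl G x * cl G y := by
  have l : C[x] ⊓ C[y] ≤ C[x * y] := fun g hg =>
    mem_cent1_symm.1 (mul_mem (mem_cent1_symm.1 hg.1) (mem_cent1_symm.1 hg.2))
  refine (relIndex_dvd_left l G).trans (dvd_of_eq (le_antisymm relIndex_inf_le (Nat.le_of_dvd (relIndex_pos _ _)
    (c.mul_dvd_of_dvd_of_dvd (relIndex_dvd_left inf_le_left G) (relIndex_dvd_left inf_le_right G)))))

theorem jordan (l : H ≤ K) (h : ∀ x ∈ K, ∃ g ∈ K, g⁻¹ * x * g ∈ H) : H = K :=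
  le_antisymm l (subgroupOf_eq_top.1 (H24.eq_top_of_forall_conj_mem fun x =>
    let ⟨g, hg, m⟩ := h x x.2; ⟨⟨g, hg⟩, m⟩))

theorem pow_conj (h : g * d * g⁻¹ = c * d) (hc : g * c = c * g) (j : ℕ) : g ^ j * d * (g ^ j)⁻¹ = c ^ j * d := by
  induction j with
  | zero => simp
  | succ j ih =>
    have : g * c ^ j = c ^ j * g := (Commute.pow_right hc j).eq
    calc _ = g * (g ^ j * d * (g ^ j)⁻¹) * g⁻¹ := by group
      _ = c ^ j * (g * d * g⁻¹) := by rw [ih, ← mul_assoc, this]; group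
      _ = _ := by rw [h]; group

theorem z2q {Y : Type u} [Group Y] [Finite Y] (nN : A ≤ N(G)) (c : (#A).Coprime #G) (f : D →* Y) (h1 : A ≤ D)
    (h2 : G ≤ D) (k : ∀ x : D, (x : X) ∈ G → (x : X) ∈ C(A) → ∀ Q ≤ G, PG 2 Q → A ≤ N(Q) → f x ∈ C(im f Q)) :
    ∀ x ∈ im f G, x ∈ C(im f A) → PiE {2} x → ∀ P ≤ im f G, PG 2 P → im f A ≤ N(P) → x ∈ C(P) :=
  fun y hy cy y2 P lP hP nP => by
  obtain ⟨x, a, b, -, rfl⟩ := lift f nN c h1 h2 hy cy y2
  have n := norms_inf nN (norms_pre h1 nP)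
  obtain ⟨Q, hQ, nQ⟩ := csyl n (c.coprime_dvd_right (card_dvd inf_le_left)) 2
  have e : im f (G ⊓ pre f P) = P := le_antisymm ((im_mono inf_le_right).trans im_pre_le) fun y hy => by
    obtain ⟨g, hg, rfl⟩ := mem_im.1 (lP hy)
    exact mem_im_of ⟨hg, coe_mem_pre.2 hy⟩
  have := hQ.im (inf_le_left.trans h2) f
  rw [e] at this
  rw [← this.eq_self hP]
  exact k x a b Q (hQ.le.trans inf_le_left) hQ.pi nQ

end H25.FB
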