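import Cfsg.Agent.H25.FC1

/-! Invariant classes with disconnected graph. -/

set_option autoImplicit false
set_option linter.unusedVariables false
set_option linter.unusedSectionVars false

namespace H25.FB
open Cfsg Subgroup H18 H17.GS
open H19 hiding eq_bot_mono
open H8.FS hiding Fx Md Mc Nb Rd Lk Cx det_false rd_kc exists_hv main_aux main_of Main
open scoped commutatorElement

universe u
variable {X : Type u} [Group X] [Finite X] {A B C D E F G H K L M N O P Q R S T U V W Y Z : Subgroup X}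
  {a b c d e f g k n s t u v w x y z b₀ d₀ : X} {p r : ℕ} {π : Set ℕ}

local notation "p2" => Nat.prime_two

/-- the normal closure of the fixed elements with `π`-class -/
def S0 (π : Set ℕ) (A G : Subgroup X) : Subgroup X :=
  closure {y | ∃ d ∈ G ⊓ C(A), PiN π (cl G d) ∧ y ∈ Cl G d}

/-- the hypotheses -/
structure Hy (π : Set ℕ) (A G : Subgroup X) (b₀ d₀ : X) (r : ℕ) : Prop where
  n : A ≤ N(G)
  c : (#A).Coprime #G
  or : ∀ x ∈ G ⊓ C(A), PiN π (cl G x) ∨ PiN πᶜ (cl G x)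
  b : b₀ ∈ G ⊓ C(A)
  bp : PiN πᶜ (cl G b₀)
  bm : ∀ x ∈ G ⊓ C(A), cl G x ≤ cl G b₀
  d : d₀ ∈ G ⊓ C(A)
  dp : PiN π (cl G d₀)
  pr : r.Prime
  rd : r ∣ cl G d₀

theorem mem_S0 (hd : d ∈ G ⊓ C(A)) (h : PiN π (cl G d)) : d ∈ S0 π A G := subset_closure ⟨d, hd, h, self_Cl⟩

theorem S0_normal : S0 π A G ⊴ G :=
  ⟨(closure_le _).2 (by rintro _ ⟨d, hd, -, g, hg, rfl⟩; exact mul_mem (mul_mem hg hd.1) (inv_mem hg)),
    fun g hg => norm_closure fun y ⟨d, hd, h, k⟩ => ⟨d, hd, h, conj_Cl hg k⟩⟩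

theorem S0_le (n : G ≤ N(M)) (h : ∀ d ∈ G ⊓ C(A), PiN π (cl G d) → d ∈ M) : S0 π A G ≤ M :=
  (closure_le _).2 (by rintro _ ⟨d, hd, k, g, hg, rfl⟩; exact conj_mem_of_norm (n hg) (h d hd k))

theorem S0_St (hb : b ∈ G) (bp : PiN πᶜ (cl G b)) (h : ∀ d ∈ G ⊓ C(A), PiN π (cl G d) → cl G (b * d) ≤ cl G b) :
    ⁅G, S0 π A G⁆ ≤ St G b := (commutator_mono le_rfl (S0_le (norms_cq le_normalizer St_normal.norm)
      fun d hd k => cq_St hb hd.1 (bp.coprime' k) (h d hd k))).trans comm_cq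

theorem syl_cent (n : A ≤ N(G)) (c : (#A).Coprime #G) (hx : x ∈ C(A)) (h : ¬ p ∣ cl G x) (hP : Syl p P G)
    (nP : A ≤ N(P)) : ∃ k ∈ G ⊓ C(A), cj k P ≤ C[x] := by
  obtain ⟨Q, hQ, nQ⟩ := csyl (norms_inf n (norms_cent1 (le_cent1_iff.2 hx)))
    (c.coprime_dvd_right (card_dvd inf_le_left)) p
  obtain ⟨k, hk, e⟩ := inv_syl_conj n c.symm (sol_cop c) hP nP (hQ.of_idx inf_le_left (by
    rw [inf_relIndex_left]; exact PiN.of_not_dvd h)) nQ
  exact ⟨k, hk, e.le.trans (hQ.le.trans inf_le_right)⟩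

namespace Hy
variable (h : Hy π A G b₀ d₀ r)
include h

theorem sA : A ≤ N(S0 π A G) := fun a ha => norm_closure (by
  rintro _ ⟨d, hd, k, g, hg, rfl⟩
  refine ⟨d, hd, k, _, conj_mem_of_norm (h.n ha) hg, ?_⟩
  calc _ = a * g * (a⁻¹ * d) * a * g⁻¹ * a⁻¹ := by group
    _ = _ := by rw [mem_cent.1 hd.2 _ (inv_mem ha)]; group)

theorem m1 : ⁅G, S0 π A G⁆ ≤ St G b₀ := S0_St h.b.1 h.bp fun d hd _ => h.bm _ (mul_mem h.b hd)
theorem m0 : PiG πᶜ (St G b₀) := h.bp.dvd (card_St h.b.1)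

theorem m2 : S0 π A G ≤ C(St G b₀) := S0_le (norms_cent St_normal.norm) fun d hd k => le_cent1_iff.1
  ((relIndex_eq_one.1 (PiN.eq_one ((inf_relIndex_left G C[d] ▸ k : PiN π ((G ⊓ C[d]).relIndex G)).dvd
    (relIndex_dvd_of_norm' (inf_le_left.trans St_normal.norm) inf_le_left St_normal.le))
    (h.m0.relIndex _))).trans inf_le_right)

theorem ab : S0 π A G ≤ C(S0 π A G) := S0_le (norms_cent S0_normal.norm) fun d hd k => le_cent1_iff.1 fun g hg => by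
  have dS := mem_S0 hd k
  have n : S0 π A G ≤ N(S0 π A G ⊓ C[d]) := norms_of_commg_le ((commutator_mono inf_le_left le_rfl).trans
    (le_inf (der_le _) ((commutator_mono S0_normal.le le_rfl).trans (h.m1.trans (le_cent1_iff.2 (h.m2 dS))))))
  have p1 : PiG π (quo (S0 π A G ⊓ C[d]) (S0 π A G)) := (piG_quo_iff n).2 (by
    have := (inf_relIndex_left G C[d] ▸ k : PiN π ((G ⊓ C[d]).relIndex G)).dvd
      (relIndex_dvd_of_norm' (K := S0 π A G) (inf_le_left.trans S0_normal.norm) inf_le_left S0_normal.le)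
    rwa [← inf_relIndex_left, ← inf_assoc, inf_eq_left.2 S0_normal.le] at this)
  have m := h.m1 (comm_mem (S0_normal.le hg) dS)
  have e := pow_conj (inv_mul_cancel_right _ d).symm (mem_cent.1 (h.m2 hg) _ m).symm (orderOf (g * d * g⁻¹ * d⁻¹))
  rw [pow_orderOf_eq_one, one_mul, mul_inv_eq_iff_eq_mul] at e
  exact (qmk_eq_one.1 ((p1.elt (mem_im_of (x := ⟨g, n hg⟩) hg)).e_eq_one ((h.m0.elt m).dvd
    (orderOf_dvd_of_pow_eq_one (by
      rw [← map_pow, qmk_eq_one]; exact ⟨pow_mem hg _, mem_cent1.2 e⟩))))).2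

theorem out (hb : b ∈ G ⊓ C(A)) (m : b ∉ S0 π A G) : PiN πᶜ (cl G b) :=
  (h.or b hb).resolve_left fun k => m (mem_S0 hb k)

theorem wC : S0 π A G ⊓ C(A) ≤ G ⊓ C(A) := inf_le_inf_right _ S0_normal.le
theorem nW : G ⊓ C(A) ≤ N(S0 π A G ⊓ C(A)) :=
  norms_inf (inf_le_left.trans S0_normal.norm) (norms_of_le inf_le_right)

section
variable (hp : p.Prime) (pπ : p ∈ π) (hP : Syl p P G) (nP : A ≤ N(P))
include hp pπ hP nP

theorem cov (hx : x ∈ G ⊓ C(A)) : ∃ w ∈ S0 π A G ⊓ C(A), ∃ v ∈ (G ⊓ C(A)) ⊓ C(P), x = w * v := by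
  refine (mem_sup_of_norm (inf_le_left.trans h.nW)).1 ((jordan (sup_le h.wC inf_le_left) fun y hy => ?_).ge hx)
  by_cases m : y ∈ S0 π A G
  · exact ⟨1, one_mem _, mem_sup_left (by simpa using ⟨m, hy.2⟩)⟩
  · obtain ⟨k, hk, l⟩ := syl_cent h.n h.c hy.2 ((h.out hy m).not_dvd hp pπ) hP nP
    exact ⟨k, hk, mem_sup_right (mem_inf.2 ⟨mul_mem (mul_mem (inv_mem hk) hy) hk,
      mem_cj.1 (H19.cj_cent k P ▸ le_cent1_iff.1 l)⟩)⟩

theorem cjw (hk : k ∈ G ⊓ C(A)) : ∃ w ∈ S0 π A G ⊓ C(A), cj k P = cj w P := by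
  obtain ⟨w, hw, v, hv, rfl⟩ := h.cov hp pπ hP nP hk
  exact ⟨w, hw, by rw [cj_mul, cj_of_mem_norm (cent_le_norm _ hv.2)]⟩

theorem syl2 (hb : b ∈ G ⊓ C(A)) (m : b ∉ S0 π A G) : ∃ w ∈ S0 π A G ⊓ C(A), b ∈ C(cj w P) := by
  obtain ⟨k, hk, l⟩ := syl_cent h.n h.c hb.2 ((h.out hb m).not_dvd hp pπ) hP nP
  obtain ⟨w, hw, e⟩ := h.cjw hp pπ hP nP hk
  exact ⟨w, hw, le_cent1_iff.1 (e ▸ l)⟩

theorem key0 (hb : b ∈ G ⊓ C(A)) (m : b ∉ S0 π A G) (bP : b ∈ C(P)) (hd : d ∈ S0 π A G ⊓ C(A)) (c : b ∈ C[d]) :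
    d ∈ C(P) := by
  set W := S0 π A G ⊓ C(A) with hW
  have cW : W ≤ C(W) := inf_le_left.trans (h.ab.trans (cent_mono inf_le_left))
  have n1 : W ≤ N(W ⊓ C(P)) := norms_of_cents (cW.trans (cent_mono inf_le_left))
  have n2 : b ∈ N(W ⊓ C(P)) := norms_inf (zpowers_le.2 (h.nW hb)) (norms_of_le (zpowers_le.2 bP)) (mem_zpowers b)
  have n3 : qmk _ ⟨b, n2⟩ ∈ N(quo (W ⊓ C(P)) W) := im_norm_le (mem_im_of (h.nW hb))
  let f : quo (W ⊓ C(P)) W → quo (W ⊓ C(P)) W := fun y => ⟨y⁻¹ * ((qmk _ ⟨b, n2⟩)⁻¹ * y * qmk _ ⟨b, n2⟩),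
    mul_mem (inv_mem y.2) (conj_mem_of_norm' n3 y.2)⟩
  have sj : Function.Surjective f := fun ⟨y, hy⟩ => by
    obtain ⟨x, hx, rfl⟩ := mem_im.1 hy
    obtain ⟨w, hw, k⟩ := h.syl2 hp pπ hP nP (mul_mem hb (h.wC hx)) fun k => m (((S0 π A G).mul_mem_cancel_right hx.1).1 k)
    rw [← H19.cj_cent, mem_cj] at k
    refine ⟨⟨qmk _ ⟨w, n1 hw⟩, mem_im_of hw⟩, Subtype.ext ?_⟩
    simp only [f, ← map_inv, ← map_mul]
    refine qmk_eq.2 (mem_inf.2 ⟨mul_mem (inv_mem (mul_mem (W.inv_mem hw) (conj_mem_of_norm' (h.nW hb) hw))) hx, ?_⟩)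
    have := mul_mem (inv_mem bP) k
    rw [mul_assoc w⁻¹, mul_assoc b, mem_cent.1 (cW hw) x hx] at this
    convert this using 1
    simp only [coe_mul, coe_inv]; group
  have := Finite.injective_iff_surjective.2 sj (a₁ := ⟨qmk _ ⟨d, n1 hd⟩, mem_im_of hd⟩) (a₂ := 1) (Subtype.ext (by
    have e : (⟨b, n2⟩ : N(W ⊓ C(P))) * ⟨d, n1 hd⟩ = ⟨d, n1 hd⟩ * ⟨b, n2⟩ := Subtype.ext (mem_cent1.1 c)
    have e' := congrArg (qmk _) e
    rw [map_mul, map_mul] at e'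
    simp [f, mul_assoc, ← e']))
  exact (qmk_eq_one.1 (congrArg Subtype.val this)).2

theorem key1 (hb : b ∈ G ⊓ C(A)) (m : b ∉ S0 π A G) (hd : d ∈ S0 π A G ⊓ C(A)) (c : b ∈ C[d]) : d ∈ C(P) := by
  obtain ⟨w, hw, k⟩ := h.syl2 hp pπ hP nP hb m
  have := h.key0 hp pπ (hP.Jmem (S0_normal.le hw.1)) (by
    rw [← cj_norm, ← cj_of_mem_cent hw.2]; exact cj_mono w nP) hb m k hd c
  rwa [← H19.cj_cent, mem_cj, mul_assoc, mem_cent.1 (h.ab hw.1) d hd.1, inv_mul_cancel_left] at this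

end

theorem key (hb : b ∈ G ⊓ C(A)) (c : b ∈ C[d₀]) : b ∈ S0 π A G := by_contra fun m => by
  obtain ⟨R, hR, nR⟩ := csyl h.n h.c r
  exact hR.not_dvd_relIndex h.pr (le_cent1_iff.2 (h.key1 h.pr (h.dp r h.pr h.rd) hR nR hb m
    ⟨mem_S0 h.d h.dp, h.d.2⟩ c)) h.rd

theorem solT : Sol (G ⊓ C(S0 π A G)) := by
  have n : S0 π A G ⊴ G ⊓ C(S0 π A G) := ⟨le_inf S0_normal.le h.ab, inf_le_left.trans S0_normal.norm⟩
  have a := norms_inf h.n (norms_cent h.sA)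
  have c := h.c.coprime_dvd_right (card_dvd (inf_le_left : G ⊓ C(S0 π A G) ≤ G))
  refine sol_ext n (sol_of_ab (comm_iff_le_cent.2 h.ab)) (Fx.sol (A := quo _ A)
    ⟨quo_norms a, cop_im c _, fun y hy cy y2 => ?_⟩)
  obtain ⟨x, a, b, -, rfl⟩ := lift _ a c h.sA n.norm hy cy y2
  exact qmk_eq_one.2 (h.key ⟨a.1, b⟩ (cent_le_cent1 (mem_S0 h.d h.dp) a.2))

theorem mS : ⁅G, S0 π A G⁆ ≤ S0 π A G := commg_le_right S0_normal.norm
theorem nM : G ≤ N(⁅G, S0 π A G⁆) := commg_norml _ _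
theorem nT : G ⊓ C(⁅G, S0 π A G⁆) ⊴ G := inf_cent_normal h.nM
theorem aT : A ≤ N(G ⊓ C(⁅G, S0 π A G⁆)) := norms_inf h.n (norms_cent (norms_comm h.n h.sA))
theorem sT : S0 π A G ≤ G ⊓ C(⁅G, S0 π A G⁆) := le_inf S0_normal.le (h.ab.trans (cent_mono h.mS))

theorem solT' : Sol (G ⊓ C(⁅G, S0 π A G⁆)) := by
  set T := G ⊓ C(⁅G, S0 π A G⁆) with hT
  have c : ⁅⁅T, S0 π A G⁆, T⁆ = ⊥ :=
    commg_eq_bot.2 ((commutator_mono inf_le_left le_rfl).trans (cents_symm inf_le_right))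
  exact sol_ext ⟨der_le T, norms_der le_normalizer⟩ (sol_mono h.solT (le_inf ((der_le T).trans inf_le_left)
    (commg_eq_bot.1 (three_subgroup c (by rwa [commg_comm (S0 π A G)]))))) (sol_of_ab
      ((ab_quo_iff (norms_der le_normalizer)).2 le_rfl))

theorem odd (h2 : 2 ∉ π) (hb : b ∈ G ⊓ C(A)) (b2 : PiE {2} b) : b ∈ S0 π A G := by
  obtain ⟨P, hP, nP⟩ := csyl h.n h.c 2
  obtain ⟨k, hk, l⟩ := syl_cent h.n h.c h.d.2 (h.dp.not_dvd' p2 h2) hP nP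
  obtain ⟨c, hc, l1⟩ := inv_syl_le_cj h.n h.c.symm (sol_cop h.c) (zpowers_le.2 hb.1)
    (norms_of_cents (cents_symm (zpowers_le.2 hb.2))) (piG_zpowers.2 b2) (hP.Jmem hk.1) (by
      rw [← cj_norm, ← cj_of_mem_cent hk.2]; exact cj_mono k nP)
  have := conj_mem_of_norm (S0_normal.norm hc.1) (h.key (mul_mem (mul_mem (inv_mem hc) hb) hc)
    (l (mem_cj.1 (l1 (mem_zpowers b)))))
  simpa [mul_assoc] using this

theorem inv (h2 : 2 ∈ π) (hb : b ∈ G ⊓ C(A)) (b2 : PiE {2} b) (m : b ∉ S0 π A G)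
    (bb : b * b ∈ C(⁅G, S0 π A G⁆)) (hx : x ∈ ⁅G, S0 π A G⁆) : b * x * b⁻¹ = x⁻¹ := by
  have bp := h.out hb m
  have l : ⁅G, S0 π A G⁆ ≤ St G b := S0_St hb.1 bp fun d hd k => Nat.le_of_dvd (relIndex_pos _ _)
    (((h.out (mul_mem hb hd) fun k' => m ((mul_mem_cancel_right (mem_S0 hd k)).1 k')).coprime' k).dvd_of_dvd_mul_right
      (cl_dvd (bp.coprime' k)))
  have m1 := conj_mem_of_norm (h.nM hb.1) hx
  have m2 := mul_mem m1 hx
  have c : b * (b * x * b⁻¹ * x) = b * x * b⁻¹ * x * b := by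
    calc _ = b * b * x * (b * b)⁻¹ * (b * x * b⁻¹) * b := by group
      _ = x * (b * x * b⁻¹) * b := by rw [← mem_cent.1 bb x hx]; group
      _ = _ := by rw [mem_cent.1 (h.ab (h.mS m1)) x (h.mS hx)]
  generalize hy : b * x * b⁻¹ * x = y at m2 c
  obtain ⟨g, -, e⟩ := (mem_St.1 (l m2)).2 b self_Cl
  have := ((e ▸ b2.e_conj g : PiE {2} (y * b)).e_mul b2.e_inv (by rw [mul_inv_cancel_right, ← c, inv_mul_cancel_left])).e_eq_one
    (by simpa using (h.m0.elt (h.m1 m2)).compl_sing' h2)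
  rw [mul_inv_cancel_right] at this
  exact eq_inv_of_mul_eq_one_left (hy.trans this)

theorem sol : Sol G := by
  set T := G ⊓ C(⁅G, S0 π A G⁆) with hT
  refine sol_ext h.nT h.solT' (Ez.sol (A := quo T A) ?_)
  by_cases h2 : 2 ∈ π
  swap
  · refine Fx.ez ⟨quo_norms h.n, cop_im h.c _, fun y hy cy y2 => ?_⟩
    obtain ⟨x, a, b, c, rfl⟩ := lift _ h.n h.c h.aT h.nT.norm hy cy y2
    exact qmk_eq_one.2 (h.sT (h.odd h2 ⟨a, b⟩ c))
  refine ⟨quo_norms h.n, cop_im h.c _, z2q h.n h.c _ h.aT h.nT.norm fun x a b Q l hQ nQ => ?_, fun y hy cy y2 => ?_⟩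
  · obtain ⟨P, hP, nP⟩ := csyl h.n h.c 2
    obtain ⟨c, hc, l1⟩ := inv_syl_le_cj h.n h.c.symm (sol_cop h.c) l nQ hQ hP nP
    obtain ⟨w, hw, e⟩ := h.cjw p2 h2 hP nP hc
    obtain ⟨w', hw', v, hv, e'⟩ := h.cov p2 h2 hP nP ⟨a, b⟩
    have e1 : quo T (cj w P) = quo T P := by
      rw [quo_cj (le_normalizer (h.sT hw.1)), qmk_eq_one.2 (h.sT hw.1), cj_one]
    have e2 : x = ⟨w', le_normalizer (h.sT hw'.1)⟩ * ⟨v, h.nT.norm hv.1.1⟩ := Subtype.ext e'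
    rw [e2, map_mul, qmk_eq_one.2 (h.sT hw'.1), one_mul]
    exact cent_mono ((quo_mono T (l1.trans e.le)).trans e1.le) (im_cent_le (mem_im_of hv.2))
  · obtain ⟨x, a, b, c, rfl⟩ := lift _ h.n h.c h.aT h.nT.norm hy cy (pi2 y2)
    by_cases m : (x : X) ∈ S0 π A G
    · rw [qmk_eq_one.2 (h.sT m)]; exact one_mem _
    rw [← map_mul, qmk_eq_one] at y2
    have i := fun y hy => h.inv (x := y) h2 ⟨a, b⟩ c m y2.2 hy
    refine mem_cent.2 fun g hg => ?_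
    obtain ⟨g, hg', rfl⟩ := mem_im.1 hg
    rw [← map_mul, ← map_mul]
    refine qmk_eq.2 (mem_inf.2 ⟨mul_mem (inv_mem (mul_mem hg' a)) (mul_mem a hg'), mem_cent.2 fun y hy => ?_⟩)
    have k1 := i _ (conj_mem_of_norm (h.nM hg') hy)
    have k2 := i _ hy
    simp only [coe_mul]
    calc _ = (x : X)⁻¹ * (x * y * (x : X)⁻¹) * (g : X)⁻¹ * x * g := by group
      _ = (x : X)⁻¹ * (g : X)⁻¹ * (g * y * (g : X)⁻¹)⁻¹ * x * g := by rw [k2]; group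
      _ = _ := by rw [← k1]; group

end Hy

theorem split (n : A ≤ N(G)) (c : (#A).Coprime #G) (or : ∀ x ∈ G ⊓ C(A), PiN π (cl G x) ∨ PiN πᶜ (cl G x))
    (h1 : ∃ x ∈ G ⊓ C(A), cl G x ≠ 1 ∧ PiN π (cl G x)) (h2 : ∃ x ∈ G ⊓ C(A), cl G x ≠ 1 ∧ PiN πᶜ (cl G x)) :
    Sol G := by
  obtain ⟨b, hb, m⟩ := Set.exists_max_image ((G ⊓ C(A) : Subgroup X) : Set X) (cl G) (Set.toFinite _) ⟨1, one_mem _⟩
  rcases or b hb with k | k
  · obtain ⟨d, hd, d1, dp⟩ := h2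
    obtain ⟨r, hr, rd⟩ := Nat.exists_prime_and_dvd d1
    exact Hy.sol (π := πᶜ) ⟨n, c, fun x hx => (or x hx).symm.imp_right PiN.compl_compl, hb, k.compl_compl, m, hd, dp,
      hr, rd⟩
  · obtain ⟨d, hd, d1, dp⟩ := h1
    obtain ⟨r, hr, rd⟩ := Nat.exists_prime_and_dvd d1
    exact Hy.sol ⟨n, c, or, hb, k, m, hd, dp, hr, rd⟩

universe v

/-- the semidirect product with an operator group -/
theorem exists_amb {G : Type u} {A : Type v} [Group G] [Finite G] [Group A] [Finite A] [MulDistribMulAction A G] :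
    ∃ (X : Type u) (_ : Group X) (_ : Finite X) (ι : G →* X) (ψ : A →* X), Function.Injective ι ∧
      ∀ a g, ψ a * ι g * (ψ a)⁻¹ = ι (a • g) := by
  have : Finite (MulAut G) := Finite.of_injective _ MulEquiv.toEquiv_injective
  have : Finite (G ⋊[MonoidHom.id (MulAut G)] MulAut G) := Finite.of_equiv _ SemidirectProduct.equivProd.symm
  refine ⟨G ⋊[MonoidHom.id (MulAut G)] MulAut G, inferInstance, inferInstance, SemidirectProduct.inl,
    SemidirectProduct.inr.comp (MulDistribMulAction.toMulAut A G), SemidirectProduct.inl_injective, fun a g => ?_⟩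
  refine Eq.trans ?_ (SemidirectProduct.inl_aut (φ := MonoidHom.id _) (MulDistribMulAction.toMulAut A G a) g).symm
  rw [map_inv]; rfl

theorem s4165 {G : Type u} {A : Type v} [Group G] [Finite G] [Group A] [Finite A]
    [MulDistribMulAction A G] (hcop : (Nat.card A).Coprime (Nat.card G))
    (X Y : Set (ConjClasses G)) (hX : X.Nonempty) (hY : Y.Nonempty)
    (hcover : ∀ C : ConjClasses G, (1 < Nat.card C.carrier ∧ ∀ a : A, ∀ g ∈ C.carrier, a • g ∈ C.carrier) ↔ (C ∈ X ∨ C ∈ Y))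
    (hsplit : ∀ C ∈ X, ∀ D ∈ Y, (Nat.card C.carrier).Coprime (Nat.card D.carrier)) :
    Group.IsSolvable G := by
  obtain ⟨Z, _, _, ι, ψ, inj, act⟩ := exists_amb (G := G) (A := A)
  have e := MonoidHom.ofInjective inj
  have n : ψ.range ≤ N(ι.range) := by
    rintro _ ⟨a, rfl⟩
    refine mem_norm_of_cj_le fun y hy => ?_
    obtain ⟨_, ⟨g, rfl⟩, rfl⟩ := mem_cj'.1 hy
    exact ⟨_, (act a g).symm⟩
  have c : (#ψ.range).Coprime #ι.range := (Nat.card_congr e.toEquiv ▸ hcop).coprime_dvd_left (card_range_dvd _)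
  have ec : ∀ g, cl ι.range (ι g) = Nat.card (ConjClasses.mk g).carrier := fun g => by
    rw [H24.card_carrier_mk, ← H24.cs_equiv (MonoidHom.ofInjective inj), H24.cs_subgroup]; rfl
  have ex : ∀ C, C ∈ X ∨ C ∈ Y → ∃ x ∈ ι.range ⊓ C(ψ.range), cl ι.range x ≠ 1 ∧ cl ι.range x = Nat.card C.carrier :=
    fun C hC => by
      obtain ⟨k1, k2⟩ := (hcover C).2 hC
      obtain ⟨g, rfl⟩ := ConjClasses.mk_surjective C
      obtain ⟨_, ⟨k, rfl⟩, m⟩ := celt n c (w := ι g) (by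
        rintro _ ⟨a, rfl⟩
        obtain ⟨k, e⟩ := isConj_iff.1 (ConjClasses.mk_eq_mk_iff_isConj.1
          (ConjClasses.mem_carrier_iff_mk_eq.1 (k2 a g ConjClasses.mem_carrier_mk)).symm)
        exact ⟨ι k, ⟨k, rfl⟩, by rw [act, ← e]; simp⟩)
      have e1 : cl ι.range (ι (k * g * k⁻¹)) = Nat.card (ConjClasses.mk g).carrier := by
        rw [ec, H24.card_carrier_mk, H24.card_carrier_mk, H24.cs_conj]
      exact ⟨_, ⟨⟨_, rfl⟩, by simpa using m⟩, e1 ▸ k1.ne', e1⟩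
  have := split (π := {p | ∃ D ∈ Y, p ∣ Nat.card D.carrier}) n c (by
      rintro _ ⟨⟨g, rfl⟩, m⟩
      rw [ec]
      by_cases k : 1 < Nat.card (ConjClasses.mk g).carrier
      · rcases (hcover _).1 ⟨k, fun a x hx => by
          obtain ⟨j, rfl⟩ := isConj_iff.1 (ConjClasses.mk_eq_mk_iff_isConj.1
            (ConjClasses.mem_carrier_iff_mk_eq.1 hx).symm)
          have : a • g = g := inj (by rw [← act, mem_cent.1 m _ ⟨a, rfl⟩, mul_inv_cancel_right])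
          refine ConjClasses.mem_carrier_iff_mk_eq.2 (ConjClasses.mk_eq_mk_iff_isConj.2 (isConj_iff.2
            ⟨(a • j)⁻¹, by simp [smul_mul', this, mul_assoc]⟩))⟩ with k' | k'
        · exact .inr fun p hp d ⟨D, hD, d'⟩ => hp.ne_one (Nat.eq_one_of_dvd_coprimes (hsplit _ k' D hD) d d')
        · exact .inl fun p hp d => ⟨_, k', d⟩
      · rw [H24.card_carrier_mk] at k ⊢
        rw [le_antisymm (not_lt.1 k) (H24.cs_pos g)]
        exact .inl PiN.one)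
    (by
      obtain ⟨D, hD⟩ := hY
      obtain ⟨x, hx, x1, e⟩ := ex D (.inr hD)
      exact ⟨x, hx, x1, fun p hp d => ⟨D, hD, e ▸ d⟩⟩)
    (by
      obtain ⟨C, hC⟩ := hX
      obtain ⟨x, hx, x1, e⟩ := ex C (.inl hC)
      exact ⟨x, hx, x1, fun p hp d ⟨D, hD, d'⟩ =>
        hp.ne_one (Nat.eq_one_of_dvd_coprimes (hsplit _ hC D hD) (e ▸ d) d')⟩)
  exact Group.isSolvable_of_isSolvable_injective (f := e.toMonoidHom) e.injective

end H25.FB
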