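/-
S5161, chunk RED: reduction to known simple groups.
-/
import Cfsg.Agent.H27.FK1
import Cfsg.Agent.H25.Comp
import Cfsg.Agent.H7.Iso
import Cfsg.Agent.H1.GFitting

set_option autoImplicit false
set_option linter.unusedSectionVars false

namespace H25.FK
open Cfsg Subgroup H25 H25.FS H27.FK Function

section
variable {Γ : Type*} [Group Γ] [Finite Γ] {H S N X U P Q K : Subgroup Γ}

/-- no nontrivial normal subgroup of odd order -/
def OT (N : Subgroup Γ) : Prop := ∀ Y : Subgroup Γ, Y ≤ N → N ≤ nz Y → (Nat.card Y).Coprime 2 → Y = ⊥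

/-- the `Z*`-theorem -/
theorem zs (hS : IsPGroup 2 S) (hs : Syl 2 S X) (h : (ofSub X S).Cen U) (hO : OT N) (h1 : N ≤ nz X) (h2 : U ≤ nz N) :
    X ⊓ N ≤ cz U := fun g hg => mem_cz.2 fun x hx => by
  have a : x ∈ S := h.le hx
  obtain ⟨R, e⟩ := (syl_iff_exists_sylow hS hs.le).1 hs
  have b : InZStar 2 (⟨x, hs.le a⟩ : X) := by
    refine H7.inZStar_two (H7.isPElt_iff.2 ?_) (H7.isolated_of_sylow R (e ▸ a) fun k hk => Subtype.ext ?_)
    · obtain ⟨n, hn⟩ := hS ⟨x, a⟩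
      exact ⟨n, Subtype.ext (congrArg Subtype.val hn :)⟩
    · rw [e] at hk
      exact h.conj_eq (ofSub_T_of_mem (zpowers_le.2 a) k.2 (by rw [cj_zpowers]; exact zpowers_le.2 hk)) (mem_zpowers x) hx
  have c := hO ((pPrimeCore 2 X).map X.subtype ⊓ N) inf_le_right
    (fun y hy => mem_nz_inf (H1.normalizer_le_normalizer_pPrimeCoreOf X (h1 hy)) (le_nz_self N hy))
    ((H1.pPrimeCoreOf_coprime X).coprime_dvd_left (card_dvd_of_le inf_le_left))
  have d : g * x * g⁻¹ * x⁻¹ ∈ (pPrimeCore 2 X).map X.subtype ⊓ N :=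
    ⟨⟨_, b ⟨g, hg.1⟩, rfl⟩, comm_mem_of_nz hg.2 (h2 hx)⟩
  rw [c] at d
  exact mul_inv_eq_one.1 d

theorem syn (hs : Syl 2 S N) (a : P ≤ N) (b : N ≤ nz P) : Syl 2 (S ⊓ P) P := by
  simpa only [inf_eq_right.2 a] using hs.inf_normal b

theorem syl_sup (hS : IsPGroup 2 S) (hs : Syl 2 S N) (a : P ≤ N) (b : N ≤ nz P) (c : Q ≤ N) (d : N ≤ nz Q) :
    S ⊓ (P ⊔ Q) ≤ S ⊓ P ⊔ S ⊓ Q := by
  have h1 : Syl 2 (S ⊓ P ⊔ Q) (P ⊔ Q) := (syn hs a b).cover le_sup_left
    le_sup_left (sup_le_sup_right inf_le_right _) fun x hx => by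
      obtain ⟨u, hu, v, hv, rfl⟩ := (mem_sup_of_le_nz_right (a.trans d)).1 hx
      exact ⟨u, hu, by simpa using mem_sup_right hv⟩
  have h2 : Syl 2 (S ⊓ P ⊔ S ⊓ Q) (S ⊓ P ⊔ Q) := (syn hs c d).cover
    le_sup_right le_sup_right (sup_le_sup_left inf_le_right _) fun x hx => by
      rw [sup_comm] at hx
      obtain ⟨u, hu, v, hv, rfl⟩ := (mem_sup_of_le_nz_left ((inf_le_right.trans a).trans d)).1 hx
      exact ⟨u, hu, by simpa using mem_sup_left hv⟩
  exact ((h2.trans h1).eq_of_le (hS.to_le inf_le_left)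
    (sup_le (inf_le_inf_left _ le_sup_left) (inf_le_inf_left _ le_sup_right)) inf_le_right).le

theorem eq_of_qs {p : ℕ} [Fact p.Prime] {C E : FS Γ} (h : Subn p C E) : C.QS p → E.QS p → C = E := by
  induction h with
  | refl => exact fun _ _ => rfl
  | step h hL ih =>
    intro a b
    rcases b.wn _ hL.wn with e | e
    · exact (a.not_cz ((cen_center _).cz (h.le.trans hL.le) le_rfl) ((S_le_of_le h.le).trans e)).elim
    · exact e ▸ ih a (e ▸ b)

theorem qs_or {L : Type*} [Group L] [Finite L] (π : K →* L) (hπ : Surjective π) (hk : pre π ⊥ = K ⊓ cz K)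
    (hp : ⁅K, K⁆ = K) (h : SF L ∨ CF L) (hP : IsPGroup 2 P) (hs : Syl 2 P K) (hz : (ofSub K P).center ≤ cz K) :
    (ofSub K P).QS 2 ∨ (ofSub K P).Constr 2 := by
  have m := FS.epi_ofSub π le_rfl hP hs
  have s := hs.im π le_rfl
  rw [im_self, MonoidHom.range_eq_top.2 hπ] at m s
  have F := sat_ofSub hP hs
  have z : (ofSub K P).Cen ((ofSub K P).pr π ⊥) :=
    cen_ofSub hs.le inf_le_left (le_cz_comm.1 (inf_le_right.trans (hk.le.trans inf_le_right)))
  let R := (isPGroup_im π hP).toSylow (relIndex_top_right (H := im π P) ▸ s.2)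
  refine h.imp (fun h => m.qs F (le_antisymm z.le_center (le_inf (center_le _) (hk ▸ le_inf ((center_le _).trans hs.le) hz)))
    (F.hyp_eq_S_iff.2 ?_) (h.simple R)) fun h => ?_
  · rw [foc_ofSub hP hs, hp]; exact inf_eq_left.2 hs.le
  · obtain ⟨-, Q, a, b⟩ := h.constr R
    exact ⟨F, _, m.nm_pr_of_cen F z a, m.centric_pr b⟩

end

section
variable {M : ℕ} {H S N O : Subgroup (Univ M)} {C : FS (Univ M)}

theorem cse_le' (hB : Big S) (hS : IsPGroup 2 S) (hs : Syl 2 S H) (h1 : N ≤ H) (h2 : H ≤ nz N) (h3 : H ⊓ cz N ≤ N)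
    (hO : OT N) : (ofSub H S).cse (ofSub N (S ⊓ N)) ≤ N := fun s hs' => by
  have D := nml_ofSub hS hs h1 h2
  have c := (D.cz_cse hB).mono (zpowers_le.2 hs')
  have u : zpowers s ≤ S := c.le
  have n := (u.trans hs.le).trans h2
  have r : S ⊓ N ⊔ zpowers s ≤ S := sup_le inf_le_left u
  have y : Syl 2 (S ⊓ N ⊔ zpowers s) (zpowers s ⊔ N) := (syn hs h1 h2).cover
    le_sup_right le_sup_left (sup_le (le_sup_of_le_right inf_le_right) le_sup_left) fun x hx => by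
      rw [sup_comm] at hx
      obtain ⟨u, hu, v, hv, rfl⟩ := (mem_sup_of_le_nz_left n).1 hx
      exact ⟨u, hu, by simpa using mem_sup_right hv⟩
  have i := pidx_ofSub (hS.to_le r) y (resid_le_of_pel (pel_sup (fun k hk => .of_isPGroup hS (u hk))
    (fun k hk => .of_mem hk) n (le_nz_self N))) le_sup_right
  rw [le_antisymm (inf_le_inf_right N r) (le_inf le_sup_left inf_le_right)] at i
  have e := D.eq_ps hB i (sat_ofSub (hS.to_le r) y) (ofSub_mono (sup_le (u.trans hs.le) h1) r)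
  have z := c.cen_ps D hB le_sup_left r le_sup_right (by
    rw [cz_sup]; exact le_inf c.le_cz (isMulCommutative_iff_le_cz.1 inferInstance))
  exact h3 ⟨hs.le (u (mem_zpowers s)), le_cz_comm.1 ((le_inf le_sup_right le_rfl).trans
    (zs (hS.to_le r) y (e ▸ z) hO (le_sup_right.trans (le_nz_self _)) n)) (mem_zpowers s)⟩

theorem core {𝒦 : Subgroup (Univ M) → Prop} (hB : Big S) (hS : IsPGroup 2 S) (hs : Syl 2 S H) (h1 : N ≤ H) (h2 : H ≤ nz N)
    (h3 : H ⊓ cz N ≤ N) (hO : OT N) (o1 : O ≤ N) (o2 : N ≤ nz O) (o3 : IsPGroup 2 O)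
    (k : ∀ K, 𝒦 K → K ≤ N ∧ N ≤ nz K ∧ ∀ P : Subgroup (Univ M), IsPGroup 2 P → Syl 2 P K → (ofSub K P).center ≤ cz K →
      (ofSub K P).QS 2 ∨ (ofSub K P).Constr 2)
    (ind : ∀ X : Subgroup (Univ M) → Prop, X ⊥ → (∀ P Q, X P → X Q → X (P ⊔ Q)) → (∀ K, 𝒦 K → X K) → X O → X N)
    (hC : C.Cmp (ofSub H S) 2) : ∃ K, 𝒦 K ∧ C = ofSub K (S ⊓ K) := by
  have D := nml_ofSub hS hs h1 h2
  have hD := (hC.or_cz hB D.wn).resolve_right fun c => hC.2.not_cz c (le_inf (S_le_of_le hC.le) (hC.2.hyp.ge.trans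
    ((hyp_le_foc _ _).trans ((foc_mono c.2).trans ((D.foc_CF_le hB).trans (cse_le' hB hS hs h1 h2 h3 hO))))))
  have hS' : IsPGroup 2 (S ⊓ N :) := hS.to_le inf_le_left
  have hs' : Syl 2 (S ⊓ N) N := syn hs h1 h2
  have hB' : Big (S ⊓ N) := hB.mono inf_le_left
  by_contra hn
  have o4 := hs'.le_of_normal o3 o1 o2
  have a := ind (fun A => A ≤ N ∧ N ≤ nz A ∧ S ⊓ N ⊓ A ≤ cz C.S) ⟨bot_le, le_nz_bot _, inf_le_right.trans bot_le⟩
    (fun P Q p q => ⟨sup_le p.1 q.1, fun _ hx => mem_nz_sup (p.2.1 hx) (q.2.1 hx),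
      (syl_sup hS' hs' p.1 p.2.1 q.1 q.2.1).trans (sup_le p.2.2 q.2.2)⟩) (fun K hK => ?_)
    ⟨o1, o2, inf_le_right.trans ((hD.or_cz hB' (D.sat.nml_inner (nm_ofSub hs'.le o4 o2)).wn).resolve_left
      fun c => hC.2.not_le_inner o3 c.le).le_cz⟩
  · exact hC.2.ne (hC.2.nm (hC.2.sat.nm_of_sc_abelian (sc_S C) ((le_inf (S_le_of_le hD.le)
      ((S_le_of_le hD.le).trans inf_le_right)).trans a.2.2))).le_center
  obtain ⟨k1, k2, k3⟩ := k K hK
  refine ⟨k1, k2, ((hD.or_cz hB' (nml_ofSub hS' hs' k1 k2).wn).resolve_left fun c => ?_).le_cz⟩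
  have s : Syl 2 (S ⊓ N ⊓ K) K := syn hs' k1 k2
  have p : IsPGroup 2 (S ⊓ N ⊓ K :) := hS'.to_le inf_le_left
  refine (k3 _ p s (le_cz_comm.1 ((le_inf le_rfl k1).trans (zs p s (cen_center _) hO k2
    (((center_le _).trans (s.le.trans k1)).trans (le_nz_self N)))))).elim (fun q => hn ⟨K, hK, ?_⟩) fun q => q.not_cmp c
  rw [eq_of_qs c.1 c.2 q, inf_assoc, inf_eq_right.2 k1]

end

theorem red.{u} : RED.{u} := by
  intro kf G _ _ hO hK S T C hC
  obtain ⟨M, j, -, hj, hB⟩ := exists_big_embed G 1 one_pos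
  have U : URep (top j) := ⟨top_inj hj, (range_top j).symm ▸ hB⟩
  obtain ⟨-, c⟩ := U.cmp le_top S.isPGroup' hC
  rw [groupFusionSystem_eq, fs_ofSubgroup U.inj le_rfl, im_top, im_top] at c
  have s := (syl_sylow S).im (top j) le_rfl
  rw [im_top, im_top] at s
  have nm : ∀ {A B : Subgroup G}, A ≤ nz B → A.map j ≤ nz (B.map j) := fun h => (map_mono h).trans (le_normalizer_map j)
  have e := H1.gf_eq_layer_sup_pCore (G := G) hO
  refine (core (N := (generalizedFittingSubgroup G).map j) (O := (pCore 2 G).map j)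
    (𝒦 := fun X => ∃ K : Subgroup G, IsComponent K ∧ K.map j = X) (hB.mono (map_le_range _ _)) (S.isPGroup'.map j) s
    (map_mono le_top) (nm (le_nz_of_normal _ _)) ?_ ?_ (map_mono H1.pCore_le_gf) (nm (le_nz_of_normal _ _))
    (H1.pCore_isPGroup.map j) ?_ ?_ c).elim ?_
  · rintro _ ⟨⟨x, -, rfl⟩, hx⟩
    exact mem_map_of_mem j (H1.centralizer_gf_le fun y hy => hj (by
      rw [map_mul, map_mul]; exact hx _ (mem_map_of_mem j hy)))
  · intro Y a b d
    have := H1.le_pPrimeCoreOf a b d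
    rwa [← H1.map_pPrimeCoreOf_of_injective hj, H1.pPrimeCoreOf_eq_inf_of_normal, show pPrimeCore 2 G = ⊥ from hO,
      bot_inf_eq, Subgroup.map_bot, le_bot_iff] at this
  · rintro _ ⟨K, k, rfl⟩
    refine ⟨map_mono ((H1.le_layer k).trans H1.layer_le_gf), nm (e ▸ sup_le (H1.layer_le_normalizer_component k)
      (le_cz_comm.1 ((H1.le_layer k).trans H1.layer_le_centralizer_pCore) |>.trans (cz_le_nz K))), fun P => ?_⟩
    let i := K.equivMapOfInjective j hj
    refine qs_or ((QuotientGroup.mk' (center K)).comp i.symm.toMonoidHom)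
      ((QuotientGroup.mk'_surjective _).comp i.symm.surjective) ?_
      (by rw [← map_commutator, H1.Quasisimple.perfect k.2]) (kf _ (hK K k))
    ext x
    refine mem_pre_bot.trans (and_congr_right fun hx => ?_)
    obtain ⟨y, rfl⟩ : ∃ y : K, j y = x := let ⟨y, a, b⟩ := hx; ⟨⟨y, a⟩, b⟩
    rw [ex_of_mem _ hx, show (⟨j y, hx⟩ : K.map j) = i y from rfl]
    simp only [MonoidHom.comp_apply, MulEquiv.coe_toMonoidHom, MulEquiv.symm_apply_apply, QuotientGroup.mk'_apply,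
      QuotientGroup.eq_one_iff, mem_center_iff]
    refine ⟨?_, fun h z => Subtype.ext (hj ?_)⟩
    · rintro h _ ⟨z, hz, rfl⟩
      rw [← map_mul, ← map_mul]
      exact congrArg (fun w : K => j w) (h ⟨z, hz⟩)
    · simpa using h _ (mem_map_of_mem j z.2)
  · intro X a b d o
    rw [e, Subgroup.map_sup]
    refine b _ _ (sSup_induction_fin (X := fun A : Subgroup G => X (A.map j)) (by simpa using a)
      (fun P Q p q => by simpa only [Subgroup.map_sup] using b _ _ p q) fun K k => d _ ⟨K, k, rfl⟩) o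
  · rintro _ ⟨⟨K, hK', rfl⟩, f⟩
    have R := U.rep le_top C
    have R' := rep_ofSubgroup U.inj le_top (inf_le_right : S.1 ⊓ K ≤ K)
    have g : fs (top j) C = fs (top j) (fusionSystemOfSubgroup K (S.1 ⊓ K) inf_le_right) := by
      rw [f, fs_ofSubgroup U.inj le_top, im_top, im_top, map_inf _ _ _ hj]
    exact ⟨K, hK', inf_le_right, (R'.S_eq_iff R).1 (congrArg FS.S g), (R'.hom_eq_iff R).2 g⟩

end H25.FK
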