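import Cfsg.Agent.H1.FP0

/-! S4181 / S3580: the case of a Sylow orbit of length `p`. -/

set_option autoImplicit false

namespace H25.FP
open MulAction Subgroup H1.FP
open scoped Pointwise
universe u

theorem count {Δ : Type*} [Finite Δ] (F : Set Δ) (T : Set (Set Δ)) (a b : ℕ)
    (h1 : ∀ Θ ∈ T, a * (Θ ∩ F).ncard ≤ b * (Θ \ F).ncard) (h2 : ∀ x ∈ F, ∃ Θ ∈ T, x ∈ Θ)
    (h3 : ∀ Θ ∈ T, ∀ Θ' ∈ T, ∀ w ∈ Θ, w ∈ Θ' → w ∉ F → Θ = Θ') : a * F.ncard ≤ b * Fᶜ.ncard := by
  classical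
  have hT := T.toFinite
  calc a * F.ncard ≤ a * ∑ Θ ∈ hT.toFinset, (Θ ∩ F).ncard := by
        rw [← finsum_mem_eq_finite_toFinset_sum]
        refine Nat.mul_le_mul_left _ ((Set.ncard_le_ncard fun x hx => ?_).trans (hT.ncard_biUnion_le (· ∩ F)))
        obtain ⟨Θ, h, k⟩ := h2 x hx
        exact Set.mem_biUnion h ⟨k, hx⟩
    _ ≤ b * ∑ Θ ∈ hT.toFinset, (Θ \ F).ncard := by
        rw [Finset.mul_sum, Finset.mul_sum]
        exact Finset.sum_le_sum fun Θ h => h1 Θ (hT.mem_toFinset.1 h)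
    _ ≤ _ := by
        rw [← finsum_mem_eq_finite_toFinset_sum, ← hT.ncard_biUnion (fun _ _ => Set.toFinite _) fun Θ h Θ' h' n =>
          Set.disjoint_left.2 fun w k k' => n (h3 Θ h Θ' h' w k.1 k'.1 k.2)]
        exact Nat.mul_le_mul_left _ (Set.ncard_le_ncard (Set.iUnion₂_subset fun _ _ _ h => h.2))

variable {p : ℕ} [hp : Fact p.Prime] {G : Type u} [Group G] [Finite G] {Δ : Type u} [MulAction G Δ] {P R : Sylow p G}
  {Q : Subgroup G} {a b : Δ} {g x : G}

/-- the subgroup generated by the `p`-elements normalizing `Q` -/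
def Y (p : ℕ) (Q : Subgroup G) : Subgroup G := closure {g | g ∈ normalizer (Q : Set G) ∧ ∃ k, orderOf g = p ^ k}

omit hp [Finite G] in
theorem Y_le : Y p Q ≤ normalizer (Q : Set G) := (closure_le _).2 fun _ h => h.1
omit hp [Finite G] in
theorem pg_Y : PG p (Y p Q) := by
  apply map_injective (Y p Q).subtype_injective
  rw [MonoidHom.map_closure, ← MonoidHom.range_eq_map, range_subtype]
  refine le_antisymm ((closure_le _).2 (by rintro _ ⟨y, -, rfl⟩; exact y.2)) ((closure_le _).2 fun y hy => ?_)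
  exact subset_closure ⟨⟨y, subset_closure hy⟩, hy.2.imp fun k hk => (orderOf_coe _).symm.trans hk, rfl⟩
omit hp [Finite G] in
theorem ms : x ∈ ((g • P : Sylow p G) : Subgroup G) ↔ g⁻¹ * x * g ∈ (P : Subgroup G) := by
  simp [Sylow.coe_subgroup_smul, mem_pointwise_smul_iff_inv_smul_mem]
omit hp [Finite G] in
theorem ri (h : Q ≤ R) : Nat.card Q * Q.relIndex R = Nat.card R := by
  rw [← (Q.subgroupOf R).card_mul_index, Nat.card_congr (subgroupOfEquivOfLe h).toEquiv]; rfl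
theorem le_Y (h : Q ≤ R) (e : Q.relIndex R = p) : (R : Subgroup G) ≤ Y p Q := fun x hx => by
  obtain ⟨n, hn⟩ := R.isPGroup'.exists_card_eq
  have : (Q.subgroupOf R).Normal := normal_of_index_eq_minFac_card (by
    rw [hn, hp.out.pow_minFac fun e0 => hp.out.not_dvd_one ?_]
    · exact e
    · rw [← pow_zero p, ← e0, ← hn, ← ri h, e]; exact dvd_mul_left ..)
  exact subset_closure ⟨le_normalizer_of_normal_subgroupOf h hx,
    (IsPGroup.iff_orderOf.1 R.isPGroup' ⟨x, hx⟩).imp fun k hk => by simpa using hk⟩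
omit hp [Finite G] in
theorem fix_smul (h : (P : Subgroup G) ≤ stabilizer G a) : ((g • P : Sylow p G) : Subgroup G) ≤ stabilizer G (g • a) :=
  fun x hx => by
    have : (g⁻¹ * x * g) • a = a := h (ms.1 hx)
    rwa [mul_smul, mul_smul, inv_smul_eq_iff] at this
omit hp [Finite G] in
theorem mem_fix : a ∈ fixedPoints (P : Subgroup G) Δ ↔ (P : Subgroup G) ≤ stabilizer G a :=
  ⟨fun h x hx => h ⟨x, hx⟩, fun h x => h x.2⟩

theorem one (wq : WQ.{u}) [Finite Δ] (h : Q ≤ P) (e : Q.relIndex P = p) (ha : (P : Subgroup G) ≤ stabilizer G a)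
    (h2 : 2 ≤ (orbit (Y p Q) a).ncard) : (∀ w ∈ orbit (Y p Q) a, Q ≤ stabilizer G w) ∧
    p * (orbit (Y p Q) a ∩ fixedPoints (P : Subgroup G) Δ).ncard ≤
      (p - 1) * (orbit (Y p Q) a \ fixedPoints (P : Subgroup G) Δ).ncard := by
  have k : ∀ w ∈ orbit (Y p Q) a, Q ≤ stabilizer G w := by
    rintro _ ⟨y, rfl⟩ x hx
    have : (y.1⁻¹ * x * y) • a = a := ha (h ((mem_normalizer_iff''.1 (Y_le y.2) x).1 hx))
    rwa [mul_smul, mul_smul, inv_smul_eq_iff] at this
  have l := le_Y h e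
  have := wq p _ (P.subtype l) (orbit (Y p Q) a) (Q.subgroupOf _) pg_Y inferInstance h2 (comap_mono h)
    ((relIndex_subgroupOf l).trans e) fun x hx => Equiv.ext fun w => Subtype.ext (k w w.2 hx)
  have e1 : fP ((P.subtype l : Sylow p _) : Subgroup (Y p Q)) (orbit (Y p Q) a) =
      (orbit (Y p Q) a ∩ fixedPoints (P : Subgroup G) Δ).ncard :=
    Nat.card_congr ⟨fun w => ⟨w.1.1, w.1.2, fun x => congrArg Subtype.val (w.2 ⟨⟨x.1, l x.2⟩, x.2⟩)⟩,
      fun w => ⟨⟨w.1, w.2.1⟩, fun x => Subtype.ext (w.2.2 ⟨x.1.1, x.2⟩)⟩, fun _ => rfl, fun _ => rfl⟩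
  rw [e1, Nat.card_coe_set_eq, ← Set.ncard_sdiff Set.inter_subset_left, Set.sdiff_self_inter] at this
  exact ⟨k, this⟩

theorem yq (wq : WQ.{u}) : YQ.{u} := fun p hp G _ _ P Δ _ _ ht ⟨u, hu⟩ => by
  rw [fP, Nat.card_coe_set_eq, ← Set.ncard_compl]
  refine count _ {Θ | ∃ Q ≤ (P : Subgroup G), Q.relIndex P = p ∧ ∃ a, (P : Subgroup G) ≤ stabilizer G a ∧
    2 ≤ (orbit (Y p Q) a).ncard ∧ orbit (Y p Q) a = Θ} _ _ ?_ (fun a ha => ?_) ?_
  · rintro _ ⟨Q, h, e, a, ha, h2, rfl⟩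
    exact (one wq h e ha h2).2
  · replace ha := mem_fix.1 ha
    have e : (stabilizer G u ⊓ P).relIndex P = p := by
      rw [inf_relIndex_right]; exact (index_stabilizer (P : Subgroup G) u).trans hu
    generalize hQ : stabilizer G u ⊓ P = Q at e
    have h : Q ≤ P := hQ ▸ inf_le_right
    have h' : Q ≤ stabilizer G u := hQ ▸ inf_le_left
    obtain ⟨g, hg⟩ := ht.exists_smul_eq a u
    have l : ((g • P : Sylow p G) : Subgroup G) ≤ stabilizer G u := hg ▸ fix_smul ha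
    obtain ⟨T, hT⟩ := ((P.isPGroup'.to_le h).comap_subtype (K := stabilizer G u)).exists_le_sylow
    obtain ⟨k, rfl⟩ := exists_smul_eq (stabilizer G u) ((g • P).subtype l) T
    rw [Sylow.smul_subtype] at hT
    have l1 := Sylow.smul_le l k
    rw [Subgroup.smul_def, smul_smul] at l1
    have l2 : Q ≤ ((k.1 * g) • P : Sylow p G) := fun x hx => mul_smul k.1 g P ▸ hT (x := ⟨x, h' hx⟩) hx
    generalize k.1 * g = c at l1 l2
    have l3 := le_Y l2 <| (Nat.eq_of_mul_eq_mul_left Nat.card_pos ((ri l2).trans (.trans (by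
      rw [Sylow.card_eq_multiplicity, Sylow.card_eq_multiplicity]) (ri h).symm))) |>.trans e
    obtain ⟨b, hb, y, hy, n⟩ : ∃ b, (P : Subgroup G) ≤ stabilizer G b ∧
        ∃ y ∈ {g | g ∈ normalizer (Q : Set G) ∧ ∃ k, orderOf g = p ^ k}, y ∉ stabilizer G b := by
      by_contra n
      push Not at n
      have s : ∀ v, ((c • P : Sylow p G) : Subgroup G) ≤ stabilizer G v → v ∈ c • fixedPoints (P : Subgroup G) Δ :=
        fun v hv => Set.mem_smul_set_iff_inv_smul_mem.2 (mem_fix.2 (by simpa using fix_smul (g := c⁻¹) hv))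
      have := Set.eq_of_subset_of_ncard_le (fun v hv => s v (l3.trans ((closure_le _).2 (n v (mem_fix.1 hv)))))
        (Set.ncard_smul_set ..).le
      exact hp.out.one_lt.not_ge (hu ▸ (Set.ncard_le_one_iff_subsingleton).2
        (subsingleton_orbit_iff_mem_fixedPoints.2 (this ▸ s u l1)))
    obtain ⟨d, hd⟩ := ht.exists_smul_eq b a
    subst hd
    obtain ⟨m, hm⟩ := exists_smul_eq (stabilizer G (d • b)) ((d • P).subtype (fix_smul hb)) (P.subtype ha)
    simp_rw [Sylow.smul_subtype, Subgroup.smul_def, smul_smul] at hm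
    replace hm := Sylow.subtype_injective hm
    have e2 : (m.1 * d) • b = d • b := (mul_smul ..).trans m.2
    rw [← e2] at ha ⊢
    generalize m.1 * d = n at hm ha
    have hn : (P : Subgroup G).map (MulAut.conj n).toMonoidHom = P := congrArg Sylow.toSubgroup hm
    refine ⟨_, ⟨Q.map (MulAut.conj n).toMonoidHom, hn ▸ map_mono h, ?_, _, ha, ?_, rfl⟩, mem_orbit_self _⟩
    · rw [← hn, relIndex_map_map_of_injective _ _ (MulAut.conj n).injective, e]
    · refine (Set.one_lt_ncard_iff).2 ⟨_, _, mem_orbit_self _, ⟨⟨n * y * n⁻¹, subset_closure ⟨?_, ?_⟩⟩, rfl⟩, fun f => ?_⟩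
      · exact le_normalizer_map _ ⟨y, hy.1, rfl⟩
      · exact hy.2.imp fun k hk => ((MulAut.conj n).orderOf_eq y).trans hk
      · exact ‹y ∉ _› (by simpa [mul_smul] using show (n * y * n⁻¹) • n • b = n • b from f.symm)
  · rintro _ ⟨Q, h, e, a, ha, h2, rfl⟩ _ ⟨Q', h', e', a', ha', h2', rfl⟩ w k k' n
    have t : ∀ Q ≤ (P : Subgroup G), Q.relIndex P = p → Q ≤ stabilizer G w → Q = stabilizer G w ⊓ P := fun Q h e l => by
      have l1 := le_inf l h
      have := relIndex_mul_relIndex _ _ _ l1 (inf_le_right (b := (P : Subgroup G)))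
      rw [e] at this
      refine l1.antisymm (relIndex_eq_one.1 (((Nat.dvd_prime hp.out).1 (Dvd.intro _ this)).resolve_right fun f => n ?_))
      rw [f, mul_eq_left₀ hp.out.ne_zero, relIndex_eq_one] at this
      exact mem_fix.2 (this.trans inf_le_left)
    obtain rfl := (t Q h e ((one wq h e ha h2).1 w k)).trans (t Q' h' e' ((one wq h' e' ha' h2').1 w k')).symm
    rw [← orbit_eq_iff.2 k, orbit_eq_iff.2 k']

end H25.FP
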