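/-
A simple group has no Sylow 2-subgroup `U × V` whose factors have centres of order two, strongly real elements and
whose involutions are not fused outside the factor (variant of H1/GT2).
-/
import Cfsg.Agent.H28.SF6
import Cfsg.Agent.H25.PF6
import Cfsg.Agent.H17.GG1

set_option autoImplicit false
set_option linter.unusedSectionVars false

namespace H25.G38
open Cfsg Subgroup H19 H28.CY
open H28.SF (DP ex_st jmem cj_sq cj_sq' cm1)
open H17.GS (conj_conj')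
export H19 (pre_le cj_lt_cj im_sup cj_inv_cj im_bot cj_eq_bot cj_le_cj conj_mem_cj le_cj_iff relIndex_cj cj_def orderOf_conj' im_pre
  mem_cj im_le_iff mem_cj' cj_inf mem_im cj_inj cj_closure im_mono cj_cj cj_top card_cj im_pre_le cj_one mem_pre pre_inf pre im_cj
  cj_mono cj_le_iff pre_mono cj_zpowers im cj_sup cj_le_of_mem cj_cj_inv cj_eq_iff cj_bot syl_sylow im_zpowers exists_syl le_pre_im Syl
  cj_mul)

universe u
variable {G : Type u} [Group G] [Finite G] {U V X : Subgroup G} {a b g n s x y z : G}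

/-- the properties of a direct factor -/
structure Fd (U : Subgroup G) : Prop where
  z2 : ∀ x ∈ Z(U), ∀ y ∈ Z(U), x ≠ 1 → y = 1 ∨ y = x
  nab : ¬ U ≤ C(U)
  iv : ∀ x ∈ U, ∃ a ∈ U, a * a = 1 ∧ a * x * a⁻¹ = x⁻¹

/-- the setting -/
structure Pw (X U V : Subgroup G) : Prop where
  s : Syl 2 (U ⊔ V) X
  p : DP U V
  f : Fd U
  f' : Fd V

/-- involutions of `U` are not fused outside `U` -/
def Iv (X U V : Subgroup G) : Prop := ∀ {s : G}, s ∈ U → s * s = 1 → ∀ {g : G}, g ∈ X → g * s * g⁻¹ ∈ U ⊔ V → g * s * g⁻¹ ∈ U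

namespace Pw
variable (w : Pw X U V)
include w
theorem symm : Pw X V U := ⟨sup_comm U V ▸ w.s, w.p.symm, w.f', w.f⟩
theorem pU : PG 2 U := w.s.pi.of_le le_sup_left
theorem UX : U ≤ X := le_sup_left.trans w.s.le
theorem zW : Z(U) ≤ C(U ⊔ V) := fun _ h => cent_sup U V ▸ ⟨h.2, w.p.c h.1⟩
theorem zd (h : x ∈ U ⊔ V) (c : x ∈ C(U ⊔ V)) : ∃ a ∈ Z(U), ∃ b ∈ Z(V), x = a * b := by
  obtain ⟨a, ha, b, hb, rfl⟩ := w.p.mem.1 h
  exact ⟨a, ⟨ha, (mul_mem_cancel_right (w.p.symm.c hb)).1 (cent_mono le_sup_left c)⟩, b,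
    ⟨hb, (mul_mem_cancel_left (w.p.c ha)).1 (cent_mono le_sup_right c)⟩, rfl⟩
theorem zz (h : a ∈ Z(U)) : a * a = 1 := by
  by_cases a1 : a = 1
  · rw [a1, mul_one]
  exact (w.f.z2 a h _ (mul_mem h h) a1).resolve_right fun e => a1 (mul_eq_left.1 e)
theorem nd (hn : n ∈ N(U ⊔ V)) (ha : a ∈ Z(U)) (hb : b ∈ Z(V)) (a1 : a ≠ 1) (b1 : b ≠ 1) : n * (a * b) * n⁻¹ ∉ U := fun k => by
  obtain ⟨x, hx, x1, c⟩ := ex_st (A := Z(U)) w.pU w.pU (lt_of_le_not_ge inf_le_left fun e => w.f.nab (e.trans inf_le_right))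
    (center_normal U).norm (center_normal U).norm le_normalizer
  have kZ : n * (a * b) * n⁻¹ ∈ Z(U) := ⟨k, cent_mono le_sup_left (conj_mem_of_norm (norm_le_norm_cent _ hn)
    (mul_mem (w.zW ha) (sup_comm V U ▸ w.symm.zW hb)))⟩
  have k1 : n * (a * b) * n⁻¹ ≠ 1 := fun e => b1 ((w.p.memU ha.1 hb.1).1 (conj_eq_one_iff.1 e ▸ one_mem _))
  have c1 : ∀ y ∈ U ⊔ V, n⁻¹ * x * n * y * (n⁻¹ * x * n)⁻¹ * y⁻¹ = 1 ∨ n⁻¹ * x * n * y * (n⁻¹ * x * n)⁻¹ * y⁻¹ = a * b := fun y hy => by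
    obtain ⟨u, hu, v, hv, e⟩ := w.p.mem.1 (conj_mem_of_norm hn hy)
    have := w.f.z2 _ kZ _ (c u hu) k1
    rw [← w.p.cmm' hx hu hv, ← e] at this
    refine this.imp (fun e => ?_) fun e => ?_
    · simpa [mul_assoc] using congrArg (fun g => n⁻¹ * g * n) e
    · simpa [mul_assoc] using congrArg (fun g => n⁻¹ * g * n) e
  have xW := conj_mem_of_norm' hn (mem_sup_left (T := V) hx)
  have c2 : n⁻¹ * x * n ∈ C(U ⊔ V) := cent_sup U V ▸ ⟨mem_cent.2 fun y hy => (cm1.1 ((c1 y (mem_sup_left hy)).resolve_right fun e =>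
      b1 ((w.p.memU ha.1 hb.1).1 (e ▸ mul_mem (conj_mem_of_norm (w.p.nU' xW) hy) (inv_mem hy))))).symm,
    mem_cent.2 fun y hy => (cm1.1 ((c1 y (mem_sup_right hy)).resolve_right fun e =>
      a1 ((w.p.memV ha.1 hb.1).1 (e ▸ mul_mem (conj_mem_of_norm (w.p.nV' xW) hy) (inv_mem hy))))).symm⟩
  exact x1 ⟨hx, cent_mono le_sup_left (by simpa [mul_assoc] using conj_mem_of_norm (norm_le_norm_cent _ hn) c2)⟩
theorem cases (hn : n ∈ N(U ⊔ V)) (ha : a ∈ Z(U)) : n * a * n⁻¹ ∈ Z(U) ∨ n * a * n⁻¹ ∈ Z(V) := by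
  obtain ⟨c, hc, d, hd, e⟩ := w.zd (conj_mem_of_norm hn (mem_sup_left ha.1)) (conj_mem_of_norm (norm_le_norm_cent _ hn) (w.zW ha))
  rw [e]
  by_cases c1 : c = 1
  · exact .inr (by rwa [c1, one_mul])
  by_cases d1 : d = 1
  · exact .inl (by rwa [d1, mul_one])
  exact (w.nd (inv_mem hn) hc hd c1 d1 (by rw [← e]; simpa [mul_assoc] using ha.1)).elim
theorem fix (hn : n ∈ X ⊓ N(U ⊔ V)) (ha : a ∈ Z(U)) : n * a * n⁻¹ ∈ U := by
  obtain ⟨y, o, e, -, y2, o2, y1, o1⟩ := parts n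
  have l := zpowers_le.2 hn
  have yW := w.s.mem_of_norm (l y1).1 y2 (l y1).2
  rw [e, ← conj_conj']
  refine conj_mem_of_norm (w.p.nU' yW) ?_
  refine (w.cases (l o1).2 ha).elim (·.1) fun k => ?_
  by_cases a1 : a = 1
  · simp [a1]
  have k1 : o * a * o⁻¹ ≠ 1 := mt conj_eq_one_iff.1 a1
  have : o * o ∈ C[a] := mem_cent1.2 (mul_inv_eq_iff_eq_mul.1 (by
    rw [← conj_conj']
    rcases w.symm.cases (sup_comm U V ▸ (l o1).2) k with k' | k'
    · have := (w.f'.z2 _ k _ k' k1).resolve_left (mt conj_eq_one_iff.1 k1)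
      exact (a1 (w.p.one ha.1 (mul_left_cancel (mul_right_cancel this) ▸ k.1))).elim
    · exact (w.f.z2 _ ha _ k' a1).resolve_left (mt conj_eq_one_iff.1 k1)))
  rw [mem_cent1.1 (mem_of_odd o2 this), mul_inv_cancel_right]; exact ha.1
theorem cl1 (iv : Iv X U V) (hx : x ∈ U) (hg : g ∈ X) (ha : a ∈ U) (hb : b ∈ V) (bb : b * b = 1) (e : g * x * g⁻¹ = a * b) : b = 1 := by
  obtain ⟨c, hc, cc, e1⟩ := w.f.iv a ha
  obtain ⟨d, hd, dd, e2⟩ := w.f.iv x hx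
  have e3 : g⁻¹ * c * g * x * (g⁻¹ * c * g)⁻¹ = x⁻¹ :=
    calc _ = g⁻¹ * (c * (g * x * g⁻¹) * c⁻¹) * g := by group
      _ = g⁻¹ * (c * a * c⁻¹ * (c * b * c⁻¹)) * g := by rw [e, conj_mul]
      _ = g⁻¹ * (a * b)⁻¹ * g := by
        rw [e1, w.p.cm hc hb, mul_inv_cancel_right, w.p.inv2 ha hb, inv_eq_of_mul_eq_one_right bb]
      _ = _ := by rw [← e]; group
  have nz : ∀ {c}, c * x * c⁻¹ = x⁻¹ → c ∈ N(zpowers x) := fun e => mem_norm_of (by
    rintro _ ⟨j, rfl⟩; rw [← conj_zpow, e]; exact zpow_mem (inv_mem (mem_zpowers x)) j)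
  have px := w.pU.of_le (zpowers_le.2 hx)
  have cX := mul_mem (mul_mem (inv_mem hg) (w.UX hc)) hg
  have pp : ∀ {c}, c ∈ X → c * c = 1 → c * x * c⁻¹ = x⁻¹ → PG 2 (zpowers x ⊔ zpowers c) ∧ zpowers x ⊔ zpowers c ≤ X ⊓ N(zpowers x) :=
    fun h cc e => ⟨px.sup (piG_zpowers.2 (two_of_sq cc)) (zpowers_le.2 (nz e)),
      sup_le (le_inf (zpowers_le.2 (w.UX hx)) le_normalizer) (zpowers_le.2 ⟨h, nz e⟩)⟩
  obtain ⟨P, hP, l⟩ := (pp (w.UX hd) dd e2).1.exists_syl (pp (w.UX hd) dd e2).2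
  obtain ⟨n, hn, l1⟩ := hP.scj_le (pp cX (cj_sq' cc g) e3).2 (pp cX (cj_sq' cc g) e3).1
  obtain ⟨k, hk, l2⟩ := w.s.scj_le (hP.le.trans inf_le_left) hP.pi
  have m : ∀ y ∈ P, k * y * k⁻¹ ∈ U ⊔ V := fun y hy => l2 (conj_mem_cj.2 hy)
  have dP := l (mem_sup_right (mem_zpowers d))
  have xP := l (mem_sup_left (mem_zpowers x))
  have h1 := iv hd dd hk (m d dP)
  have h2 := iv (mul_mem hd hx) (by
    rw [show d * x * (d * x) = d * x * d⁻¹ * (d * d) * x by group, e2, dd]; simp) hk (m _ (mul_mem dP xP))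
  rw [← conj_mul, mul_mem_cancel_left h1] at h2
  have h3 : k * (n * x * n⁻¹) * k⁻¹ ∈ U := by
    obtain ⟨j, e⟩ := conj_mem_of_norm hn.2 (mem_zpowers x)
    rw [← e, ← conj_zpow]; exact zpow_mem h2 j
  have kn := mul_mem (mul_mem hk hn.1) (inv_mem hg)
  have h4 := iv hc cc kn (by
    simpa [mul_assoc] using m _ (l1 (conj_mem_cj.2 (mem_sup_right (mem_zpowers _)))))
  have h5 : k * n * g⁻¹ * (c * a * b) * (k * n * g⁻¹)⁻¹ ∈ U := by
    rw [mul_assoc c, ← e]; simpa [mul_assoc] using mul_mem h4 h3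
  have h6 := @iv _ h5 (cj_sq (by
    rw [w.p.mul4 hb (mul_mem hc ha), bb, show c * a * (c * a) = c * a * c⁻¹ * (c * c) * a by group, e1, cc]; simp) _) _ (inv_mem kn)
  rw [show ∀ p q : G, p⁻¹ * (p * q * p⁻¹) * p⁻¹⁻¹ = q from fun _ _ => by group] at h6
  exact (w.p.memU (mul_mem hc ha) hb).1 (h6 (mul_mem_sup (mul_mem hc ha) hb))
theorem scl (iv : Iv X U V) : H17.GS.SCl U X := .of_syl w.s le_sup_left fun x hx g hg h => by
  obtain ⟨a, ha, b, hb, e⟩ := w.p.mem.1 h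
  suffices b = 1 by rwa [e, this, mul_one]
  by_contra b1
  obtain ⟨y, hy, o⟩ := H17.GS.exists_inv_pg (w.symm.pU.of_le (zpowers_le.2 hb)) (mt zpowers_eq_bot.1 b1)
  obtain ⟨j, rfl⟩ := mem_zpowers_iff.1 hy
  have := w.cl1 iv (zpow_mem hx j) hg (zpow_mem ha j) (zpow_mem hb j) (by rw [← pow_two, ← o, pow_orderOf_eq_one])
    (by rw [← conj_zpow, e, Commute.mul_zpow (w.p.cm ha hb)])
  simp [this] at o
theorem elim (iv : Iv X U V) (iv' : Iv X V U) (h : H17.GS.Sim X) : False := by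
  have k : ∀ {U V : Subgroup G}, Pw X U V → H17.GS.Kc U X = X := fun w => (h.cases (H17.GS.Kc_le w.UX) H17.GS.Kc_norm).resolve_left
    fun e => w.f.nab ((H17.GS.le_Kc.trans e.le).trans bot_le)
  have := H25.PF.scl_main (w.scl iv) (w.symm.scl iv') w.s le_sup_left le_sup_right w.p.c
  rw [k w, k w.symm, w.p.i, h.O_eq, sup_bot_eq] at this
  exact h.nab (comm_iff_der.2 (le_bot_iff.1 (this.trans (H17.GS.Kc_le_of le_rfl le_normalizer_of_normal))))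
end Pw

end H25.G38
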