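/-
S3138, chunk PL: no simple group has a Sylow 2-subgroup `T × T` coming from two commuting copies of `U₄(2)`.
-/
import Cfsg.Agent.H25.G81
import Cfsg.Agent.H18.G0
import Cfsg.Agent.H17.GS16

set_option autoImplicit false
set_option linter.unusedSectionVars false

namespace H25.G38
open Cfsg Subgroup H19 H28.CY H18.U2 H18.G38 Matrix
open H15.GC (ω ν)
open H28.SF (DP cj_sq cj_sq')
export H18.U2 (act)
universe u
variable {G : Type u} [Group G] [Finite G] {a b : Γ4 →* G} {g n s t w x : G} {B D : Subgroup G} {p q p' q' k l : Γ4}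
  {β β' β1 β2 : 𝔽} {c d y y' y1 y2 : Hm 𝔽}

theorem kc (c : K 𝔽) : c = 0 ∨ c = 1 := by
  obtain ⟨x, hx⟩ := c
  have : x = 0 ∨ x = 1 := by revert x; simp only [selfAdjoint.mem_iff]; decide +kernel
  exact this.imp Subtype.ext Subtype.ext
instance iKD : DecidableEq (K 𝔽) := fun x y => decidable_of_iff (x.1 = y.1) Subtype.ext_iff.symm
instance iKA (P : K 𝔽 → Prop) [DecidablePred P] : Decidable (∀ x, P x) :=
  decidable_of_iff (P 0 ∧ P 1) ⟨fun h x => (kc x).elim (· ▸ h.1) (· ▸ h.2), fun h => ⟨h _, h _⟩⟩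
instance iKE (P : K 𝔽 → Prop) [DecidablePred P] : Decidable (∃ x, P x) :=
  decidable_of_iff (P 0 ∨ P 1) ⟨fun h => h.elim (⟨_, ·⟩) (⟨_, ·⟩), fun ⟨x, h⟩ => by rcases kc x with rfl | rfl; exacts [.inl h, .inr h]⟩
instance iHA (P : Hm 𝔽 → Prop) [DecidablePred P] : Decidable (∀ x, P x) :=
  decidable_of_iff (∀ a b c, P (a, b, c)) ⟨fun h _ => h _ _ _, fun h _ _ _ => h _⟩
instance iHE (P : Hm 𝔽 → Prop) [DecidablePred P] : Decidable (∃ x, P x) :=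
  decidable_of_iff (∃ a b c, P (a, b, c)) ⟨fun ⟨_, _, _, h⟩ => ⟨_, h⟩, fun ⟨_, h⟩ => ⟨_, _, _, h⟩⟩
instance iKF : Fintype (K 𝔽) := ⟨{0, 1}, fun x => by simpa using kc x⟩
theorem cardK2 : Nat.card (K 𝔽) = 2 := by rw [Nat.card_eq_fintype_card]; decide +kernel
theorem card_As : #(As 𝔽) = 16 := by
  rw [← Nat.card_congr (Equiv.ofBijective (fun p : Hm 𝔽 => (⟨_, aA p⟩ : As 𝔽))
    ⟨fun _ _ e => (up_inj (congrArg Subtype.val e)).2, fun ⟨_, y, e⟩ => ⟨y, Subtype.ext e.symm⟩⟩)]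
  simp only [Nat.card_prod, cardK2, H15.GC.F4.ncard]
theorem cnt12 : ∀ (β : 𝔽) (y : Hm 𝔽), β ≠ 0 → act β y + y = 0 →
    (Finset.univ.filter fun r : 𝔽 × Hm 𝔽 => act r.1 r.2 + r.2 = 0 ∧ act r.1 y + r.2 = act β r.2 + y).card ≤ 12 := by
  decide +kernel
theorem sq_up (h : up β y * up β y = 1) : act β y + y = 0 := (up_eq1 ((up_mul ..).symm.trans h)).2
/-- elementary abelian subgroups of `T` -/
theorem lemE {E : Subgroup Γ4} (h : E ≤ U 𝔽) (e : ∀ x ∈ E, x * x = 1) : E ≤ As 𝔽 ∨ #E ≤ 12 := by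
  refine or_iff_not_imp_left.2 fun k => ?_
  obtain ⟨x, hx, x1⟩ := SetLike.not_le_iff_exists.1 k
  obtain ⟨β, y, rfl⟩ := h hx
  refine le_trans ?_ (cnt12 β y (fun e => x1 ⟨y, e ▸ rfl⟩) (sq_up (e _ hx)))
  rw [← Set.ncard_coe_finset]
  refine le_trans (Set.ncard_le_ncard (fun r hr => ?_) ((Set.toFinite _).image fun r : 𝔽 × Hm 𝔽 => up r.1 r.2)) (Set.ncard_image_le (Set.toFinite _))
  obtain ⟨β', y', rfl⟩ := h hr
  have : up β y * up β' y' = up β' y' * up β y := by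
    have := e _ (mul_mem hx hr)
    rwa [mul_eq_one_iff_eq_inv, _root_.mul_inv_rev, inv_eq_of_mul_eq_one_right (e _ hx), inv_eq_of_mul_eq_one_right (e _ hr)] at this
  rw [up_mul, up_mul] at this
  exact ⟨(β', y'), by simpa using ⟨sq_up (e _ hr), (up_inj this).2⟩, rfl⟩
theorem exz : ∀ β : 𝔽, β ≠ 0 → ∃ c : Hm 𝔽, act β c + c = (1, 0, 0) := by decide +kernel
theorem fx2 : ∀ β β' : 𝔽, β ≠ 0 → β' ≠ 0 → β + β' ≠ 0 → ∀ c : Hm 𝔽, act β c = c → act β' c = c → c = 0 ∨ c = (1, 0, 0) := by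
  decide +kernel
/-- representatives of the classes of involutions -/
def Rp (p : Γ4) : Prop := ∃ c : Hm 𝔽, p = up 0 (act 1 c + c) ∧ up 1 0 * p = p * up 1 0
theorem rp (h : p * p = 1) : ∃ k, Rp (k * p * k⁻¹) := by
  by_cases p1 : p = 1
  · exact ⟨1, 0, by rw [p1]; decide +kernel, by simp [p1]⟩
  rcases inv_cls h p1 with e | e <;> obtain ⟨k, e⟩ := isConj_iff.1 e.symm <;> refine ⟨k, e.symm ▸ ?_⟩
  · exact ⟨(0, ω, 0), by decide +kernel, by decide +kernel⟩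
  · exact ⟨(0, ω, 1), by decide +kernel, by decide +kernel⟩
theorem zb_cj (β : 𝔽) : IsConj zz (zb β) :=
  isConj_iff.2 ⟨up β 0 * nn, mul_inv_eq_iff_eq_mul.2 (by revert β; decide +kernel)⟩

/-- the setting -/
structure Pr (a b : Γ4 →* G) : Prop where
  ia : Function.Injective a
  ib : Function.Injective b
  c : a.range ≤ C(b.range)
  s : Syl 2 (Tm a ⊔ Tm b) ⊤

theorem mL (a : Γ4 →* G) (p : Γ4) : a p ∈ a.range := ⟨p, rfl⟩
theorem mT (a : Γ4 →* G) (β : 𝔽) (y : Hm 𝔽) : a (up β y) ∈ Tm a := mem_map_of_mem a (upU β y)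
theorem mV (a : Γ4 →* G) (y : Hm 𝔽) : a (up 0 y) ∈ Vm a := mem_map_of_mem a (aA y)
theorem VT (a : Γ4 →* G) : Vm a ≤ Tm a := map_mono (by rintro _ ⟨y, rfl⟩; exact upU ..)
theorem fd (h : Function.Injective a) : Fd (Tm a) where
  z2 := by
    have k : ∀ x ∈ Z(Tm a), x = 1 ∨ x = a zz := by
      rintro _ ⟨⟨p, hp, rfl⟩, c⟩
      obtain ⟨α, rfl⟩ := ZU hp (mem_cent.2 fun r hr => h (by simpa using mem_cent.1 c _ (mem_map_of_mem a hr)))
      exact (kc α).imp (fun e => by rw [e, z_0, map_one]) fun e => by rw [e]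
    intro x hx y hy x1
    rw [(k x hx).resolve_left x1]; exact k y hy
  nab e := by
    have := mem_cent.1 (e (mT a 1 0)) _ (mT a 0 (0, ω, 0))
    rw [← map_mul, ← map_mul] at this
    exact absurd (h this) (by decide +kernel)
  iv := by
    rintro _ ⟨_, ⟨β, y, rfl⟩, rfl⟩
    exact ⟨_, mT a β 0, by rw [← map_mul, u_sq, map_one], by
      rw [ι_cj, ← map_inv, u_inv, up_inv, up_mul, up_mul, aa β, zero_add, act_0', zero_add, add_zero]⟩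

namespace Pr
variable (h : Pr a b)
include h
theorem symm : Pr b a := ⟨h.ib, h.ia, cents_symm h.c, sup_comm (Tm a) _ ▸ h.s⟩
theorem dp : DP a.range b.range := ⟨h.c, eq_bot_iff.2 (by
  rintro _ ⟨⟨p, rfl⟩, k⟩; rw [LK h.ia (cents_symm h.c k), map_one]; exact one_mem _)⟩
theorem dT : DP (Tm a) (Tm b) := h.dp.mono (map_le_range _ _) (map_le_range _ _)
theorem dV : DP (Vm a) (Vm b) := h.dp.mono (map_le_range _ _) (map_le_range _ _)
theorem pw : Pw ⊤ (Tm a) (Tm b) := ⟨h.s, h.dT, fd h.ia, fd h.ib⟩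
theorem cm (p q : Γ4) : a p * b q = b q * a p := h.dp.cm (mL ..) (mL ..)
theorem uq (e : a p * b q = a p' * b q') : p = p' ∧ q = q' := (h.dp.uniq (mL ..) (mL ..) (mL ..) (mL ..) e).imp (h.ia ·) (h.ib ·)
theorem m4 (p q p' q' : Γ4) : a p * b q * (a p' * b q') = a (p * p') * b (q * q') := by
  rw [h.dp.mul4 (mL ..) (mL ..), map_mul, map_mul]
theorem i4 (p q : Γ4) : (a p * b q)⁻¹ = a p⁻¹ * b q⁻¹ := by rw [h.dp.inv2 (mL ..) (mL ..), map_inv, map_inv]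
theorem sq (e : a p * b q * (a p * b q) = 1) : p * p = 1 ∧ q * q = 1 := h.uq (by rw [← h.m4, e]; simp)
theorem memT (hx : x ∈ Tm a ⊔ Tm b) : ∃ β y β' y', x = a (up β y) * b (up β' y') := by
  obtain ⟨_, ⟨_, ⟨β, y, rfl⟩, rfl⟩, _, ⟨_, ⟨β', y', rfl⟩, rfl⟩, e⟩ := h.dT.mem.1 hx
  exact ⟨_, _, _, _, e⟩
theorem memV (hx : x ∈ Vm a ⊔ Vm b) : ∃ y y', x = a (up 0 y) * b (up 0 y') := by
  obtain ⟨_, ⟨_, ⟨y, rfl⟩, rfl⟩, _, ⟨_, ⟨y', rfl⟩, rfl⟩, e⟩ := h.dV.mem.1 hx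
  exact ⟨_, _, e⟩
theorem mW (y y' : Hm 𝔽) : a (up 0 y) * b (up 0 y') ∈ Vm a ⊔ Vm b := mul_mem_sup (mV ..) (mV ..)
theorem WP : Vm a ⊔ Vm b ≤ Tm a ⊔ Tm b := sup_le_sup (VT a) (VT b)
theorem WW (hx : x ∈ Vm a ⊔ Vm b) : Vm a ⊔ Vm b ≤ C[x] := fun w hw => by
  obtain ⟨y, y', rfl⟩ := h.memV hx
  obtain ⟨c, d, rfl⟩ := h.memV hw
  rw [mem_cent1, h.m4, h.m4, a_comm y, a_comm y']
/-- the projection to the first factor -/
def pr (B : Subgroup G) : Subgroup Γ4 where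
  carrier := {p | ∃ q, a p * b q ∈ B}
  one_mem' := ⟨1, by simp⟩
  mul_mem' := fun ⟨q, e⟩ ⟨q', e'⟩ => ⟨q * q', h.m4 .. ▸ mul_mem e e'⟩
  inv_mem' := fun ⟨q, e⟩ => ⟨q⁻¹, h.i4 .. ▸ inv_mem e⟩
theorem prE (l : B ≤ Tm a ⊔ Tm b) (e : ∀ x ∈ B, x * x = 1) : h.pr B ≤ As 𝔽 ∨ #(h.pr B) ≤ 12 :=
  lemE (fun _ ⟨_, k⟩ => let ⟨_, _, _, _, r⟩ := h.memT (l k); ⟨_, _, (h.uq r).1⟩) fun _ ⟨_, k⟩ => (h.sq (e _ k)).1
theorem cW : #(Vm a ⊔ Vm b : Subgroup G) = 256 := by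
  rw [h.dV.card, card_map_of_injective h.ia, card_map_of_injective h.ib, card_As]
/-- weak closure -/
theorem wc (l : cj g (Vm a ⊔ Vm b) ≤ Tm a ⊔ Tm b) : g ∈ N(Vm a ⊔ Vm b) := by
  have e : ∀ x ∈ cj g (Vm a ⊔ Vm b), x * x = 1 := fun x hx => by
    obtain ⟨w, hw, rfl⟩ := mem_cj'.1 hx
    obtain ⟨c, d, rfl⟩ := h.memV hw
    exact cj_sq (by rw [h.m4, a_sq, a_sq]; simp) g
  have c := (card_cj g _).trans h.cW
  refine mem_norm_of_cj_le ?_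
  generalize cj g (Vm a ⊔ Vm b) = B at *
  have l1 : B ≤ (h.pr B).map a ⊔ (h.symm.pr B).map b := fun x hx => by
    obtain ⟨_, _, _, _, rfl⟩ := h.memT (l hx)
    exact mul_mem_sup (mem_map_of_mem a ⟨_, hx⟩) (mem_map_of_mem b ⟨_, h.cm .. ▸ hx⟩)
  have c1 := card_le l1
  rw [(h.dp.mono (map_le_range _ _) (map_le_range _ _)).card, card_map_of_injective h.ia, card_map_of_injective h.ib, c] at c1
  have f : ∀ {E : Subgroup Γ4}, E ≤ As 𝔽 → #E ≤ 16 := fun l => card_As ▸ card_le l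
  rcases h.prE l e with k | k <;> rcases h.symm.prE (sup_comm (Tm a) _ ▸ l) e with k' | k'
  · exact l1.trans (sup_le_sup (map_mono k) (map_mono k'))
  · exact absurd (c1.trans (Nat.mul_le_mul (f k) k')) (by omega)
  · exact absurd (c1.trans (Nat.mul_le_mul k (f k'))) (by omega)
  · exact absurd (c1.trans (Nat.mul_le_mul k k')) (by omega)
theorem fus (hx : x ∈ Vm a ⊔ Vm b) (k : g * x * g⁻¹ ∈ Vm a ⊔ Vm b) : ∃ n ∈ N(Vm a ⊔ Vm b), n * x * n⁻¹ = g * x * g⁻¹ := by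
  have pW := h.s.pi.of_le h.WP
  obtain ⟨S, hS, l⟩ := pW.exists_syl (h.WW k)
  obtain ⟨c, hc, l1⟩ := hS.scj_le (K := cj g (Vm a ⊔ Vm b)) (by rw [← cj_cent1]; exact cj_mono g (h.WW hx)) (pW.J g)
  obtain ⟨r, -, l2⟩ := h.s.scj_le le_top hS.pi
  have n1 := h.wc ((cj_mono r l).trans l2)
  have n2 := h.wc (g := r * (c * g)) (by rw [cj_mul, cj_mul]; exact (cj_mono r l1).trans l2)
  exact ⟨c * g, (mul_mem_cancel_left n1).1 n2, by rw [← H17.GS.conj_conj', mem_cent1.1 hc, mul_inv_cancel_right]⟩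
theorem zZ : a zz ∈ Z(Tm a) := ⟨mT .., mem_cent.2 (by rintro _ ⟨_, ⟨β, y, rfl⟩, rfl⟩; rw [← map_mul, up_z, map_mul])⟩
theorem nc (hx : x ∈ C(Tm a ⊔ Tm b)) (e : IsConj (a zz) x) : x ∈ Tm a := by
  obtain ⟨g, rfl⟩ := isConj_iff.1 e
  obtain ⟨n, hn, e⟩ := H17.GS.burnside h.s (h.pw.zW h.zZ) (mem_top g) hx
  exact e ▸ h.pw.fix hn h.zZ
theorem zb1 : b zz ≠ 1 := fun e => absurd (h.ib (e.trans (map_one b).symm)) (by decide +kernel)
theorem zP : b zz ∈ C(Tm a ⊔ Tm b) := sup_comm (Tm b) _ ▸ h.symm.pw.zW h.symm.zZ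
theorem n1 : ¬ IsConj (a zz) (b zz) := fun e => h.zb1 (h.dT.one (h.nc h.zP e) (mT ..))
theorem n2 : ¬ IsConj (a zz) (a zz * b zz) := fun e =>
  h.zb1 ((h.dT.memU (mT ..) (mT ..)).1 (h.nc (mul_mem (h.pw.zW h.zZ) h.zP) e))
theorem cmf (β β' : 𝔽) (y y' c d : Hm 𝔽) : a (up β y) * b (up β' y') * (a (up 0 c) * b (up 0 d)) * (a (up β y) * b (up β' y'))⁻¹ *
    (a (up 0 c) * b (up 0 d))⁻¹ = a (up 0 (act β c + c)) * b (up 0 (act β' d + d)) := by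
  rw [h.i4, h.i4, h.m4, h.m4, h.m4, up_a, up_a, a_inv, a_inv, a_mul, a_mul]
theorem K2 (hn : n ∈ N(Vm a ⊔ Vm b)) (e : n * t * n⁻¹ = a (up β y) * b (up 0 y')) (hw : w ∈ Vm a ⊔ Vm b) :
    ∃ c, n * (t * w * t⁻¹ * w⁻¹) * n⁻¹ = a (up 0 c) := by
  obtain ⟨c, d, r⟩ := h.memV (conj_mem_of_norm hn hw)
  refine ⟨act β c + c, ?_⟩
  rw [← conj_mul, ← conj_mul, ← conj_mul, ← conj_inv, ← conj_inv, e, r, h.cmf, act_0, yy, up_0, map_one, mul_one]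
theorem K1 (hn : n ∈ N(Vm a ⊔ Vm b)) (e : n * (a (up β1 y1) * b (up β2 y2)) * n⁻¹ = a (up β y) * b (up 0 y')) : β1 = 0 ∨ β2 = 0 := by
  by_contra! k
  obtain ⟨c, hc⟩ := exz _ k.1
  obtain ⟨d, hd⟩ := exz _ k.2
  have f : ∀ x c, n * x * n⁻¹ = a (up 0 c) → x ≠ 1 → ¬ IsConj (a zz) x → IsConj (a v0) x := fun x c r x1 k =>
    have r' := (isConj_iff.2 ⟨n, r⟩).symm
    ((inv_cls (a_sq c) fun e => x1 (by simpa [e] using r)).imp (fun e => (a.map_isConj e).trans r')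
      fun e => (a.map_isConj e).trans r').resolve_left k
  obtain ⟨c1, e1⟩ := h.K2 hn e (h.mW 0 d)
  obtain ⟨c2, e2⟩ := h.K2 hn e (h.mW c d)
  rw [h.cmf, hd] at e1 e2
  rw [act_0', add_zero, up_0, map_one, one_mul] at e1
  rw [hc] at e2
  exact h.symm.n2 (h.cm .. ▸ (f _ _ e1 h.zb1 h.n1).symm.trans (f _ _ e2 (fun e => h.zb1 ((h.dT.memU (mT ..) (mT ..)).1 (e ▸ one_mem _))) h.n2))
theorem K1' (hn : n ∈ N(Vm a ⊔ Vm b)) (e : n * (a (up β1 y1) * b (up β2 y2)) * n⁻¹ = a (up 0 y') * b (up β y)) : β1 = 0 ∨ β2 = 0 :=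
  (h.symm.K1 (sup_comm (Vm a) _ ▸ hn) (by rw [← h.cm, ← h.cm]; exact e)).symm
theorem za (hp : Rp p) (hq : Rp q) (e : IsConj (a zz) (a p * b q)) : q = 1 := by
  obtain ⟨c, rfl, cp⟩ := hp
  obtain ⟨d, rfl, cq⟩ := hq
  obtain ⟨g, e⟩ := isConj_iff.1 e.symm
  generalize hx : a (up 0 (act 1 c + c)) * b (up 0 (act 1 d + d)) = x at e
  obtain ⟨r, hr, l⟩ := (h.s.of_le (le_cent1_iff.2 (h.pw.zW h.zZ)) le_top).scj_le (K := cj g ((Tm a ⊔ Tm b) ⊓ C[x]))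
    (by rw [← e, ← cj_cent1]; exact cj_mono g inf_le_right) ((h.s.pi.infl _).J g)
  rw [← cj_mul] at l
  have e' : r * g * x * (r * g)⁻¹ = a zz := by rw [← H17.GS.conj_conj', e, mem_cent1.1 hr, mul_inv_cancel_right]
  generalize r * g = n at l e'
  have hn := h.wc ((cj_mono n (le_inf h.WP (h.WW (hx ▸ h.mW _ _)))).trans l)
  have hn' : n ∈ N(Vm b ⊔ Vm a) := sup_comm (Vm a) _ ▸ hn
  have m : ∀ β β', a (up β 0) * b (up β' 0) ∈ C[x] → ∃ β1 y1 β2 y2, n * (a (up β 0) * b (up β' 0)) * n⁻¹ = a (up β1 y1) * b (up β2 y2) :=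
    fun β β' k => h.memT (l (conj_mem_cj.2 ⟨mul_mem_sup (mT ..) (mT ..), k⟩))
  have iv : ∀ {n u v : G}, n * u * n⁻¹ = v → n⁻¹ * v * n⁻¹⁻¹ = u := fun e => by rw [← e]; group
  have k1 : ∀ {β β1 y1 β2 y2}, n * (a (up β 0) * b (up 0 0)) * n⁻¹ = a (up β1 y1) * b (up β2 y2) → β1 = 0 ∨ β2 = 0 :=
    fun e => h.K1 (inv_mem hn) (iv e)
  obtain ⟨γ1, d1, γ2, d2, eγ⟩ := m 0 1 (by rw [mem_cent1, ← hx, h.m4, h.m4, cq, a_comm])
  have k2 : γ2 = 0 ∨ γ1 = 0 := (h.K1' (inv_mem hn) (iv eγ)).symm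
  have k3 : ∀ {β β1 y1 β2 y2}, β ≠ 0 → n * (a (up β 0) * b (up 0 0)) * n⁻¹ = a (up β1 y1) * b (up β2 y2) →
      β1 + γ1 ≠ 0 ∧ β2 + γ2 ≠ 0 := fun {β β1 y1 β2 y2} b0 e => by
    have := congrArg₂ (· * ·) e eγ
    simp only [conj_mul, h.m4, up_mul] at this
    constructor <;> intro k <;> rw [k] at this
    · exact (h.K1' hn this).elim (by simpa) (by simp)
    · exact (h.K1 hn this).elim (by simpa) (by simp)
  obtain ⟨β1, y1, β2, y2, eβ⟩ := m 1 0 (by rw [mem_cent1, ← hx, h.m4, h.m4, cp, a_comm])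
  have c1 := h.cmf 1 0 0 0 c 0
  have c2 := h.cmf 0 1 0 0 0 d
  simp only [act_0', add_zero, up_0, map_one, mul_one, one_mul] at c1 c2
  have k4 := k3 one_ne_zero eβ
  rw [← hx, ← conj_mul] at e'
  rcases k1 eβ with rfl | rfl
  · obtain rfl : γ2 = 0 := k2.resolve_right (by simpa using k4.1)
    have K := fun w hw => h.symm.K2 (w := w) hn' (eβ.trans (h.cm ..)) hw
    obtain ⟨c3, e3⟩ := K _ (mem_sup_right (mV a c))
    obtain ⟨c4, e4⟩ := h.K2 hn eγ (mem_sup_right (mV b d))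
    simp only [up_0, map_one, mul_one, one_mul, c1, c2] at e3 e4
    have p1 : up 0 (act 1 c + c) = 1 := by
      rw [e3, e4, ← h.cm, ← mul_one (a zz), ← map_one b] at e'
      rw [(h.uq e').2, map_one, conj_eq_one_iff] at e3
      exact h.ia (e3.trans (map_one a).symm)
    obtain ⟨δ1, y3, δ2, y4, eδ⟩ := m ω 0 (by rw [mem_cent1, ← hx, p1, h.m4, h.m4, a_comm]; simp)
    have eε := congrArg₂ (· * ·) eβ eδ
    simp only [conj_mul, h.m4, up_mul, act_0', add_zero] at eε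
    obtain ⟨c5, hc⟩ := exz 1 one_ne_zero
    obtain ⟨c6, e6⟩ := K _ (h.mW c5 0 |> (sup_comm (Vm a) _ ▸ ·))
    rw [h.cmf, hc, act_0', add_zero, up_0, map_one, mul_one] at e6
    have fx : ∀ {β β1 y1 β2 y2}, n * (a (up β 0) * b (up 0 0)) * n⁻¹ = a (up β1 y1) * b (up β2 y2) → act β2 c6 = c6 := fun {β _ _ _ _} e => by
      have : n * (a (up β 0) * b (up 0 0)) * n⁻¹ * (n * (a zz * b 1) * n⁻¹) = n * (a zz * b 1) * n⁻¹ * (n * (a (up β 0) * b (up 0 0)) * n⁻¹) := by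
        rw [conj_mul, conj_mul, h.m4, h.m4, up_z, mul_one, one_mul]
      rw [e, map_one, mul_one, e6, ← one_mul (b (up 0 c6)), ← map_one a, h.m4, h.m4, up_mul, up_mul, act_0, add_comm _ c6] at this
      exact (add_right_cancel (up_inj (h.uq this).2).2).symm
    rcases fx2 β2 δ2 (by simpa using k4.2) (by simpa using (k3 (by decide) eδ).2) (by simpa using (k3 (by decide) eε).2) c6 (fx eβ) (fx eδ)
      with r | r <;> rw [r] at e6
    · exact absurd (by simpa [up_0] using e6) h.symm.zb1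
    · exact absurd (isConj_iff.2 ⟨n, e6⟩) h.n1
  · obtain rfl : γ1 = 0 := k2.resolve_left (by simpa using k4.2)
    obtain ⟨c3, e3⟩ := h.K2 hn eβ (mem_sup_left (mV a c))
    obtain ⟨c4, e4⟩ := h.symm.K2 hn' (eγ.trans (h.cm ..)) (mem_sup_left (mV b d))
    simp only [up_0, map_one, mul_one, one_mul, c1, c2] at e3 e4
    rw [e3, e4, ← mul_one (a zz), ← map_one b] at e'
    rw [(h.uq e').2, map_one, conj_eq_one_iff] at e4
    exact h.ib (e4.trans (map_one b).symm)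
theorem cjp (k l p q : Γ4) : IsConj (a p * b q) (a (k * p * k⁻¹) * b (l * q * l⁻¹)) :=
  isConj_iff.2 ⟨a k * b l, by rw [h.i4, h.m4, h.m4]⟩
theorem za' (pp : p * p = 1) (qq : q * q = 1) (e : IsConj (a zz) (a p * b q)) : q = 1 :=
  let ⟨k, hk⟩ := rp pp; let ⟨l, hl⟩ := rp qq; conj_eq_one_iff.1 (h.za hk hl (e.trans (h.cjp k l p q)))
theorem va (pp : p * p = 1) (qq : q * q = 1) (e : IsConj (a v0) (a p * b q)) : q = 1 := by
  obtain ⟨k, c, hk, -⟩ := rp pp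
  obtain ⟨l, d, hl, -⟩ := rp qq
  obtain ⟨g, e⟩ := isConj_iff.1 (e.trans (h.cjp k l p q))
  obtain ⟨n, hn, e1⟩ := h.fus (g := g) (mem_sup_left (mV a (0, 1, 0))) (by rw [← v0, e, hk, hl]; exact h.mW _ _)
  have f : ∀ β, n * a (zb β) * n⁻¹ ∈ a.range := fun β => by
    obtain ⟨c, d, r⟩ := h.memV (conj_mem_of_norm hn (mem_sup_left (mV a (nm β, β, 1))))
    rw [← zb] at r
    rw [r, h.za' (a_sq c) (a_sq d) (r ▸ (a.map_isConj (zb_cj β)).trans (isConj_iff.2 ⟨n, rfl⟩)), map_one, mul_one]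
    exact mL ..
  have := mul_mem (f ω) (f ν)
  rw [conj_mul, ← map_mul, show zb ω * zb ν = up 0 (0, 1, 0) by decide +kernel, e1, ← v0, e, h.dp.memU (mL ..) (mL ..)] at this
  exact conj_eq_one_iff.1 (h.ib (this.trans (map_one b).symm))
theorem iv : Iv ⊤ (Tm a) (Tm b) := by
  rintro _ ⟨u, -, rfl⟩ ss g - k
  obtain ⟨β, y, β', y', e⟩ := h.memT k
  obtain ⟨pp, qq⟩ := h.sq (e ▸ cj_sq ss g)
  by_cases u1 : u = 1
  · simp [u1]
  have r := isConj_iff.2 ⟨g, e⟩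
  rw [e, (inv_cls (h.ia (by simpa using ss)) u1).elim (fun c => h.za' pp qq ((a.map_isConj c).trans r))
    fun c => h.va pp qq ((a.map_isConj c).trans r), map_one, mul_one]
  exact mT ..
end Pr

theorem pl : PL.{u} := fun a b ia ib c s =>
  have h : Pr a b := ⟨ia, ib, c, s⟩
  h.pw.elim h.iv h.symm.iv (H17.GS.sim_top fun e => (fd ia).nab fun x _ => mem_cent.2 fun y _ => e.is_comm.comm y x)
end H25.G38
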