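/-
S3138, chunk R2: the involution `t` is not a square in the centralizer of `L`.
-/
import Cfsg.Agent.H25.G82
import Cfsg.Agent.H1.SR0

set_option autoImplicit false
set_option linter.unusedSectionVars false

namespace H25.G38
open Cfsg Subgroup H19 H28.CY H18.U2 H18.G38 Matrix
open H15.GC (ω ν)
open H28.SF (DP cj_sq cj_sq')
universe u
variable {G : Type u} [Group G] [Finite G] {ι e : Γ4 →* G} {g k r t u w x : G} {M : Subgroup G}

theorem s2 (σ : 𝔽 ≃+* 𝔽) : σ * σ = 1 := fix_K fun c => by rcases kc c with rfl | rfl <;> simp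
theorem st1 : (st : 𝔽 ≃+* 𝔽) ≠ 1 := fun h => absurd (DFunLike.congr_fun h ω) (by decide +kernel)
theorem out2 (he : Function.Injective e) (hg : g ∈ N(e.range)) (hk : k ∈ N(e.range)) (g1 : ¬ Ac e g 1) (k1 : ¬ Ac e k 1) :
    Ac e (g * k) 1 := by
  obtain ⟨σ, p⟩ := exA he hg
  obtain ⟨τ, q⟩ := exA he hk
  obtain rfl := (sq_one (s2 σ)).resolve_left fun h => g1 (h ▸ p)
  obtain rfl := (sq_one (s2 τ)).resolve_left fun h => k1 (h ▸ q)
  exact s2 st ▸ p.mul q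
/-- the field automorphism -/
def fA : MulAut Γ4 := (φ st).toMulEquiv (φ st) (MonoidHom.ext fun x => by rw [MonoidHom.comp_apply, φφ, s2]; rfl)
  (MonoidHom.ext fun x => by rw [MonoidHom.comp_apply, φφ, s2]; rfl)
theorem fA2 : fA * fA = 1 := MulEquiv.ext fun x => show φ st (φ st x) = x by rw [φφ, s2]; rfl
theorem fAc (x : Γ4) : fA * MulAut.conj x = MulAut.conj (φ st x) * fA := MulEquiv.ext fun y => show φ st _ = _ * φ st y * _ by simp
theorem fAc' (x : Γ4) : fA * MulAut.conj x * fA⁻¹ = MulAut.conj (φ st x) := mul_inv_eq_iff_eq_mul.2 (fAc x)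
theorem fAU : zpowers fA ≤ N(Tm (G := MulAut Γ4) MulAut.conj) :=
  zpowers_le.2 (mem_norm_of (by rintro _ ⟨x, hx, rfl⟩; exact ⟨_, φU st hx, (fAc' x).symm⟩))
theorem sylA : Syl 2 (Tm (G := MulAut Γ4) MulAut.conj ⊔ zpowers fA) ⊤ := by
  convert H17.GS.syl_sup (syl_L (F := 𝔽) MulAut.conj) (piG_zpowers.2 (two_of_sq fA2))
    (zpowers_le.2 (mem_norm_of (by rintro _ ⟨x, rfl⟩; exact ⟨_, (fAc' x).symm⟩))) fAU
  refine (eq_top_iff.2 fun ψ _ => ?_).symm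
  obtain ⟨k, σ, h⟩ := aut ψ
  rcases sq_one (s2 σ) with rfl | rfl
  · exact mem_sup_left ⟨k, (MulEquiv.ext h).symm⟩
  · exact (show ψ = MulAut.conj k * fA from MulEquiv.ext h) ▸ mul_mem_sup ⟨k, rfl⟩ (mem_zpowers _)
/-- coordinates for a Sylow 2-subgroup of the automorphism group -/
abbrev Md : Type := Bool × 𝔽 × Hm 𝔽
/-- conditional conjugation -/
def sb (ε : Bool) (β : 𝔽) : 𝔽 := bif ε then β * β else β
/-- multiplication in coordinates -/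
def mu (p q : Md) : Md := (xor p.1 q.1, p.2.1 + sb p.1 q.2.1, act (sb p.1 q.2.1) p.2.2 + (q.2.2.1, sb p.1 q.2.2.2.1, q.2.2.2.2))
/-- the automorphism with given coordinates -/
def ev (p : Md) : MulAut Γ4 := MulAut.conj (up p.2.1 p.2.2) * bif p.1 then fA else 1
theorem φst (β : 𝔽) (y : Hm 𝔽) : φ st (up β y) = up (β * β) (y.1, y.2.1 * y.2.1, y.2.2) := by
  rw [φ_up]; congr 1; exact hext (sk _) rfl (sk _)
theorem ev_mu (p q : Md) : ev (mu p q) = ev p * ev q := by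
  obtain ⟨_ | _, β, y⟩ := p <;> obtain ⟨_ | _, β', y'⟩ := q <;>
    simp only [ev, mu, sb, cond, xor, bne, ← up_mul, map_mul, mul_one, mul_assoc, ← φst] <;>
    first | rfl | (rw [← mul_assoc fA, fAc, mul_assoc, fA2]; rfl) | (rw [fAc]; rfl)
theorem cj_i : Function.Injective (MulAut.conj : Γ4 →* MulAut Γ4) :=
  (injective_iff_map_eq_one _).2 fun _ h => cen1 fun y => (mul_inv_eq_iff_eq_mul.1 (DFunLike.congr_fun h y)).symm
theorem ev_inj : Function.Injective ev := by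
  have k : ∀ x y : Γ4, MulAut.conj x * fA ≠ MulAut.conj y := fun x y h => st1 (cA (k := y⁻¹ * x) fun a => by
    have : x * φ st (up 0 a) * x⁻¹ = y * up 0 a * y⁻¹ := DFunLike.congr_fun h (up 0 a)
    rw [cj2, this]; group).1
  rintro ⟨_ | _, β, y⟩ ⟨_ | _, β', y'⟩ h <;> simp only [ev, cond, mul_one, mul_left_inj] at h
  exacts [by rw [(up_inj (cj_i h)).1, (up_inj (cj_i h)).2], absurd h.symm (k _ _), absurd h (k _ _),
    by rw [(up_inj (cj_i h)).1, (up_inj (cj_i h)).2]]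
theorem ev_0 : ev (false, 0, 0) = 1 := by simp [ev, up_0]
theorem ev_sur {ψ : MulAut Γ4} (h : ψ ∈ Tm (G := MulAut Γ4) MulAut.conj ⊔ zpowers fA) : ∃ p, ψ = ev p := by
  obtain ⟨_, ⟨_, ⟨β, y, rfl⟩, rfl⟩, b, hb, rfl⟩ := (mem_sup_of_norm fAU).1 h
  rcases (mem_zp fA2).1 hb with rfl | rfl
  exacts [⟨(false, β, y), rfl⟩, ⟨(true, β, y), rfl⟩]
theorem cntM : ∀ (ε : Bool) (β : 𝔽) (y : Hm 𝔽), mu (ε, β, y) (ε, β, y) ≠ (false, 0, 0) →
    (Finset.univ.filter fun q : Md => mu q q = (false, 0, 0) ∧ mu (ε, β, y) q = mu q (ε, β, y)).card ≤ 12 := by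
  decide +kernel
theorem cntA {D E : Subgroup (MulAut Γ4)} {ρ : MulAut Γ4} (hD : PG 2 D) (h : ρ ∈ D) (h1 : ρ * ρ ≠ 1) (l : E ≤ D)
    (e : ∀ y ∈ E, y * y = 1 ∧ ρ * y = y * ρ) : #E ≤ 12 := by
  obtain ⟨α, -, k⟩ := sylA.scj_le le_top hD
  obtain ⟨p, hp⟩ := ev_sur (k (conj_mem_cj.2 h))
  refine (card_cj α E).ge.trans (le_trans ?_ (cntM p.1 p.2.1 p.2.2 fun e => h1 ?_))
  · rw [← Set.ncard_coe_finset]
    refine le_trans (Set.ncard_le_ncard (fun y hy => ?_) ((Set.toFinite _).image ev)) (Set.ncard_image_le (Set.toFinite _))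
    obtain ⟨q, rfl⟩ := ev_sur (k (cj_mono α l hy))
    obtain ⟨y, hy, r⟩ := mem_cj'.1 hy
    refine ⟨q, ?_, rfl⟩
    simp only [Finset.coe_filter, Finset.mem_univ, true_and, Set.mem_ofPred_eq, ← ev_inj.eq_iff, ev_mu, ev_0]
    exact ⟨r ▸ cj_sq (e y hy).1 α, by rw [← hp, ← r, conj_mul, conj_mul, (e y hy).2]⟩
  · have := congrArg ev e
    rwa [ev_mu, ev_0, ← hp, conj_mul, conj_eq_one_iff] at this
theorem exF (he : Function.Injective e) (hM : M ≤ N(e.range)) : ∃ F : M →* MulAut Γ4, ∀ g x, e (F g x) = g * e x * (g : G)⁻¹ :=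
  ⟨(MulAut.congr (MonoidHom.ofInjective he).symm).toMonoidHom.comp (H2.conjAut hM), fun _ _ =>
    (MonoidHom.apply_ofInjective_symm he _).trans rfl⟩

theorem inner (H : Hyp ι t) (rK : r ∈ C(ι.range)) (rr : r * r = t) (c : IsConj t u) (n : u ≠ t) (ut : u * t = t * u) :
    ¬ Ac ι u 1 := fun a => by
  obtain ⟨g, rfl⟩ := isConj_iff.1 c
  obtain ⟨x, xx, h⟩ := H.inv (mem_cent1.2 ut) a (cj_sq H.tt g)
  obtain ⟨k, c, hk, -⟩ := rp xx
  have H' := H.conj (ι k * g)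
  have n' : ι k * g * t * (ι k * g)⁻¹ ≠ t := fun e => n (by rw [cj2] at e; simpa using e.trans (H.tcj k).symm)
  have h' : ι k * g * t * (ι k * g)⁻¹ ∈ Vm ι ⊔ zpowers t := by
    rw [cj2]
    rcases h with h | h <;> rw [h]
    · rw [ι_cj, hk]; exact mem_sup_left (mV ..)
    · rw [← conj_mul, H.tcj, ι_cj, hk]; exact mul_mem_sup (mV ..) (mem_zpowers t)
  generalize ι k * g * t * (ι k * g)⁻¹ = u at H' n' h'
  generalize cjh (ι k * g) ι = e at H'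
  have VL : Vm ι ≤ ι.range := map_le_range _ _
  have tr : zpowers t ≤ zpowers r := zpowers_le.2 (rr ▸ mul_mem (mem_zpowers r) (mem_zpowers r))
  have rV : zpowers r ≤ C(Vm ι) := zpowers_le.2 (cent_mono VL rK)
  have ab : Vm ι ⊔ zpowers r ≤ C(Vm ι ⊔ zpowers r) := by
    rw [cent_sup]
    refine le_inf (sup_le ?_ rV) (sup_le (cents_symm rV) (comm_iff_le_cent.1 (comm_zpowers r)))
    rintro _ ⟨_, ⟨y, rfl⟩, rfl⟩
    exact mem_cent.2 (by rintro _ ⟨_, ⟨y', rfl⟩, rfl⟩; rw [← map_mul, a_comm, map_mul])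
  have l := sup_le_sup_left tr (Vm ι)
  obtain ⟨F, hF⟩ := exF H'.inj ((le_cent1_iff.2 (ab (l h'))).trans H'.nor)
  have ker : ∀ d, F d = 1 → (d : G) ∈ C(e.range) := fun d h => mem_cent.2 (by
    rintro _ ⟨x, rfl⟩; rw [mul_inv_eq_iff_eq_mul.1 (hF d x).symm, h]; rfl)
  have sq : ∀ d ∈ Vm ι ⊔ zpowers t, d * d = 1 := fun d hd => by
    obtain ⟨_, ⟨_, ⟨y, rfl⟩, rfl⟩, b, hb, rfl⟩ := (mem_sup_of_norm (norms_of_cents (tr.trans rV))).1 hd
    rcases (mem_zp H.tt).1 hb with rfl | rfl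
    · rw [mul_one, ia2]
    · rw [mul_assoc, ← mul_assoc b, H.cen, mul_assoc, H.tt, mul_one, ia2]
  have pD : PG 2 (Vm ι ⊔ zpowers r) := ((syl_L ι).pi.of_le (VT ι)).sup (piG_zpowers.2 (two_of_sq_two (rr ▸ two_of_sq H.tt)))
    (norms_of_cents rV)
  have c1 := cntA (ρ := F ⟨r, mem_sup_right (mem_zpowers r)⟩) (E := ((Vm ι ⊔ zpowers t).subgroupOf _).map F)
    (PiN.of_isPGroup Nat.prime_two (pD.isPGroup.of_surjective _ F.rangeRestrict_surjective)) ⟨_, rfl⟩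
    (fun h => (H'.rk t (rr ▸ ker _ ((map_mul ..).trans h)) H.tt (mem_cent.1 (ab (l h')) _ (l (mem_sup_right (mem_zpowers t))))).elim H.t1 n'.symm)
    (map_le_range _ _) (by
      rintro _ ⟨d, hd, rfl⟩
      exact ⟨by rw [← map_mul, show d * d = 1 from Subtype.ext (sq _ hd), map_one],
        by rw [← map_mul, ← map_mul]; exact congrArg F (Subtype.ext (mem_cent.1 (ab d.2) _ (mem_sup_right (mem_zpowers r))))⟩)
  have c2 := card_mul_relIndex (inf_le_right : F.ker ⊓ (Vm ι ⊔ zpowers t).subgroupOf _ ≤ _)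
  rw [inf_relIndex_right, relIndex_ker, card_subgroupOf' l, card_sup_of_disjoint (norms_of_cents (tr.trans rV)) (eq_bot_iff.2 fun d hd =>
    ((mem_zp H.tt).1 hd.2).resolve_right fun e => let ⟨x, p⟩ := VL hd.1; H.tL x (p.trans e)), card_map_of_injective H.inj, card_As,
    Nat.card_zpowers, H1.SR.ord2 H.tt H.t1, ← card_map_of_injective (subtype_injective _)] at c2
  have c3 := card_le (show (F.ker ⊓ (Vm ι ⊔ zpowers t).subgroupOf _).map (Subgroup.subtype _) ≤ zpowers u by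
    rintro _ ⟨d, hd, rfl⟩
    exact (mem_zp H'.tt).2 (H'.rk _ (ker d hd.1) (sq _ hd.2) (mem_cent.1 (ab (l h')) _ d.2)))
  rw [Nat.card_zpowers, H1.SR.ord2 H'.tt H'.t1] at c3
  exact absurd (c2.ge.trans (Nat.mul_le_mul c3 c1)) (by omega)
/-- the dihedral trick -/
theorem dih (uu : u * u = 1) (hu : u ∈ N(M)) (hx : x ∈ M) (hM : PG 2 M) (n : u * x ≠ x * u) :
    ∃ c ∈ M, c * c = 1 ∧ c ≠ 1 ∧ u * c = c * u ∧ ∃ y ∈ M, y * u * y⁻¹ = u * c := by
  have m := mul_mem (conj_mem_of_norm hu hx) (inv_mem hx)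
  have ui := inv_eq_of_mul_eq_one_right uu
  have e1 : x * u * x⁻¹ = u * (u * x * u⁻¹ * x⁻¹) := by rw [ui, ← mul_assoc, ← mul_assoc, ← mul_assoc, uu, one_mul]
  have e2 : u * (u * x * u⁻¹ * x⁻¹) * u⁻¹ = (u * x * u⁻¹ * x⁻¹)⁻¹ := by rw [← e1, ui]; simp [mul_assoc, ui]
  have n' : u * x * u⁻¹ * x⁻¹ ≠ 1 := mt H28.SF.cm1.1 n
  generalize u * x * u⁻¹ * x⁻¹ = c at m e1 e2 n'
  have e3 : ∀ i : ℤ, c ^ (-i) * u = u * c ^ i := fun i => by rw [_root_.zpow_neg, ← _root_.inv_zpow, ← e2, conj_zpow]; simp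
  obtain ⟨_, ⟨j, rfl⟩, o⟩ := H17.GS.exists_inv_pg (hM.of_le (zpowers_le.2 m)) (mt zpowers_eq_bot.1 n')
  have cc : c ^ j * c ^ j = 1 := by rw [← pow_two, ← o, pow_orderOf_eq_one]
  refine ⟨c ^ j, zpow_mem m j, cc, fun e => by simp [e] at o, by
    rw [← e3, _root_.zpow_neg, inv_eq_of_mul_eq_one_right cc], ?_⟩
  obtain ⟨i, rfl | rfl⟩ := Int.even_or_odd' j
  · exact ⟨c ^ (-i), zpow_mem m _, by rw [e3]; group⟩
  · exact ⟨c ^ (-i) * x, mul_mem (zpow_mem m _) hx, by rw [cj2, e1, ← mul_assoc, e3]; group⟩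
theorem inv_syl (uu : u * u = 1) (hu : u ∈ N(M)) : ∃ P, Syl 2 P M ∧ u ∈ N(P) := by
  obtain ⟨S, hS, l⟩ := PiN.exists_syl (piG_zpowers.2 (two_of_sq uu)) (le_sup_right (a := M))
  exact ⟨_, hS.inf_normal (left_normal_sup (zpowers_le.2 hu)), norms_inf le_normalizer
    (hS.le.trans (left_normal_sup (zpowers_le.2 hu)).2) (l (mem_zpowers u))⟩
theorem outer (H : Hyp ι t) (rK : r ∈ C(ι.range)) (rr : r * r = t) (c : IsConj t u) (n : u ≠ t) (ut : u * t = t * u) : False := by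
  have o1 := inner H rK rr c n ut
  obtain ⟨g, hg⟩ := isConj_iff.1 c
  have H' := hg ▸ H.conj g
  have I := fun w => inner (u := w) H' (r := g * r * g⁻¹) (by rw [cjh_range, ← cj_cent]; exact conj_mem_cj.2 rK) (by rw [conj_mul, rr, hg])
  generalize cjh g ι = e at H' I
  have o2 := I t c.symm n.symm ut.symm
  have uC := mem_cent1.2 ut
  have uL := H.nor uC
  have rt : r * t = t * r := by rw [← rr, mul_assoc]
  obtain ⟨R, hR, uR⟩ := inv_syl H'.tt (M := C(ι.range) ⊓ C[t]) (norms_inf (zpowers_le.2 (norm_le_norm_cent _ uL)) (zpowers_le.2 (le_normalizer uC)) (mem_zpowers u))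
  obtain ⟨k, hk, l⟩ := hR.scj_le (zpowers_le.2 ⟨rK, mem_cent1.2 rt⟩) (piG_zpowers.2 (two_of_sq_two (rr ▸ two_of_sq H.tt)))
  have m := l (conj_mem_cj.2 (mem_zpowers r))
  have rr' : k * r * k⁻¹ * (k * r * k⁻¹) = t := by rw [conj_mul, rr, mem_cent1.1 hk.2, mul_inv_cancel_right]
  obtain ⟨c1, hc, cc, c0, -, y, -, e1⟩ := dih H'.tt uR m hR.pi fun p => by
    obtain ⟨σ, q⟩ := exA H'.inj (H'.nor (mem_cent1.2 p.symm))
    exact o2 (rr' ▸ s2 σ ▸ q.mul q)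
  obtain rfl := (H.rk _ (hR.le hc).1 cc (mem_cent1.1 (hR.le hc).2)).resolve_left c0
  obtain ⟨P, hP, uP⟩ := inv_syl H'.tt uL
  obtain ⟨_, ⟨k, rfl⟩, rfl⟩ := (syl_L ι).sconj hP
  obtain ⟨x, hx, ux⟩ : ∃ x ∈ cj (ι k) (Tm ι), u * x ≠ x * u := by
    by_contra! p
    obtain ⟨σ, a, q⟩ := exA H.inj uL
    obtain ⟨b, q'⟩ := ((Ac.self ι k⁻¹).mul ⟨a, q⟩).mul (Ac.self ι k)
    have := (cA (k := b) fun y => H.inj ((q' _).symm.trans (by
      rw [cj2, cj2, p _ (conj_mem_cj.2 (mT ι 0 y))]; simp [mul_assoc]))).1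
    exact o1 ((show σ = 1 by simpa using this) ▸ ⟨a, q⟩)
  obtain ⟨c, hc, cc, c0, uc, y', hy, e2⟩ := dih H'.tt uP hx hP.pi ux
  obtain ⟨d, rfl⟩ := hP.le hc
  obtain ⟨f, rfl⟩ := hP.le hy
  have cu : u * ι d * u = u * (u * ι d) := by rw [mul_assoc, uc]
  have o3 := I _ (isConj_iff.2 ⟨_, e2⟩) (by simpa using c0) cu
  refine I _ ((isConj_iff.2 ⟨y, e1⟩).trans (isConj_iff.2 ⟨ι f, ?_⟩)) (fun p => H.tL d ?_) ?_
    (out2 H'.inj (H'.nor (mem_cent1.2 cu)) (H'.nor (mem_cent1.2 ut.symm)) o3 o2)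
  · rw [← conj_mul, e2, H.tcj]
  · rw [mul_assoc, mul_eq_left] at p
    exact (eq_inv_of_mul_eq_one_left p).trans H.tinv
  · rw [mul_assoc, ← ut, ← mul_assoc, cu, mul_assoc]

theorem r2 : R2.{u} := fun G _ _ ι t X h => ⟨h, fun r rK _ rr => by
  have := h.nX
  have := h.sX
  have zz2 : ι zz * ι zz = 1 := ia2 _
  have zz1 : ι zz ≠ 1 := fun e => absurd (h.inj (e.trans (map_one ι).symm)) (by decide +kernel)
  have f : ∀ M : Subgroup G, M.Normal → M ⊓ X = ⊥ ∨ M ⊓ X = X := fun M _ => (H17.GS.simple_iff.1 h.sX).2 _ inf_le_right le_normalizer_of_normal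
  rcases H1.SR.alt h.tt h.t1 h.nor with p | ⟨g, n, c⟩
  · have O1 : oddCore G = ⊥ := eq_bot_iff.2 fun o ho => H1.SR.sq_one H1.odd_card_oddCore ho (mem_bot.1 (((f _ inferInstance).resolve_right fun e =>
      zz1 (H1.SR.sq_one H1.odd_card_oddCore (e.ge (h.LX ⟨_, rfl⟩)).1 zz2)).le ⟨mul_mem ho ho, (h.gen o).elim (fun k => mul_mem k k) fun k => by
        have := mul_mem k (h.nX.conj_mem' _ k t)
        rwa [mul_assoc t⁻¹, mul_assoc o t t, h.tt, mul_one, mul_assoc, mul_inv_cancel_left] at this⟩))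
    rw [O1, sup_bot_eq] at p
    exact (f _ p).elim (fun e => zz1 (mem_bot.1 (e.le ⟨⟨_, rfl⟩, h.LX ⟨_, rfl⟩⟩))) fun e => h.ne ((inf_eq_left.2 h.LX).symm.trans e)
  · exact outer h.toHyp rK rr (isConj_iff.2 ⟨g, rfl⟩) n c⟩
end H25.G38
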