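/-
S3138, case B2: the group `S₁ = T⟨t, s, w⟩` and the chunks BV, BS.
-/
import Cfsg.Agent.H25.G83
import Cfsg.Agent.H24.G38c
import Cfsg.Agent.H4.G81

set_option autoImplicit false
set_option linter.unusedSectionVars false

namespace H25.G38
open Cfsg Subgroup H19 H28.CY H18.U2 H18.G38 Matrix
open H15.GC (ω ν)
open H28.SF (cj_sq cj_sq')
universe u
variable {G : Type u} [Group G] [Finite G] {ι : Γ4 →* G} {a c d g h k s t u w x y z : G} {D S X : Subgroup G} {l : Γ4} {p q : Md}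

section
variable {b : G}
/-- congruence modulo `⟨z⟩` -/
def Ez (z a b : G) : Prop := a * b⁻¹ ∈ zpowers z
theorem Ez.rfl' (e : a = b) : Ez z a b := by simp [Ez, e]
theorem Ez.zm (e : a = z * b) : Ez z a b := by simp [Ez, e]
theorem Ez.symm (e : Ez z a b) : Ez z b a := by simpa [Ez] using inv_mem e
theorem Ez.trans (e : Ez z a b) (e' : Ez z b c) : Ez z a c := by simpa [Ez, mul_assoc] using mul_mem e e'
theorem Ez.conj (e : Ez z a b) (hg : g ∈ C[z]) : Ez z (g * a * g⁻¹) (g * b * g⁻¹) := by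
  simpa [Ez, mul_assoc] using conj_mem_of_norm (cent1_le_norm_zpowers z hg) e
theorem Ez.mul (e : Ez z a b) (e' : Ez z c d) (hb : b ∈ C[z]) : Ez z (a * c) (b * d) := by
  simpa [Ez, mul_assoc] using mul_mem e (conj_mem_of_norm (cent1_le_norm_zpowers z hb) e')
theorem Ez.cases (zz : z * z = 1) (e : Ez z a b) : a = b ∨ a = z * b := ((mem_zp zz).1 e).imp mul_inv_eq_one.1 mul_inv_eq_iff_eq_mul.1
theorem Ez.mem (e : Ez z a b) (hz : z ∈ D) (hb : b ∈ D) : a ∈ D := by simpa using mul_mem (zpowers_le.2 hz e) hb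
/-- the stabilizer of the coset `⟨z⟩ u` -/
def Dz (z u : G) : Subgroup G where
  carrier := {g | g ∈ C[z] ∧ Ez z (g * u * g⁻¹) u}
  one_mem' := ⟨one_mem _, .rfl' (by simp)⟩
  mul_mem' hg hh := ⟨mul_mem hg.1 hh.1, by rw [cj2]; exact (hh.2.conj hg.1).trans hg.2⟩
  inv_mem' {g} hg := ⟨inv_mem hg.1, by simpa [mul_assoc] using (hg.2.conj (inv_mem hg.1)).symm⟩
theorem Dz.cm (h : g ∈ C[z]) (e : g * u = u * g) : g ∈ Dz z u := ⟨h, .rfl' (mul_inv_eq_iff_eq_mul.2 e)⟩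
theorem Dz.mul (ha : a ∈ C[z]) (h1 : g ∈ Dz z a) (h2 : g ∈ Dz z b) : g ∈ Dz z (a * b) := ⟨h1.1, by rw [← conj_mul]; exact h1.2.mul h2.2 ha⟩
theorem Dz.symm (hu : u ∈ C[z]) (h : g ∈ Dz z u) : u ∈ Dz z g := ⟨hu, by simpa [Ez, mul_assoc] using inv_mem h.2⟩
theorem two_mem (l : D ≤ S) (c : 2 * #D = #S) (hg : g ∈ S) (hh : h ∈ S) : g * h ∈ D ↔ (g ∈ D ↔ h ∈ D) :=
  mul_mem_iff_of_index_two (H := D.subgroupOf S) (a := ⟨g, hg⟩) (b := ⟨h, hh⟩)
    (Nat.eq_of_mul_eq_mul_left (card_pos D) ((card_mul_relIndex l).trans (c.symm.trans (mul_comm ..))))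
theorem idx2 (zz : z * z = 1) (hS : S ≤ Dz z u) (hg : g ∈ S) (n : g * u ≠ u * g) : 2 * #(S ⊓ C[u]) = #S := by
  have m : ∀ b, b ∈ C[u] ↔ b * u * b⁻¹ = u := fun b => mem_cent1.trans mul_inv_eq_iff_eq_mul.symm
  have e := ((hS hg).2.cases zz).resolve_left (mt mul_inv_eq_iff_eq_mul.1 n)
  have z1 : z * u ≠ u := fun k => n (mul_inv_eq_iff_eq_mul.1 (e.trans k))
  rw [← card_mul_relIndex (inf_le_left : S ⊓ C[u] ≤ S), inf_relIndex_left, mul_comm]; congr 1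
  refine (relIndex_eq_two_iff.2 ⟨g, hg, fun b hb => ?_⟩).symm
  rw [m, m, cj2, e, ← conj_mul, mul_inv_eq_iff_eq_mul.2 (mem_cent1.1 (hS hb).1)]
  rcases (hS hb).2.cases zz with k | k <;> rw [k]
  · exact .inr ⟨rfl, z1⟩
  · exact .inl ⟨by rw [← mul_assoc, zz, one_mul], z1⟩
/-- Burnside's argument for normal cosets -/
theorem bz (hS : Syl 2 S ⊤) (h1 : S ≤ Dz z a) (h2 : S ≤ Dz z (g * a * g⁻¹)) (hg : g ∈ C[z]) :
    ∃ y ∈ N(S), y ∈ C[z] ∧ Ez z (y * a * y⁻¹) (g * a * g⁻¹) := by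
  obtain ⟨c, hc, e⟩ := ((hS.Jtop g).of_le (K := Dz z (g * a * g⁻¹)) (fun k hk => by
    obtain ⟨k, hk', rfl⟩ := mem_cj'.1 hk
    exact ⟨mul_mem (mul_mem hg (h1 hk').1) (inv_mem hg), by simpa [mul_assoc] using (h1 hk').2.conj hg⟩) le_top).sconj (hS.of_le h2 le_top)
  exact ⟨c * g, mem_norm_iff_cj.2 (by rw [cj_mul, e]), mul_mem hc.1 hg, by rw [cj2]; exact hc.2⟩
end

variable (ι s) in
/-- the element of `T⟨s⟩` with given coordinates -/
def evT (p : Md) : G := ι (up p.2.1 p.2.2) * bif p.1 then s else 1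
theorem evT_mu (o : Os ι t s) (p q : Md) : evT ι s (mu p q) = evT ι s p * evT ι s q := by
  have k : ∀ x, s * ι x = ι (φ H18.U2.st x) * s := fun x => mul_inv_eq_iff_eq_mul.1 (o.ac x)
  obtain ⟨_ | _, β, y⟩ := p <;> obtain ⟨_ | _, β', y'⟩ := q <;>
    simp only [evT, mu, sb, cond_false, cond_true, Bool.xor_false, Bool.xor_true, Bool.not_false, Bool.not_true, ← up_mul, map_mul, mul_one,
      mul_assoc, ← φst]
  · rw [k]
  · rw [← mul_assoc s, k, mul_assoc, o.ss, mul_one]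
theorem evT_inj (H : Hyp ι t) (o : Os ι t s) : Function.Injective (evT ι s) := by
  have k : ∀ x y : Γ4, ι x * s ≠ ι y := fun x y h => ac_uq H.inj (by
    rw [eq_inv_mul_of_mul_eq h, ← map_inv, ← map_mul]; exact Ac.self ..) o.act
  rintro ⟨_ | _, β, y⟩ ⟨_ | _, β', y'⟩ h <;> simp only [evT, cond, mul_one, mul_left_inj] at h
  exacts [by rw [(up_inj (H.inj h)).1, (up_inj (H.inj h)).2], absurd h.symm (k _ _), absurd h (k _ _),
    by rw [(up_inj (H.inj h)).1, (up_inj (H.inj h)).2]]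
theorem evT_f (β : 𝔽) (y : Hm 𝔽) : evT ι s (false, β, y) = ι (up β y) := mul_one _
/-- the Sylow 2-subgroup of `C(t)` -/
abbrev S0 (ι : Γ4 →* G) (t s : G) : Subgroup G := Tm ι ⊔ zpowers t ⊔ zpowers s
/-- its extension by `w` -/
abbrev S1 (ι : Γ4 →* G) (t s w : G) : Subgroup G := Tm ι ⊔ zpowers t ⊔ zpowers s ⊔ zpowers w
theorem T0 (hl : l ∈ U 𝔽) : ι l ∈ S0 ι t s := mem_sup_left (mem_sup_left (mem_map_of_mem ι hl))
theorem t0 : t ∈ S0 ι t s := mem_sup_left (mem_sup_right (mem_zpowers t))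
theorem w1 : w ∈ S1 ι t s w := mem_sup_right (mem_zpowers w)
theorem ev0 (p : Md) : evT ι s p ∈ S0 ι t s := mul_mem (T0 (upU ..)) (by
  obtain ⟨_ | _, _⟩ := p; exacts [one_mem _, mem_sup_right (mem_zpowers s)])
theorem mem0 (H : Hyp ι t) (o : Os ι t s) (hg : g ∈ S0 ι t s) : ∃ p, g = evT ι s p ∨ g = evT ι s p * t := by
  have h0 : s * s ∈ Tm ι ⊔ zpowers t := o.ss ▸ one_mem _
  rcases (mem_ext o.n0 h0).1 hg with k | k <;> obtain ⟨_, ⟨β, y, rfl⟩, e⟩ := (mem_0 H).1 k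
  · exact ⟨(false, β, y), by rwa [evT_f]⟩
  · exact ⟨(true, β, y), e.imp mul_inv_eq_iff_eq_mul.1 fun e => by
      rw [mul_inv_eq_iff_eq_mul.1 e, mul_assoc, ← o.ct, ← mul_assoc]; rfl⟩
/-- coset representatives -/
def D4 (t w d : G) : Prop := d = 1 ∨ d = t ∨ d = w ∨ d = t * w
/-- the four-group `⟨z, v⟩` -/
def U4 (l : Γ4) : Prop := l = 1 ∨ l = zz ∨ l = v0 ∨ l = zz * v0
instance iU4 : DecidablePred U4 := fun _ => inferInstanceAs (Decidable (_ ∨ _ ∨ _ ∨ _))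
instance iMd : DecidableEq Md := inferInstance
theorem dZ : ∀ (ε : Bool) (β : 𝔽) (y : Hm 𝔽), mu (false, 1, (0, 0, 0)) (ε, β, y) = mu (ε, β, y) (false, 1, (0, 0, 0)) →
    mu (false, 0, (0, ω, 0)) (ε, β, y) = mu (ε, β, y) (false, 0, (0, ω, 0)) →
    mu (false, 0, (0, 1, 0)) (ε, β, y) = mu (ε, β, y) (false, 0, (0, 1, 0)) → ε = false ∧ β = 0 ∧ U4 (up 0 y) := by decide +kernel
theorem U4.Q (h : U4 l) : l ∈ Qs 𝔽 := by rcases h with rfl | rfl | rfl | rfl; exacts [one_mem _, zQ, vQ, mul_mem zQ vQ]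
theorem zL (l : Γ4) (e : l * zz = zz * l) : ι l ∈ C[ι zz] := mem_cent1.2 (by rw [← map_mul, e, map_mul])
theorem zT (hl : l ∈ U 𝔽) : ι l ∈ C[ι zz] := let ⟨_, _, e⟩ := hl; zL l (e ▸ up_z ..)
theorem zz2' : ι zz * ι zz = 1 := ia2 _

section
variable (r : Sr ι t X) (b : Bw ι t s w)
include r b
theorem bd : Bd ι t w := ⟨b.ww, b.tw, b.wq, .inr ⟨s, b.os, b.sw⟩⟩
theorem wt : w * t * w⁻¹ = ι zz * t := (H24.G38.Bw.wt' r.H b).trans (r.cen _)
theorem wz : w ∈ C[ι zz] := mem_cent1.2 (bd r b).wz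
theorem tz : t ∈ C[ι zz] := mem_cent1.2 (r.cen _)
theorem wn : w ∉ C[t] := fun h => H4.G38.wtn r.H (bd r b) (mem_cent1.1 h)
theorem s3n : t * w ∉ C[t] := fun h => wn r b ((mul_mem_cancel_left (mem_cent1_self t)).1 h)
theorem s32 : t * w * (t * w) = 1 := by rw [← mul_assoc]; nth_rw 2 [← r.H.tinv]; rw [b.tw, inv_mul_cancel]
theorem S0t : S0 ι t s ≤ C[t] := b.os.le r.H
theorem S0z : S0 ι t s ≤ C[ι zz] := sup_le (sup_le (by rintro _ ⟨l, hl, rfl⟩; exact zT hl) (zpowers_le.2 (tz r b)))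
  (zpowers_le.2 (mem_cent1.2 (mul_inv_eq_iff_eq_mul.1 ((b.os.ac _).trans (congrArg ι (by decide +kernel))))))
theorem S1z : S1 ι t s w ≤ C[ι zz] := sup_le (S0z r b) (zpowers_le.2 (wz r b))
theorem wQ (hl : l ∈ Qs 𝔽) : ι l * w = w * ι l := mem_cent.1 b.wq _ (mem_map_of_mem ι hl)
theorem dQ (hd : D4 t w d) (hl : l ∈ Qs 𝔽) : ι l * d = d * ι l := by
  rcases hd with rfl | rfl | rfl | rfl
  exacts [by simp, (r.cen l).symm, wQ r b hl, by rw [← mul_assoc, ← r.cen, mul_assoc, wQ r b hl, mul_assoc]]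
theorem Dt : S1 ι t s w ≤ Dz (ι zz) t := sup_le (fun _ h => Dz.cm (S0z r b h) (mem_cent1.1 (S0t r b h))) (zpowers_le.2 ⟨wz r b, .zm (wt r b)⟩)
theorem Dw : S1 ι t s w ≤ Dz (ι zz) w := sup_le (sup_le (sup_le (map_le_iff_le_comap.2 (T_le (fun _ h => Dz.cm (zT (QU h)) (wQ r b h))
    (Dz.symm (zT eT) ⟨wz r b, .zm (b.we.trans (mem_cent1.1 (zT eT)))⟩))) (zpowers_le.2 (Dz.symm (tz r b) (Dt r b w1))))
    (zpowers_le.2 (Dz.cm (S0z r b (mem_sup_right (mem_zpowers s))) b.sw))) (zpowers_le.2 (Dz.cm (wz r b) rfl))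
theorem Dd4 (hd : D4 t w d) : S1 ι t s w ≤ Dz (ι zz) d := fun g hg => by
  rcases hd with rfl | rfl | rfl | rfl
  exacts [Dz.cm (S1z r b hg) (by simp), Dt r b hg, Dw r b hg, Dz.mul (tz r b) (Dt r b hg) (Dw r b hg)]
theorem Dv : S1 ι t s w ≤ Dz (ι zz) (ι v0) := sup_le (sup_le (sup_le (by
    rintro _ ⟨_, ⟨β, y, rfl⟩, rfl⟩
    refine ⟨zT (upU ..), ι_cj (ι := ι) _ _ ▸ ?_⟩
    rcases (by decide +kernel : ∀ β y, up β y * v0 = v0 * up β y ∨ up β y * v0 = zz * v0 * up β y) β y with e | e <;>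
      rw [e, mul_inv_cancel_right]
    exacts [.rfl' rfl, .zm (map_mul ..)]) (zpowers_le.2 (Dz.cm (tz r b) (r.cen _))))
    (zpowers_le.2 (Dz.cm (S0z r b (mem_sup_right (mem_zpowers s))) (mul_inv_eq_iff_eq_mul.1 ((b.os.ac _).trans (congrArg ι (by decide +kernel)))))))
    (zpowers_le.2 (Dz.cm (wz r b) (wQ r b vQ).symm))
theorem DU (hl : U4 l) (hg : g ∈ Dz (ι zz) (ι v0)) : g ∈ Dz (ι zz) (ι l) := by
  have := Dz.cm (u := ι zz) hg.1 (mem_cent1.1 hg.1)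
  rcases hl with rfl | rfl | rfl | rfl
  exacts [Dz.cm hg.1 (by simp), this, hg, map_mul ι .. ▸ Dz.mul (mem_cent1_self _) this hg]
theorem Dld (hl : U4 l) (hd : D4 t w d) : S1 ι t s w ≤ Dz (ι zz) (ι l * d) :=
  fun _ hg => Dz.mul (zT (QU hl.Q)) (DU r b hl (Dv r b hg)) (Dd4 r b hd hg)
theorem wN : w ∈ N(S0 ι t s) := mem_norm_of fun _ hg => (Dz.symm (wz r b) (Dw r b (mem_sup_left hg))).2.mem (T0 (upU ..)) hg
theorem ww0 : w * w ∈ S0 ι t s := b.ww ▸ T0 (upU ..)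
theorem card1 : #(S1 ι t s w) = 512 := by rw [card_ext (wN r b) (ww0 r b) fun h => wn r b (S0t r b h), b.os.card r.H]
theorem pg1 : PG 2 (S1 ι t s w) := pg_sup (b.os.syl r).pi (wN r b) (ww0 r b)
theorem mem1 (hg : g ∈ S1 ι t s w) : ∃ p d, D4 t w d ∧ g = evT ι s p * d := by
  rcases (mem_ext (wN r b) (ww0 r b)).1 hg with k | k <;> obtain ⟨p, e | e⟩ := mem0 r.H b.os k
  exacts [⟨p, 1, .inl rfl, by rw [e, mul_one]⟩, ⟨p, t, .inr (.inl rfl), e⟩, ⟨p, w, .inr (.inr (.inl rfl)), mul_inv_eq_iff_eq_mul.1 e⟩,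
    ⟨p, t * w, .inr (.inr (.inr rfl)), by rw [← mul_assoc, ← e, inv_mul_cancel_right]⟩]
theorem dsq (hd : D4 t w d) : d * d ∈ zpowers (ι zz) := by
  rcases hd with rfl | rfl | rfl | rfl
  exacts [by simp, r.tt ▸ one_mem _, b.ww ▸ mem_zpowers _, s32 r b ▸ one_mem _]
theorem sq1 (hg : g ∈ S1 ι t s w) : g * g ∈ Tm ι := by
  obtain ⟨p, d, hd, rfl⟩ := mem1 r b hg
  have m : zpowers (ι zz) ≤ Tm ι := zpowers_le.2 (mT ..)
  have e := (Dd4 r b hd (inv_mem (mem_sup_left (ev0 p)))).2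
  have : evT ι s p * evT ι s p ∈ Tm ι := by rw [← evT_mu b.os, mu, Bool.xor_self, evT_f]; exact mT ..
  convert mul_mem (mul_mem this (m e)) (m (dsq r b hd)) using 1
  group
theorem dT (hd : D4 t w d) (h : ι l * d ∈ Tm ι) : d = 1 := by
  have k := (mul_mem_cancel_left (r.H.LC l)).1 (T_Ct r.H h)
  rcases hd with rfl | rfl | rfl | rfl
  exacts [rfl, let ⟨x, _, e⟩ := h; (r.H.tL (l⁻¹ * x) (by simp [e])).elim, (wn r b k).elim, (s3n r b k).elim]
/-- the elements of `S₁` commuting with all squares -/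
theorem Z2 (hu : u ∈ S1 ι t s w) (h : ∀ g ∈ S1 ι t s w, g * g ∈ C[u]) : ∃ l d, U4 l ∧ D4 t w d ∧ u = ι l * d := by
  obtain ⟨p, d, hd, rfl⟩ := mem1 r b hu
  have k : ∀ q β b, mu q q = (false, β, (0, b, 0)) → mu (false, β, (0, b, 0)) p = mu p (false, β, (0, b, 0)) := fun q β c e => by
    have := mem_cent1.1 (h _ (mem_sup_left (ev0 q)))
    rw [← evT_mu b.os, e, evT_f, mul_assoc, ← dQ r b hd (l := up β (0, c, 0)) (qQ (β, c) 0), ← mul_assoc, ← mul_assoc, mul_left_inj] at this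
    exact evT_inj r.H b.os (by rw [evT_mu b.os, evT_mu b.os, evT_f]; exact this)
  obtain ⟨ε, β, y⟩ := p
  obtain ⟨rfl, rfl, e⟩ := dZ ε β y (k (true, ω, 0) _ _ (by decide +kernel)) (k (false, ω, (0, 1, 1)) _ _ (by decide +kernel))
    (k (false, 1, (0, ω, 1)) _ _ (by decide +kernel))
  exact ⟨_, d, e, hd, by rw [evT_f]⟩
theorem Z2s (hu : u ∈ S1 ι t s w) (h : ∀ g ∈ S1 ι t s w, g * g ∈ C[u * u]) : ∃ l, U4 l ∧ u * u = ι l := by
  obtain ⟨l, d, hl, hd, e⟩ := Z2 r b (mul_mem hu hu) h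
  exact ⟨l, hl, by rw [e, dT r b hd (e ▸ sq1 r b hu), mul_one]⟩
theorem tvz : IsConj (t * ι v0) (ι (zz * v0) * t) :=
  r.cen _ ▸ r.H.tc (isConj_iff.2 ⟨i1, mul_inv_eq_iff_eq_mul.2 (by decide +kernel)⟩)
theorem ct (n1 : ¬ IsConj t (t * ι v0)) (n2 : ¬ IsConj t (t * w * ι v0)) (hu : u ∈ S1 ι t s w) (h : ∀ g ∈ S1 ι t s w, g * g ∈ C[u])
    (c : IsConj t u) : Ez (ι zz) u t ∨ Ez (ι zz) u (t * w) := by
  obtain ⟨l, d, hl, hd, rfl⟩ := Z2 r b hu h
  have e := fun {l} => dQ (l := l) r b hd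
  rcases hd with rfl | rfl | rfl | rfl
  · exact absurd (mul_one (ι l) ▸ c) (r.NL l)
  · rcases hl with rfl | rfl | rfl | rfl
    exacts [.inl (.rfl' (by simp)), .inl (.zm rfl), (n1 (r.cen _ ▸ c)).elim, (n1 (c.trans (tvz r b).symm)).elim]
  · obtain ⟨g, p⟩ := isConj_iff.1 c
    have := p ▸ cj_sq r.tt g
    rw [mul_assoc, ← mul_assoc d, ← e hl.Q, mul_assoc, b.ww, ← map_mul, ← map_mul, ← map_one ι, r.inj.eq_iff] at this
    rcases hl with rfl | rfl | rfl | rfl <;> exact absurd this (by decide +kernel)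
  · rcases hl with rfl | rfl | rfl | rfl
    exacts [.inr (.rfl' (by simp)), .inr (.zm rfl), (n2 (e vQ ▸ c)).elim, (n2 (c.trans (isConj_iff.2 ⟨ι i1, by
      rw [← conj_mul, ι_cj, e i1Q, mul_inv_cancel_right, ← e vQ, show i1 * (zz * v0) * i1⁻¹ = v0 from
        mul_inv_eq_iff_eq_mul.2 (by decide +kernel)]⟩))).elim]
theorem sqN (hy : y ∈ N(S1 ι t s w)) (h : ∀ g ∈ S1 ι t s w, g * g ∈ C[u]) : ∀ g ∈ S1 ι t s w, g * g ∈ C[y * u * y⁻¹] := fun g hg => by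
  rw [← cj_cent1, mem_cj]; simpa [mul_assoc] using h _ (conj_mem_of_norm' hy hg)
theorem sqt : ∀ g ∈ S1 ι t s w, g * g ∈ C[t] := fun _ hg => T_Ct r.H (sq1 r b hg)
theorem ncm (e : l * v0 ≠ v0 * l) : ι l * ι v0 ≠ ι v0 * ι l := fun h => e (r.inj (by rw [map_mul, h, map_mul]))
theorem cC : 2 * #(S1 ι t s w ⊓ C[t * w]) = #(S1 ι t s w) :=
  idx2 zz2' (Dd4 r b (.inr (.inr (.inr rfl)))) (mem_sup_left t0) fun e => s3n r b (mem_cent1.2 e.symm)
end

theorem bv : BV.{u} := fun ql G _ _ ι t X r s w b n1 c => by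
  have zz1 : ι zz ≠ 1 := H4.G38.z1 r.H
  have d3 : D4 t w (t * w) := .inr (.inr (.inr rfl))
  have tQ : t ∈ N(Qm ι) := cent_le_norm _ (cent_mono (map_le_range ..) r.H.tK)
  have tm : t ∈ Qm ι ⊔ zpowers t := mem_sup_right (mem_zpowers t)
  have zm : ι zz ∈ Qm ι ⊔ zpowers t := mem_sup_left (mem_map_of_mem ι zQ)
  have wQ' : w ∈ N(Qm ι ⊔ zpowers t) := mem_norm_of_cj_le (by
    rw [cj_sup, cj_of_mem_norm (cent_le_norm _ b.wq), cj_zpowers, wt r b]; exact sup_le le_sup_left (zpowers_le.2 (mul_mem zm tm)))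
  have l0 : Qm ι ⊔ zpowers t ≤ S0 ι t s := (sup_le_sup_right (map_mono QU) _).trans le_sup_left
  have l1 : Qm ι ⊔ zpowers t ⊔ zpowers w ≤ S1 ι t s w := sup_le_sup_right l0 _
  have m : ∀ a ∈ Qm ι ⊔ zpowers t ⊔ zpowers w, ∃ l ∈ Qs 𝔽, ∃ d, D4 t w d ∧ a = ι l * d := fun a ha => by
    rcases (mem_ext wQ' (b.ww ▸ zm)).1 ha with k | k <;> rcases (mem_ext tQ (r.tt ▸ one_mem _)).1 k with ⟨l, hl, e⟩ | ⟨l, hl, e⟩
    exacts [⟨l, hl, 1, .inl rfl, by rw [e, mul_one]⟩, ⟨l, hl, t, .inr (.inl rfl), by simp [e]⟩, ⟨l, hl, w, .inr (.inr (.inl rfl)), by simp [e]⟩,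
      ⟨l, hl, _, d3, by simp [e]⟩]
  have Du : S1 ι t s w ≤ Dz (ι zz) (t * w * ι v0) := dQ r b d3 vQ ▸ Dld r b (.inr (.inr (.inl rfl))) d3
  have nt : t * (t * w * ι v0) ≠ t * w * ι v0 * t := fun e => s3n r b ((mul_mem_cancel_right (r.H.LC v0)).1 (mem_cent1.2 e.symm))
  have c1 := idx2 zz2' Du (mem_sup_left t0) nt
  have c2 := idx2 zz2' (l1.trans Du) (mem_sup_left tm) nt
  rw [card1 r b] at c1
  rw [card_ext wQ' (b.ww ▸ zm) fun h => wn r b (S0t r b (l0 h)), card_ext tQ (r.tt ▸ one_mem _) fun ⟨x, _, e⟩ => r.H.tL x e,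
    card_map_of_injective r.inj, card_Q] at c2
  have key := ql G ι t X r s b.os (isConj_iff.2 ⟨w, (wt r b).trans (r.cen _).symm⟩) n1 _ _ _ c ((pg1 r b).infl _) (by omega) inf_le_right
    (inf_le_left.trans (S1z r b)) (inf_le_inf_right _ l1) (by omega) (fun a ha => by
      obtain ⟨_, ⟨v, α, rfl⟩, d, hd, rfl⟩ := m a ha.1
      rw [mul_assoc, ← mul_assoc d, ← dQ r b hd (qQ ..), mul_assoc, ← mul_assoc, ← map_mul, q_mul, vv, q_0]
      refine mul_mem ?_ (dsq r b hd)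
      rcases z_cases (α + α + tr (star v.1 * v.2)) with e | e <;> simp [e]) fun a ha a' ha' => by
      obtain ⟨_, ⟨v, α, rfl⟩, d, hd, rfl⟩ := m a' ha'.1
      refine (Dz.mul (zT (QU (qQ ..))) (?_ : a ∈ _) (Dd4 r b hd (l1 ha.1))).2
      refine sup_le (sup_le ?_ (zpowers_le.2 (Dz.cm (tz r b) (r.cen _)))) (zpowers_le.2 (Dz.cm (wz r b) (wQ r b (qQ ..)).symm)) ha.1
      rintro _ ⟨_, ⟨v', α', rfl⟩, rfl⟩
      refine ⟨zT (QU (qQ ..)), ?_⟩
      rw [Ez, ι_cj, ← map_inv, ← map_mul, cm_q]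
      rcases z_cases (B v' v) with e | e <;> simp [e]
  have θz : θ0 * zz * θ0⁻¹ = zz := mul_inv_eq_iff_eq_mul.2 (by decide +kernel)
  have wO : w ∈ N(Oo ι t) := mem_norm_of fun _ => H4.G38.wO r (bd r b)
  have tO := nO r.H (mem_cent1_self t)
  have LO := fun l => nO r.H (r.H.LC l)
  obtain ⟨a, ha, o, ho, e⟩ := r.cQ (g := w⁻¹ * (ι θ0 * w * (ι θ0)⁻¹)) (mem_cent1.2 (mul_inv_eq_iff_eq_mul.1 (by
    rw [cj2, r.H.cct (H24.G38.Bw.wt' r.H b), θz, ← H24.G38.Bw.wt' r.H b]; group)))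
    (mul_mem (inv_mem b.wq) (conj_mem_of_norm (norm_le_norm_cent _ (map_norm (XQ θz))) b.wq))
  have e3 : ι θ0 * (t * w) * (ι θ0)⁻¹ = t * w * a * o := by rw [← conj_mul, r.H.tcj, mul_assoc _ a, ← e]; group
  have p3 := e3 ▸ cj_sq (s32 r b) (ι θ0)
  have k : ∀ y ∈ N(Oo ι t), y * y = ι zz → y * o * (y * o) ≠ 1 := fun y hy e p => zz1 ((two_of_sq zz2').e_eq_one (Oo_odd.elt
    ((mul_mem_cancel_right (mul_mem (conj_mem_of_norm' hy ho) ho)).1 (by rw [← e, show y * y * (y⁻¹ * o * y * o) = y * o * (y * o) by group, p]; exact one_mem _))))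
  have twt : t * w * t = w⁻¹ := by rw [← b.tw, r.H.tinv]
  have ii : w⁻¹ * w⁻¹ = ι zz := by rw [← _root_.mul_inv_rev, b.ww, inv_eq_of_mul_eq_one_right zz2']
  obtain ⟨ha, a2⟩ : a ∈ Qm ι ⊓ C(Qm ι) ∧ t * w * a * (t * w * a) = 1 := by
    rcases ha with rfl | rfl | rfl | rfl
    · exact ⟨one_mem _, by simpa using s32 r b⟩
    · exact (k _ (inv_mem wO) ii (twt ▸ p3)).elim
    · exact ⟨⟨mem_map_of_mem ι zQ, le_cent1_iff.1 (by rintro _ ⟨l, hl, rfl⟩; exact zT (QU hl))⟩, by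
        rw [mul_assoc, ← mul_assoc (ι zz), dQ r b d3 zQ, mul_assoc (t * w) (ι zz), zz2', mul_one, s32 r b]⟩
    · exact (k w wO b.ww (by rwa [← mul_assoc (t * w), twt, H4.G38.w4 r.H (bd r b), mul_assoc w, zz2', mul_one] at p3)).elim
  obtain ⟨⟨l, hl, rfl⟩, ha⟩ := ha
  have n3 := mul_mem (mul_mem tO wO) (LO l)
  obtain ⟨y, hy, e4⟩ := H28.SF.odd_conj Oo_odd (mul_mem n3 (le_normalizer ho)) n3 (two_of_sq p3) (two_of_sq a2) (conj_mem_of_norm n3 ho)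
  have e5 : y * ι θ0 * (t * w * ι v0) * (y * ι θ0)⁻¹ = t * w * ι (l * up 0 (0, ν, 0)) := by
    rw [cj2, ← conj_mul (b := ι θ0), e3, ι_cj, ← conj_mul, e4, ← Oι hy, mul_inv_cancel_right,
      show θ0 * v0 * θ0⁻¹ = up 0 (0, ν, 0) from mul_inv_eq_iff_eq_mul.2 (by decide +kernel), map_mul, mul_assoc]
  have lq := mul_mem hl (qQ (0, ν) 0)
  have lz : l = 1 ∨ l = zz := by
    obtain ⟨-, d, rfl⟩ := cQ (k := l) (σ := 1) fun v α => mul_inv_eq_iff_eq_mul.2 (r.inj (by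
      rw [map_mul, map_mul]; exact (mem_cent.1 ha _ (mem_map_of_mem ι (qQ v α))).symm))
    exact z_cases d
  have := key _ ⟨mul_mem (mul_mem (mem_sup_left tm) (mem_sup_right (mem_zpowers w))) (mem_sup_left (mem_sup_left (mem_map_of_mem ι lq))),
    mem_cent1.2 (by
      rw [mul_assoc, ← mul_assoc (ι _), dQ r b d3 lq, mul_assoc (t * w) (ι v0), ← mul_assoc (ι v0), dQ r b d3 vQ, mul_assoc (t * w) (ι _),
        mul_assoc (t * w) (ι _), ← map_mul, ← map_mul]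
      rcases lz with rfl | rfl <;> congr 3 <;> decide +kernel)⟩ (c.trans (isConj_iff.2 ⟨_, e5⟩))
  rw [mul_assoc (t * w), mul_right_inj, mul_right_inj, ← map_mul, r.inj.eq_iff, r.inj.eq_iff] at this
  rcases lz with rfl | rfl <;> exact absurd this (by decide +kernel)

theorem bsK (r : Sr ι t X) (b : Bw ι t s w) (n1 : ¬ IsConj t (t * ι v0)) (n2 : ¬ IsConj t (t * w * ι v0)) (hS : Syl 2 (S1 ι t s w) ⊤)
    (l : cj g (S1 ι t s w ⊓ C[t * w]) ≤ S1 ι t s w) : g * (t * w) * g⁻¹ ∉ S0 ι t s := fun hu => by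
  have zz1 : ι zz ≠ 1 := H4.G38.z1 r.H
  have d3 : D4 t w (t * w) := .inr (.inr (.inr rfl))
  have c := (congrArg (2 * ·) (card_cj g _)).trans (cC r b)
  have cu : cj g (S1 ι t s w ⊓ C[t * w]) ≤ C[g * (t * w) * g⁻¹] := by rw [← cj_cent1]; exact cj_mono g inf_le_right
  have sq : ∀ h ∈ S1 ι t s w, h * h ∈ cj g (S1 ι t s w ⊓ C[t * w]) := fun h hh => (two_mem l c hh hh).2 .rfl
  have ns : ∀ h ∈ cj g (S1 ι t s w ⊓ C[t * w]), h * h ≠ g * (t * w) * g⁻¹ := fun h hh e => by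
    obtain ⟨h, hh', rfl⟩ := mem_cj'.1 hh
    rw [conj_mul, mul_left_inj, mul_right_inj] at e
    exact s3n r b (T_Ct r.H (e ▸ sq1 r b hh'.1))
  obtain ⟨m, d, hm, hd, e⟩ := Z2 r b (mem_sup_left hu) fun h hh => cu (sq h hh)
  have Du := e ▸ Dld r b hm hd
  have eq : ∀ k ∈ S1 ι t s w, k * (g * (t * w) * g⁻¹) ≠ g * (t * w) * g⁻¹ * k → ∀ h ∈ S1 ι t s w, h ∈ C[g * (t * w) * g⁻¹] →
      h ∈ cj g (S1 ι t s w ⊓ C[t * w]) := fun k hk n h h1 h2 =>
    (eq_of_le_of_card_ge (le_inf l cu) (by have := idx2 zz2' Du hk n; omega)).ge ⟨h1, h2⟩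
  have Tq := fun {x} (hx : x ∈ Qs 𝔽) => (mem_sup_left (T0 (QU hx)) : ι x ∈ S1 ι t s w)
  have dt := (mul_mem_cancel_left (r.H.LC m)).1 (e ▸ S0t r b hu)
  rcases hd with rfl | rfl | rfl | rfl
  · rw [mul_one] at e
    have f : ∀ p : Md, ∀ y, mu p p = (false, 0, y) → m = up 0 y → m * i1 ≠ i1 * m → False := fun p y e1 e2 n => by
      have e3 : evT ι s p * evT ι s p = g * (t * w) * g⁻¹ := by rw [← evT_mu b.os, e1, evT_f, e, e2]
      exact ns _ (eq _ (Tq i1Q) (by rw [e, ← map_mul, ← map_mul]; exact mt (r.inj ·) n.symm) _ (mem_sup_left (ev0 p))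
        (mem_cent1.2 (by rw [← e3, mul_assoc]))) e3
    rcases hm with rfl | rfl | rfl | rfl
    · exact s3n r b (by rw [map_one, conj_eq_one_iff] at e; exact e ▸ one_mem _)
    · have f : ∀ x, x * x = zz → ι x ∉ cj g (S1 ι t s w ⊓ C[t * w]) := fun x p h => ns _ h (by rw [← map_mul, p, e])
      exact f (i1 * j1) (by decide +kernel) (map_mul ι .. ▸ (two_mem l c (Tq i1Q) (Tq j1Q)).2
        (iff_of_false (f _ (by decide +kernel)) (f _ (by decide +kernel))))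
    · exact f (false, 1, (0, ω, 1)) _ (by decide +kernel) rfl (by decide +kernel)
    · exact f (false, 1, (0, 0, 1)) (1, 1, 0) (by decide +kernel) (by decide +kernel) (by decide +kernel)
  · have mi : ι i1 ∈ S1 ι d s w ⊓ C[d * w] := ⟨Tq i1Q, mem_cent1.2 (dQ r b d3 i1Q)⟩
    have ez : g * ι i1 * g⁻¹ * (g * ι i1 * g⁻¹) = g * ι zz * g⁻¹ := by rw [conj_mul, ← map_mul]; congr 3; decide +kernel
    have cz : cj g (S1 ι d s w ⊓ C[d * w]) ≤ C[g * ι zz * g⁻¹] := by rw [← cj_cent1]; exact cj_mono g (inf_le_left.trans (S1z r b))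
    obtain ⟨m', hm', e'⟩ := Z2s r b (l (conj_mem_cj.2 mi)) fun h hh => ez ▸ cz (sq h hh)
    have wm := wQ r b hm.Q
    have eq' := eq w w1 (fun p => wn r b (mem_cent1.2 (by rwa [e, ← mul_assoc, ← wm, mul_assoc, mul_assoc, mul_right_inj] at p)))
    have f : m' * i1 = i1 * m' := r.inj (by
      rw [map_mul, map_mul, ← e', ez]
      rcases (show i1 * m = m * i1 ∨ i1 * (m * zz) = m * i1 by rcases hm with rfl | rfl | rfl | rfl <;> decide +kernel) with p | p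
      · exact (mem_cent1.1 (cz (eq' _ (Tq i1Q) (mem_cent1.2 (by rw [e, ← mul_assoc, ← map_mul, p, map_mul, mul_assoc, ← r.cen, mul_assoc]))))).symm
      · have := mem_cent1.1 (cz (eq' _ (mul_mem (Tq i1Q) w1) (mem_cent1.2 (mul_inv_eq_iff_eq_mul.1 (by
          rw [e, cj2, ← conj_mul (b := w), ← wm, mul_inv_cancel_right, wt r b, ← mul_assoc (ι m), ← map_mul, ← conj_mul, r.H.tcj, ι_cj]
          rw [p, mul_inv_cancel_right])))))
        rwa [← ez, e', mul_assoc, ← wQ r b hm'.Q, ← mul_assoc, ← mul_assoc, mul_left_inj, eq_comm, ← e', ez] at this)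
    have gz : g ∈ C[ι zz] := mem_cent1.2 (mul_inv_eq_iff_eq_mul.1 (by
      rw [ez] at e'
      rcases hm' with rfl | rfl | rfl | rfl
      exacts [absurd (by simpa using e') zz1, e', absurd f (by decide +kernel), absurd f (by decide +kernel)]))
    obtain ⟨y, hy, yz, p⟩ := bz hS (Dd4 r b d3) Du gz
    rw [e] at p
    have ev : evT ι s (false, 1, (0, ω, 1)) * evT ι s (false, 1, (0, ω, 1)) = ι v0 := by
      rw [evT_f, ← map_mul]; congr 1; decide +kernel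
    obtain ⟨m2, hm2, e2⟩ := Z2s r b (conj_mem_of_norm hy (mem_sup_left (ev0 (false, 1, (0, ω, 1))))) (by
      rw [conj_mul, ev]
      refine sqN r b hy fun h hh => (two_mem inf_le_left (idx2 zz2' (Dv r b) (Tq i1Q) (ncm r b (by decide +kernel))) hh hh).2 .rfl |>.2)
    rw [conj_mul, ev] at e2
    have yv : y ∈ Dz (ι zz) (ι v0) := ⟨yz, by
      rcases hm2 with rfl | rfl | rfl | rfl
      · exact absurd (r.inj (a₂ := 1) (by simpa using e2)) (by decide +kernel)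
      · exact absurd (r.inj (a₁ := v0) (a₂ := zz) (by rwa [← mul_inv_eq_iff_eq_mul.2 (mem_cent1.1 yz), mul_left_inj, mul_right_inj] at e2))
          (by decide +kernel)
      exacts [.rfl' e2, .zm (e2.trans (map_mul ..))]⟩
    have ny : y ∉ Dz (ι zz) d := fun h => s3n r b (by
      have := (p.conj (inv_mem yz)).trans (inv_mem (Dz.mul (zT (QU hm.Q)) (DU r b hm yv) h)).2
      simpa [mul_assoc] using this.mem (r.H.LC zz) (mul_mem (r.H.LC m) (mem_cent1_self d)))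
    have q := (ct r b n1 n2 (conj_mem_of_norm hy (mem_sup_left t0)) (sqN r b hy (sqt r b)) (isConj_iff.2 ⟨y, rfl⟩)).resolve_left
      fun h => ny ⟨yz, h⟩
    have q2 : Ez (ι zz) (y * y * d * (y * y)⁻¹) (ι m * d) := by rw [cj2]; exact (q.conj yz).trans p
    have o : Ez (ι zz) (ι m * d) d → False := fun h => by
      obtain ⟨y2, o, e, -, p2, po, m1, n, rfl⟩ := parts y
      refine ny (e ▸ mul_mem (Dt r b (hS.mem_of_norm (mem_top _) p2 (zpowers_le.2 hy m1))) (mem_of_odd po ?_))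
      rw [← (Commute.refl y).mul_zpow]
      exact zpow_mem (⟨mul_mem yz yz, q2.trans h⟩ : y * y ∈ Dz (ι zz) d) n
    have o' : IsConj (d * ι v0) (ι m * d) → IsConj (d * ι v0) (ι zz * (ι m * d)) → False := fun h h' =>
      n1 ((q2.cases zz2').elim (fun e => (isConj_iff.2 ⟨_, e⟩).trans h.symm) fun e => (isConj_iff.2 ⟨_, e⟩).trans h'.symm)
    rcases hm with rfl | rfl | rfl | rfl
    exacts [o (.rfl' (by simp)), o (.zm rfl), o' (r.cen _ ▸ .refl _) (by rw [← mul_assoc, ← map_mul]; exact tvz r b),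
      o' (tvz r b) (by rw [map_mul, ← mul_assoc, ← mul_assoc, zz2', one_mul, r.cen])]
  exacts [wn r b dt, s3n r b dt]

theorem bs : BS.{u} := fun G _ _ ι t X r s w b n1 n2 hS => by
  classical
  have c0 : 2 * #(S0 ι t s) = #(S1 ι t s w) := by rw [b.os.card r.H, card1 r b]
  let ϕ : S1 ι t s w →* ℤˣ := MonoidHom.mk' (fun g => if (g : G) ∈ S0 ι t s then 1 else -1) fun g h => by
    rw [coe_mul, two_mem le_sup_left c0 g.2 h.2]
    by_cases p : (g : G) ∈ S0 ι t s <;> by_cases q : (h : G) ∈ S0 ι t s <;> simp [p, q]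
  have k : ∀ g, ϕ g = 1 ↔ (g : G) ∈ S0 ι t s := fun g => by
    change (if (g : G) ∈ S0 ι t s then (1 : ℤˣ) else -1) = 1 ↔ _
    by_cases p : (g : G) ∈ S0 ι t s <;> simp [p]
  have o : Odd (S1 ι t s w).index := Nat.odd_iff.2 (Nat.two_dvd_ne_zero.1 (by simpa using hS.not_dvd Nat.prime_two))
  have pC := (pg1 r b).infl C[t * w]
  by_cases hV : MonoidHom.transfer ϕ t = 1
  · obtain ⟨g, l, h, e⟩ := H28.extremal_transfer o ϕ hiZ (y := t * w) ((pow_two _).trans (s32 r b)) (by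
      have := fun x hx => perf_hom r.toSt.perf ((MonoidHom.transfer ϕ).comp X.subtype) ⟨x, hx⟩
      exact (r.gen (t * w)).elim (this _) fun h => by simpa [hV] using this _ h) pC.isPGroup inf_le_right
      ⟨mul_mem (mem_sup_left t0) w1, mem_cent1_self _⟩
    exact bsK r b n1 n2 hS l ((k _).1 e)
  obtain ⟨g, l, h, e⟩ := dual_transfer o ϕ ((pow_two _).trans r.tt) hV (b.os.syl r).pi.isPGroup (S0t r b) t0
  have := (ct r b n1 n2 h (fun a ha => (show cj g (S0 ι t s) ≤ _ by rw [← cj_cent1]; exact cj_mono g (S0t r b))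
    ((two_mem l ((congrArg (2 * ·) (card_cj g _)).trans c0) ha ha).2 .rfl)) (isConj_iff.2 ⟨g, rfl⟩)).resolve_left
    fun p => e ((k _).2 (p.mem (T0 (upU ..)) t0))
  obtain ⟨g', e'⟩ : ∃ g', g' * (t * w) * g'⁻¹ = t := isConj_iff.1 ((this.cases zz2').elim (fun e => (isConj_iff.2 ⟨g, e⟩).symm) fun e =>
    (isConj_iff.2 ⟨w, by rw [← conj_mul, wt r b, mul_inv_cancel_right, mul_assoc]⟩).trans (isConj_iff.2 ⟨g, e⟩).symm)
  obtain ⟨c, hc, l'⟩ := (b.os.syl r).scj_le (K := cj g' (S1 ι t s w ⊓ C[t * w])) (by rw [← e', ← cj_cent1, e']; exact cj_mono _ inf_le_right) (pC.J _)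
  exact bsK r b n1 n2 hS (g := c * g') (by rw [cj_mul]; exact l'.trans le_sup_left) (by rw [cj2, e', mem_cent1.1 hc, mul_inv_cancel_right]; exact t0)
end H25.G38
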