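/-
S3138, case B2: the chunk BX.
-/
import Cfsg.Agent.H25.G85
import Cfsg.Agent.H18.G2

set_option autoImplicit false
set_option linter.unusedSectionVars false

namespace H25.G38
open Cfsg Subgroup H19 H28.CY H18.U2 H18.G38 Matrix
open H15.GC (ω ν)
universe u
variable {G : Type u} [Group G] [Finite G] {ι : Γ4 →* G} {g s t w x : G} {S X : Subgroup G}

/-- elements of the normalizer outside `S` with square in `S` -/
def Px (S : Subgroup G) (x : G) : Prop := x ∈ N(S) ∧ x ∉ S ∧ x * x ∈ S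
theorem Px.mul (h : Px S x) (hg : g ∈ S) : Px S (g * x) :=
  ⟨mul_mem (le_normalizer hg) h.1, mt (mul_mem_cancel_left hg).1 h.2.1, by
    convert mul_mem (mul_mem hg (conj_mem_of_norm h.1 hg)) h.2.2 using 1; group⟩
/-- elements of the model -/
noncomputable abbrev Ew (c : ℕ) : H18.G38.W MW := el MW c
/-- the centralizer of `t` and `w` -/
def Bp (g : H18.G38.W MW) : Prop := g * Ew 64 = Ew 64 * g ∧ g * Ew 256 = Ew 256 * g
noncomputable instance iBp : DecidablePred Bp := fun _ => inferInstanceAs (Decidable (_ ∧ _))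
theorem bx1 : ∀ a, Bp a → a * a = Ew 4 → ∀ y, Bp y → a * (y * a * y⁻¹) ≠ y * a * y⁻¹ * a →
    ∃ c ∈ [0, 1, 2, 3, 96, 97, 98, 99, 128, 129, 130, 131, 224, 225, 226, 227], Bp (Ew c) ∧ Ew c * a * (Ew c)⁻¹ = Ew 14 ∧
      Ew c * (y * a * y⁻¹)⁻¹ * (Ew c)⁻¹ = Ew 23 := by decide +kernel
theorem bx2 : ∀ y, Bp y → y * y = 1 → y * Ew 14 * y⁻¹ * Ew 14 = Ew 14 * (y * Ew 14 * y⁻¹) → y * Ew 14 * y⁻¹ * Ew 23 = Ew 23 * (y * Ew 14 * y⁻¹) →
    ∃ c ∈ [0, 11, 17, 26], Bp (Ew c) ∧ Ew c * Ew 14 * (Ew c)⁻¹ = Ew 14 ∧ Ew c * Ew 23 * (Ew c)⁻¹ = Ew 23 ∧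
      ∃ d ∈ [96, 100, 128, 132], Ew c * y * (Ew c)⁻¹ = Ew d := by decide +kernel
/-- automorphisms moving `t` to `t w` and inverting `w` -/
def Al (α : MulAut (H18.G38.W MW)) : Prop := α (Ew 64) = Ew 64 * Ew 256 ∧ α (Ew 256) = (Ew 256)⁻¹
theorem Al.bp {α a} (h : Al α) (k : Bp a) : Bp (α a) := by
  have e := Commute.map k.2 α
  rw [h.2] at e
  exact ⟨by simpa using (h.1 ▸ Commute.map k.1 α).mul_right e, Commute.inv_right_iff.1 e⟩
theorem Al.mul {α a} (h : Al α) (k : Bp a) : Al (MulAut.conj a * α) :=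
  ⟨by rw [MulAut.mul_apply, h.1, MulAut.conj_apply, ((Commute.mul_right k.1 k.2).eq :), mul_inv_cancel_right],
    by rw [MulAut.mul_apply, h.2, MulAut.conj_apply, ((Commute.inv_right k.2).eq :), mul_inv_cancel_right]⟩
theorem Al.ex {α} (h : Al α) : ∃ a, Al (MulAut.conj a * α) ∧ a * α (Ew 14) * a⁻¹ = Ew 14 ∧ a * α (Ew 23) * a⁻¹ = Ew 23 ∧
    ∃ d ∈ [96, 100, 128, 132], a * α (Ew 96) * a⁻¹ = Ew d := by
  obtain ⟨d1, d2, d3, d4, d5, d6, d7, d8, d9, d0⟩ : Bp (Ew 14) ∧ Bp (Ew 224) ∧ Bp (Ew 96) ∧ Ew 14 * Ew 14 = Ew 256 * Ew 256 ∧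
    (Ew 256)⁻¹ * (Ew 256)⁻¹ = Ew 4 ∧ Ew 224 * Ew 14 * (Ew 224)⁻¹ = (Ew 23)⁻¹ ∧ Ew 14 * (Ew 23)⁻¹ ≠ (Ew 23)⁻¹ * Ew 14 ∧ Ew 96 * Ew 96 = 1 ∧
    Ew 96 * Ew 14 * (Ew 96)⁻¹ * Ew 14 = Ew 14 * (Ew 96 * Ew 14 * (Ew 96)⁻¹) ∧
    Ew 96 * Ew 14 * (Ew 96)⁻¹ * Ew 23 = Ew 23 * (Ew 96 * Ew 14 * (Ew 96)⁻¹) := by decide +kernel
  have e : α (Ew 224) * α (Ew 14) * (α (Ew 224))⁻¹ = (α (Ew 23))⁻¹ := by rw [← map_inv, ← map_mul, ← map_mul, d6, map_inv]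
  obtain ⟨c, -, k, e1, e2⟩ := bx1 _ (h.bp d1) (by rw [← map_mul, d4, map_mul, h.2, d5]) _ (h.bp d2) (by
    rw [e, ← map_inv, ← map_mul, ← map_mul]; exact mt (α.injective ·) d7)
  rw [e, inv_inv] at e2
  have h' := h.mul k
  change (MulAut.conj (Ew c) * α) _ = _ at e1 e2
  obtain ⟨c', -, k', e3, e4, e5⟩ := bx2 _ (h'.bp d3) (by rw [← map_mul, d8, map_one]) (by simpa only [map_mul, map_inv, e1] using congrArg (MulAut.conj (Ew c) * α) d9)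
    (by simpa only [map_mul, map_inv, e1, e2] using congrArg (MulAut.conj (Ew c) * α) d0)
  refine ⟨Ew c' * Ew c, by rw [map_mul, mul_assoc]; exact h'.mul k', ?_, ?_, ?_⟩ <;> simp only [cj2]
  exacts [(congrArg (Ew c' * · * (Ew c')⁻¹) e1).trans e3, (congrArg (Ew c' * · * (Ew c')⁻¹) e2).trans e4, e5]

theorem bx0 (r : Sr ι t X) (b : Bw ι t s w) (n1 : ¬ IsConj t (t * ι v0)) (n2 : ¬ IsConj t (t * w * ι v0)) (h : Px (S1 ι t s w) x) :
    ∃ x, Px (S1 ι t s w) x ∧ x * t * x⁻¹ = t * w ∧ x * w * x⁻¹ = w⁻¹ := by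
  have k : ∀ {x}, Px (S1 ι t s w) x → x * t * x⁻¹ ≠ t := fun {x} h e => h.2.1 (mem_sup_left (((b.os.syl r).max
    (K := (S1 ι t s w ⊔ zpowers x) ⊓ C[t]) (le_inf (le_sup_left.trans le_sup_left) (S0t r b)) inf_le_right
    ((pg_sup (pg1 r b) h.1 h.2.2).infl _)).le ⟨mem_sup_right (mem_zpowers x), mem_cent1.2 (mul_inv_eq_iff_eq_mul.1 e)⟩))
  have wz' : ∀ a, w * (ι zz * a) * w⁻¹ = ι zz * (w * a * w⁻¹) := fun a => by rw [← conj_mul, mem_cent1.1 (wz r b), mul_inv_cancel_right]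
  have w4 := H4.G38.w4 r.H (bd r b)
  have k2 : ∀ {x}, Px (S1 ι t s w) x → x * t * x⁻¹ = t * w → ∃ x, Px (S1 ι t s w) x ∧ x * t * x⁻¹ = t * w ∧ x * w * x⁻¹ = w⁻¹ := fun {x} h e => by
    have e2 : x * w * x⁻¹ = (t * w)⁻¹ * (x * x * t * (x * x)⁻¹) := by rw [cj2, e, ← conj_mul, e]; group
    rcases (Dt r b h.2.2).2.cases zz2' with p | p <;> rw [p] at e2
    · exact ⟨x, h, e, by rw [e2]; group⟩
    · refine ⟨_, h.mul (mul_mem (mem_sup_left t0) w1), by rw [cj2 _ x, e]; group, ?_⟩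
      rw [cj2 _ x, e2, ← r.cen, ← b.tw, ← b.ww]; group
  rcases ct r b n1 n2 (conj_mem_of_norm h.1 (mem_sup_left t0)) (sqN r b h.1 (sqt r b)) (isConj_iff.2 ⟨x, rfl⟩) with e | e <;>
    rcases e.cases zz2' with e | e
  exacts [(k h e).elim, (k (h.mul w1) (by rw [cj2, e, wz', wt r b, ← mul_assoc, zz2', one_mul])).elim, k2 h e,
    k2 (h.mul w1) (by rw [cj2, e, wz', ← conj_mul, wt r b, mul_inv_cancel_right, ← mul_assoc, ← mul_assoc, zz2', one_mul])]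

theorem bx : BX.{u} := fun G _ _ ι t X r s w b n1 n2 c => (tower (pg1 r b)).imp_right fun ⟨x, h⟩ => by
  obtain ⟨x, h, xt, xw⟩ := bx0 r b n1 n2 h
  obtain ⟨Ψ, re, pt, ps, pw, e : _ = S1 ι t s w⟩ := reW r.H b
  obtain ⟨α, hα⟩ := autOf re.inj (e ▸ h.1)
  obtain ⟨a, ⟨a1, a2⟩, a3, a4, d, hd, a5⟩ := Al.ex (α := α) ⟨re.inj (by rw [hα, map_mul, pt, pw, xt]), re.inj (by rw [hα, map_inv, pw, xw])⟩
  have k : ∀ {c d}, a * α c * a⁻¹ = d → Ψ a * x * Ψ c * (Ψ a * x)⁻¹ = Ψ d := fun e => by rw [cj2, ← hα, ← e, map_mul, map_mul, map_inv]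
  have h := h.mul (e ▸ ⟨a, rfl⟩ : Ψ a ∈ _)
  obtain ⟨d1, d2, d3⟩ : Ew 96 = Ew 64 * Ew 32 ∧ Ew 100 = Ew 64 * Ew 36 ∧ Ew 132 = Ew 128 * Ew 4 := by decide +kernel
  have xt := k a1
  have xw := k a2
  have a2 := k a3
  have b2 := k a4
  have xr := k a5
  simp only [d1, map_mul, map_inv, pt, pw, re.ci2, re.cj2, re.cz0] at xt xw a2 b2 xr
  generalize Ψ a * x = x at h xt xw a2 b2 xr
  have xz : x * ι zz * x⁻¹ = ι zz := by rw [(by decide +kernel : zz = i2 * i2), map_mul, ← conj_mul, a2]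
  have aw := H24.G38.aaw b.wq (b.wt r.H) b.we
  have an := H24.G38.aab r.H aw 0
  have c1 : IsConj t (t * ι (zb 0)) := isConj_iff.2 ⟨_, an.t⟩
  have c2 : ¬ IsConj t (t * ι e0) := fun p => n1 (p.trans (r.H.tc (short eT (by decide +kernel) (by decide +kernel) (by decide +kernel)
    (by decide +kernel)).symm))
  have ez : ι e0 = ι (zb 0) * ι zz := by rw [← map_mul]; congr 1; decide +kernel
  simp only [List.mem_cons, List.not_mem_nil, or_false] at hd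
  rcases hd with rfl | rfl | rfl | rfl
  · rw [d1, map_mul, pt, re.cz0] at xr
    have ai := an.inv (f' := H24.G38.fb 0) (p' := (nm 0, 0, 1)) (by decide +kernel)
    have a0 : H24.G38.Aa ι t t id 0 := ⟨fun y => mul_inv_eq_iff_eq_mul.2 (r.cen _), by simp [up_0]⟩
    obtain ⟨σ, q⟩ := exA r.inj (r.nor (show (wb ι w 0)⁻¹ * x * wb ι w 0 ∈ C[t] from mem_cent1.2 (mul_inv_eq_iff_eq_mul.1 (by
      rw [cj2, an.t, cj2]; exact (congrArg (_ * · * _) xr).trans (by rw [zb, ← an.t]; group)))))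
    have := ac_cj (ac_0 r.H (mul_mem (mem_sup_right (mem_zpowers t)) (mem_sup_left (mem_map_of_mem ι (upU 0 (nm 0, 0, 1)))))) q
    rw [← ai.t, show ∀ n : G, n⁻¹ * x * n * (n⁻¹ * t * n⁻¹⁻¹) * (n⁻¹ * x * n)⁻¹ = n⁻¹ * (x * t * x⁻¹) * n from fun n => by group, xt] at this
    refine absurd this (outV r.inj (l := nn) fun y => (((ai.mul (a0.mul aw)).mul an).v y).trans (congrArg ι ?_))
    exact eq_mul_inv_iff_mul_eq.2 (by revert y; decide +kernel)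
  · exact absurd (c1.trans (isConj_iff.2 ⟨x, by rw [xr, d2, map_mul, pt, re.ce]⟩)) c2
  · rw [ps] at xr
    have rq : ∀ {l m l'}, zb 0 * l = m * zb 0 → x * ι l * x⁻¹ = ι l → φ H18.U2.st l * l' = 1 → x * ι m * x⁻¹ = (ι l')⁻¹ := fun {l m l'} p q p' => by
      rw [← map_inv, ← eq_inv_of_mul_eq_one_left p', ← b.os.ac, ← xr, ← q, ← mul_inv_eq_iff_eq_mul.2 (r.cen m), ← mul_inv_eq_iff_eq_mul.2 p, ← ι_cj]
      group
    have ta : Ta ι x := ⟨rq (by decide +kernel) a2 (by decide +kernel), rq (by decide +kernel) b2 (by decide +kernel), a2, b2⟩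
    have xx : x * x = 1 ∨ x * x = ι zz := by
      have m : x * (x * x) * x⁻¹ = x * x := by group
      rcases r.cQ2 (g := x * x) (mem_cent1.2 (mul_inv_eq_iff_eq_mul.1 (by rw [cj2, xt, ← conj_mul, xt, xw, mul_inv_cancel_right])))
        (le_cent1_iff.1 (map_le_iff_le_comap.2 (Q_le (mem_cent1.2 (mul_inv_eq_iff_eq_mul.1 (by rw [cj2, ta.a1, ← conj_inv, ta.b1, inv_inv])).symm)
          (mem_cent1.2 (mul_inv_eq_iff_eq_mul.1 (by rw [cj2, ta.b1, ← conj_inv, ta.a1, inv_inv])).symm)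
          (mem_cent1.2 (mul_inv_eq_iff_eq_mul.1 (by rw [cj2, a2, a2])).symm) (mem_cent1.2 (mul_inv_eq_iff_eq_mul.1 (by rw [cj2, b2, b2])).symm))))
        ((pg1 r b).elt h.2.2) with p | p | p | p
      exacts [.inl p, (s3n r b (by rw [← xt, ← p, m]; exact mem_cent1_self _)).elim, .inr p,
        (s3n r b ((mul_mem_cancel_right (r.H.LC zz)).1 (by rw [← xt, ← xz, conj_mul, ← p, m, p]; exact mul_mem (mem_cent1_self _) (r.H.LC _)))).elim]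
    refine ⟨x, xt, xw, ta, xr, ?_, xx⟩
    rw [← xr, ← cj2]
    rcases xx with p | p <;> rw [p]
    exacts [by simp, mul_inv_eq_iff_eq_mul.2 (mem_cent1.1 (mul_mem (tz r b) (zT (upU ..)))).symm]
  · refine absurd (((isConj_iff.2 ⟨x, xt⟩).trans c.symm).trans (isConj_iff.2 ⟨x, ?_⟩).symm) c2
    rw [ez, ← mul_assoc t, ← conj_mul, xr, xz, d3, map_mul, ps, re.cz, mul_assoc, zz2', mul_one]
end H25.G38
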