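/-
Fusion systems on a Sylow `p`-subgroup of `G₂(q)`, part 4: the generic case.
-/
import Cfsg.Agent.H25.GC3

set_option autoImplicit false
set_option linter.unusedSectionVars false
set_option linter.unusedSimpArgs false

namespace H25.GC
open Cfsg Subgroup H25 H25.FS Gc H2.G
open H8.PU hiding Co Wt Wy Md Ck G2 S2 N2 E2 TR MD
universe u v w
variable {K : Type v} [Field K] [Finite K] {Γ : Type u} [Group Γ] [Finite Γ] {p : ℕ} [hp : Fact p.Prime] [CharP K p]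
  {S P A L C0 Y : Subgroup Γ} {ev : Gc K →* Γ} {a g γ τ M1 M2 : Γ} {k l ν : K} {φ : K ≃+* K} {F F' : FS Γ}

theorem Co.cjm (h : Co S ev) {α : MulAut (Gc K)} (e : ∀ c, γ * ev c * γ⁻¹ = ev (α c)) {X : Subgroup (Gc K)}
    (k : ∀ c, α c ∈ X ↔ c ∈ X) (hg : g ∈ F.A (X.map ev)) (q : ∀ c ∈ X, γ * (g * ev c * g⁻¹) * γ⁻¹ = a * ev (α c) * a⁻¹) :
    a ∈ (cjs γ F).A (X.map ev) := (h.agc e k q).mem_A (cjs_A' (F := F) (h.anz e k) ▸ conj_mem_cj γ hg)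
theorem cjs_nz' (hγ : γ ∈ nz P) (h' : γ ∈ nz Y) (h : F.A P ≤ nz Y) : (cjs γ F).A P ≤ nz Y :=
  (cjs_nz hγ h).trans_eq (congrArg nz (mem_nz.1 h'))
/-- central automorphisms in characteristic two -/
def th (t : (2 : K) = 0) (β β' : K) : MulAut (Gc K) where
  toFun c := ⟨c.a, c.u, c.s, c.r, c.v, c.z + β * c.u ^ 2 + β' * c.a⟩
  invFun c := ⟨c.a, c.u, c.s, c.r, c.v, c.z - β * c.u ^ 2 - β' * c.a⟩
  left_inv c := by ext <;> simp only; ring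
  right_inv c := by ext <;> simp only; ring
  map_mul' c d := by ext <;> simp only [mul_a, mul_u, mul_s, mul_r, mul_v, mul_z]; linear_combination β * c.u * d.u * t
theorem th_apply (t : (2 : K) = 0) (β β' : K) (c : Gc K) :
    th t β β' c = ⟨c.a, c.u, c.s, c.r, c.v, c.z + β * c.u ^ 2 + β' * c.a⟩ := rfl
theorem sq4 (h : ∀ x : K, x ^ 4 = x) (φ : K ≃+* K) : φ.trans φ = .refl K := RingEquiv.ext fun x => by
  have : x * (x - 1) * (x ^ 2 + x + 1) = 0 := by linear_combination h x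
  simp only [mul_eq_zero, sub_eq_zero] at this
  rcases this with (rfl | rfl) | c
  · simp
  · simp
  have c' : φ x ^ 2 + φ x + 1 = 0 := by simpa using congrArg φ c
  have : (φ x - x) * (φ x - (-x - 1)) = 0 := by linear_combination c' - c
  simp only [mul_eq_zero, sub_eq_zero] at this
  rcases this with e | e <;> simp [e]

namespace Md
variable (m : Md p S ev L C0 M1 M2) (x : Ck K Γ p) (hq : 5 ≤ p ∧ 8 ≤ Nat.card K ∨ p = 2 ∧ 2 < Nat.card K)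
include hq in
theorem q2 : 2 < Nat.card K := hq.elim (by omega) (·.2)
include m x hq
variable (n : Nf p S C0 F)
include n
theorem su (q : F.Ess ((Q1 K).map ev)) (tt : ∀ l, l ≠ 0 → ∃ τ ∈ F.A S, Wt ev τ l⁻¹ (l ^ 2) (.refl K)) :
    (∀ ν, ν ≠ 0 → ∃ τ ∈ C0 ⊓ F.A S, Wt ev τ (ν ^ 2) (ν ^ 3)⁻¹ (.refl K)) ∧ nZ ∈ imZ ev (F.A ((Q1 K).map ev)) ∧
      ∀ g ∈ F.A ((Q1 K).map ev), g ∈ nz ((Z2 K).map ev) ∨ ∃ u ∈ S, M1 * u * g ∈ nz ((Z2 K).map ev) :=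
  let ⟨_, h0, lh, _, k⟩ := m.tr x n q tt
  have s := x.lc x.h3 (q2 hq) _ lh (hq.elim (fun c => x.la c.1 c.2 _ lh) fun c => x.lb c.1 c.2 _ lh)
  ⟨(k s).1, imZ_mono h0 s.2.1, (k s).2⟩
theorem le (n' : Sa p S F') (h1 : F.A S ≤ F'.A S) (tt : ∀ l, l ≠ 0 → ∃ τ ∈ F.A S, Wt ev τ l⁻¹ (l ^ 2) (.refl K))
    (q : M1 ∈ F.A ((Q1 K).map ev)) (q' : M1 ∈ F'.A ((Q1 K).map ev))
    (r : M2 ∈ F.A ((Q2 K).map ev)) (r' : M2 ∈ F'.A ((Q2 K).map ev)) : F ≤ F' :=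
  m.le2 x n.toSa m.toWy n' h1 r r' fun e => n.le_A n' h1 (m.toCo.le _) m.nQ1 q q' (m.su x hq n e tt).2.2 fun _ => m.ext1 x n.toSa e
variable (hZ : F.A ((Q2 K).map ev) ≤ nz ((Z3 K).map ev))
include hZ
theorem tor (q : F.Ess ((Q1 K).map ev)) (r : F.Ess ((Q2 K).map ev)) (k l : K) (hk : k ≠ 0) (hl : l ≠ 0) :
    ∃ τ ∈ F.A S, Wt ev τ k l (.refl K) :=
  let ⟨_, ha, w⟩ := m.h2 x n r hZ (k ^ 3 * l ^ 2) (by simp [hk, hl])
  let ⟨_, hb, w'⟩ := (m.su x hq n q (m.h2 x n r hZ)).1 (k ^ 2 * l) (by simp [hk, hl])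
  ⟨_, mul_mem ha hb.2, (w.mul1 w').cast (by field_simp) (by field_simp)⟩
theorem rl00 (q : M1 ∈ F.A ((Q1 K).map ev)) : Rl p F := by
  refine (m.cases x n.toSa).elim .inl fun ⟨q0, r0⟩ => ?_
  have hT := m.tor x hq n hZ q0 r0
  have tt := m.h2 x n r0 hZ
  obtain ⟨κ, k0, hκ⟩ := ex_rg x.h3 (q2 hq)
  have r := x.n2 x.h3 _ _ _ _ _ m.toCo m.toWy (n.es r0) hZ
    (let ⟨τ, h1, w⟩ := hT κ 1 k0 one_ne_zero; ⟨τ, m.r2 n.toSa h1 w, κ, w, hκ⟩) (x.s2 x.h3 _ _ _ _ _ m.toCo m.toWy (n.es r0) hZ).2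
  obtain ⟨H, sy, e, q', r', -⟩ := m.real n hT
  have n' := sa_of m.pg sy
  exact n.rl sy (m.le x hq n n' e.le tt q q' r r') (m.le x hq ⟨n', e ▸ n.hA⟩ n.toSa e.ge (e ▸ tt) q' q r' r)
theorem rl0 (o : Ho ev) : Rl p F := by
  refine (m.cases x n.toSa).elim .inl fun ⟨q0, r0⟩ => ?_
  have hT := m.tor x hq n hZ q0 r0
  obtain ⟨β, hβ, g, hg, e⟩ := x.n1 x.h3 (q2 hq) _ _ _ _ _ m.toCo m.toWy (n.es q0)
    (fun k l hk hl => let ⟨τ, h1, w⟩ := hT k l hk hl; ⟨τ, m.r1 n.toSa h1 w, w⟩) (m.su x hq n q0 (m.h2 x n r0 hZ)).2.1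
  rcases hβ with rfl | t4
  · refine m.rl00 x hq n hZ (Agree.mem_A ?_ hg)
    rintro _ ⟨c, hc, rfl⟩
    rw [e c hc, m.f1 c hc]
    gs m.toCo [m1']
  have t : (2 : K) = 0 := by linear_combination t4 (-1)
  obtain ⟨θ, eθ⟩ := o (th t β 0)
  have a := m.aS eθ
  refine .of_cjs θ (m.rl00 x hq (n.cj m.CS a fun k hk => ?_) (cjs_nz' (m.gQ2 x.h3 a) (m.anz eθ fun _ => Iff.rfl) hZ)
    (m.cjm eθ (fun _ => Iff.rfl) hg fun c hc => ?_))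
  · obtain ⟨r, s, φ, w⟩ := m.wt k hk.1
    obtain ⟨τ, h1, w'⟩ := hT r⁻¹ s⁻¹ (inv_ne_zero w.k0) (inv_ne_zero w.l0)
    have w1 := (w'.mul w).cast (inv_mul_cancel₀ w.k0) (inv_mul_cancel₀ w.l0)
    have w2 := (w1.mul w1).cast (k' := 1) (l' := 1) (by simp) (by simp)
    rw [sq4 t4] at w2
    obtain ⟨-, -, c⟩ := m.lin n.toSa (mul_mem h1 hk.2) w1 ⟨1, by
      rw [pow_one, show p = 2 from hq.elim (fun c => ((n23 c.1).1 t).elim) (·.1), pow_two]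
      exact cz_le_ai _ _ (agree_one_iff.1 (m.agW w2 wt_one))⟩
    obtain rfl : φ = .refl K := c
    refine Agree.mem_of_cz_le (h := k) (m.top ▸ (m.agc eθ (fun _ => Iff.rfl) fun c _ => ?_).symm)
      (le_sup_of_le_right (cz_le_ai _ _)) (mem_sup_left hk.1)
    have : r ^ 3 = 1 := mul_left_cancel₀ w.k0 (by linear_combination t4 r)
    rw [w.cj, w.cj, eθ]
    gs m.toCo [th_apply, this]
    ring
  · rw [e c hc, eθ, m.f1 _ (by exact hc)]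
    gs m.toCo [th_apply, m1']
    linear_combination β * c.v ^ 2 * t
omit n hZ
theorem rl (o : Ho ev) (n : Sa p S F) : Rl p F := m.red x o (fun _ n hZ =>
  let ⟨γ, hγ, n'⟩ := m.cjA x (q2 hq) n hZ
  .of_cjs γ (m.rl0 x hq n' (cjs_nz' (m.gQ2 x.h3 hγ.1) hγ.2 hZ) o)) n
end Md

theorem br0 (x : ∀ N, Ck K (Univ N) p) (md : MD K p) (hq : 5 ≤ p ∧ 8 ≤ Nat.card K ∨ p = 2 ∧ 2 < Nat.card K) : Br.{v, w} K p :=
  br_of (em_md md) fun N _ _ ⟨_, _, _, _, m⟩ _ o n => m.rl (x N) hq o n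

end H25.GC
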