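/-
Fusion systems on a Sylow `p`-subgroup of `G₂(q)`, part 5: `q = 2`.
-/
import Cfsg.Agent.H25.GC4

set_option autoImplicit false
set_option linter.unusedSectionVars false
set_option linter.unusedSimpArgs false

namespace H25.GC
open Cfsg Subgroup H25 H25.FS Gc H2.G
open H8.PU hiding Co Wt Wy Md Ck G2 S2 N2 E2 TR MD
universe u v w
variable {Γ : Type u} [Group Γ] [Finite Γ] {S P A L C0 X Y : Subgroup Γ} {ev : Gc (ZMod 2) →* Γ} {g γ M1 M2 : Γ} {F F' : FS Γ}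
  {G G' : Subgroup (AZ (ZMod 2))} {a b : Prop}

theorem cm_two (hX : g ∈ nz X) (hY : g ∈ nz Y) (h : ∀ x ∈ X, ∀ y ∈ X, x ∉ Y → y ∉ Y → y * x⁻¹ ∈ Y) : Cm g X Y := fun x hx =>
  (em _).elim (cm_nz hY x) fun c => h x hx _ (conj_mem_of_mem_nz hX hx) c (not_cj hY c)
theorem cl_inv (W : VV (ZMod 2) → Prop) {s : Set (AZ (ZMod 2))} (h : ∀ g ∈ s, ∀ x, W (g x) ↔ W x) :
    ∀ g ∈ closure s, ∀ x, W (g x) ↔ W x := fun _ hg =>
  closure_induction h (fun _ => Iff.rfl) (fun _ b _ _ ha hb x => (ha (b x)).trans (hb x))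
    (fun a _ ha x => (ha (a⁻¹ x)).symm.trans (by rw [← H24.SP.mul_ap, mul_inv_cancel]; rfl)) hg
theorem clL : ∀ g ∈ closure {tZ 1, nL}, ∀ x : VV (ZMod 2), (g x).1 = 0 ∧ (g x).2.1 = 0 ↔ x.1 = 0 ∧ x.2.1 = 0 :=
  cl_inv (fun x => x.1 = 0 ∧ x.2.1 = 0) (by rintro _ (rfl | rfl) <;> decide)
theorem clD : ∀ g ∈ closure {tZ 1, nD}, ∀ x : VV (ZMod 2), g x = (0, 1, 1, 1) ↔ x = (0, 1, 1, 1) :=
  cl_inv (· = (0, 1, 1, 1)) (by rintro _ (rfl | rfl) <;> decide)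
theorem LQ.le (lq : LQ) (h : LH 2 G) (t : tZ 1 ∈ G') (o : nZ ∈ G ∨ nR ∈ G) (a : nZ ∈ G → nZ ∈ G') (b : nR ∈ G → nR ∈ G') :
    G ≤ G' := by
  rcases lq G h with rfl | rfl | rfl | rfl | rfl
  · exact (closure_le _).2 (by rintro _ (rfl | rfl); exacts [t, a (subset_closure (by simp))])
  · exact (o.elim (fun c => absurd (clD _ c (0, 1, 1, 1)) (by decide)) fun c => absurd (clD _ c (0, 1, 1, 1)) (by decide))
  · exact (o.elim (fun c => absurd (clL _ c (0, 0, 1, 0)) (by decide)) fun c => absurd (clL _ c (0, 0, 1, 0)) (by decide))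
  · exact (closure_le _).2 (by rintro _ (rfl | rfl); exacts [t, b (subset_closure (by simp))])
  · exact (closure_le _).2 (by rintro _ (rfl | rfl | rfl); exacts [t, a (subset_closure (by simp)), b (subset_closure (by simp))])
/-- the automorphism interchanging the types `nZ` and `nD` -/
def dl : MulAut (Gc (ZMod 2)) where
  toFun c := ⟨c.a, c.u, c.s + c.u, c.r, c.v + c.r, c.z + c.a⟩
  invFun c := ⟨c.a, c.u, c.s - c.u, c.r, c.v - c.r, c.z - c.a⟩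
  left_inv c := by ext <;> simp
  right_inv c := by ext <;> simp
  map_mul' := by decide +kernel
/-- a model inside the ambient group -/
def Mf (S : Subgroup Γ) (ev : Gc (ZMod 2) →* Γ) (a b : Prop) : Prop := ∃ H, Syl 2 S H ∧
  (∃ g ∈ H, ∀ c : Gc (ZMod 2), c.u = 0 → g * ev c * g⁻¹ = ev (m2 c)) ∧ (nZ ∈ imZ ev H ↔ a) ∧ (nR ∈ imZ ev H ↔ b)
theorem em_mo (h : Mo a b) : Em fun _ (ev : Gc (ZMod 2) →* _) => Mf ev.range ev a b :=
  let ⟨_, _, _, _, H, h1, h2, ⟨_, h3, h4⟩, h5⟩ := h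
  em_of h1 fun _ i hi => ⟨H.map i, syl_map hi h2, ⟨_, mem_map_of_mem i h3, fun c hc => (cj_map hi).2 (h4 c hc)⟩, by
    rwa [imZ_map hi]⟩

namespace Co
variable (h : Co S ev)
include h
theorem nf2 (n : Sa 2 S F) : F.A S ≤ ai S S := fun g hg => by
  have t3 : (3 : ZMod 2) ≠ 0 := by decide
  have pg : IsPGroup 2 S := n.auS.pg
  have k := F.A_le_nz S hg
  have z : ∀ x : ZMod 2, ∀ y, x ≠ 0 → y ≠ 0 → y + -x = 0 := by decide
  have w : ∀ c : Gc (ZMod 2), c.a = 0 → c.u = 0 → c.s = c.r → ev c ∈ fr S := fun c h1 h2 h3 => by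
    refine (mul_mem_cancel_left (inv_mem (cm_fr pg (h.mS (xu c.s)) (h.mS (xa 1))))).1 (h.frS2 t3 pg ?_)
    gs h [h1, h2, ← h3]
    generalize c.s = s
    revert s; decide
  refine n.auS.syl.mem_of_pel n.auS.An' hg ((kk_pel (l := [(Q1 _).map ev, (Z4 _).map ev]) pg (by simp [h.le])
    (kk_mem (by simp [h.gQ1 t3 k, h.gZ4 t3 k]) k ⟨cm_two k (h.gQ1 t3 k) ?_, cm_two (h.gQ1 t3 k) (h.gZ4 t3 k) ?_,
      cm_two (h.gZ4 t3 k) (nz_le_nz_fr _ k) ?_⟩)).mono (cz_le_ai _ _))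
  · intro x hx y hy h1 h2
    gb h hx c hc
    gb h hy d hd
    gs h [] at h1 h2 ⊢
    exact z _ _ h1 h2
  · intro x hx y hy h1 h2
    gb h hx c hc
    gb h hy d hd
    gs h [] at hc hd
    gs h [hc, hd] at h1 h2 ⊢
    exact z _ _ h1 h2
  · intro x hx y hy h1 h2
    gb h hx c hc
    gb h hy d hd
    rw [h.inv, h.mul]
    have e1 := mt (w c hc.1 hc.2) h1
    have e2 := mt (w d hd.1 hd.2) h2
    gs h [] at hc hd
    refine w _ (by gs h [hc, hd]) (by gs h [hc, hd]) ?_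
    gs h [hc, hd]
    revert e1 e2
    generalize c.s = s, c.r = r, d.s = s', d.r = r'
    revert s r s' r'; decide
theorem cz1 (hg : g ∈ nz ((Q1 _).map ev)) : g ∈ cz ((Z1 _).map ev) := mem_cz.2 fun y hy => by
  have k := h.q1Z1 (by decide) hg
  have := cm_two (Y := ⊥) k (nz_bot g) (fun x hx y hy h1 h2 => by
    gb h hx c hc
    gb h hy d hd
    gs h [] at hc hd
    gs h [hc, hd] at h1 h2 ⊢
    revert h1 h2
    generalize c.z = z, d.z = z'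
    revert z z'; decide) y hy
  exact mul_inv_eq_one.1 this
theorem in0 (x : IN (ZMod 2) Γ) (k : AcZ ev g 1) : g ∈ ai ((Q1 _).map ev) ((Q1 _).map ev) := by
  choose F e5 e1 e2 using fun v : VV (ZMod 2) => k ⟨0, v.1, v.2.1, v.2.2.1, v.2.2.2, 0⟩ rfl
  have e0 : F 0 = 1 := h.inj (by rw [← e1]; exact (congrArg (g * · * g⁻¹) ev.map_one).trans (by simp))
  refine x (by decide) S ev g (fun v => (F v).z) h (fun c v => ?_) fun c hc => ?_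
  · rcases (by decide : ∀ c : ZMod 2, c = 0 ∨ c = 1) c with rfl | rfl <;> simp [e0]
  have e3 : c = ⟨0, c.u, c.s, c.r, c.v, 0⟩ * xz c.z := by ext <;> simp [hc]
  have e4 := e2 (pv c)
  simp only [H24.SP.one_ap, pv, Prod.mk.injEq] at e4
  conv_lhs => rw [e3, map_mul, cj_mul', mem_cz.1 (h.cz1 (AcZ.nz k)) _ (show ev (xz c.z) ∈ _ by gs h [])]
  erw [e1 (pv c)]
  gs h [pv, e4, hc, e5]
  ring
theorem dz (e : ∀ c, γ * ev c * γ⁻¹ = ev (dl c)) (k : AcZ ev g (tZ 1 * nD * tZ 1)) : AcZ ev (γ * g * γ⁻¹) nZ := fun c hc => by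
  obtain ⟨c, rfl⟩ := dl.surjective c
  obtain ⟨c', h1, e1, e2⟩ := k c hc
  have : ∀ x y : VV (ZMod 2), y = (tZ 1 * nD * tZ 1 : AZ _) x → (y.1, y.2.1 + y.1, y.2.2.1, y.2.2.2 + y.2.2.1) =
    nZ (x.1, x.2.1 + x.1, x.2.2.1, x.2.2.2 + x.2.2.1) := by decide +kernel
  exact ⟨dl c', h1, by rw [← e, ← e, ← e1]; group, this _ _ e2⟩
theorem t1 (n : Sa 2 S F) : tZ 1 ∈ imZ ev (F.A ((Q1 _).map ev)) := ⟨_, n.mA (h.mS _) (h.nQ1 (h.mS _)), acS (xa 1)⟩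
end Co

namespace Md
variable (m : Md 2 S ev L C0 M1 M2) (x : Ck (ZMod 2) Γ 2) (lq : LQ) (n : Sa 2 S F)
include m x n
theorem lh2 (q : F.Ess ((Q1 _).map ev)) : LH 2 (imZ ev (F.A ((Q1 _).map ev))) := by
  obtain ⟨A0, h0, lh, h1, -⟩ := m.tr x ⟨n, (m.nf2 n).trans le_sup_right⟩ q fun l hl =>
    ((by decide : ∀ l : ZMod 2, l ≠ 0 → 1 = l) l hl) ▸ ⟨1, one_mem _, wt_one.cast (by simp) (by simp)⟩
  rwa [le_antisymm h0 fun g hg => h1 ⟨hg, m.cz1 (F.A_le_nz _ hg)⟩] at lh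
include lq
theorem le' (n' : Sa 2 S F') (r : M2 ∈ F.A ((Q2 _).map ev)) (r' : M2 ∈ F'.A ((Q2 _).map ev))
    (o : nZ ∈ imZ ev (F.A ((Q1 _).map ev)) ∨ nR ∈ imZ ev (F.A ((Q1 _).map ev)))
    (a : nZ ∈ imZ ev (F.A ((Q1 _).map ev)) → nZ ∈ imZ ev (F'.A ((Q1 _).map ev)))
    (b : nR ∈ imZ ev (F.A ((Q1 _).map ev)) → nR ∈ imZ ev (F'.A ((Q1 _).map ev))) : F ≤ F' :=
  m.le2 x n m.toWy n' ((m.nf2 n).trans (ai_self_le_A n'.eS.ge)) r r' fun q g hg => by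
    obtain ⟨f, k⟩ := m.exZ' x.h3 (F.A_le_nz _ hg)
    obtain ⟨g', hg', k'⟩ := lq.le (m.lh2 x n q) (m.t1 n') o a b ⟨g, hg, k⟩
    exact (mul_mem_cancel_left (inv_mem hg')).1 (ai_self_le_A ((m.toCo.le _).trans n'.eS.ge)
      (m.in0 x.inn (inv_mul_cancel f ▸ (m.invZ k').mul k)))
variable (mo : ∀ a b, a ∨ b → Mf S ev a b)
include mo
theorem rl2a (r : M2 ∈ F.A ((Q2 _).map ev)) (o : nZ ∈ imZ ev (F.A ((Q1 _).map ev)) ∨ nR ∈ imZ ev (F.A ((Q1 _).map ev))) :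
    Rl 2 F := by
  obtain ⟨H, s, ⟨g, hg, e⟩, a, b⟩ := mo _ _ o
  have n' := sa_of m.pg s
  have e2 : Agree ((Q2 _).map ev) M2 g := by rintro _ ⟨c, hc, rfl⟩; rw [e c hc, m.f2 c hc]
  have r' := ofSub_A s.1 (m.toCo.le _) ▸ e2.mem_ai (mem_ai_of_mem hg (e2.symm.mem_nz (m.nM2 m.toWy)))
  rw [← m.imZ_ai H, ← ofSub_A s.1 (m.toCo.le _)] at a b
  exact n.rl s (m.le' x lq n n' r r' o a.2 b.2) (m.le' x lq n' n r' r (o.imp a.2 b.2) a.1 b.1)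
theorem rl2b (o : Ho ev) (r : M2 ∈ F.A ((Q2 _).map ev)) : Rl 2 F := by
  refine (m.cases x n).elim .inl fun ⟨q0, r0⟩ => ?_
  have hZ := m.z3_of x n m.toWy r0 r
  rcases lq _ (m.lh2 x n q0) with c | c | c | c | c
  · exact m.rl2a x lq n mo r (.inl (c ▸ subset_closure (by simp)))
  · obtain ⟨δ, e⟩ := o dl
    obtain ⟨g, hg, k⟩ : tZ 1 * nD * tZ 1 ∈ imZ ev (F.A ((Q1 _).map ev)) :=
      mul_mem (mul_mem (m.t1 n) (c ▸ subset_closure (by simp))) (m.t1 n)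
    refine .of_cjs δ (m.rl2a x lq (n.cj (m.aS e)) mo (m.cjm e (fun _ => Iff.rfl)
      (mul_mem r (n.mA (m.mS (el 1 0 1 1)) (m.nQ2 (m.mS _)))) fun c hc => ?_)
      (.inl ⟨_, cjs_A' (F := F) (m.gQ1 x.h3 (m.aS e)) ▸ conj_mem_cj δ hg, m.dz e k⟩))
    rw [cj_mul2, m.inv, m.mul, m.mul, m.f2 _ (by simpa using mQ2.1 hc), e, m.f2 _ (by exact hc)]
    exact congrArg ev ((by decide +kernel : ∀ c : Gc (ZMod 2), c.u = 0 →
      dl (m2 (el 1 0 1 1 * c * (el 1 0 1 1)⁻¹)) = m2 (dl c)) c hc)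
  · refine .inl (n.cn (m.cen3 x.h3) (m.toCo.le _) ((m.s2 x n).trans hZ) fun X q => ?_)
    rcases m.ess x n q with rfl | rfl
    · refine ⟨m.l31, fun g hg => mem_nz_of_conj_mem ?_⟩
      rintro _ ⟨d, hd, rfl⟩
      obtain ⟨f, k⟩ := m.exZ' x.h3 (F.A_le_nz _ hg)
      obtain ⟨d', h1, e1, e2⟩ := k d hd.1
      have := (clL f (c ▸ ⟨g, hg, k⟩) (pv d)).2 hd.2
      rw [← e2] at this
      exact e1 ▸ m.mm.2 ⟨h1, this⟩
    · exact ⟨m.l32, hZ⟩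
  · exact m.rl2a x lq n mo r (.inr (c ▸ subset_closure (by simp)))
  · exact m.rl2a x lq n mo r (.inl (c ▸ subset_closure (by simp)))
theorem rl2 (n22 : N22 Γ) (o : Ho ev) : Rl 2 F := m.red x o (fun F n hZ => (m.cases x n).elim .inl fun ⟨_, r⟩ => by
  obtain ⟨β, g, hg, e⟩ := n22 S _ ev m.toCo (n.es r) hZ (x.s2 x.h3 _ _ _ _ _ m.toCo m.toWy (n.es r) hZ).2
  obtain ⟨θ, eθ⟩ := o (th rfl 0 β)
  refine .of_cjs θ (m.rl2b x lq (n.cj (m.aS eθ)) mo o (m.cjm eθ (fun _ => Iff.rfl) hg fun c hc => ?_))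
  rw [e c hc, eθ, m.f2 _ (by exact hc)]
  gs m.toCo [th_apply, m2', mQ2.1 hc]
  exact ⟨by linear_combination β * c.a * two0 (K := ZMod 2) rfl, by ring⟩) n
end Md

theorem br2 (x : ∀ N, Ck (ZMod 2) (Univ N) 2) (md : MD (ZMod 2) 2) (lq : LQ) (n22 : ∀ N, N22 (Univ N)) (ma : MA) (mb : MB)
    (mc : MC) : Br.{0, w} (ZMod 2) 2 :=
  br_of ((em_md md).and ((em_mo ma).and ((em_mo mb).and (em_mo mc)))) fun N _ _ ⟨⟨_, _, _, _, m⟩, h1, h2, h3⟩ _ o n =>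
    m.rl2 (x N) lq n (fun a b c => by
      by_cases ha : a <;> by_cases hb : b <;> simp only [ha, hb, or_self] at c ⊢ <;> assumption) (n22 N) o

end H25.GC
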