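/-
Fusion systems on a Sylow `p`-subgroup of `G₂(q)`, part 6: the chunks.
-/
import Cfsg.Agent.H25.GC5
import Cfsg.Agent.H12.GE4
import Cfsg.Agent.H23.GC2
import Cfsg.Agent.H14.GC2
import Cfsg.Agent.H6.GQ1
import Cfsg.Agent.H6.GQ2
import Cfsg.Agent.H3.GCa
import Cfsg.Agent.H24.GT1
import Cfsg.Agent.H9.GM1
import Cfsg.Agent.H22.GV4

set_option autoImplicit false
set_option linter.unusedSectionVars false

namespace H25.GC
open Cfsg Subgroup H25
universe u v w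
variable {K : Type v} [Field K] [Finite K] {Γ : Type u} [Group Γ] [Finite Γ] {p : ℕ} [hp : Fact p.Prime] [CharP K p]

theorem ck (h : 5 ≤ p ∧ Nat.card K ≠ 7 ∨ p = 2) : Ck K Γ p :=
  ⟨h, H12.GE.es, H23.GC.e2, H23.GC.g3, H23.GC.au, H14.GC.bo1, H14.GC.g2, H14.GC.s2, H14.GC.n2, H6.GQ.inn, H6.GQ.n1, H3.GC.la,
    H3.GC.lb, H3.GC.lc, H24.GT.tr⟩
theorem br1 (hq : 5 ≤ p ∧ 8 ≤ Nat.card K ∨ p = 2 ∧ 2 < Nat.card K) : Br.{v, w} K p :=
  br0 (fun _ => ck (hq.imp (fun c => ⟨c.1, by omega⟩) (·.1))) (H22.GV.md K p) hq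
theorem br2' : Br.{0, w} (ZMod 2) 2 :=
  br2 (fun _ => ck (.inr rfl)) (H22.GV.md _ 2) H6.GQ.lq (fun _ => H14.GC.n22) H9.GM.ma H9.GM.mb H9.GM.mc
/-- all fields -/
theorem br (n : ℕ) (hn : n ≠ 0) (h7 : ¬ (p = 7 ∧ n = 1)) (b3 : p = 3 → Br.{0, w} (GaloisField p n) p)
    (b5 : Br.{0, w} (ZMod 5) 5) : Br.{0, w} (GaloisField p n) p := by
  have c := GaloisField.card p n hn
  by_cases h3 : p = 3
  · exact b3 h3
  have h2 := hp.out.two_le
  by_cases h1 : n = 1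
  · subst h1
    by_cases t : p = 2
    · subst t; exact br2'.cg (GaloisField.equivZmodP 2).toRingEquiv
    by_cases f : p = 5
    · subst f; exact b5.cg (GaloisField.equivZmodP 5).toRingEquiv
    have : p ≠ 4 := fun e => absurd (e ▸ hp.out) (by norm_num)
    have : p ≠ 6 := fun e => absurd (e ▸ hp.out) (by norm_num)
    exact br1 (.inl ⟨by omega, by rw [c, pow_one]; omega⟩)
  have k : p ^ 2 ≤ p ^ n := Nat.pow_le_pow_right (by omega) (by omega)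
  have : p ≠ 4 := fun e => absurd (e ▸ hp.out) (by norm_num)
  exact br1 ((em (p = 2)).symm.imp (fun _ => ⟨by omega, by rw [c]; nlinarith [show 5 ≤ p by omega]⟩)
    fun t => ⟨t, by rw [c]; nlinarith⟩)
theorem top {Ω : Type w} [Group Ω] {S : Subgroup Ω} [Finite S] (hS : IsPGroup p S) (F : FusionSystem S) (hF : F.IsSaturated p)
    (n : ℕ) (hn : n ≠ 0) (h7 : ¬ (p = 7 ∧ n = 1)) (T : Sylow p (Lie.G2 (GaloisField p n)))
    (e : S ≃* (T : Subgroup (Lie.G2 (GaloisField p n)))) (b3 : p = 3 → Br.{0, w} (GaloisField p n) p)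
    (b5 : Br.{0, w} (ZMod 5) 5) : F.IsRealizable p :=
  have := Fintype.ofFinite (GaloisField p n)
  let ⟨f⟩ := H22.GV.sy' (GaloisField p n) p T
  br n hn h7 b3 b5 Ω S hS F hF (e.trans f.symm)

end H25.GC
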