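/-
Fusion systems on a Sylow `3`-subgroup of `G₂(3ⁿ)`: transfer to `Q₁ / Z₁` (chunk TR3).
-/
import Cfsg.Agent.H2.G30
import Cfsg.Agent.H24.GT1

set_option autoImplicit false
set_option linter.unusedSectionVars false
set_option linter.unusedSimpArgs false

namespace H25.GD
open Cfsg Subgroup H25 H25.FS H25.GC H25.GC.Gc H2.G H24.GT
open H8.PU hiding Co Wt Wy Md Ck G2 S2 N2 E2 TR MD
universe u v
variable {K : Type v} [Field K] [Finite K] [CharP K 3] {Γ : Type u} [Group Γ] [Finite Γ] {S A : Subgroup Γ} {ev : Gc K →* Γ}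
  {g : Γ} {f : AZ K} {k l : K} {φ : K ≃+* K}

theorem dz_nz (d : DZ f k l φ) : f ∈ nz (TZ K) := mem_nz_of_conj_mem (by
  rintro _ ⟨t, rfl⟩
  refine ⟨k * φ t, mul_inv_eq_iff_eq_mul.2 (LinearEquiv.ext fun x => ?_)⟩
  simp only [H24.SP.mul_ap, tZ_ap, d _, map_add, map_mul, map_pow, map_ofNat, Prod.mk.injEq, true_and]
  refine ⟨?_, ?_, ?_⟩ <;> ring)
variable (h : Co S ev)
include h
theorem q1Z1 (hg : g ∈ nz ((Q1 K).map ev)) : g ∈ nz ((Z1 K).map ev) := mem_nz_of_conj_mem (by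
  rintro _ ⟨c, hc, rfl⟩
  rw [show ev c = ev (xu 1) * ev (xv c.z) * (ev (xu 1))⁻¹ * (ev (xv c.z))⁻¹ by gs h [] at hc; gs h [hc]; ring, cj_cm]
  exact h.c11 _ (conj_mem_of_mem_nz hg (by gs h [])) _ (conj_mem_of_mem_nz hg (by gs h [])))
theorem fm3 (k : AcZ ev g f) : ∃ μ : K → K, ∀ x y, oZ (f x) (f y) = μ (oZ x y) := by
  choose μ _ e using fun z => conj_mem_of_mem_nz (h.nzZ1 k) (h.mm.2 (show xz z ∈ Z1 K from ⟨rfl, rfl, rfl, rfl, rfl⟩))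
  refine ⟨fun z => (μ z).z, fun x y => ?_⟩
  obtain ⟨c1, h1, e1, k1⟩ := k (qv x) rfl
  obtain ⟨c2, h2, e2, k2⟩ := k (qv y) rfl
  have := e (oZ (pv (qv x)) (pv (qv y)))
  conv_rhs at this => rw [← cmq rfl rfl]
  simp only [map_mul, map_inv, cj_cm, e1, e2] at this
  have := congrArg Gc.z (h.inj (a₂ := c1 * c2 * c1⁻¹ * c2⁻¹) (by simpa using this))
  rw [cmq h1 h2, k1, k2] at this
  exact this.symm
theorem mT (u : Gc K) : ev u ∈ ai S ((Q1 K).map ev) := mem_ai_of_mem (h.mS u) (h.nQ1 (h.mS u))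
variable (e : Au 3 S ((Q1 K).map ev) A)
include e
theorem ker (hg : g ∈ A) (k : AcZ ev g 1) : g ∈ ai S ((Q1 K).map ev) :=
  e.syl.le_of_normal_pel (cz_le_ai _ _) e.Ac (fun _ hk => kk_pel (l := []) e.pP (by simp) (mem_inf.1 hk).2) inf_le_left
    (fun _ hg => mem_nz_inf (le_nz_self A hg) (kk_nz (by simp) (nz_le_nz_fr _ (e.An hg)) (e.An hg)))
    ⟨hg, mem_stab'.2 ⟨e.An hg, (h.cmZ k).mono le_rfl (h.fr1 e.pg)⟩⟩
theorem bo3 (hg : g ∈ A) (k : AcZ ev g f) (b : f ∈ nz (TZ K)) : g ∈ nz (ai S ((Q1 K).map ev)) := mem_nz_of_conj_mem fun u hu => by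
  obtain ⟨-, _, hs, a⟩ := mem_ai.1 hu
  obtain ⟨s, -, rfl⟩ := h.ex hs
  obtain ⟨t, e1⟩ := conj_mem_of_mem_nz b (show tZ (-s.a) ∈ TZ K from ⟨_, rfl⟩)
  refine (mul_mem_cancel_left (mT h (xa t))).1 (ker h e (mul_mem (e.nA (mT h _)) (mul_mem (mul_mem hg (e.nA hu)) (inv_mem hg))) ?_)
  have := (acS (ev := ev) (xa t)).mul ((k.mul (AcZ.ag (acS s) a)).mul (h.invZ k))
  rwa [e1, ← tZ_add, xa_a, neg_add_cancel, tZ_zero] at this
theorem syl3 : Syl 3 (TZ K) (imZ ev A) := by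
  choose π0 k0 using fun g : A => h.exZ (e.An g.2) (q1Z1 h (e.An g.2))
  let π : A →* AZ K := .mk' π0 fun g g' => h.uqZ (k0 _) ((k0 g).mul (k0 g'))
  have k : ∀ g : A, AcZ ev g (π g) := k0
  have eq : imZ ev A = π.range := le_antisymm (fun f ⟨g, a, b⟩ => ⟨⟨g, a⟩, h.uqZ (k _) b⟩)
    (by rintro _ ⟨g, rfl⟩; exact ⟨g, g.2, k g⟩)
  refine ⟨by rintro _ ⟨a, rfl⟩; exact ⟨_, e.nA (mT h _), acT a⟩, fun c => e.syl.2 (c.trans ?_)⟩
  rw [eq, π.range_eq_map, ← relIndex_comap, relIndex_top_right]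
  refine index_dvd_of_le fun g hg => ?_
  obtain ⟨-, _, hu, a⟩ := mem_ai.1 (mem_subgroupOf.1 hg)
  obtain ⟨u, -, rfl⟩ := h.ex hu
  exact ⟨-u.a, h.uqZ (k g) (AcZ.ag (acS u) a)⟩
omit h e

theorem tr3 (dc : DC3 K Γ) : TR3 K Γ := fun S L C0 ev M1 M2 g0 F m n => by
  have h := m.toCo
  have e := au_of n.sat n.eS (h.le _) h.nQ1 h.cen1
  have ex : ∀ g ∈ F.A ((Q1 K).map ev), ∃ f, AcZ ev g f := fun g hg => h.exZ (e.An hg) (q1Z1 h (e.An hg))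
  have bor : ∀ f ∈ imZ ev (F.A ((Q1 K).map ev)), f ∈ nz (TZ K) → ∃ t, ∃ τ ∈ C0 ⊓ F.A S, ∃ k l φ, Wt ev τ k l φ ∧
      DZ ((tZ t)⁻¹ * f) k l φ := fun f ⟨g, hg, k⟩ b => by
    obtain ⟨a, ha, e1⟩ := ext_of n.sat n.eS (h.le _) h.nQ1 hg (bo3 h e hg k b)
    obtain ⟨_, hu, τ, hτ, k', l, φ, w, e2⟩ := dc _ _ _ _ _ _ _ _ m n a ha (e1.mem_nz (e.An hg))
    obtain ⟨u, -, rfl⟩ := h.ex hu
    refine ⟨-u.a, τ, hτ, k', l, φ, w, h.dgZ w ?_⟩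
    rw [tZ_inv]
    exact AcZ.ag ((acS u⁻¹).mul k) (by simpa using ((e1.symm.trans (e2.mono (h.le _))).mul_left (ev u)⁻¹).symm)
  refine ⟨ex, fun g hg f => bo3 h e hg, fun f hf k l φ d => ?_, fun q => ⟨syl3 h e, fun f ⟨g, _, k⟩ x h1 h2 => ?_,
    fun f ⟨g, _, k⟩ => fm3 h k, fun f hf b => let ⟨t, _, _, k, l, φ, w, d⟩ := bor f hf b; ⟨t, k, l, φ, w.k0, w.l0, d⟩,
    fun c => q fun g hg => let ⟨f, k⟩ := ex g hg; bo3 h e hg k (c ⟨g, hg, k⟩)⟩⟩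
  · obtain ⟨t, τ, hτ, k', l', φ', w, d'⟩ := bor f hf (dz_nz d)
    rw [tZ_inv] at d'
    have q := fun z => congrArg (·.1) (d' (z, 0, 0, 0))
    have q1 := congrArg (·.2.1) (d' (0, 1, 0, 0))
    simp only [H24.SP.mul_ap, tZ_ap, d _, map_zero, map_one, mul_one, mul_zero, add_zero] at q q1
    obtain rfl : l = l' := by simpa using q 1
    obtain rfl : φ = φ' := RingEquiv.ext fun z => mul_left_cancel₀ w.l0 (q z)
    exact ⟨τ, hτ, w.cast (mul_left_cancel₀ w.l0 q1).symm rfl⟩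
  · obtain ⟨μ, e⟩ := fm3 h k
    have t := h3 (K := K)
    have k : ∀ y, oZ (f x) y = 0 := fun y => by
      obtain ⟨y, rfl⟩ := f.surjective y
      rw [e, show oZ x y = oZ 0 0 by simp [oZ, h1, h2, t], ← e]
      simp [oZ]
    exact ⟨by simpa [oZ] using k (0, 0, 0, 1), by simpa [oZ] using k (1, 0, 0, 0)⟩

end H25.GD
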