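/-
S5211: the case `p = 3` closed, and the statement modulo the branch `q = 5`.
-/
import Cfsg.Agent.H25.GC6
import Cfsg.Agent.H25.GD1
import Cfsg.Agent.H22.G3A
import Cfsg.Agent.H3.G3D
import Cfsg.Agent.H3.G3L
import Cfsg.Agent.H23.G3k
import Cfsg.Agent.H9.G3a

set_option autoImplicit false

namespace H25.GC
universe v w

theorem br3 (K : Type v) [Field K] [Finite K] [CharP K 3] : Br.{v, w} K 3 :=
  H22.G3.br3 fun _ =>
    have t := H25.GD.tr3 H3.G3.dc3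
    ⟨H3.G3.nf3, H3.G3.re3, t, H23.G3.kn t, H23.G3.ca3, H9.G3.n3, H9.G3.zt, H3.G3.l3a, H3.G3.l3b, H3.G3.l3c⟩

open Cfsg in
theorem top' {p : ℕ} [Fact p.Prime] {Ω : Type w} [Group Ω] {S : Subgroup Ω} [Finite S] (hS : IsPGroup p S) (F : FusionSystem S)
    (hF : F.IsSaturated p) (n : ℕ) (hn : n ≠ 0) (h7 : ¬ (p = 7 ∧ n = 1)) (T : Sylow p (Lie.G2 (GaloisField p n)))
    (e : S ≃* (T : Subgroup (Lie.G2 (GaloisField p n)))) (b5 : Br.{0, w} (ZMod 5) 5) : F.IsRealizable p :=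
  top hS F hF n hn h7 T e (fun h => by subst h; exact br3 _) b5

end H25.GC
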