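import Cfsg.Agent.S3888
import Cfsg.Agent.S2792
import Cfsg.Agent.S1447
import Cfsg.Agent.H4.Max2
import Cfsg.Agent.H4.Meta
import Cfsg.Agent.H9.Qd2
import Cfsg.Agent.H3.Transfer

/-! `p`-groups of rank two with a central element fixed by the automizer. -/

set_option autoImplicit false

open Cfsg Subgroup H4
open scoped commutatorElement

namespace H25.Iso

variable {Q : Type*} [Group Q] {p n : ℕ} {y w a b c : Q}

/-- the two possible shapes -/
def Good (p : ℕ) (Q : Type*) [Group Q] : Prop :=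
  (IsExtraspecial p Q ∧ Nat.card Q = p ^ 3 ∧ ∀ y : Q, y ^ p = 1) ∨ (p = 3 ∧ ∃ k : ℕ, 2 ≤ k ∧
    Nat.card Q = 3 ^ (2 * k + 1) ∧ ∃ _ : Group.IsNilpotent Q, Group.nilpotencyClass Q = 2 * k)

/-- no wreath product quotient -/
def NW (Q : Type*) [Group Q] : Prop :=
  ∀ M : Subgroup Q, IsCoatom M → LL Q 2 ≤ (frattini M).map M.subtype

/-- automorphisms fixing `y` fix a nontrivial element of an abelian quotient -/
def Bad (y : Q) : Prop := ∃ (K : Subgroup Q) (c : Q), commutator Q ≤ K ∧ c ∉ K ∧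
  ∀ α : MulAut Q, α y = y → (∀ k ∈ K, α k ∈ K) ∧ α c * c⁻¹ ∈ K

variable [Finite Q] [hp : Fact p.Prime]

theorem mem_zp (hr : PRankLE p 2 Q) (hy : y ∈ center Q) (y1 : orderOf y = p) (hw : w ∈ center Q)
    (wp : w ^ p = 1) (ap : a ^ p = 1) (ha : a ∉ center Q) : w ∈ zpowers y := by
  by_contra h
  have := normal_of_le_center (zpowers_le.2 hy)
  have h1 : zpowers y ⊔ zpowers w ≤ center Q := sup_le (zpowers_le.2 hy) (zpowers_le.2 hw)
  have := normal_of_le_center h1
  refine ha (h1 (mem_of_rank_two hr ⟨isMulCommutative_of_le h1 inferInstance, fun x hx => ?_⟩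
    (by rw [card_sup_zpowers h (wp ▸ one_mem _), Nat.card_zpowers, y1, sq])
    (fun x hx => (mem_center_iff.1 (h1 hx) a).symm) ap))
  obtain ⟨_, ⟨i, rfl⟩, j, rfl⟩ := mem_sup_zpowers.1 hx
  rw [((commute_of_mem_center hw y).zpow_zpow i j).mul_pow, zp_swap, zp_swap, wp, ← y1]
  simp

theorem nw_of_meta (hQ : IsPGroup p Q) (h : IsMetacyclic Q) : NW Q := fun M hM => by
  have := normal_of_coatom hQ hM
  have h1 := (Nat.le_of_dvd (Nat.pos_of_ne_zero index_ne_zero_of_finite) (index_dvd_of_le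
    (powerClosure_one_le_frattini (hQ.to_subgroup M)))).trans
    (index_mho_le (metacyclic_subgroup h M) hp.out.pos 1)
  have h2 := lcs_eq_bot_of_card_le (hQ.to_quotient ((frattini M).map M.subtype)) (k := 1) (by
    rw [← index_eq_card, index_map_subtype, index_of_coatom hQ hM, pow_succ]
    exact Nat.mul_le_mul_right _ h1)
  rw [← map_top_of_surjective _ (QuotientGroup.mk'_surjective _), ← map_lowerCentralSeries,
    Subgroup.map_eq_bot_iff, QuotientGroup.ker_mk'] at h2
  exact h2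

theorem nw_of_le (hr : PRankLE p 2 Q) (hn : Nat.card Q = p ^ n) (h4 : 4 ≤ n) (hw : w ∈ center Q)
    (wp : w ^ p = 1) (ap : a ^ p = 1) (ha : a ∉ center Q) (h : LL Q 2 ≤ zpowers w) : NW Q :=
  fun M hM => by
  have hQ := IsPGroup.of_card hn
  have := normal_of_coatom hQ hM
  obtain ⟨x, h1, h2, h3⟩ := exists_mem_center_orderOf_eq hQ (N := (frattini M).map M.subtype) fun e => by
    have h1 := hr M (isMulCommutative_iff.2 fun u hu v hv => commutatorElement_eq_one_iff_mul_comm.1
      (mem_bot.1 (e ▸ commutator_mem_map_frattini (hQ.to_subgroup M) hu hv))) fun u hu =>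
        mem_bot.1 (e ▸ pow_mem_map_frattini (hQ.to_subgroup M) hu)
    have h2 := M.card_mul_index
    rw [index_of_coatom hQ hM, hn] at h2
    have := (Nat.pow_le_pow_iff_right hp.out.one_lt).1 (h2.ge.trans (Nat.mul_le_mul_right p h1)
      |>.trans_eq (pow_succ p 2).symm)
    omega
  exact h.trans (zpowers_le.2 (zpowers_le.2 h1 (mem_zp hr h2 h3 hw wp ap ha)))

theorem fix_of {α : MulAut Q} (h : α y = y) (hw : w ∈ zpowers y) : α w = w := by
  obtain ⟨i, rfl⟩ := hw
  simp [h]

theorem famC (hp2 : p ≠ 2) (hr : PRankLE p 2 Q) (hn : Nat.card Q = p ^ n) (h4 : 4 ≤ n)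
    (hc : ¬ IsMulCommutative Q) (hy : y ∈ center Q) (y1 : orderOf y = p)
    (hg : closure {a, b, c} = ⊤) (ap : a ^ p = 1) (bp : b ^ p = 1) (cp : c ^ p ^ (n - 2) = 1)
    (e1 : a * c = c * a) (e2 : b * c = c * b) (e3 : a⁻¹ * b * a = b * c ^ p ^ (n - 3)) :
    NW Q ∧ Bad y := by
  have hZ : c ∈ center Q := mem_center_iff.2 fun g => mem_centralizer_singleton_iff.1
    ((closure_le (centralizer {c})).2 (by
      rintro _ (rfl | rfl | rfl) <;> simp [mem_centralizer_singleton_iff, *]) (hg ▸ mem_top g))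
  obtain ⟨w, hw⟩ : ∃ w, w = c ^ p ^ (n - 3) := ⟨_, rfl⟩
  have wZ : w ∈ center Q := hw ▸ pow_mem hZ _
  have wp : w ^ p = 1 := by rw [hw, ← pow_mul, ← pow_succ, show n - 3 + 1 = n - 2 by omega, cp]
  have := normal_of_le_center (zpowers_le.2 wZ)
  rw [← hw] at e3
  have e4 : ⁅b, a⁆ = w := by
    have := mem_center_iff.1 wZ
    calc _ = b * a * b⁻¹ * a⁻¹ := rfl
      _ = a * (a⁻¹ * b * a) * b⁻¹ * a⁻¹ := by group
      _ = a * b * (w * (b⁻¹ * a⁻¹)) := by rw [e3]; group
      _ = _ := by rw [← this]; group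
  have h1 : commutator Q ≤ zpowers w := commutator_le_of_closure hg (by
    have e5 : ⁅a, b⁆ = w⁻¹ := by rw [← e4, commutatorElement_inv]
    have := fun g => commutatorElement_eq_one_iff_mul_comm.2 (mem_center_iff.1 hZ g)
    have := fun g => commutatorElement_eq_one_iff_mul_comm.2 (mem_center_iff.1 hZ g).symm
    rintro _ (rfl | rfl | rfl) _ (rfl | rfl | rfl) <;> simp [*])
  have w1 : w ≠ 1 := fun e => hc ((commutator_eq_bot_iff Q).1 (eq_bot_iff.2 (by simpa [e] using h1)))
  have ha : a ∉ center Q := fun h =>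
    w1 (e4 ▸ commutatorElement_eq_one_iff_mul_comm.2 (mem_center_iff.1 h b))
  have h2 : ∀ u v : Q, ⁅u, v⁆ ∈ zpowers w := fun u v => h1 (commutator_mem_commutator (mem_top _) (mem_top _))
  obtain ⟨m, hm⟩ : ∃ m, p ^ (n - 3) = p * m := ⟨p ^ (n - 4), by rw [← pow_succ']; congr 1; omega⟩
  let ψ : Q →* Q := MonoidHom.mk' (· ^ p ^ (n - 3)) fun u v => by
    obtain ⟨i, hi⟩ := h2 v u
    refine mul_pow_of_odd ((hp.out.odd_of_ne_two hp2).pow) (commute_of_mem_center
      (zpowers_le.2 wZ (h2 _ _)) _) (commute_of_mem_center (zpowers_le.2 wZ (h2 _ _)) _) ?_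
    rw [← hi, zp_swap, hm, pow_mul, wp]; simp
  refine ⟨nw_of_le hr hn h4 wZ wp ap ha (commutator_le.2 fun u hu v _ => ?_), ψ.ker, c,
    h1.trans (zpowers_le.2 ?_), fun e => w1 (hw.trans e), fun α hα => ⟨fun k hk => ?_, ?_⟩⟩
  · rw [commutatorElement_eq_one_iff_mul_comm.2 (mem_center_iff.1 (zpowers_le.2 wZ (h1 hu)) v).symm]
    exact one_mem _
  · show w ^ p ^ (n - 3) = 1
    rw [hm, pow_mul, wp, one_pow]
  · show α k ^ _ = 1
    rw [← map_pow, show k ^ _ = 1 from hk, map_one]
  · rw [MonoidHom.mem_ker, map_mul, map_inv, mul_inv_eq_one]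
    show α c ^ _ = c ^ _
    rw [← map_pow, ← hw, fix_of hα (mem_zp hr hy y1 wZ wp ap ha)]

theorem famG (hr : PRankLE p 2 Q) (hn : Nat.card Q = p ^ n) (h4 : 4 ≤ n)
    (hy : y ∈ center Q) (y1 : orderOf y = p) {s : ℕ} (hs : s = 1 ∨ ¬ IsSquare (s : ZMod p))
    (hg : closure {a, b, c} = ⊤) (ap : a ^ p = 1) (bp : b ^ p = 1) (cp : c ^ p ^ (n - 2) = 1)
    (e1 : b * c = c * b) (e2 : a⁻¹ * b * a = b * c ^ (s * p ^ (n - 3))) (e3 : a⁻¹ * c * a = b * c) :
    NW Q ∧ Bad y := by
  have hQ := IsPGroup.of_card hn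
  have gen : ∀ H : Subgroup Q, a ∈ H → b ∈ H → c ∈ H → ∀ g, g ∈ H := fun H h1 h2 h3 g =>
    (closure_le H).2 (by rintro _ (rfl | rfl | rfl) <;> assumption) (hg ▸ mem_top g)
  obtain ⟨m, hm⟩ : ∃ m, p ^ (n - 3) = p * m := ⟨p ^ (n - 4), by rw [← pow_succ']; congr 1; omega⟩
  have cZ : c ^ p ∈ center Q := mem_center_iff.2 fun g => mem_centralizer_singleton_iff.1 (gen _
    (mem_centralizer_singleton_iff.2 (by
      have := congrArg (· ^ p) e3
      simp only [(show Commute b c from e1).mul_pow, bp, one_mul] at this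
      rw [show a⁻¹ * c * a = a⁻¹ * c * a⁻¹⁻¹ by simp, conj_pow, inv_inv, mul_assoc,
        inv_mul_eq_iff_eq_mul] at this
      exact this.symm))
    (mem_centralizer_singleton_iff.2 ((show Commute b c from e1).pow_right p))
    (mem_centralizer_singleton_iff.2 (Commute.self_pow c p)) g)
  obtain ⟨w, hw⟩ : ∃ w, w = c ^ p ^ (n - 3) := ⟨_, rfl⟩
  have wZ : w ∈ center Q := by rw [hw, hm, pow_mul]; exact pow_mem cZ _
  have wp : w ^ p = 1 := by rw [hw, ← pow_mul, ← pow_succ, show n - 3 + 1 = n - 2 by omega, cp]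
  rw [mul_comm, pow_mul, ← hw] at e2
  have := normal_of_le_center (zpowers_le.2 wZ)
  have hb : b ∈ commutator Q := by
    rw [show b = ⁅a⁻¹, c⁆ by rw [commutatorElement_def, inv_inv, e3]; simp]
    exact commutator_mem_commutator (mem_top _) (mem_top _)
  let B := zpowers b ⊔ zpowers c
  have bB : b ∈ B := mem_sup_left (mem_zpowers b)
  have cB : c ∈ B := mem_sup_right (mem_zpowers c)
  have hB : B.Normal := normalizer_eq_top_iff.1 (eq_top_iff.2 fun g _ => gen _
    (inv_mem_iff.1 (H28.mem_normalizer_of_cj_le (by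
      rw [H28.cj_sup]
      refine sup_le ?_ ?_ <;> rw [H28.cj_zpowers, zpowers_le, inv_inv]
      · rw [e2, hw]; exact mul_mem bB (pow_mem (pow_mem cB _) _)
      · rw [e3]; exact mul_mem bB cB))) (le_normalizer bB) (le_normalizer cB) g)
  have mB : ∀ g ∈ B, ∃ i j : ℤ, g = b ^ i * c ^ j := fun g h => by
    obtain ⟨_, ⟨i, rfl⟩, _, ⟨j, rfl⟩, rfl⟩ := (H28.mem_sup_of_le_normalizer' (zpowers_le.2
      (centralizer_le_normalizer _ ((H28.mem_centralizer' (H := zpowers b)).2 fun _ ⟨i, h⟩ =>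
        h ▸ ((show Commute b c from e1).zpow_left i))))).1 h
    exact ⟨i, j, rfl⟩
  have top : B ⊔ zpowers a = ⊤ := eq_top_iff.2 fun g _ =>
    gen _ (mem_sup_right (mem_zpowers a)) (mem_sup_left bB) (mem_sup_left cB) g
  have w1 : w ≠ 1 := fun e => by
    have h1 : Nat.card B ≤ p * p ^ (n - 3) := by
      refine (Nat.card_le_card_of_surjective (fun x : zpowers b × zpowers c => (⟨x.1 * x.2,
        mul_mem (mem_sup_left x.1.2) (mem_sup_right x.2.2)⟩ : B)) fun g => ?_).trans ?_
      · obtain ⟨i, j, h⟩ := mB g g.2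
        exact ⟨(⟨_, i, rfl⟩, ⟨_, j, rfl⟩), Subtype.ext h.symm⟩
      · rw [Nat.card_prod, Nat.card_zpowers, Nat.card_zpowers]
        exact Nat.mul_le_mul (orderOf_le_of_pow_eq_one hp.out.pos bp)
          (orderOf_le_of_pow_eq_one (pow_pos hp.out.pos _) (hw ▸ e))
    have h2 := card_sup_zpowers' B a
    rw [top, card_top, hn] at h2
    have h3 := h2.le.trans (Nat.mul_le_mul h1 (orderOf_le_of_pow_eq_one hp.out.pos
      (by rw [← QuotientGroup.mk_pow, ap]; rfl)))
    rw [← pow_succ', ← pow_succ, Nat.pow_le_pow_iff_right hp.out.one_lt] at h3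
    omega
  have ow := orderOf_eq_prime wp w1
  have ba : b * a ≠ a * b := fun e => by
    rw [mul_assoc, e, inv_mul_cancel_left, left_eq_mul, ← orderOf_dvd_iff_pow_eq_one, ow] at e2
    rcases hs with rfl | h
    · exact hp.out.one_lt.ne' (Nat.dvd_one.1 e2)
    · exact h ((ZMod.natCast_eq_zero_iff ..).2 e2 ▸ IsSquare.zero)
  have ha : a ∉ center Q := fun h => ba (mem_center_iff.1 h b)
  refine ⟨nw_of_le hr hn h4 wZ wp ap ha ?_, frattini Q, c, commutator_le_frattini hQ, fun h => ?_,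
    fun α hα => ⟨fun k => characteristic_iff_mem.1 inferInstance α k, ?_⟩⟩
  · have k : ∀ u : Q, (u : Q ⧸ zpowers w) ∈ center _ → ∀ v, ⁅u, v⁆ ∈ zpowers w := fun u hu v =>
      (QuotientGroup.eq_one_iff _).1 ((map_commutatorElement (QuotientGroup.mk' _) u v).trans
        (commutatorElement_eq_one_iff_mul_comm.2 (mem_center_iff.1 hu (v : Q ⧸ zpowers w)).symm))
    have hw' : (w : Q ⧸ zpowers w) = 1 := (QuotientGroup.eq_one_iff _).2 (mem_zpowers w)
    have h1 : (b : Q ⧸ zpowers w) ∈ center _ := mem_center_iff.2 fun g => by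
      obtain ⟨g, rfl⟩ := QuotientGroup.mk_surjective g
      refine mem_centralizer_singleton_iff.1 (mem_comap.1 (gen ((centralizer {(b : Q ⧸ zpowers w)}).comap
        (QuotientGroup.mk' _)) ?_ ?_ ?_ g)) <;> refine mem_centralizer_singleton_iff.2 ?_
      · have := congrArg (fun x : Q => (x : Q ⧸ zpowers w)) e2
        simp only [QuotientGroup.mk_mul, QuotientGroup.mk_pow, hw', one_pow, mul_one,
          QuotientGroup.mk_inv, mul_assoc, inv_mul_eq_iff_eq_mul] at this
        exact this.symm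
      · rfl
      · exact congrArg _ e1.symm
    have h2 : commutator Q ≤ (center _).comap (QuotientGroup.mk' (zpowers w)) :=
      commutator_le_of_closure hg (by
        have e4 : ⁅a, c⁆ ∈ (center _).comap (QuotientGroup.mk' (zpowers w)) := by
          rw [show ⁅a, c⁆ = a * b⁻¹ * a⁻¹ by rw [eq_mul_inv_of_mul_eq e3.symm]; group]
          exact Normal.conj_mem (inferInstance : ((center _).comap (QuotientGroup.mk' (zpowers w))).Normal) _
            (inv_mem (show b ∈ (center _).comap (QuotientGroup.mk' (zpowers w)) from h1)) a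
        have e5 := fun u => (zpowers_le (H := (center _).comap (QuotientGroup.mk' (zpowers w)))).2
          (by simp [hw']) (k b h1 u)
        rintro _ (rfl | rfl | rfl) _ (rfl | rfl | rfl) <;>
          first | exact e5 _ | exact comm_symm_mem (e5 _) | exact e4 | exact comm_symm_mem e4 | simp)
    exact commutator_le.2 fun u hu v _ => k u (h2 hu) v
  · have := frattini_nongenerating (K := zpowers a) (eq_top_iff.2 (top.ge.trans (sup_le
      (le_sup_of_le_right (sup_le (zpowers_le.2 (commutator_le_frattini hQ hb)) (zpowers_le.2 h)))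
      le_sup_left)))
    obtain ⟨i, rfl⟩ := this.ge (mem_top b)
    exact ba (Commute.zpow_self a i)
  · have cb : ∀ g ∈ B, g * b = b * g ∧ g * c = c * g := fun g h => by
      obtain ⟨i, j, rfl⟩ := mB g h
      exact ⟨((Commute.zpow_self b i).mul_left ((show Commute c b from e1.symm).zpow_left j)),
        (((show Commute b c from e1).zpow_left i).mul_left (Commute.zpow_self c j))⟩
    have iB : B.index = p := by
      rw [← relIndex_top_right, ← top, relIndex_sup_zpowers (fun h => ba (cb a h).1.symm) (ap ▸ one_mem _)]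
    have h1 : α c ∈ B := by
      refine ((isCoatom_of_index_prime iB).le_iff.1 (fun g h => mem_centralizer_singleton_iff.2
        (cb g h).1 : B ≤ centralizer {b})).elim (fun e => absurd (mem_centralizer_singleton_iff.1
          (e.ge (mem_top a))).symm ba) fun e => e.le (mem_centralizer_singleton_iff.2 ?_)
      have := congrArg α (cb _ (commutator_le_of_index_prime iB
        (characteristic_iff_mem.1 inferInstance α.symm b hb))).2
      simpa using this.symm
    obtain ⟨i, j, e⟩ := mB _ h1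
    have h2 := fix_of hα (mem_zp hr hy y1 wZ wp ap ha)
    rw [hw, map_pow, e, ((show Commute b c from e1).zpow_zpow i j).mul_pow, zp_swap, zp_swap, ← hw, hm,
      pow_mul, bp, one_pow, one_zpow, one_mul, ← mul_inv_eq_one, ← zpow_sub_one,
      ← orderOf_dvd_iff_zpow_eq_one, ow] at h2
    obtain ⟨k, hk⟩ := h2
    rw [e, mul_assoc, ← zpow_sub_one, hk, zpow_mul, zpow_natCast]
    exact mul_mem (zpow_mem (commutator_le_frattini hQ hb) _) (zpow_mem (pow_mem_frattini hQ c) _)

end H25.Iso
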