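import Cfsg.Agent.H25.Iso1

/-! `3`-groups of maximal class and rank two; the dichotomy. -/

set_option autoImplicit false

open Cfsg Subgroup H4
open scoped commutatorElement

namespace H25.Iso

variable {Q : Type*} [Group Q] {p n : ℕ} {y c : Q}

theorem map_LL (α : MulAut Q) {i : ℕ} (h : c ∈ LL Q i) : α c ∈ LL Q i := by
  have := mem_map_of_mem α.toMonoidHom h
  rwa [map_lowerCentralSeries, map_top_of_surjective _ α.surjective] at this

theorem map_TT (α : MulAut Q) {i : ℕ} (h : c ∈ TT Q i) : α c ∈ TT Q i := fun z hz => by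
  simpa [map_commutatorElement] using map_LL α (h _ (map_LL α.symm hz))

variable [Finite Q]

theorem cube [hp : Fact p.Prime] (hn : Nat.card Q = p ^ 3) (hm : ¬ IsMetacyclic Q) (a : Q) :
    a ^ p = 1 := by
  have hS := IsPGroup.of_card hn
  by_contra h7
  obtain ⟨k, hk⟩ := IsPGroup.iff_orderOf.1 hS a
  have h8 : 2 ≤ k := by
    by_contra! hh
    rw [← orderOf_dvd_iff_pow_eq_one, hk] at h7
    interval_cases k <;> simp at h7
  have h9 := (zpowers a).card_mul_index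
  rw [Nat.card_zpowers, hk, hn] at h9
  have h11 : (zpowers a).index ≤ p := Nat.le_of_mul_le_mul_left (((Nat.mul_le_mul_right _
    (Nat.pow_le_pow_right hp.out.pos h8)).trans_eq h9).trans_eq (pow_succ p 2)) (pow_pos hp.out.pos 2)
  obtain ⟨d, hd⟩ := exists_sup_zpowers_eq_top hS h11
  refine hm (isMetacyclic_iff.2 ⟨a, d, ?_, hd⟩)
  by_cases h12 : zpowers a = ⊤
  · rw [h12]; infer_instance
  · exact normal_of_index_prime hS (le_antisymm h11 (by simpa using index_mul_le_of_lt hS (Ne.lt_top h12)))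

variable [Fact (Nat.Prime 3)] (h : MaxC 3 n Q) (hr : PRankLE 3 2 Q) (h4 : 4 ≤ n)
include h h4

theorem exists_T : ∃ c ∈ TT Q 1, c ∉ LL Q 1 := by
  by_contra! e
  have := index_dvd_of_le (show TT Q 1 ≤ LL Q 1 from e)
  rw [h.index_one, h.index_T le_rfl h4] at this
  norm_num at this

include hr

theorem star_zero' (hc : c ∈ TT Q 1) (e : c ^ 3 ∈ LL Q 3) : c ∈ LL Q 1 := by
  rcases h4.eq_or_lt with rfl | h5
  swap
  · exact h.star_zero h5 hc e
  by_contra hc'
  have hb : LL Q 3 = ⊥ := h.bot le_rfl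
  have h1 : ∀ a ∈ TT Q 1, ∀ b ∈ TT Q 1, a * b = b * a := fun a ha b hb' =>
    commutatorElement_eq_one_iff_mul_comm.1 (mem_bot.1 (hb ▸ h.comm_max (N := LL Q 3) (LL_le_TT 1)
      (h.T_ne le_rfl) (fun a ha b hb => hb a ha) a ha b hb'))
  have h2 := hr (TT Q 1) (isMulCommutative_iff.2 h1) fun a ha => by
    obtain ⟨m, hm⟩ := gen_of_card h.pg (LL_le_TT 1) (h.card_of_ge (LL_le_TT 1) (h.T_ne le_rfl)) hc hc' a ha
    have h3 : ((c ^ m)⁻¹ * a) ^ 3 = 1 := mem_bot.1 (hb ▸ h.pow_mem le_rfl hm)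
    rwa [(show Commute (c ^ m)⁻¹ a from h1 _ (inv_mem (zpow_mem hc m)) _ ha).mul_pow, inv_pow, zp_swap,
      show c ^ 3 = 1 from mem_bot.1 (hb ▸ e), one_zpow, inv_one, one_mul] at h3
  have := (TT Q 1).card_mul_index
  rw [h.index_T le_rfl le_rfl, h.card] at this
  omega

theorem maxc_nw : NW Q := fun M hM => by
  have := normal_of_coatom h.pg hM
  have h1 : LL Q 1 ≤ M := commutator_le_of_index_prime (index_of_coatom h.pg hM)
  obtain ⟨t, t1, t2, t3⟩ : ∃ t ∈ (frattini M).map M.subtype, t ∈ LL Q 1 ∧ t ∉ LL Q 3 := by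
    by_cases e : M ≤ TT Q 1
    · obtain ⟨c, hc, hc'⟩ := exists_T h h4
      exact ⟨_, pow_mem_map_frattini (h.pg.to_subgroup M) (((hM.le_iff.1 e).resolve_left
        (h.T_ne h4)).le hc), h.pow_mem_one c, fun e => hc' (star_zero' h hr h4 hc e)⟩
    · obtain ⟨s, hs, hs'⟩ := SetLike.not_le_iff_exists.1 e
      obtain ⟨u, hu, hu'⟩ := SetLike.not_le_iff_exists.1 (h.not_le (i := 1) (by omega))
      exact ⟨_, commutator_mem_map_frattini (h.pg.to_subgroup M) (h1 hu) hs, LL_act (mem_top u) s,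
        fun e => hs' (h.mem_T le_rfl hu hu' e)⟩
  obtain ⟨k, hk⟩ := exists_card_eq_pow h.pg ((frattini M).map M.subtype ⊓ LL Q 1)
  have h2 := card_le_of_le (inf_le_right : (frattini M).map M.subtype ⊓ LL Q 1 ≤ _)
  rw [hk, h.card_L le_rfl, Nat.pow_le_pow_iff_right (by norm_num)] at h2
  have h3 := h.eq_L (by omega) hk
  refine le_trans (LL_le ?_) (h3.ge.trans inf_le_left)
  by_contra! h5
  exact t3 (LL_le h5 (h3.le ⟨t1, t2⟩))

theorem maxc_bad (he : Even n) (hy : y ∈ center Q) (y1 : orderOf y = 3) : Bad y := by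
  obtain ⟨c, hc, hc'⟩ := exists_T h h4
  refine ⟨LL Q 1, c, le_rfl, hc', fun α hα => ⟨fun k => map_LL α, ?_⟩⟩
  obtain ⟨m, hm⟩ := he
  have key : ∀ i, i + 2 ≤ m → ∀ x ∈ LL Q (n - 2 - 2 * i), x⁻¹ * α x ∈ LL Q (n - 2 - 2 * i + 1) := by
    intro i
    induction i with
    | zero =>
      intro _ x hx
      rw [fix_of hα (((eq_of_le_of_card_ge (zpowers_le.2 hy) (by
        rw [h.card_center, Nat.card_zpowers, y1])).trans h.center_eq).ge hx)]
      simp
    | succ i ih =>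
      intro hi x hx
      obtain ⟨j, hj⟩ : ∃ j, n - 2 - 2 * (i + 1) = j := ⟨_, rfl⟩
      rw [hj] at hx ⊢
      rw [show n - 2 - 2 * i = j + 2 by omega] at ih
      refine h.star (by omega) (by omega) (mul_mem (inv_mem hx) (map_LL α hx)) ((pow_mod_iff h.pg
        ((h.lcs_L (by omega)).trans (LL_le (by omega))) hx (map_LL α hx)).1 ?_)
      rw [← map_pow]
      exact ih (by omega) _ (h.pow_mem (by omega) hx)
  have h1 := key (m - 2) (by omega)
  rw [show n - 2 - 2 * (m - 2) = 2 by omega] at h1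
  have h2 := star_zero' h hr h4 (mul_mem (inv_mem hc) (map_TT α hc)) ((pow_mod_iff h.pg
    ((h.lcs_T h4).trans (LL_le (by omega))) hc (map_TT α hc)).1 (by
      rw [← map_pow]
      exact h1 _ (h.pow_mem_aux (by omega) le_rfl h4 c)))
  simpa [mul_assoc] using Normal.conj_mem inferInstance _ h2 c

omit h hr h4 in
theorem dich [hp : Fact p.Prime] (hp2 : p ≠ 2) (hQ : IsPGroup p Q) (hr : PRankLE p 2 Q)
    (hy : y ∈ center Q) (y1 : orderOf y = p) : Good p Q ∨ NW Q ∧ (IsMetacyclic Q ∨ Bad y) := by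
  by_cases hm : IsMetacyclic Q
  · exact .inr ⟨nw_of_meta hQ hm, .inl hm⟩
  by_cases hc : IsMulCommutative Q
  · have := (commutator_eq_bot_iff Q).2 hc
    refine .inr ⟨fun M _ => (LL_le one_le_two).trans (this.le.trans bot_le), .inr ⟨⊥, y, this.le,
      fun e => hp.out.one_lt.ne' (by rw [← y1, mem_bot.1 e, orderOf_one]), fun α hα => ?_⟩⟩
    simp [hα]
  obtain ⟨n, hn⟩ := hQ.exists_card_eq
  by_cases h3 : n = 3
  · subst h3
    exact .inl (.inl ⟨H9.isExtraspecial_of_card_cube hn hc, hn, cube hn hm⟩)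
  rcases Agent.S3888.result hp2 n hn hr with h | ⟨h, a, b, c, k1, k2, k3, k4, k5, k6, k7⟩ |
    ⟨h, s, a, b, c, k0, k1, k2, k3, k4, k5, k6, k7⟩ | ⟨rfl, h, h'⟩
  · exact absurd h hm
  · exact .inr ((famC hp2 hr hn (by omega) hc hy y1 k1 k2 k3 k4 k5 k6 k7).imp_right .inr)
  · exact .inr ((famG hr hn h hy y1 k0 k1 k2 k3 k4 k5 k6 k7).imp_right .inr)
  · have h2 : n ≠ 2 := fun e => hc (IsPGroup.isMulCommutative_of_card_eq_prime_sq (e ▸ hn))
    have hM : MaxC 3 n Q := ⟨hn, by omega, h'⟩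
    rcases n.even_or_odd with e | ⟨k, rfl⟩
    · exact .inr ⟨maxc_nw hM hr (by omega), .inr (maxc_bad hM hr (by omega) e hy y1)⟩
    · exact .inl (.inr ⟨rfl, k, by omega, hn, hQ.isNilpotent, hM.cls⟩)

end H25.Iso
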