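import Cfsg.Agent.H25.Iso2
import Cfsg.Agent.S2968

/-! Transfer arguments: a perfect group whose Sylow normalizer centralizes an element of order `p`. -/

set_option autoImplicit false

open Cfsg Subgroup H4
open scoped commutatorElement

namespace H25.Iso

variable {G : Type*} [Group G] [Finite G] {p : ℕ} {y c : G} {R K : Subgroup G}

theorem tr [K.Normal] (hR : (Nat.card R).Coprime R.index) (hK : ⁅R, R⁆ ≤ K) (hc : c ∈ R)
    (h : ∀ g, g * c * g⁻¹ * c⁻¹ ∈ K) (hc' : c ∈ commutator G) : c ∈ K := by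
  have hs := QuotientGroup.mk'_surjective K
  have h1 := H3.inf_commutator_inf_center_le (H := R.map (QuotientGroup.mk' K))
    ((hR.coprime_dvd_left (R.card_map_dvd _)).coprime_dvd_right (R.index_map_dvd hs))
    (show QuotientGroup.mk' K c ∈ _ from ⟨⟨mem_map_of_mem _ hc, by
      rw [commutator_def, ← map_top_of_surjective _ hs, ← map_commutator]
      exact mem_map_of_mem _ hc'⟩, mem_center_iff.2 fun g => by
        obtain ⟨g, rfl⟩ := hs g
        exact commutatorElement_eq_one_iff_mul_comm.1 ((map_commutatorElement _ g c).symm.trans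
          ((QuotientGroup.eq_one_iff _).2 (h g)))⟩)
  rw [← map_commutator, (Subgroup.map_eq_bot_iff _).2 (by rwa [QuotientGroup.ker_mk'])] at h1
  exact (QuotientGroup.eq_one_iff _).1 h1

variable [hp : Fact p.Prime]

theorem meta_false (hp2 : p ≠ 2) [R.Normal] (hP : IsPGroup p R) (hR : ¬ p ∣ R.index)
    (hm : IsMetacyclic R) (h : R ≤ commutator G) (hy : y ∈ R) (hZ : y ∈ center G) : y = 1 := by
  have hc : (Nat.card R).Coprime R.index := by
    obtain ⟨k, hk⟩ := hP.exists_card_eq
    exact hk ▸ (hp.out.coprime_iff_not_dvd.2 hR).pow_left k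
  obtain ⟨A, hA⟩ := exists_right_complement'_of_coprime hc
  have h1 : R ≤ ⁅R, A⁆ ⊔ ⁅R, R⁆ := fun c hc' => (commutator_le.2 (fun x hx g _ => by
    obtain ⟨⟨a, r⟩, rfl⟩ := (hA.symm.existsUnique g).exists
    rw [show ⁅x, (a : G) * r⁆ = ⁅x, (a : G)⁆ * (a * ⁅x, (r : G)⁆ * (a : G)⁻¹) by
      simp only [commutatorElement_def]; group]
    exact mul_mem (mem_sup_left (commutator_mem_commutator hx a.2)) (mem_sup_right
      (Normal.conj_mem inferInstance _ (commutator_mem_commutator hx r.2) _))) : ⁅R, ⊤⁆ ≤ _)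
    (tr hc (commutator_mono le_rfl le_top) hc'
      (fun g => comm_symm_mem (commutator_mem_commutator hc' (mem_top g))) (h hc'))
  have h2 := eq_top_of_sup_commutator hP (H := ⁅R, A⁆.subgroupOf R) (map_injective R.subtype_injective (by
    rw [Subgroup.map_sup, map_subtype_commutator, subgroupOf_map_subtype, inf_eq_left.2
      (commutator_le_left R A), ← MonoidHom.range_eq_map, range_subtype]
    exact le_antisymm (sup_le (commutator_le_left R A) (commutator_le_left R R)) h1))
  exact mem_bot.1 ((Agent.S1447.result p hp2 R A hP hm le_normalizer_of_normal (by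
    rw [← hA.symm.index_eq_card]; exact (hp.out.coprime_iff_not_dvd.2 hR).symm)).2.2.1.le
    ⟨subgroupOf_eq_top.1 h2 hy, hy, mem_centralizer_iff.2 fun a _ => mem_center_iff.1 hZ a⟩)

theorem le_comm (hp2 : p ≠ 2) (hG : commutator G = ⊤) (P : Sylow p G) (h : NW P) :
    (P : Subgroup G) ≤ ⁅normalizer ((P : Subgroup G) : Set G), normalizer ((P : Subgroup G) : Set G)⁆ := by
  by_contra e
  obtain ⟨x, hx, z, hz, W, hW, -, h2⟩ := Agent.S2792.result P P ⟨le_rfl, fun g hg => eq_of_le_of_card_ge hg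
    (card_map_of_injective (MulAut.conj g).injective).ge⟩
    (fun e' => e (by rw [hG, inf_top_eq] at e'; exact e'.le.trans inf_le_right))
  have h3 : ∀ k, (fun y : G => y⁻¹ * z⁻¹ * y * z)^[k] x ∈ (LL P k).map (P : Subgroup G).subtype := fun k => by
    induction k with
    | zero => exact ⟨⟨x, hx⟩, mem_top _, rfl⟩
    | succ k ih =>
      obtain ⟨u, hu, e⟩ := ih
      rw [Function.iterate_succ_apply', ← e]
      exact ⟨_, LL_act (inv_mem hu) ⟨z, hz⟩⁻¹, by simp [commutatorElement_def]⟩
  have := hp.out.two_le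
  exact h2 (map_mono ((LL_le (by omega)).trans (h W hW)) (h3 _))

theorem good (hp2 : p ≠ 2) (hG : commutator G = ⊤) (P : Sylow p G) (hr : PRankLE p 2 P)
    (hy : y ∈ (P : Subgroup G)) (y1 : orderOf y = p)
    (hN : normalizer ((P : Subgroup G) : Set G) ≤ centralizer {y}) : Good p P := by
  have hN' := fun g h => mem_centralizer_singleton_iff.1 (@hN g h)
  refine (dich hp2 P.isPGroup' hr (y := ⟨y, hy⟩) (mem_center_iff.2 fun g => Subtype.ext
    (hN' _ (le_normalizer g.2))) ((orderOf_mk y hy).trans y1)).resolve_right fun ⟨h1, h2⟩ => ?_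
  have h3 := le_comm hp2 hG P h1
  set N := normalizer ((P : Subgroup G) : Set G)
  have hle : (P : Subgroup G) ≤ N := le_normalizer
  have h4 : (P : Subgroup G).subgroupOf N ≤ commutator N := fun g hg => by
    rw [← map_subtype_commutator] at h3
    exact (mem_map_iff_mem N.subtype_injective).1 (h3 hg)
  rcases h2 with h2 | ⟨K, c, k1, k2, k3⟩
  · have := meta_false (R := (P : Subgroup G).subgroupOf N) hp2 (P.subtype hle).isPGroup' (P.subtype hle).not_dvd_index
      (metacyclic_of_surjective h2 (subgroupOfEquivOfLe hle).symm.toMonoidHom (MulEquiv.surjective _)) h4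
      (y := ⟨y, hle hy⟩) hy (mem_center_iff.2 fun g => Subtype.ext (hN' _ g.2))
    exact hp.out.one_lt.ne' (by rw [← y1, Subtype.mk.inj this, orderOf_one])
  · have k4 := fun g : N => k3 ((P : Subgroup G).normalizerMonoidHom g) (Subtype.ext (by
      show g * y * (g : G)⁻¹ = y
      rw [hN' _ g.2, mul_inv_cancel_right]))
    have : (K.map (inclusion hle)).Normal := ⟨fun _ ⟨k, hk, e⟩ g => e ▸ ⟨_, (k4 g).1 k hk, rfl⟩⟩
    refine k2 ((mem_map_iff_mem (inclusion_injective hle)).1 (tr (K := K.map (inclusion hle))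
      (P.subtype hle).card_coprime_index (commutator_le.2 fun a ha b hb => ⟨_, k1
        (commutator_mem_commutator (mem_top ⟨a, ha⟩) (mem_top ⟨b, hb⟩)), rfl⟩) c.2
      (fun g => ⟨_, (k4 g).2, rfl⟩) (h4 c.2)))

omit [Finite G] hp in
theorem iso_conj (h : IsIsolated y) (g : G) : IsIsolated (g * y * g⁻¹) := fun k hk => by
  have := h (g⁻¹ * k * g) (by simpa [mul_assoc] using hk.map (MulAut.conj g⁻¹))
  calc _ = g * (g⁻¹ * k * g * y * (g⁻¹ * k * g)⁻¹) * g⁻¹ := by group
    _ = _ := by rw [this]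

omit hp in
theorem rk_inj {H : Type*} [Group H] {n : ℕ} (h : PRankLE p n G) (f : H →* G)
    (hf : Function.Injective f) : PRankLE p n H := fun A _ hA =>
  (card_map_of_injective hf).ge.trans (h (A.map f) inferInstance
    fun _ ⟨a, ha, e⟩ => by rw [← e, ← map_pow, hA a ha, map_one])

theorem cyc (hp2 : p ≠ 2) (hr : PRankLE p 2 G) (y1 : orderOf y = p) (hy : IsIsolated y)
    (hR : IsPGroup p R) (h : ∀ g, g * y * g⁻¹ ∉ R) : IsCyclic R := by
  by_contra hc
  obtain ⟨E, -, -, hE, hE'⟩ := exists_normal_Ep2 hp2 hR ⊤ fun _ => hc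
    (isCyclic_of_surjective _ topEquiv.surjective)
  obtain ⟨S, hS⟩ := hR.exists_le_sylow
  obtain ⟨T, hT⟩ := IsPGroup.exists_le_sylow (P := zpowers y) (IsPGroup.of_card (n := 1) (by
    rw [Nat.card_zpowers, y1, pow_one]))
  obtain ⟨g, rfl⟩ := MulAction.exists_smul_eq G T S
  have h1 : g * y * g⁻¹ ∈ (g • T : Sylow p G) := smul_mem_pointwise_smul _ (MulAut.conj g) _ (hT (mem_zpowers y))
  have h2 : orderOf (g * y * g⁻¹) = p := ((MulAut.conj g).orderOf_eq y).trans y1
  have h3 := abelem_sup (abelem_zpowers (h2 ▸ pow_orderOf_eq_one _)) (abelem_map_subtype.2 hE)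
    (zpowers_le.2 (centralizer_le (SetLike.coe_mono ((map_subtype_le E).trans hS))
      (Agent.S2968.result _ _ h1 ⟨1, by rw [h2, pow_one]⟩ (iso_conj hy g)).1.2))
  exact h g (map_subtype_le E ((eq_of_le_of_card_ge le_sup_right ((hr _ h3.1 h3.2).trans_eq (by
    rw [card_subtype, hE']))).ge (mem_sup_left (mem_zpowers _))))

end H25.Iso
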