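import Cfsg.Agent.H25.Cs0
import Cfsg.Agent.H18.G1b
import Cfsg.Agent.S0041

/-! Automizers of abelian subgroups all of whose noncentral elements have the same centralizer. -/

set_option autoImplicit false
set_option linter.unusedSectionVars false

open Cfsg Subgroup
namespace H25.Ito
open H19
open scoped commutatorElement
export H19 (Syl cj exists_syl syl_sylow cj_inj cj_lt_cj cj_le_iff cj_cj_inv card_cj cj_le_cj cj_mono
  cj_top cj_bot relIndex_cj cj_def conj_mem_cj cj_sup cj_cj cj_inv_cj cj_zpowers cj_le_of_mem cj_inf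
  orderOf_conj' le_cj_iff cj_one mem_cj mem_cj' cj_eq_iff cj_eq_bot)

variable {G : Type*} [Group G] [Finite G] {p r s t : ℕ} {A B U V W X Y : Subgroup G} {x y g b : G}

theorem mem_Oc_of_ab {π : Set ℕ} (h : Ab V) (hb : b ∈ V) (hp : PiE π b) : b ∈ Oc π V :=
  (nil_Oc_hall (nil_of_ab h) π).mem_Oc hb hp

theorem el1_center (hT : PG t U) (h0 : U ≠ ⊥) (hle : U ≤ W) (hE : ∀ A, ¬ El t 2 A W) :
    El t 1 (Ohm1 t Z(U)) W := by
  obtain ⟨n, hn⟩ := abelem_el (hT.prime_of_ne_bot h0) (abelem_Ohm1_center t U)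
    ((Ohm1_le _ _).trans (inf_le_left.trans hle))
  match n, hn with
  | 0, hn => exact absurd ((eq_bot_iff_card _).2 (by simpa using hn.card)) (hT.Ohm1_center_ne_bot h0)
  | 1, hn => exact hn
  | n + 2, hn =>
    obtain ⟨C, hC⟩ := hn.exists_sub (k := 2) (by omega)
    exact absurd (hC.mono hn.le) (hE C)

/-- `W` acts on the abelian group `V`, all its nonidentity elements with the same fixed points -/
structure SR (V W : Subgroup G) : Prop where
  ab : Ab V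
  norm : W ≤ N(V)
  fix : ∀ w ∈ W, w ≠ 1 → V ⊓ C[w] ≤ C(W)
  two : ∀ s : ℕ, ∃ r, r.Prime ∧ r ≠ s ∧ ∃ b ∈ V, PiE {r} b ∧ b ∉ C(W)

namespace SR
variable (h : SR V W)
include h

theorem key (hb : b ∈ V) (br : PiE {r} b) (hb' : b ∉ C(W)) (hU : U ≤ W) (h0 : U ≠ ⊥)
    (hr : PiG {r}ᶜ U) : ⁅Oc {r} V, U⁆ ≠ ⊥ ∧ ∀ w ∈ W, w ≠ 1 → ⁅Oc {r} V, U⁆ ⊓ C[w] = ⊥ := by
  have n1 : U ≤ N(Oc {r} V) := norms_Oc _ (hU.trans h.norm)
  obtain ⟨u, hu, u1⟩ := exists_ne_one h0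
  refine ⟨fun e => hb' (h.fix u (hU hu) u1 ⟨hb, cent_le_cent1 hu
    (commg_eq_bot.1 e (mem_Oc_of_ab h.ab hb br))⟩), fun w hw w1 => le_bot_iff.1 ?_⟩
  rw [← ab_commg_inf_cent (comm_mono h.ab (Oc_le {r} V)) n1 ((Oc_pi _ _).coprime hr)]
  exact le_inf inf_le_left ((inf_le_inf_right _ ((commg_le_left n1).trans (Oc_le _ _))).trans
    ((h.fix w hw w1).trans (cent_mono hU)))

theorem cyc (hA : A ≤ W) (hU : U ≤ W) (h0 : U ≠ ⊥) (hs : PG s U) (hn : A ≤ N(U))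
    (hc : Ab A ∨ ∃ p q : ℕ, p.Prime ∧ q.Prime ∧ #A = p * q) : Cyc A := by
  obtain ⟨r, -, rs, b, hb, br, hb'⟩ := h.two s
  obtain ⟨h1, h2⟩ := h.key hb br hb' hU h0 (hs.sing_ne rs.symm)
  haveI := comm_mono h.ab ((commg_le_left (norms_Oc {r} (hU.trans h.norm))).trans (Oc_le _ _))
  exact Cfsg.Agent.S0041.result A _ h1 (norms_comm (norms_Oc _ (hA.trans h.norm)) hn)
    (fun a ha a1 => h2 a (hA ha) a1) hc

theorem noE (hA : El t 2 A W) : False :=
  hA.not_cyc (h.cyc hA.le hA.le hA.ne_bot hA.pg le_normalizer (.inl hA.comm))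

theorem pg (hb : b ∈ V) (bs : PiE {s} b) (hb' : b ∉ C(W)) (hs : s.Prime) (hd : s ∣ #W) :
    PG s W := by
  have k1 : ∀ {t X Y}, El s 1 X W → El t 1 Y W → t ≠ s → ¬ X ≤ N(Y) := fun hX hY ts hn => by
    obtain ⟨h1, h2⟩ := h.key hb bs hb' hY.le hY.ne_bot (hY.pg.sing_ne ts)
    obtain ⟨x, x1, -, rfl⟩ := hX.exists_gen
    have n1 := norms_Oc {s} (hY.le.trans h.norm)
    refine ((Oc_pi _ _).of_le (commg_le_left n1)).meet_cent hX.pg
      (norms_comm (norms_Oc _ (hX.le.trans h.norm)) hn) h1 ?_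
    rw [cent_zpowers]
    exact h2 x (hX.le (mem_zpowers x)) x1
  have k2 : ∀ {t X Y}, El s 1 X W → El t 1 Y W → t ≠ s → ¬ Y ≤ N(X) := fun hX hY ts hn =>
    k1 hX hY ts (norms_of_comm (comm_of_cyclic (h.cyc (sup_le hX.le hY.le) hX.le hX.ne_bot hX.pg
      (sup_le le_normalizer hn) (.inr ⟨_, _, hs, hY.prime, by
        rw [card_sup_of_disjoint hn (hX.pg.inf_eq_bot (hY.pg.sing_ne ts)), hX.card1, hY.card1]⟩)))
      le_sup_left le_sup_right)
  haveI := Fact.mk hs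
  have npc := H18.hall_of_hasNPC hs (H3.frobenius_npc_subgroup (p := s) (H := W)
    fun T hT hp h0 g hg hn hc => by
      by_contra hne
      obtain ⟨t, Y, hY⟩ := exists_el1_zpowers (x := g) fun e => hne (e ▸ one_mem _)
      have hX := el1_center (.of_isPGroup hs hp) h0 hT fun A hA => h.noE hA
      refine k2 hX (hY.mono (zpowers_le.2 hg)) (fun e => ?_)
        (hY.le.trans (zpowers_le.2 (norm_le_norm_Ohm1_center s T hn)))
      have := hY.dvd
      rw [Nat.card_zpowers, e] at this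
      exact hs.one_lt.ne' (Nat.Coprime.eq_one_of_dvd hc.symm this))
  by_contra hne
  have h0 : Oc {s}ᶜ W ≠ ⊥ := fun e => hne (by
    have := (e ▸ npc).pi'_of_eq_bot
    rwa [compl_compl] at this)
  obtain ⟨t, ht, hd'⟩ := exists_prime_dvd_card h0
  obtain ⟨X, hX⟩ := exists_el1 hs hd
  obtain ⟨T, hT, hn⟩ := inv_syl_exists t (hX.le.trans (Oc_norm {s}ᶜ W))
    ((Oc_pi _ _).coprime' hX.pg) (.inl hX.pg.sol)
  exact k1 hX (el1_center hT.pi (hT.sne_bot ht hd') (hT.le.trans (Oc_le _ _)) fun A hA => h.noE hA)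
    ((Oc_pi _ _).mem ht hd') (hn.trans (norm_le_norm_Ohm1_center t T))

end SR

/-- an abelian subgroup whose noncentral elements have the same centralizer, not primary modulo
the centre -/
structure TB (B : Subgroup G) : Prop where
  ab : Ab B
  cent : ∀ b ∈ B, b ∉ center G → C[b] ≤ C(B)
  two : ∀ s : ℕ, ∃ r, r.Prime ∧ r ≠ s ∧ ∃ b ∈ B, PiE {r} b ∧ b ∉ center G

/-- the action of the normalizer, inside the holomorph -/
def hol (B : Subgroup G) : N(B) →* B ⋊[MonoidHom.id _] MulAut B :=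
  SemidirectProduct.inr.comp B.normalizerMonoidHom

theorem hol_ker {x : N(B)} : hol B x = 1 ↔ (x : G) ∈ C(B) := by
  rw [← mem_subgroupOf, ← normalizerMonoidHom_ker, MonoidHom.mem_ker, hol, MonoidHom.comp_apply,
    map_eq_one_iff _ SemidirectProduct.inr_injective]

theorem hol_conj (x : N(B)) (b : B) : hol B x * SemidirectProduct.inl b * (hol B x)⁻¹ =
    SemidirectProduct.inl ⟨x * b * x⁻¹, conj_mem_of_norm x.2 b.2⟩ := by
  rw [hol, MonoidHom.comp_apply, ← map_inv, ← SemidirectProduct.inl_aut]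
  rfl

theorem hol_comm {x : N(B)} {b : B} : SemidirectProduct.inl b ∈ C[hol B x] ↔ (b : G) ∈ C[(x : G)] := by
  rw [mem_cent1_symm, H24.mem_cent_iff_conj, hol_conj, SemidirectProduct.inl_inj, Subtype.ext_iff,
    mem_cent1_symm, H24.mem_cent_iff_conj]
  rfl

instance : Finite (B ⋊[MonoidHom.id _] MulAut B) :=
  Finite.of_equiv _ SemidirectProduct.equivProd.symm

namespace TB
variable (h : TB B)
include h

theorem fix (hg : g ∉ C(B)) (hb : b ∈ B) (hc : b ∈ C[g]) : b ∈ center G :=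
  by_contra fun hz => hg (h.cent b hb hz (mem_cent1_symm.1 hc))

theorem notc (hb : b ∈ B) (hz : b ∉ center G) (hg : g ∈ N(B)) (hg' : g ∉ C(B)) :
    SemidirectProduct.inl ⟨b, hb⟩ ∉ C((hol B).range) := fun hc =>
  hz (h.fix hg' hb ((hol_comm (x := ⟨g, hg⟩) (b := ⟨b, hb⟩)).1 (cent_le_cent1 (H := (hol B).range) ⟨_, rfl⟩ hc)))

theorem sr (hg : g ∈ N(B)) (hg' : g ∉ C(B)) : SR (SemidirectProduct.inl : B →* _).range
    (hol B).range := by
  haveI := h.ab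
  refine ⟨inferInstance, ?_, ?_, fun s => ?_⟩
  · rintro _ ⟨x, rfl⟩
    refine mem_norm_of_cj_le fun y hy => ?_
    obtain ⟨_, ⟨b, rfl⟩, rfl⟩ := mem_cj'.1 hy
    exact ⟨_, (hol_conj x b).symm⟩
  · rintro _ ⟨x, rfl⟩ x1 _ ⟨⟨b, rfl⟩, hc⟩
    have := h.fix (fun e => x1 (hol_ker.2 e)) b.2 (hol_comm.1 hc)
    refine le_cent1_iff.1 ?_
    rintro _ ⟨y, rfl⟩
    exact mem_cent1_symm.1 (hol_comm.2 (mem_cent1.2 (mem_center_iff.1 this _).symm))
  · obtain ⟨r, hr, rs, b, hb, br, hz⟩ := h.two s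
    refine ⟨r, hr, rs, _, ⟨⟨b, hb⟩, rfl⟩, ?_, h.notc hb hz hg hg'⟩
    rw [PiE, orderOf_injective _ SemidirectProduct.inl_injective]
    simpa using br

/-- the automizer is an `s`-group if `s` divides both its order and that of `B` modulo the centre -/
theorem pg (hs : s.Prime) (hb : b ∈ B) (bs : PiE {s} b) (hz : b ∉ center G) (hg : g ∈ N(B))
    (hg' : g ∉ C(B)) (gs : PiE {s} g) (hx : x ∈ N(B)) (xs : PiE {s}ᶜ x) : x ∈ C(B) := by
  have h1 := (h.sr hg hg').pg (s := s) ⟨⟨b, hb⟩, rfl⟩ (by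
    rw [PiE, orderOf_injective _ SemidirectProduct.inl_injective]
    simpa using bs) (h.notc hb hz hg hg') hs (by
      have h2 : PiE {s} (hol B ⟨g, hg⟩) := gs.dvd (by simpa using orderOf_map_dvd (hol B) ⟨g, hg⟩)
      exact (h2.dvd_of_ne_one fun e => hg' (hol_ker.1 (orderOf_eq_one_iff.1 e))).2.trans
        (orderOf_dvd_card' ⟨_, rfl⟩))
  exact (hol_ker (x := ⟨x, hx⟩)).1 ((h1.elt ⟨_, rfl⟩).e_eq_one
    (xs.dvd (by simpa using orderOf_map_dvd (hol B) ⟨x, hx⟩)))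

/-- the automizer has rank at most one -/
theorem rank (ht : t.Prime) (hx : x ∈ N(B)) (hx' : x ∉ C(B)) (xt : x ^ t ∈ C(B)) (hy : y ∈ N(B))
    (yt : y ^ t ∈ C(B)) (hc : x * y = y * x) : ∃ i : ℤ, y * x ^ i ∈ C(B) := by
  by_contra hne
  push Not at hne
  have e1 : ∀ {z : G} (hz : z ∈ N(B)), z ∉ C(B) → z ^ t ∈ C(B) →
      El t 1 (zpowers (hol B ⟨z, hz⟩)) (hol B).range := fun hz h1 h2 =>
    el1_zpowers' ht ⟨_, rfl⟩ (by rw [← map_pow]; exact hol_ker.2 h2) fun e => h1 (hol_ker.1 e)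
  refine (h.sr hx hx').noE ((e1 hx hx' xt).sup2 (e1 hy (by simpa using hne 0) yt) ?_ fun e => ?_)
  · rw [cent_zpowers, zpowers_le, mem_cent1, ← map_mul, ← map_mul]
    exact congrArg _ (Subtype.ext hc)
  · obtain ⟨i, hi⟩ := e.ge (mem_zpowers _)
    refine hne (-i) ((hol_ker (x := ⟨y, hy⟩ * ⟨x, hx⟩ ^ (-i))).1 ?_)
    rw [map_mul, map_zpow, ← hi]
    simp

end TB

end H25.Ito
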