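import Cfsg.Agent.H25.Ito1
import Cfsg.Agent.S4037

/-! Groups whose noncentral `p'`-elements have centralizers `P × B`, `B` abelian of fixed order. -/

set_option autoImplicit false
set_option linter.unusedSectionVars false

open Cfsg Subgroup
namespace H25.Ito
open H19
open scoped commutatorElement

variable {G : Type*} [Group G] [Finite G] {p r s t : ℕ} {A B K U V W X Y : Subgroup G}
  {x y g b u v w : G}

theorem exists_pow_step (hs : s.Prime) (hx : PiE {s} x) (h : x ∉ K) :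
    ∃ y ∈ zpowers x, y ∉ K ∧ y ^ s ∈ K := by
  obtain ⟨k, hk⟩ := (pe_iff hs).1 hx
  have h1 : x ^ s ^ k ∈ K := by rw [← hk, pow_orderOf_eq_one]; exact one_mem _
  clear hk
  induction k with
  | zero => exact absurd (by simpa using h1) h
  | succ k ih =>
    by_cases h2 : x ^ s ^ k ∈ K
    · exact ih h2
    · exact ⟨_, npow_mem_zpowers x _, h2, by rwa [← pow_mul, ← pow_succ]⟩

theorem center_le_cent (H : Subgroup G) : center G ≤ C(H) := fun _ hz =>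
  mem_cent.2 fun y _ => mem_center_iff.1 hz y

theorem center_le_cent1 (x : G) : center G ≤ C[x] := cent_zpowers x ▸ center_le_cent _

theorem conj_mem_center : g * x * g⁻¹ ∈ center G ↔ x ∈ center G := by
  rw [← conj_mem_cj (g := g) (x := x), cj_of_mem_norm (normalIn_top.norm trivial)]

theorem exists_nc (hw : w ∉ center G) (wr : PiE {r} w)
    (h : ∀ m, PiN {r} m → m ∣ #C[w] → m ∣ #K) : ∃ b ∈ K, PiE {r} b ∧ b ∉ center G := by
  obtain ⟨P, hP, hw'⟩ := (piG_zpowers.2 wr).exists_syl (zpowers_le.2 (mem_cent1_self w))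
  obtain ⟨Q, hQ⟩ := exists_syl r K
  by_contra hne
  push Not at hne
  have h1 : Q ≤ center G := fun b hb => hne b (hQ.le hb) (hQ.pi.elt hb)
  have h2 := hP.le_of_norm (h1.trans (center_le_cent1 w)) hQ.pi
    (h1.trans ((center_le_cent P).trans (cent_le_norm P)))
  rw [eq_of_le_of_card_eq h2 (Nat.dvd_antisymm (card_dvd h2)
    (hQ.dvd hP.pi (h _ hP.pi (card_dvd hP.le))))] at h1
  exact hw (h1 (hw' (mem_zpowers w)))

theorem commg_le_center (h : ⁅x, y⁆ ∈ center G) : C[x * y * x⁻¹] = C[y] := by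
  rw [show x * y * x⁻¹ = y * (y⁻¹ * ⁅x, y⁆ * y⁻¹⁻¹) by rw [commutatorElement_def]; group]
  exact H24.cent_mul_center _ (conj_mem_center.2 h)

/-- a `p`-group acting on a noncentral `p`-group fixes a noncentral element modulo the centre -/
theorem exists_fix_mod_center (hU : PG s U) (hT : PG s X) (hn : X ≤ N(U)) (h : ¬ U ≤ center G) :
    ∃ v ∈ U, v ∉ center G ∧ ∀ x ∈ X, ⁅x, v⁆ ∈ center G := by
  have nZ : ∀ H : Subgroup G, H ≤ N(center G) := fun H => normalIn_top.norms le_top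
  obtain ⟨_, ⟨⟨v, hv, rfl⟩, h2⟩, h1⟩ := exists_ne_one ((hU.quo (center G)).meet_cent (hT.quo _)
    (quo_norms hn) fun e => h ((quo_eq_bot_iff (nZ U)).1 e))
  refine ⟨v, hv, fun e => h1 (qmk_eq_one.2 e), fun x hx => ?_⟩
  have h3 : quo (center G) (zpowers (v : G)) ≤ C(quo (center G) X) := by
    rw [quo_zpowers v.2, zpowers_le]; exact h2
  exact (quo_cents_iff (nZ _) (nZ _)).1 (cents_symm h3)
    (commutator_mem_commutator hx (mem_zpowers _))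

theorem mem_Oc_of_cs (hO : Oc {s}ᶜ (⊤ : Subgroup G) = ⊥) (hp : p.Prime) (hs : s.Prime) (ps : s ≠ p)
    (vs : PiE {s} v) (hv : PiN {p} C[v].index) : v ∈ Oc {s} (⊤ : Subgroup G) := by
  obtain ⟨k, hk⟩ := hv.exists_pow (H24.cs_ne_zero v)
  have h1 : Sol (normalClosure {v}) := Cfsg.Agent.S4037.result v hp k (by
    rw [← hk, ← Nat.card_coe_set_eq]; exact H24.card_carrier_mk v)
  have hK : normalClosure {v} ⊴ ⊤ := normalIn_top
  have h2 := cent_Fit_le h1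
  rw [Fit_eq_Oc (le_bot_iff.1 (hO ▸ Oc_le_Oc hK))] at h2
  obtain ⟨S, hS, hv'⟩ := syl_le_of_index hs (hv.not_dvd' hs ps)
  exact Oc_le_Oc hK (h2 ⟨subset_normalClosure rfl,
    cent_mono ((Oc_le_Oc hK).trans (Oc_le_hall hS)) (le_cent1_iff.1 hv')⟩)

namespace TB
variable (h : TB B)
include h

theorem cent_Oc (hb : b ∈ B) (bs : PiE {s} b) (hz : b ∉ center G) : C(Oc {s} B) = C(B) :=
  le_antisymm ((cent_le_cent1 (mem_Oc_of_ab h.ab hb bs)).trans (h.cent b hb hz))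
    (cent_mono (Oc_le _ _))

theorem nsyl (hN : N(C(B)) ≤ N(B)) (hs : s.Prime) (hb : b ∈ B) (bs : PiE {s} b)
    (hz : b ∉ center G) (hC : Syl s (Oc {s} B) C(B)) (hn : ¬ Syl s (Oc {s} B) ⊤) :
    ∃ g ∈ N(B), g ∉ C(B) ∧ PiE {s} g ∧ g ^ s ∈ C(B) := by
  obtain ⟨Q, h1, h2, -, h3⟩ := (Oc_pi {s} B).exists_lt_norm le_top hn
  obtain ⟨x, hx, hx'⟩ := SetLike.not_le_iff_exists.1 fun e => h1.ne' (hC.max h1.le e h2)
  obtain ⟨y, hy, y1, y2⟩ := exists_pow_step hs (h2.elt hx) hx'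
  refine ⟨y, hN ?_, y1, (h2.elt hx).e_of_mem_zpowers hy, y2⟩
  rw [← h.cent_Oc hb bs hz]
  exact norm_le_norm_cent _ (h3 (zpowers_le.2 hx hy))

theorem exists_syl (hN : N(C(B)) ≤ N(B)) (hC : ∀ s, ∀ b ∈ B, PiE {s} b → b ∉ center G →
    Syl s (Oc {s} B) C(B)) :
    ∃ r, r.Prime ∧ (∃ b ∈ B, PiE {r} b ∧ b ∉ center G) ∧ Syl r (Oc {r} B) ⊤ := by
  obtain ⟨s, hs, -, b, hb, bs, hz⟩ := h.two 0
  obtain ⟨r, hr, rs, c, hc, cr, hz'⟩ := h.two s
  by_contra hne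
  push Not at hne
  obtain ⟨g, g1, g2, g3, -⟩ := h.nsyl hN hs hb bs hz (hC s b hb bs hz) (hne s hs ⟨b, hb, bs, hz⟩)
  obtain ⟨x, x1, x2, x3, -⟩ := h.nsyl hN hr hc cr hz' (hC r c hc cr hz') (hne r hr ⟨c, hc, cr, hz'⟩)
  exact x2 (h.pg hs hb bs hz g1 g2 g3 x1 (x3.sing_ne rs))

end TB

/-- the hypothesis on the centralizers of the noncentral `p'`-elements -/
structure LP (p : ℕ) (G : Type*) [Group G] : Prop where
  cen : ∀ g u : G, g ∉ center G → PiE {p}ᶜ g → PiE {p}ᶜ u → u ∈ C[g] → C[g] ≤ C[u]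
  ord : ∀ g u : G, g ∉ center G → PiE {p}ᶜ g → u ∉ center G → PiE {p}ᶜ u →
    ∀ m, PiN {p}ᶜ m → m ∣ #C[g] → m ∣ #C[u]
  two : ∀ s : ℕ, ∃ r, r.Prime ∧ r ≠ s ∧ r ≠ p ∧ ∃ b : G, PiE {r} b ∧ b ∉ center G

/-- the `p'`-part of the centralizer -/
def Bq (p : ℕ) (g : G) : Subgroup G := Oc {p}ᶜ C[g]

theorem cj_Bq : cj x (Bq p g) = Bq p (x * g * x⁻¹) := by rw [Bq, cj_Oc, cj_cent1, Bq]

theorem mem_norm_Bq (h : ⁅x, g⁆ ∈ center G) : x ∈ N(Bq p g) := by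
  rw [mem_norm_iff_cj, cj_Bq, Bq, commg_le_center h, Bq]

namespace LP
variable (h : LP p G) (hg : g ∉ center G) (gp : PiE {p}ᶜ g)
include h hg gp

theorem mem : u ∈ Bq p g ↔ u ∈ C[g] ∧ PiE {p}ᶜ u :=
  ⟨fun hu => ⟨Oc_le _ _ hu, (Oc_pi _ _).elt hu⟩, fun ⟨h1, h2⟩ =>
    le_Oc (normal_of_le_center (zpowers_le.2 ⟨h1, le_cent1_iff.1 (h.cen g u hg gp h2 h1)⟩))
      (piG_zpowers.2 h2) (mem_zpowers u)⟩

theorem self : g ∈ Bq p g := (h.mem hg gp).2 ⟨mem_cent1_self g, gp⟩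

theorem hall : Hall {p}ᶜ (Bq p g) C[g] :=
  hall_of_syl (Oc_le _ _) (Oc_pi _ _) fun s _ sp _ => by
    obtain ⟨P, hP⟩ := exists_syl s C[g]
    exact ⟨P, hP, fun u hu => (h.mem hg gp).2 ⟨hP.le hu, (hP.pi.elt hu).sing sp⟩⟩

theorem cent : C(Bq p g) = C[g] :=
  le_antisymm (cent_le_cent1 (h.self hg gp)) (cents_symm (H := Bq p g) fun u hu => le_cent1_iff.1
    (h.cen g u hg gp ((h.mem hg gp).1 hu).2 ((h.mem hg gp).1 hu).1))

theorem cent1 (hu : u ∈ Bq p g) (hz : u ∉ center G) : C[u] = C[g] :=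
  le_antisymm (h.cen u g hz ((h.mem hg gp).1 hu).2 gp (mem_cent1_symm.1 ((h.mem hg gp).1 hu).1))
    (h.cent hg gp ▸ cent_le_cent1 hu)

theorem eq (hu : u ∈ Bq p g) (hz : u ∉ center G) : Bq p u = Bq p g := by
  rw [Bq, h.cent1 hg gp hu hz, Bq]

theorem nc (sp : s ≠ p) (hw : w ∉ center G) (ws : PiE {s} w) :
    ∃ b ∈ Bq p g, PiE {s} b ∧ b ∉ center G := by
  obtain ⟨b, h1, h2, h3⟩ := exists_nc hw ws fun m hm => h.ord w g hw (ws.sing_ne sp) hg gp m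
    (hm.sing_ne sp)
  exact ⟨b, (h.mem hg gp).2 ⟨h1, h2.sing_ne sp⟩, h2, h3⟩

theorem tb : TB (Bq p g) := by
  refine ⟨comm_iff_le_cent.2 ((h.cent hg gp).symm ▸ Oc_le _ _), fun b hb hz => ?_, fun s => ?_⟩
  · rw [h.cent hg gp, h.cent1 hg gp hb hz]
  · obtain ⟨r, hr, rs, rp, b, br, hz⟩ := h.two s
    exact ⟨r, hr, rs, h.nc hg gp rp hz br⟩

theorem norm : N(C(Bq p g)) ≤ N(Bq p g) := by
  rw [h.cent hg gp]; exact norm_le_norm_Oc _ _

theorem syl (sp : s ≠ p) : Syl s (Oc {s} (Bq p g)) C(Bq p g) := by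
  rw [h.cent hg gp]
  exact (h.hall hg gp).sub_syl sp (nil_Oc_hall (nil_of_ab (h.tb hg gp).ab) _)

theorem syl_top (hu : u ∉ center G) (up : PiE {p}ᶜ u) (sp : s ≠ p)
    (hS : Syl s (Oc {s} (Bq p g)) ⊤) : Syl s (Oc {s} (Bq p u)) ⊤ :=
  hS.of_card_dvd le_top (Oc_pi _ _) ((h.syl hu up sp).dvd hS.pi (by
    rw [h.cent hu up]
    exact h.ord g u hg gp hu up _ (hS.pi.sing_ne sp) (card_dvd ((Oc_le _ _).trans (Oc_le _ _)))))

theorem exists_syl : ∃ r, r.Prime ∧ r ≠ p ∧ (∃ b : G, PiE {r} b ∧ b ∉ center G) ∧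
    Syl r (Oc {r} (Bq p g)) ⊤ := by
  have k : ∀ {s b}, b ∈ Bq p g → PiE {s} b → b ∉ center G → s ≠ p := by
    rintro s b hb bs hz rfl
    exact hz ((bs.e_eq_one ((h.mem hg gp).1 hb).2).symm ▸ one_mem _)
  obtain ⟨r, hr, ⟨b, hb, br, hz⟩, hS⟩ := (h.tb hg gp).exists_syl (h.norm hg gp)
    fun s b hb bs hz => h.syl hg gp (k hb bs hz)
  exact ⟨r, hr, k hb br hz, ⟨b, br, hz⟩, hS⟩

theorem conj (hu : u ∉ center G) (up : PiE {p}ᶜ u) : ∃ x, cj x (Bq p g) = Bq p u := by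
  obtain ⟨r, -, rp, ⟨w, wr, hw⟩, hS⟩ := h.exists_syl hg gp
  obtain ⟨x, -, e⟩ := hS.sconj (h.syl_top hg gp hu up rp hS)
  obtain ⟨b, hb, br, hz⟩ := h.nc hg gp rp hw wr
  refine ⟨x, ?_⟩
  rw [← h.eq hg gp hb hz, cj_Bq]
  refine h.eq hu up (Oc_le {r} _ ?_) (mt conj_mem_center.1 hz)
  rw [← e, conj_mem_cj]
  exact mem_Oc_of_ab (h.tb hg gp).ab hb br

variable (hs : s.Prime) (sp : s ≠ p) (hn : ¬ Syl s (Oc {s} (Bq p g)) ⊤)
include hs sp hn

theorem nc' : ∃ b ∈ Bq p g, PiE {s} b ∧ b ∉ center G := by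
  obtain ⟨S, hS⟩ := H19.exists_syl s (⊤ : Subgroup G)
  by_cases h1 : S ≤ center G
  · have h2 : S ≤ Oc {s} (Bq p g) := fun x hx => mem_Oc_of_ab (h.tb hg gp).ab ((h.mem hg gp).2
      ⟨center_le_cent1 g (h1 hx), (hS.pi.elt hx).sing_ne sp⟩) (hS.pi.elt hx)
    exact absurd (hS.max h2 le_top (Oc_pi _ _) ▸ hS) hn
  · obtain ⟨x, hx, hx'⟩ := SetLike.not_le_iff_exists.1 h1
    exact h.nc hg gp sp hx' (hS.pi.elt hx)

theorem step : ∃ x ∈ N(Bq p g), x ∉ C(Bq p g) ∧ PiE {s} x ∧ x ^ s ∈ C(Bq p g) := by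
  obtain ⟨b, hb, bs, hz⟩ := h.nc' hg gp hs sp hn
  exact (h.tb hg gp).nsyl (h.norm hg gp) hs hb bs hz (h.syl hg gp sp) hn

theorem pg (hx : x ∈ N(Bq p g)) (xs : PiE {s}ᶜ x) : x ∈ C(Bq p g) := by
  obtain ⟨b, hb, bs, hz⟩ := h.nc' hg gp hs sp hn
  obtain ⟨y, y1, y2, y3, -⟩ := h.step hg gp hs sp hn
  exact (h.tb hg gp).pg hs hb bs hz y1 y2 y3 hx xs

theorem fixed : ∃ v ∈ Bq p g, PiE {s} v ∧ v ∉ center G ∧ ∀ x ∈ N(Bq p g), ⁅x, v⁆ ∈ center G := by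
  obtain ⟨b, hb, bs, hz⟩ := h.nc' hg gp hs sp hn
  obtain ⟨T, hT⟩ := H19.exists_syl s N(Bq p g)
  obtain ⟨v, hv, v1, v2⟩ := exists_fix_mod_center (Oc_pi {s} (Bq p g)) hT.pi
    (norms_Oc _ hT.le) fun e => hz (e (mem_Oc_of_ab (h.tb hg gp).ab hb bs))
  refine ⟨v, Oc_le _ _ hv, (Oc_pi _ _).elt hv, v1, fun x hx => ?_⟩
  have h1 : N(Bq p g) ≤ T ⊔ C(Bq p g) := le_of_exists_syl fun t ht _ => by
    by_cases e : t = s
    · exact ⟨T, e ▸ hT, le_sup_left⟩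
    · obtain ⟨Q, hQ⟩ := H19.exists_syl t N(Bq p g)
      exact ⟨Q, hQ, fun y hy => mem_sup_right (h.pg hg gp hs sp hn (hQ.le hy)
        ((hQ.pi.elt hy).sing_ne e))⟩
  obtain ⟨y, hy, c, hc, rfl⟩ := (mem_sup_of_norm' (norms_cent hT.le)).1 (h1 hx)
  rw [commutatorElement_def, mul_assoc y c v, ← mem_cent.1 hc v (Oc_le _ _ hv)]
  simpa [commutatorElement_def, mul_assoc] using v2 y hy

theorem index (hp : p.Prime) : PiN {p} N(Bq p g).index := fun t ht hd => by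
  by_contra tp
  rw [← relIndex_top_right] at hd
  by_cases hS : Syl t (Oc {t} (Bq p g)) ⊤
  · exact hS.not_dvd_relIndex ht ((Oc_le _ _).trans le_normalizer) hd
  obtain ⟨x, x1, x2, x3, -⟩ := h.step hg gp ht tp hS
  obtain rfl : t = s := by_contra fun e => x2 (h.pg hg gp hs sp hn x1 (x3.sing_ne e))
  obtain ⟨S, hS, h1⟩ := (Oc_pi {t} (Bq p g)).exists_syl le_top
  obtain ⟨b, hb, bs, hz⟩ := h.nc' hg gp hs sp hn
  obtain ⟨z, z1, z2, z3⟩ := exists_fix_mod_center hS.pi hS.pi le_normalizer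
    fun e => hz (e (h1 (mem_Oc_of_ab (h.tb hg gp).ab hb bs)))
  obtain ⟨y, e⟩ := h.conj z2 ((hS.pi.elt z1).sing_ne sp) hg gp
  rw [← e, ← cj_norm] at hd
  exact (hS.Jtop y).not_dvd_relIndex ht (cj_mono y fun w hw => mem_norm_Bq (z3 w hw)) hd

theorem symm (hx : x ∈ N(Bq p g)) (hx' : x ∉ C(Bq p g)) (xs : PiE {s} x)
    (xp : x ^ s ∈ C(Bq p g)) : ∀ y ∈ N(Bq p x), ⁅y, x⁆ ∈ center G := by
  have T := h.tb hg gp
  have xz : x ∉ center G := fun e => hx' (center_le_cent _ e)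
  have xq := xs.sing_ne sp
  have T' := h.tb xz xq
  have hn' : ¬ Syl s (Oc {s} (Bq p x)) ⊤ := fun e => hn (h.syl_top xz xq hg gp sp e)
  have pw : ∀ {a c : G}, ⁅a, c⁆ ∈ center G → a ^ s ∈ C[c] → c ^ s ∈ C[a] := fun {a c} h1 h2 => by
    have e1 : ∀ n : ℕ, a ^ n * c * (a ^ n)⁻¹ = ⁅a, c⁆ ^ n * c := fun n => by
      induction n with
      | zero => simp
      | succ n ih =>
        rw [pow_succ' a, mul_inv_rev, show a * a ^ n * c * ((a ^ n)⁻¹ * a⁻¹) =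
          a * (a ^ n * c * (a ^ n)⁻¹) * a⁻¹ by group, ih, ← mul_assoc,
          mem_center_iff.1 (pow_mem h1 n) a, pow_succ, commutatorElement_def]
        group
    have e2 : ⁅a, c⁆ ^ s = 1 := by
      have := e1 s
      rw [H24.mem_cent_iff_conj.1 h2] at this
      simpa using this.symm
    rw [mem_cent1_symm, H24.mem_cent_iff_conj, ← conj_pow, show a * c * a⁻¹ = ⁅a, c⁆ * c by
      rw [commutatorElement_def]; group, Commute.mul_pow (mem_center_iff.1 h1 c).symm, e2, one_mul]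
  obtain ⟨v, v1, v2, v3, v4⟩ := h.fixed hg gp hs sp hn
  obtain ⟨w, w1, w2, w3, w4⟩ := h.fixed xz xq hs sp hn'
  have inv : ∀ {a c : G}, ⁅a, c⁆ ∈ center G → ⁅c, a⁆ ∈ center G := fun h1 => by
    rw [← commutatorElement_inv]; exact inv_mem h1
  have ev := h.eq hg gp v1 v3
  have cv := h.cent1 hg gp v1 v3
  rw [← h.cent hg gp] at cv
  have vN : v ∈ N(Bq p x) := mem_norm_Bq (inv (v4 x hx))
  have vC : v ∉ C(Bq p x) := fun e => hx' (cv ▸ mem_cent1_symm.1 (cent_le_cent1 (h.self xz xq) e))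
  have vs : v ^ s ∈ center G := T.fix hx' (pow_mem v1 s) (pw (v4 x hx) (cv ▸ xp))
  obtain ⟨i, hi⟩ := T.rank hs (ev ▸ mem_norm_Bq (inv (w4 v vN)))
    (fun e => w3 (T'.fix vC w1 (cent_le_cent1 v1 e)))
    (cv ▸ pw (w4 v vN) (center_le_cent1 w vs)) hx xp (mul_comm_of_comm T'.ab w1 (h.self xz xq))
  have hz := T'.fix vC (mul_mem (h.self xz xq) (zpow_mem w1 i)) (cv ▸ hi)
  intro y hy
  have nZ : ∀ H : Subgroup G, H ≤ N(center G) := fun H => normalIn_top.norms le_top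
  have h1 : ⁅N(Bq p x), zpowers w ⊔ center G⁆ ≤ center G := commg_sup_right_le
    ((quo_cents_iff (nZ _) (nZ _)).1 (by
      rw [quo_zpowers (nZ ⊤ trivial), cent_zpowers]
      rintro _ ⟨y, hy, rfl⟩
      rw [mem_cent1, ← commutatorElement_eq_one_iff_mul_comm, ← map_commutatorElement]
      exact qmk_eq_one.2 (w4 y hy))) (normalIn_top.commg_le' le_top) (nZ _) (nZ _)
  refine h1 (commutator_mem_commutator hy ?_)
  simpa using mul_mem (mem_sup_right hz : _ ∈ zpowers w ⊔ center G)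
    (inv_mem (mem_sup_left (zpow_mem (mem_zpowers w) i)))

end LP

end H25.Ito
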