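import Cfsg.Agent.H25.Ito2
import Cfsg.Agent.S4034
import Cfsg.Agent.S0144
import Cfsg.Agent.H24.ItoQF

/-! Two `p`-regular class sizes; Itô's theorem on groups of conjugate rank two. -/

set_option autoImplicit false
set_option linter.unusedSectionVars false

open Cfsg Subgroup
namespace H25.Ito
open H19
open scoped commutatorElement

universe u

variable {G : Type u} [Group G] [Finite G] {p r s t d : ℕ} {A B K U V W X Y : Subgroup G}
  {x y g b u v w : G}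

theorem LP.hall_top (h : LP p G) (hg : g ∉ center G) (gp : PiE {p}ᶜ g) (hp : p.Prime) :
    Hall {p}ᶜ (Bq p g) ⊤ := by
  refine hall_of_syl le_top (Oc_pi _ _) fun s hs sp _ => ⟨_, by_contra fun hn => ?_, Oc_le {s} _⟩
  obtain ⟨x, x1, x2, xs, x3⟩ := h.step hg gp hs sp hn
  have xz : x ∉ center G := fun e => x2 (center_le_cent _ e)
  have xq := xs.sing_ne sp
  have hn' : ¬ Syl s (Oc {s} (Bq p x)) ⊤ := fun e => hn (h.syl_top xz xq hg gp sp e)
  let f : G →* (G ⧸ center G) ⧸ piCore {s}ᶜ (G ⧸ center G) :=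
    (QuotientGroup.mk' _).comp (QuotientGroup.mk' _)
  have fs : Function.Surjective f :=
    (QuotientGroup.mk'_surjective _).comp (QuotientGroup.mk'_surjective _)
  have f1 : center G ≤ f.ker := fun z hz => by
    simp [f, (QuotientGroup.eq_one_iff z).2 hz]
  have pe : ∀ {π : Set ℕ} {z : G}, PiE π z → PiE π (f z) := fun hz => hz.dvd (orderOf_map_dvd f _)
  have f2 : ∀ {z}, z ∈ f.ker → PiE {s} z → z ∈ center G := fun {z} hz zs => by
    have h1 : (z : G ⧸ center G) ∈ Oc {s}ᶜ (⊤ : Subgroup (G ⧸ center G)) := by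
      rw [Oc_top]; exact (QuotientGroup.eq_one_iff _).1 hz
    exact (QuotientGroup.eq_one_iff z).1 ((zs.dvd (orderOf_map_dvd (QuotientGroup.mk' _) z)).e_eq_one
      ((Oc_pi _ _).elt h1))
  have c1 : N(Bq p x).map f ≤ C[f x] := by
    rintro _ ⟨y, hy, rfl⟩
    rw [mem_cent1, ← commutatorElement_eq_one_iff_mul_comm, ← map_commutatorElement]
    exact f1 (h.symm hg gp hs sp hn x1 x2 xs x3 y hy)
  have c2 : f x ∈ Oc {s} ⊤ := mem_Oc_of_cs (by rw [Oc_top]; exact H1.piCore_quotient_piCore) hp hs sp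
    (pe xs) ((h.index xz xq hs sp hn' hp).dvd ((index_dvd_of_le c1).trans (index_map_dvd _ fs)))
  obtain ⟨r, hr, rp, ⟨w, wr, hw⟩, hR⟩ := h.exists_syl hg gp
  have rs : r ≠ s := fun e => hn (e ▸ hR)
  have n1 : zpowers x ≤ N(Oc {r} (Bq p g)) := norms_Oc _ (zpowers_le.2 x1)
  have c3 : Oc {r} (Bq p g) ≤ f.ker := by
    rw [← commg_sup_cent n1 (hR.pi.coprime ((piG_zpowers.2 xs).sing_ne rs.symm))
      (.inl (sol_zpowers x))]
    refine sup_le ?_ fun z hz => f1 ((h.tb hg gp).fix x2 (Oc_le {r} _ hz.1) (cent_zpowers x ▸ hz.2))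
    rw [← Subgroup.map_eq_bot_iff, eq_bot_iff, ← ((Oc_pi {s} ⊤).inf_eq_bot
      ((hR.map f).pi.sing_ne rs))]
    refine le_inf ?_ (map_mono (commg_le_left n1))
    rw [map_commutator, MonoidHom.map_zpowers]
    exact (commutator_mono le_rfl (zpowers_le.2 c2)).trans ((Oc_normal _ _).commg_le' le_top)
  obtain ⟨c, hc⟩ := h.conj hg gp xz xq
  have hK : f.ker ⊴ ⊤ := normalIn_top
  have hR' := h.syl_top hg gp xz xq rp hR
  have c4 : Oc {r} (Bq p x) ≤ f.ker := by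
    rw [← hc, ← cj_Oc]; exact cj_le_of_mem_norm (hK.norm trivial) c3
  obtain ⟨b, hb, br, hz⟩ := h.nc xz xq rp hw wr
  have c5 : (⊤ : Subgroup G).map f ≤ C[f x] := by
    rw [← (hR'.of_le c4 le_top).frattini hK, Subgroup.map_sup]
    refine sup_le (((Subgroup.map_eq_bot_iff _).2 le_rfl).le.trans bot_le) ((map_mono (inf_le_right.trans
      ((norm_le_norm_cent _).trans ?_))).trans c1)
    rw [(h.tb xz xq).cent_Oc hb br hz]
    exact h.norm xz xq
  have v1 : c⁻¹ * x * c ∈ Oc {s} (Bq p g) := mem_Oc_of_ab (h.tb hg gp).ab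
    (mem_cj.1 (hc ▸ h.self xz xq)) (by simpa using xs.e_conj c⁻¹)
  have v2 : x * (c⁻¹ * x * c)⁻¹ ∈ center G := f2 (by
      have := mem_cent1.1 (c5 ⟨c, trivial, rfl⟩)
      simp only [MonoidHom.mem_ker, map_mul, map_inv, mul_assoc, ← this]
      simp)
    (((Oc_pi _ _).sup (piG_zpowers.2 xs) (norms_Oc _ (zpowers_le.2 x1))).elt
      (mul_mem (mem_sup_right (mem_zpowers x)) (inv_mem (mem_sup_left v1))))
  have v3 := mul_mem (center_le_cent (Bq p g) v2)
    (comm_iff_le_cent.1 (h.tb hg gp).ab (Oc_le {s} _ v1))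
  rw [inv_mul_cancel_right] at v3
  exact x2 v3

theorem mem_of_primary (h : ∀ y ∈ zpowers x, ∀ s, s.Prime → PiE {s} y → y ∈ K) : x ∈ K :=
  H24.mem_of_forall_primePow x fun y hy s k hs e => h y hy s hs ((pe_iff hs).2 ⟨k, e⟩)

theorem exists_primary (h : x ∉ K) : ∃ y ∈ zpowers x, ∃ s, s.Prime ∧ PiE {s} y ∧ y ∉ K := by
  by_contra hne
  push Not at hne
  exact h (mem_of_primary hne)

theorem ne_of_pe (hs : PiE {s} y) (hp : PiE {p}ᶜ y) (h : y ∉ K) : s ≠ p := by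
  rintro rfl
  exact h ((hs.e_eq_one hp).symm ▸ one_mem _)

theorem LP.mk' (cen : ∀ t s (g u : G), t.Prime → s.Prime → t ≠ p → s ≠ p → g ∉ center G →
      PiE {t} g → PiE {s} u → u ∈ C[g] → C[g] ≤ C[u])
    (ord : ∀ g u : G, g ∉ center G → PiE {p}ᶜ g → u ∉ center G → PiE {p}ᶜ u →
      ∀ m, PiN {p}ᶜ m → m ∣ #C[g] → m ∣ #C[u])
    (two : ∀ s : ℕ, ∃ r, r.Prime ∧ r ≠ s ∧ r ≠ p ∧ ∃ b : G, PiE {r} b ∧ b ∉ center G) : LP p G := by
  refine ⟨fun g u hg gp up hu => ?_, ord, two⟩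
  obtain ⟨y, hy, t, ht, yt, hz⟩ := exists_primary hg
  have h1 := cent1_le_cent1_of_mem_zpowers hy
  refine le_cent1_iff.2 (mem_of_primary fun v hv s hs vs => by_contra fun e => e (le_cent1_iff.1
    (h1.trans (cen t s y v ht hs (ne_of_pe yt (gp.e_of_mem_zpowers hy) hz)
      (ne_of_pe vs (up.e_of_mem_zpowers hv) e) hz yt vs (h1 (zpowers_le.2 hu hv))))))

theorem mul_not_center {π : Set ℕ} (hg : g ∉ center G) (gt : PiE π g) (us : PiE πᶜ u)
    (hu : u ∈ C[g]) : g * u ∉ center G := fun e => hg (H24.cent_eq_top_iff.1 (top_le_iff.1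
  ((H24.cent_eq_top_iff.2 e).ge.trans ((cent1_mul gt us (mem_cent1.1 hu).symm).le.trans
    inf_le_left))))

theorem card_cent_eq (h : C[x].index = C[y].index) : #C[x] = #C[y] :=
  Nat.eq_of_mul_eq_mul_left (H24.cs_pos x) (by
    rw [H24.cs_mul_card, H24.cs, h]; exact (H24.cs_mul_card y).symm)

/-- two `p`-regular class sizes -/
theorem two_reg (hp : p.Prime) (h : ∀ x y : G, PiE {p}ᶜ x → PiE {p}ᶜ y → x ∉ center G →
      y ∉ center G → #C[x] = #C[y]) :
    (∃ B : Subgroup G, Ab B ∧ Hall {p}ᶜ B ⊤) ∨ ∃ q, q.Prime ∧ q ≠ p ∧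
      ∀ s (x : G), s.Prime → s ≠ p → s ≠ q → PiE {s} x → x ∈ center G := by
  refine or_iff_not_imp_right.2 fun hne => ?_
  push Not at hne
  have two : ∀ s : ℕ, ∃ r, r.Prime ∧ r ≠ s ∧ r ≠ p ∧ ∃ b : G, PiE {r} b ∧ b ∉ center G := by
    intro s
    by_cases hs : s.Prime ∧ s ≠ p
    · obtain ⟨r, x, h1, h2, h3, h4⟩ := hne s hs.1 hs.2
      exact ⟨r, h1, h3, h2, x, h4⟩
    · obtain ⟨q, hq, hq'⟩ := Nat.exists_infinite_primes (p + 1)
      obtain ⟨r, x, h1, h2, -, h4⟩ := hne q hq' (by omega)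
      exact ⟨r, h1, fun e => hs ⟨e ▸ h1, e ▸ h2⟩, h2, x, h4⟩
  have cop : ∀ {t s} {g u : G}, t ≠ p → s ≠ p → s ≠ t → g ∉ center G → PiE {t} g → PiE {s} u →
      u ∈ C[g] → C[g] ≤ C[u] := fun {t s g u} tp sp st hg gt us hu => by
    have e := cent1_mul gt (us.sing_ne st) (mem_cent1.1 hu).symm
    have := eq_of_le_of_card_eq (e.le.trans inf_le_left) (h _ _ ((gt.sing_ne tp).e_mul
      (us.sing_ne sp) (mem_cent1.1 hu).symm) (gt.sing_ne tp)
      (mul_not_center hg gt (us.sing_ne st) hu) hg)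
    exact this.ge.trans (e.le.trans inf_le_right)
  have L : LP p G := LP.mk' (fun t s g u _ _ tp sp hg gt us hu => by
    by_cases st : s = t
    · obtain ⟨r, -, rt, rp, b, br, hb⟩ := two t
      obtain ⟨w, w1, w2, w3⟩ := exists_nc (K := C[g]) hb br fun m _ hm => by
        rwa [← h b g (br.sing_ne rp) (gt.sing_ne tp) hb hg]
      have h1 := cop tp rp rt hg gt w2 w1
      exact h1.trans (cop rp sp (st ▸ rt.symm) w3 w2 us (h1 hu))
    · exact cop tp sp st hg gt us hu) (fun g u hg gp hu up m _ hm => by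
      rwa [← h g u gp up hg hu]) two
  obtain ⟨r, -, -, rp, b, br, hb⟩ := two 0
  exact ⟨_, (L.tb hb (br.sing_ne rp)).ab, L.hall_top hb (br.sing_ne rp) hp⟩

theorem mem_center_sub {x : A} : x ∈ center A ↔ (x : G) ∈ C(A) :=
  ⟨fun h => mem_cent.2 fun y hy => congrArg Subtype.val (mem_center_iff.1 h ⟨y, hy⟩),
    fun h => mem_center_iff.2 fun y => Subtype.ext (mem_cent.1 h y y.2)⟩

theorem card_cent_sub (x : A) : #C[x] = #(C[(x : G)] ⊓ A) := by
  rw [H24.cent_subgroupOf, card_subgroupOf]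

theorem two_reg' (hp : p.Prime) (h : ∀ x ∈ A, ∀ y ∈ A, PiE {p}ᶜ x → PiE {p}ᶜ y → x ∉ C(A) →
      y ∉ C(A) → #(C[x] ⊓ A) = #(C[y] ⊓ A)) :
    (∃ B : Subgroup G, Ab B ∧ Hall {p}ᶜ B A) ∨ ∃ q, q.Prime ∧ q ≠ p ∧
      ∀ s, ∀ x ∈ A, s.Prime → s ≠ p → s ≠ q → PiE {s} x → x ∈ C(A) := by
  rcases two_reg (G := A) hp fun x y h1 h2 h3 h4 => by
      rw [card_cent_sub, card_cent_sub]
      exact h x x.2 y y.2 (by rw [PiE, Subgroup.orderOf_coe]; exact h1)
        (by rw [PiE, Subgroup.orderOf_coe]; exact h2) (mt mem_center_sub.2 h3)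
        (mt mem_center_sub.2 h4) with ⟨B, h1, h2⟩ | ⟨q, h1, h2, h3⟩
  · exact .inl ⟨_, inferInstance, h2.map_subtype⟩
  · exact .inr ⟨q, h1, h2, fun s x hx a b c e =>
      mem_center_sub.1 (h3 s ⟨x, hx⟩ a b c (by rw [PiE, ← Subgroup.orderOf_coe]; exact e))⟩

theorem solv_of_hall (hp : p.Prime) (hB : Ab B) (h : Hall {p}ᶜ B ⊤) : Group.IsSolvable G := by
  haveI := Fact.mk hp
  have h1 := h.idx
  rw [compl_compl, relIndex_top_right] at h1
  obtain ⟨k, hk⟩ := h1.exists_pow index_ne_zero_of_finite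
  exact Cfsg.Agent.S4034.solv B hB hk

theorem piN_relIndex {π : Set ℕ} (h : ∀ s, ∀ x ∈ A, s.Prime → s ∉ π → PiE {s} x → x ∈ K) :
    PiN π (K.relIndex A) := fun s hs hd => by_contra fun e => by
  obtain ⟨S, hS⟩ := exists_syl s A
  exact hS.not_dvd_relIndex hs (fun x hx => h s x (hS.le hx) hs e (hS.pi.elt hx)) hd

theorem solv_of_two (h : ∀ r (x : G), r.Prime → r ≠ s → r ≠ t → PiE {r} x → x ∈ center G) :
    Group.IsSolvable G := by
  have h1 : PiN {s, t} (center G).index := by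
    rw [← relIndex_top_right]
    exact piN_relIndex fun r x _ hr e => h r x hr (fun a => e (.inl a)) fun a => e (.inr a)
  have pw : ∀ {s a : ℕ}, PiN {s} a → a ≠ 0 → ∃ p k, p.Prime ∧ a = p ^ k := fun {s a} h h0 => by
    by_cases e : a = 1
    · exact ⟨2, 0, Nat.prime_two, e⟩
    · exact ⟨s, (h.exists_pow h0).choose, (h.dvd_of_ne_one e).1, (h.exists_pow h0).choose_spec⟩
  obtain ⟨a, b, e, ha, hb⟩ := exists_pi_factor {s} (index_ne_zero_of_finite (H := center G))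
  have h0 : a * b ≠ 0 := e ▸ index_ne_zero_of_finite
  obtain ⟨p, i, hp, rfl⟩ := pw ha (left_ne_zero_of_mul h0)
  obtain ⟨q, j, hq, rfl⟩ := pw (s := t) (fun r hr hd => (h1 r hr (e ▸ hd.mul_left _)).resolve_left
    (hb r hr hd)) (right_ne_zero_of_mul h0)
  haveI := Cfsg.Agent.S0144.result (G := G ⧸ center G) p q i j hp hq e
  haveI : Group.IsSolvable (center G) := sol_of_ab (by infer_instance)
  exact Group.isSolvable_of_ker_le_range (center G).subtype (QuotientGroup.mk' (center G)) (by simp)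

end H25.Ito
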