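import Cfsg.Agent.H25.KL4

/-! `Qd(p)` sections seen by the fusion system; nilpotency class bounds. -/

set_option autoImplicit false

namespace H25
open Subgroup Cfsg Matrix H9.Qd
open scoped MatrixGroups

section Qd
variable {Γ : Type*} [Group Γ] {p : ℕ} [Fact p.Prime] {T H K : Subgroup Γ}

/-- `H` induces `SL₂(p)` on a quotient of `T` -/
def NatAct (p : ℕ) [Fact p.Prime] (T H : Subgroup Γ) : Prop :=
  ∃ f : T →* qdOver (ZMod p), f.range = lin.ker ∧ ∀ q, ∃ h ∈ H, h ∈ nz T ∧ IC f T h q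

theorem lin_eq_of_agree {F : Type*} [Field F] {q r : qdOver F} (h : Agree lin.ker q r) :
    lin q = lin r := by
  refine Subtype.ext (Matrix.mulVec_injective (funext fun v => ?_))
  have := congrArg H9.Qd.vec (h (mk v 1) (lin_mk v 1))
  simpa [conj_tr] using this

theorem ker_lin_comm {F : Type*} [Field F] : (lin (F := F)).ker ≤ cz lin.ker := by
  rw [← tr_range]
  rintro _ ⟨v, rfl⟩
  refine mem_cz'.2 ?_
  rintro _ ⟨w, rfl⟩
  rw [← map_mul, ← map_mul, mul_comm]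

theorem ker_lin_pow {q : qdOver (ZMod p)} (h : q ∈ lin.ker) : q ^ p = 1 := by
  rw [← tr_range] at h
  obtain ⟨v, rfl⟩ := h
  rw [← map_pow, ← H9.Qd.tr.map_one]
  congr 1
  refine Multiplicative.toAdd.injective (funext fun i => ?_)
  simp

theorem NatAct.of_le (h : NatAct p T H) (h' : ∀ g ∈ H, g ∈ nz T → ∃ k ∈ K, Agree T k g) :
    NatAct p T K := by
  obtain ⟨f, h1, h2⟩ := h
  refine ⟨f, h1, fun q => ?_⟩
  obtain ⟨g, hg, hg', e⟩ := h2 q
  obtain ⟨k, hk, e'⟩ := h' g hg hg'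
  exact ⟨k, hk, e'.mem_nz hg', e.congr_left e'⟩

theorem NatAct.cj (h : NatAct p T H) (g : Γ) : NatAct p (cj g T) (cj g H) := by
  obtain ⟨f, h1, h2⟩ := h
  let e : H25.cj g T →* T := ((MulAut.conj g⁻¹).toMonoidHom.comp (H25.cj g T).subtype).codRestrict T
    fun x => by simpa using mem_cj.1 x.2
  have h3 : ∀ x ∈ H25.cj g T, ex (f.comp e) x = ex f (g⁻¹ * x * g) := fun x hx => by
    rw [ex_of_mem _ hx, ex_of_mem _ (mem_cj.1 hx)]
    exact congrArg f (Subtype.ext (by simp [e]))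
  refine ⟨f.comp e, ?_, fun q => ?_⟩
  · rw [← h1, MonoidHom.range_comp, MonoidHom.range_eq_top.2 fun x =>
      ⟨⟨_, conj_mem_cj g x.2⟩, Subtype.ext (by simp [e, mul_assoc])⟩, ← MonoidHom.range_eq_map]
  · obtain ⟨k, hk, hk', e⟩ := h2 q
    have h4 : g * k * g⁻¹ ∈ nz (H25.cj g T) := by rw [← cj_nz]; exact conj_mem_cj g hk'
    refine ⟨_, conj_mem_cj g hk, h4, fun x hx => ?_⟩
    rw [h3 _ (conj_mem_of_mem_nz h4 hx), h3 x hx, ← e _ (mem_cj.1 hx)]
    congr 1; group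

variable [Finite Γ]

theorem exists_natAct (h : Involves (qd p) H) : ∃ T, T ≤ H ∧ IsPGroup p T ∧ NatAct p T H := by
  obtain ⟨K, hK, ρ, hρ⟩ := H9.involves_iff.2 h
  change K →* qdOver (ZMod p) at ρ
  have h0 : ρ.range = ⊤ := MonoidHom.range_eq_top.2 hρ
  obtain ⟨T, hT, hs⟩ := exists_syl (p := p) (pre ρ lin.ker)
  have h1 := hs.le.trans (pre_le ρ _)
  have h2 := hs.im ρ (pre_le ρ _)
  rw [im_pre' (h0 ▸ le_top)] at h2
  have h3 := h2.eq_of_isPGroup fun x => ⟨1, Subtype.ext (by simpa using ker_lin_pow x.2)⟩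
  have h4 : ∀ x ∈ T, ex (ρ.comp (inclusion h1)) x = ex ρ x := fun x hx => by
    rw [ex_of_mem _ hx, ex_of_mem _ (h1 hx)]; rfl
  have h5 : im (ρ.comp (inclusion h1)) T = lin.ker := by
    rw [← h3]
    exact le_antisymm ((im_le_iff le_rfl).2 fun x hx => h4 x hx ▸ ex_mem_im ρ h1 hx)
      ((im_le_iff h1).2 fun x hx => h4 x hx ▸ ex_mem_im _ le_rfl hx)
  refine ⟨T, h1.trans hK, hT, ρ.comp (inclusion h1), (im_self _).symm.trans h5, fun q => ?_⟩
  obtain ⟨k, hk, rfl⟩ := exists_ex_eq (π := ρ) (y := q) (h0 ▸ mem_top q)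
  obtain ⟨u, hu, e⟩ := hs.frattini' hT (mem_nz_pre hk (mem_nz_of_normal _ _))
  have h6 := mul_mem (pre_le ρ _ hu) hk
  refine ⟨u * k, hK h6, e, IC.congr_right (g' := ex ρ (u * k)) (fun x hx => ?_) le_rfl ?_⟩
  · rw [h4 _ (conj_mem_of_mem_nz e hx), h4 x hx, ex_conj ρ h6 (h1 hx)]
  · rw [h5, ex_mul ρ (pre_le ρ _ hu) hk]
    refine (agree_cz_mul ?_).symm
    rw [mem_nz.1 (mem_nz_of_normal _ _)]
    exact ker_lin_comm (mem_pre.1 hu).2

theorem NatAct.involves (hp : p ≠ 2) (h : NatAct p T H) (hT : T ≤ H) : Involves (qd p) H := by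
  obtain ⟨f, h1, h2⟩ := h
  rw [← im_self] at h1
  let L := H ⊓ tb f T ⊤
  have hL : ∀ l : L, ∃ q, IC f T l q := fun l => let ⟨q, _, h⟩ := (mem_tb.1 l.2.2).2; ⟨q, h⟩
  choose c hc using hL
  have hu : ∀ (l : L) q, IC f T l q → lin (c l) = lin q := fun l q e =>
    lin_eq_of_agree (h1 ▸ (hc l).agree e)
  have hn : ∀ l : L, (l : Γ) ∈ nz T := fun l => tb_le_nz l.2.2
  let π : L →* SL(2, ZMod p) := MonoidHom.mk' (fun l => lin (c l)) fun a b => by
    rw [← map_mul]; exact hu _ _ ((hc b).mul' (hc a) (mem_nz.1 (hn b)).le)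
  have hTL : T ≤ L := fun x hx => ⟨hT hx, mem_tb.2 ⟨le_nz_self T hx, _, trivial,
    ic_of_mem f le_rfl hx⟩⟩
  have hN : ((pre f ⊥).subgroupOf L).Normal := ⟨fun x hx g => mem_pre_bot.2
    ⟨conj_mem_of_mem_nz (hn g) (pre_le f _ hx), by
      have := hc g x (pre_le f _ hx)
      rw [show ex f (x : Γ) = 1 from (mem_pre_bot.1 hx).2] at this
      simpa using this⟩⟩
  have hπ : ∀ x (hx : x ∈ T), π ⟨x, hTL hx⟩ = 1 := fun x hx =>
    (hu _ _ (ic_of_mem f le_rfl hx)).trans (h1.le (ex_mem_im f le_rfl hx))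
  let φ : T →* L ⧸ (pre f ⊥).subgroupOf L := (QuotientGroup.mk' _).comp (inclusion hTL)
  have key : ∀ x y : T, φ x = φ y ↔ f x = f y := fun x y => by
    refine QuotientGroup.eq.trans (mem_pre_bot.trans ?_)
    change ((x⁻¹ * y : T) : Γ) ∈ T ∧ ex f (x⁻¹ * y : T) = 1 ↔ _
    rw [ex_coe, and_iff_right (x⁻¹ * y).2, map_mul, map_inv, inv_mul_eq_one]
  have hf : ∀ x : T, f x ∈ lin.ker := fun x => h1.le (ex_coe f x ▸ ex_mem_im f le_rfl x.2)
  have hV : IsElementaryAbelian p φ.range := H28.isElementaryAbelian_iff.2 ⟨by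
    rintro _ ⟨x, rfl⟩
    refine mem_cz'.2 ?_
    rintro _ ⟨y, rfl⟩
    rw [← map_mul, ← map_mul, key, map_mul, map_mul]
    exact mem_cz'.1 (ker_lin_comm (hf x)) _ (hf y), by
    rintro _ ⟨x, rfl⟩
    rw [← map_pow, ← φ.map_one, key, map_pow, map_one]
    exact ker_lin_pow (hf x)⟩
  have ht : ∀ v, ∃ x : T, f x = mk v 1 := fun v => by
    have := h1.ge (lin_mk v 1)
    rwa [im_self] at this
  choose t ht using ht
  let ι : (Fin 2 → ZMod p) →+ H9.EA hV := AddMonoidHom.mk' (fun v => H9.EA.mk hV _ ⟨t v, rfl⟩)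
    fun v w => H9.EA.ext (by
      change φ _ = φ _ * φ _
      rw [← map_mul, key, map_mul, ht, ht, ht, mk_mul]; simp)
  let π' := QuotientGroup.lift ((pre f ⊥).subgroupOf L) π fun x hx => hπ x (pre_le f _ hx)
  have h3 : H9.ActsNaturally hV ⊤ := by
    refine ⟨π'.comp (Subgroup.subtype _), ι.toZModLinearMap p, fun s => ?_, fun v w e => ?_,
      fun l v => ?_⟩
    · obtain ⟨h, hh, hh', e⟩ := h2 (blk s)
      exact ⟨⟨QuotientGroup.mk ⟨h, hh, mem_tb.2 ⟨hh', _, trivial, e⟩⟩, trivial⟩,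
        (hu _ _ e).trans (lin_mk 0 s)⟩
    · have := (key _ _).1 (congrArg H9.EA.val e)
      rw [ht, ht] at this
      simpa using congrArg H9.Qd.vec this
    · obtain ⟨l, -⟩ := l
      obtain ⟨l, rfl⟩ := QuotientGroup.mk_surjective l
      refine Eq.trans (b := φ ⟨_, conj_mem_of_mem_nz (hn l) (t v).2⟩) rfl ((key _ _).2 ?_)
      rw [ht, ← ex_of_mem f, hc l _ (t v).2, ex_coe, ht, conj_tr]
      rfl
  exact H29.involves_trans (H9.involves_top_iff.1 (h3.involves_qd hp le_rfl le_top))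
    (H29.involves_trans (H29.involves_of_surjective _ (QuotientGroup.mk'_surjective _))
      (H29.involves_of_le inf_le_left))

theorem FS.Free.not_natAct {M : ℕ} {F : FS (Univ M)} {T : Subgroup (Univ M)} (hp : p ≠ 2)
    (h : F.Free p (qd p)) (hF : F.Sat p) (hB : Big F.S) (hT : T ≤ F.S) :
    ¬ NatAct p T (F.A T) := fun h1 => by
  obtain ⟨g, Hg, hc⟩ := FS.exists_FC hT
  have h2 := h1.cj g
  rw [Hg.cj_A] at h2
  generalize cj g T = U at *
  have h3 : NatAct p U (F.A (U ⊔ F.C U)) := h2.of_le fun a ha ha' => by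
    obtain ⟨k, Hk, e⟩ := (hF.recp hc).ext_C (FS.T_of_mem_A hc.le ha) (mem_nz.1 ha')
    refine ⟨k, Hk.mem_A (mem_nz_sup (e.mem_nz ha') (mem_nz.2 ?_)), e⟩
    rw [hc.cj_eq (Hk.mono le_sup_left) (Hk.mono le_sup_right), mem_nz.1 (e.mem_nz ha')]
  obtain ⟨k, Hk, hn⟩ := FS.exists_FN hc.centric_sup_C.le
  have h4 := h3.cj k
  have h5 := hc.centric_sup_C.cj Hk
  obtain ⟨L, hL, -⟩ := hF.exists_mdl_NF hB hn h5
  rw [Hk.cj_A, ← FS.NF_A_self hn.1, hL.A_eq (FS.le_N hn.1)] at h4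
  refine h _ hn h5 L hL ((h4.of_le fun a ha _ => ?_).involves hp
    ((cj_mono k le_sup_left).trans ((FS.le_N hn.1).trans hL.le)))
  obtain ⟨-, l, hl, e⟩ := mem_ai.1 ha
  exact ⟨l, hl, e.symm.mono (cj_mono k le_sup_left)⟩

theorem FS.Free.not_involves {M : ℕ} {H S : Subgroup (Univ M)} (hp : p ≠ 2) (hS : IsPGroup p S)
    (hs : Syl p S H) (hB : Big S) (h : (FS.ofSub H S).Free p (qd p)) : ¬ Involves (qd p) H := by
  intro h1
  obtain ⟨T, h2, h3, h4⟩ := exists_natAct h1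
  obtain ⟨g, hg, h5⟩ := hs.exists_cj_le h3 h2
  exact h.not_natAct hp (FS.sat_ofSub hS hs) hB h5 ((h4.cj g).of_le fun k hk hk' =>
    ⟨k, (FS.ofSub_A hs.le h5).ge (mem_ai_of_mem (cj_eq_of_mem hg ▸ hk) hk'), Agree.refl _ _⟩)

end Qd

end H25
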