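import Cfsg.Agent.H19.MU0
import Cfsg.Agent.H23.MS6
import Cfsg.Agent.H11.MS1

/-! S5899, part 3: chunk `CB`. -/

set_option autoImplicit false
set_option linter.unusedVariables false
set_option linter.unusedSectionVars false

namespace H25.MS
open Cfsg Subgroup H18 H17.GS H28.S H2.GW H27.MS H12.MS
open H19 hiding eq_bot_mono
open H28.NG hiding Hyp Uniq Ch
open H29.PU (bm JJ_le_bm bm_le)
open H9 (JJ MaxAb)
open H19.MU (Ci)

universe u
variable {G : Type u} [Group G] [Finite G] {N Q T V W A R : Subgroup G} {a p : G}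

/-- the `T`-fixed involution of a bad module -/
theorem bd_p (bk : BK.{u}) (b : Bd N Q T V) (z : Zs T = zpowers p) : p ∈ V ∧ p ≠ 1 := by
  obtain ⟨-, ab, vq, -, -, c2, -⟩ := bk b
  have l : V ⊓ C(T) ≤ zpowers p := z ▸ abelem_le_Ohm1 (abelem_mono ab inf_le_left)
    (le_inf (inf_le_left.trans (vq.le.trans b.toFr.le)) inf_le_right)
  have pp : p * p = 1 := sq p ▸ (abelem_Ohm1_center 2 T).2 p (z.ge (mem_zpowers p))
  have p1 : p ≠ 1 := fun e => by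
    have := card_le l
    rw [c2, e, zpowers_one_eq_bot, card_bot] at this
    omega
  refine ⟨((eq_of_le_of_card_ge l ?_).ge (mem_zpowers p)).1, p1⟩
  rw [c2, Nat.card_zpowers, orderOf_eq_prime (p := 2) (by rwa [pow_two]) p1]

/-- an involution centralizer `C[p]` with `⟨p⟩ = Ω₁ Z(T)` is not bad -/
theorem nb (bk : BK.{u}) (l : Lc C[p] Q T) (z : Zs T = zpowers p) (s : Sec C[p] Q ⊥ W) : #W ≠ 8 := fun c => by
  have b : Bd C[p] Q T W := ⟨l, s, c⟩
  obtain ⟨pW, p1⟩ := bd_p bk b z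
  obtain ⟨-, ab, -, -, -, -, tr, -⟩ := bk b
  have : W ≤ zpowers p := fun w hw => by
    by_cases e : w = 1
    · exact e ▸ one_mem _
    · obtain ⟨n, hn, k⟩ := tr p pW w hw p1 e
      rw [← k, mem_cent1_conj.1 hn]; exact mem_zpowers p
  have := card_le this
  rw [c, Nat.card_zpowers, orderOf_eq_prime (p := 2) (ab.2 p pW) p1] at this
  omega

theorem cb (bk : BK.{u}) (g2 : G2.{u}) (nr : NR.{u}) (lc : LC.{u}) (fu : FU.{u}) (mb1 : MB1.{u}) (nf : NF.{u})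
    (f1 : F1.{u}) : H19.MU.CB.{u} := by
  intro G _ _ N Q T V p b z ns
  obtain ⟨pV, p1⟩ := bd_p bk b z
  obtain ⟨l7N, ab, vq, cV, nV, c2, trN, -, pt⟩ := bk b
  obtain ⟨P, R, pt⟩ := pt p pV p1
  obtain ⟨DR, VD, UQ, Uab⟩ := g2 b pV p1
  have pp : p * p = 1 := sq p ▸ ab.2 p pV
  have cp : #(zpowers p) = 2 := by rw [Nat.card_zpowers, orderOf_eq_prime (p := 2) (ab.2 p pV) p1]
  have zT : T ≤ C(Zs T) := cents_symm ((Ohm1_le _ _).trans inf_le_right)
  have eC : C(Zs T) = C[p] := by rw [z, cent_zpowers]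
  have sT := (nr b).1
  have p0 : zpowers p ≠ ⊥ := fun e => p1 (zpowers_eq_bot.1 e)
  obtain ⟨l, -⟩ := lc b.hy p0 ((ab_pg ab).of_le (zpowers_le.2 pV)) (cent1_le_norm_zpowers p) ns
    (sT.of_le (eC ▸ zT) le_top)
  rw [← pt.eP, ← pt.eR] at DR
  obtain ⟨D, hD⟩ : ∃ D, D = Oc {2} C[p] := ⟨_, rfl⟩
  rw [← hD] at l DR VD
  have f := l.toFr
  obtain ⟨Y, hY⟩ : ∃ Y, Y = Zs D := ⟨_, rfl⟩
  have aY : Abelem 2 Y := hY ▸ abelem_Ohm1_center 2 D
  have yZ : Y ≤ Z(D) := hY ▸ Ohm1_le _ _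
  have yT : Y ≤ T := (yZ.trans inf_le_left).trans f.le
  have qY : D ≤ C(Y) := cents_symm (yZ.trans inf_le_right)
  have pY : zpowers p ≤ Y := z ▸ hY ▸ H21.MS.zs_le l
  have s : Sec C[p] D ⊥ Y := by
    refine sec_bot aY (hY ▸ f.nq.norm.trans (norm_le_norm_Ohm1_center 2 D)) qY fun kc => ?_
    have uq : Kc V C[p] ≤ D := Kc_le_of VD f.nq.norm
    obtain ⟨U, ⟨u1, u2, u3⟩, m⟩ := (wellFounded_lt (α := Subgroup G)).has_min
      {X | zpowers p < X ∧ X ≤ Kc V C[p] ∧ C[p] ≤ N(X)} ⟨_, lt_of_lt_of_le (lt_of_le_of_ne (zpowers_le.2 pV) fun e => by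
        have := b.c8; rw [← e, cp] at this; omega) le_Kc, le_rfl, Kc_norm⟩
    have a := abelem_mono Uab u2
    have nc : ¬ C[p] ≤ C(U) := fun k => u1.not_ge (z ▸
      (abelem_le_Ohm1 a (le_inf ((u2.trans uq).trans f.le) (cents_symm (f.TN.trans k)))))
    have := fu f a u1.le (u2.trans uq) u3 (cent_zpowers p).ge (fun X x1 x2 x3 => by_contra fun k => m X
      ⟨lt_of_le_of_ne x1 fun e => k (.inl e.symm), x2.trans u2, x3⟩ (lt_of_le_of_ne x2 fun e => k (.inr e))) nc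
    exact nc (kc.trans (cent_mono (hY ▸ abelem_le_Ohm1 a (le_inf (u2.trans uq) (cents_symm this)))))
  have nt : ∀ a ∈ C[p], a ∉ D → #(Y ⊓ C[a]) * 2 < #Y := fun a h1 h2 => lt_of_not_ge fun k =>
    have := (mb1 f s h1 h2 (by rw [Eb, Cm_bot, cent_zpowers, pow_one, mul_comm]; exact k)).2
    nb bk l z this.1 (by simpa using this.2)
  obtain ⟨A, m, nA⟩ : ∃ A, MaxAb 2 T A ∧ ¬ A ≤ D := by
    by_contra k
    push Not at k
    obtain ⟨bq, e⟩ := H23.MS.bm_Q l s (H9.JJ_le_iff.2 k)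
    exact H23.MS.bd_ne l (b.hy.cs T _ sT eC.le fun X r0 rb nR =>
      (l.eqN r0 (f.pg.of_le (rb.trans bq)) (e.ge.trans nR)).le)
  have l7 : L7 C[p] D := nf f l.q0 s m.ea (m.le.trans f.TN) nA (by rw [Cm_bot]; exact H11.MS.off m aY yT qY)
  have cT := (H17.MS.l7 f l7).1
  have cT' := (H17.MS.l7 b.toFr l7N).1
  have key : ∀ A, MaxAb 2 T A → ¬ A ≤ D →
      #(A ⊔ D) = 4 * #D ∧ #Y = 4 * #(Y ⊓ C(A)) ∧ MaxAb 2 T (A ⊓ D ⊔ Y) := fun A m nA => by
    obtain ⟨a, ha, a0⟩ := SetLike.not_le_iff_exists.1 nA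
    have r1 := pg_lt_card f.syl.pi (lt_of_le_of_ne (sup_le m.le f.le) fun e => f1 f l.q0 m.ea m.le e.ge)
    have r2 := card_sup_mul_inf (A := D) (B := A) ((m.le.trans f.TN).trans f.nq.norm)
    rw [sup_comm, inf_comm] at r2
    have r3 := H11.MS.off m aY yT qY
    have r4 := H11.MS.le4 (ab_pg aY) inf_le_left (nt a (f.TN (m.le ha)) a0)
    have r5 := card_le (inf_le_inf_left Y (cent_le_cent1 ha))
    have p1 := card_pos D
    have p2 := card_pos (A ⊓ D)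
    have p3 := card_pos (Y ⊓ C(A))
    have r6 : #A ≤ 4 * #(A ⊓ D) := Nat.le_of_mul_le_mul_left (by rw [← r2]; nlinarith) p1
    have r8 : 4 * #(A ⊓ D) ≤ #A := Nat.le_of_mul_le_mul_right (c := #(Y ⊓ C(A))) (by nlinarith) p3
    have r9 : #Y = 4 * #(Y ⊓ C(A)) := le_antisymm (Nat.le_of_mul_le_mul_right (c := #(A ⊓ D)) (by nlinarith) p2) (by omega)
    have k : A ⊓ D ≤ C(Y) := inf_le_right.trans qY
    have e := card_sup_mul_inf (A := Y) (B := A ⊓ D) (k.trans (cent_le_norm _))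
    have r10 := card_le (inf_le_inf_left Y (inf_le_left.trans (ab_cent m.ea) : A ⊓ D ≤ C(A)))
    have r11 : #A ≤ #(Y ⊔ A ⊓ D) := Nat.le_of_mul_le_mul_right (c := #(Y ⊓ C(A))) (by nlinarith) p3
    refine ⟨Nat.eq_of_mul_eq_mul_right p2 (by rw [r2, le_antisymm r6 r8]; ring), r9, ?_⟩
    rw [sup_comm]
    exact ⟨sup_le yT (inf_le_left.trans m.le), H11.MS.abE (abelem_sup aY (abelem_mono m.ea inf_le_left) (cents_symm k)),
      fun B h1 h2 => (m.card_le h1 h2).trans r11⟩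
  have eDQ : #D = #Q := by omega
  refine ⟨P, R, D, b, z, pV, p1, pt, l, hY ▸ s, DR, VD, fun k => ?_, by rw [pt.cR, eDQ], ?_, hY ▸ key, A, m, nA⟩
  · have e : C[p] = N := by rw [← l.nQ, eq_of_le_of_card_ge k eDQ.ge, b.toLc.nQ]
    exact nb bk (e ▸ b.toLc) z (e ▸ b.sec) b.c8
  · have h4 := (key A m nA).2.1
    have h8 := nb bk l z s
    have h2 := card_le (le_inf pY ((zpowers_le.2 ((z ▸ zT : T ≤ C(zpowers p)) |> fun k =>
      cents_symm (m.le.trans k) (mem_zpowers p))) : zpowers p ≤ C(A)))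
    obtain ⟨j, hj⟩ := ((ab_pg aY).of_le (inf_le_left : Y ⊓ C(A) ≤ Y)).exists_card
    rw [← hY, h4, hj]
    rw [hj] at h4 h2
    rcases j with _ | _ | j
    · omega
    · omega
    · have := Nat.one_le_two_pow (n := j)
      omega

end H25.MS
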