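import Cfsg.Agent.H1.MS2

/-! S5899, part 3: the glue `CN`. -/

set_option autoImplicit false
set_option linter.unusedVariables false
set_option linter.unusedSectionVars false

namespace H25.MS
open Cfsg Subgroup H18 H17.GS H28.S H2.GW H27.MS H12.MS
open H19 hiding eq_bot_mono
open H28.NG hiding Hyp Uniq Ch
open H26.MS (Am AM Up Dp)

universe u

theorem cn (am : AM.{u}) (ca : H1.MS.CA.{u}) (cb : H1.MS.CB.{u}) (cc : H1.MS.CC.{u}) : H1.MS.CN.{u} := by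
  intro G _ _ N Q T V p b pV p1
  by_contra nC
  obtain ⟨g, n, a⟩ := am b pV p1 nC
  have ab := abelem_J a.ab g
  have l : Up V p ⊓ H19.cj g (Dp p) ≤ Up V p ⊓ C(H19.cj g (Up V p)) := fun x hx => ⟨hx.1, by
    rw [← H19.cj_cent]
    refine H19.mem_cj.2 (ca b pV p1 a (H19.mem_cj.1 hx.2) ?_)
    rw [show g⁻¹ * x * g * (g⁻¹ * x * g) = g⁻¹ * x ^ 2 * g by rw [sq]; group, a.ab.2 x hx.1]; group⟩
  have o : #(Up V p) * #(H19.cj g (Up V p) ⊓ Dp p) ≤ #(H19.cj g (Up V p)) * #(Up V p ⊓ C(H19.cj g (Up V p))) := by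
    rw [H19.card_cj]; exact Nat.mul_le_mul_left _ (a.idx.trans (card_le l))
  obtain ⟨h, hN, k⟩ : ∃ h ∈ N, H19.cj g (Up V p) ≤ H19.cj h (Dp p) := by
    rcases n with _ | n
    · exact ⟨g, a.ds, H19.cj_mono g a.UD⟩
    · obtain ⟨d, hd, c, hc, h, hh, e⟩ := a.ds.inv
      refine ⟨h⁻¹, inv_mem hh, ?_⟩
      rw [show g = h⁻¹ * (c⁻¹ * d⁻¹) by rw [← inv_inv g, e]; group, H19.cj_mul, H19.cj_mul]
      exact H19.cj_mono _ ((H19.cj_mono _ (a.UD' n.lt_succ_self hd.inv)).trans_eq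
        (H19.cj_of_mem_norm ((Oc_normal _ _).norm (inv_mem hc))))
  exact cc b pV p1 a.cD ab a.AQ a.nD o hN k (cb b pV p1 a.cD ab a.AQ a.nD o)

end H25.MS
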