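/-
Principal blocks for two primes in `{p, q}`-solvable groups.
-/
import Cfsg.Agent.H25.NW2
import Cfsg.Agent.H7.Quot
import Cfsg.Agent.S0915
import Cfsg.Agent.S4602

set_option autoImplicit false
set_option linter.unusedSectionVars false

open Cfsg Subgroup
namespace H25.NW
open H20 H19 H6

variable {G : Type*} [Group G] [Finite G] {p q : ℕ} {Mp Mq : Ideal AlgInt}

theorem mem_B0 [Fact p.Prime] (hM : IsPModular p Mp) (hs : IsPSolvable p G) {χ : IrrCharacter G} :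
    χ ∈ principalBlock Mp G ↔ pPrimeCore p G ≤ cker χ.1 := by
  refine ⟨H7.pPrimeCore_le_charKer hM, fun h => ?_⟩
  obtain ⟨ψ, rfl⟩ := H7.exists_infl_eq (f := QuotientGroup.mk' (pPrimeCore p G))
    (hf := QuotientGroup.mk'_surjective _) (by rwa [QuotientGroup.ker_mk'])
  exact H7.infl_mem_principal hM (Cfsg.Agent.S0915.result p Mp hM (H1.isPSolvable_quotient hs _)
    H1.pPrimeCore_quotient_pPrimeCore ⟨fun _ => 1, H5.isIrrCharacter_one⟩ ψ)

theorem Oc_top' (hp : p.Prime) : Oc {p}ᶜ (⊤ : Subgroup G) = pPrimeCore p G := by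
  rw [← pPrimeCore_map_eq hp]
  exact H1.map_pPrimeCore_equiv topEquiv

theorem not_dvd [hp : Fact p.Prime] [Fact q.Prime] (hpq : p ≠ q) (hM : IsPModular p Mp)
    (h1 : IsPSolvable p G) (h2 : IsPSolvable q G) (h : ∀ χ : IrrCharacter G,
      χ ∈ principalBlock Mp G → ¬ p ∣ charDegree χ.1 → ¬ q ∣ charDegree χ.1) :
    ¬ q ∣ (pPrimeCore p G).index := by
  have := main hpq _ (G := (⊤ : Subgroup G)) rfl (H1.isPSolvable_subgroup h1 _)
    (H1.isPSolvable_subgroup h2 _) fun χ hχ k =>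
      h ⟨χ, mem_Irr_top.1 hχ⟩ ((mem_B0 hM h1).2 (Oc_top' (G := G) hp.out ▸ k))
  rwa [Oc_top' hp.out, relIndex_top_right] at this

theorem syl_le [hq : Fact q.Prime] {K : Subgroup G} [K.Normal] (h : ¬ q ∣ K.index) (Q : Sylow q G) :
    (Q : Subgroup G) ≤ K :=
  le_of_pi_of_relIndex le_normalizer_of_normal le_top le_top (syl_sylow_top Q).pi
    (PiN.of_not_dvd (by rwa [relIndex_top_right]))

theorem s4886 [hp : Fact p.Prime] [hq : Fact q.Prime] (hpq : p ≠ q) (hMp : IsPModular p Mp)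
    (hMq : IsPModular q Mq) (h1 : IsPSolvable p G) (h2 : IsPSolvable q G) :
    ((∀ χ : IrrCharacter G, χ ∈ principalBlock Mp G → ¬ p ∣ charDegree χ.1 → ¬ q ∣ charDegree χ.1) ∧
      (∀ χ : IrrCharacter G, χ ∈ principalBlock Mq G → ¬ q ∣ charDegree χ.1 → ¬ p ∣ charDegree χ.1)) ↔
    ∃ (P : Sylow p G) (Q : Sylow q G), ∀ x ∈ (P : Subgroup G), ∀ y ∈ (Q : Subgroup G), x * y = y * x := by
  constructor
  · rintro ⟨a, b⟩
    have a' := not_dvd hpq hMp h1 h2 a
    have b' := not_dvd hpq.symm hMq h2 h1 b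
    obtain ⟨P, Q, h⟩ := (Cfsg.Agent.S4602.result p q hpq h1).2 a'
    refine ⟨P, Q, fun x hx y hy => (mem_cent.1 (commg_eq_bot.1 (H19.eq_bot_mono (le_inf
      (commg_le_right h) ((commutator_mono (syl_le b' P) le_top).trans (commutator_le_left _ _)))
      ((syl_sylow_top Q).pi.inf_eq_bot (PiN.of_coprime H1.pPrimeCore_coprime))) hx) y hy).symm⟩
  · rintro ⟨P, Q, h⟩
    have c : (P : Subgroup G) ≤ C((Q : Subgroup G)) := fun x hx =>
      mem_cent.2 fun y hy => (h x hx y hy).symm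
    have key : ∀ {r s : ℕ} {M : Ideal AlgInt}, IsPModular r M → ¬ s ∣ (pPrimeCore r G).index →
        ∀ χ : IrrCharacter G, χ ∈ principalBlock M G → ¬ s ∣ charDegree χ.1 := by
      intro r s M hM i χ hχ d
      have := irr_deg_dvd_relIndex normalIn_top (coe_mem_Irr_top χ) (H7.pPrimeCore_le_charKer hM hχ)
      rw [relIndex_top_right] at this
      exact i (d.trans this)
    exact ⟨fun χ hχ _ => key hMp ((Cfsg.Agent.S4602.result p q hpq h1).1
        ⟨P, Q, c.trans (cent_le_norm _)⟩) χ hχ,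
      fun χ hχ _ => key hMq ((Cfsg.Agent.S4602.result q p hpq.symm h2).1
        ⟨Q, P, (cents_symm c).trans (cent_le_norm _)⟩) χ hχ⟩

theorem s4885 [hp : Fact p.Prime] [hq : Fact q.Prime] (hd : p ∣ Nat.card G) (h1 : IsPSolvable p G)
    (h2 : IsPSolvable q G) (hMp : IsPModular p Mp) (hMq : IsPModular q Mq)
    (h : ∀ χ : IrrCharacter G, (χ ∈ principalBlock Mp G ∧ ¬ p ∣ charDegree χ.1) ↔
      (χ ∈ principalBlock Mq G ∧ ¬ q ∣ charDegree χ.1)) : p = q := by
  by_contra hpq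
  obtain ⟨S⟩ : Nonempty (Sylow p G) := inferInstance
  have b := syl_le (not_dvd (Ne.symm hpq) hMq h2 h1 fun χ a b => ((h χ).2 ⟨a, b⟩).2) S
  have hP := syl_sylow_top S
  generalize (S : Subgroup G) = P at b hP
  set A := pPrimeCore p G
  have n : ∀ X : Subgroup G, X ≤ N(A) := fun X => le_normalizer_of_normal
  have hd' := der_sup_le (n P)
  obtain ⟨η, hη⟩ := IrrK_nonempty (H := P ⊔ ⁅P, P⁆ ⊔ A) (K := A ⊔ P) (M := A ⊔ ⁅P, P⁆)
    (by rw [sup_eq_left.2 (der_le P), sup_comm]; exact .refl _)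
    (normal_of_der_le hd' (sup_le_sup_left (der_le P) _)) fun l => by
      replace l := inf_eq_right.2 ((le_sup_left.trans le_sup_left).trans l)
      rw [sup_inf_modr (n _) (der_le P), (PiN.of_coprime H1.pPrimeCore_coprime).inf_eq_bot' hP.pi,
        bot_sup_eq] at l
      exact (sol_der_lt hP.pi.sol (hP.sne_bot hp.out (by rwa [card_top]))).ne l
  obtain ⟨k1, k2, k3⟩ := mem_IrrK.1 hη
  have hl := irr_lin_of_deg k1 ((der_le_cker k1).1 (hd'.trans k2))
  obtain ⟨χ, k4, k5⟩ := above le_top (irr_chr k1) hp.out (hP.not_dvd_relIndex hp.out le_sup_right)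
    (by rw [hl.deg]; exact hp.out.not_dvd_one)
  obtain ⟨k6, k7⟩ := mem_ovr.1 k4
  have k8 := ((h ⟨χ, mem_Irr_top.1 k6⟩).1 ⟨(mem_B0 hMp h1).2 (le_cker_of_above k6 le_top (irr_chr k1)
    k7 (n _) le_sup_left (le_sup_left.trans k2)), k5⟩).1
  exact k3 (sup_le (sup_le (le_cker_of_below (irr_chr k6) le_top k1 k7 le_sup_right
    (b.trans ((mem_B0 hMq h2).1 k8))) (le_sup_right.trans k2)) (le_sup_left.trans k2))

end H25.NW
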