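/-
S5815: the pieces `AK`, `KD`, `KS`.
-/
import Cfsg.Agent.H26.O7B
import Cfsg.Agent.H26.O7S
import Cfsg.Agent.H29.BB1

set_option autoImplicit false
set_option linter.unusedSectionVars false

open Module QuadraticMap H12 Cfsg MatrixGroups Subgroup H26.O7
namespace H25.O7
universe u v

section
variable {K : Type u} [Field K] {M : Type u} [AddCommGroup M] [Module K M] [FiniteDimensional K M]

theorem le_of_split (h2 : (2 : K) ≠ 0) {W U : Submodule K M} {a : Au K M} (h : ∀ x ∈ W, a x ∈ W ∧ a (a x) = x)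
    (h1 : W ⊓ fix a ≤ U) (h3 : W ⊓ Ng a ≤ U) : W ≤ U := fun x hx => by
  obtain ⟨k1, k3⟩ := h x hx
  rw [show x = (2 : K)⁻¹ • ((x + a x) + (x - a x)) by rw [add_add_sub_cancel, ← two_smul K, inv_smul_smul₀ h2]]
  exact U.smul_mem _ (add_mem (h1 ⟨add_mem hx k1, mem_fix.2 (by rw [map_add, k3, add_comm])⟩)
    (h3 ⟨sub_mem hx k1, mem_Ng.2 (by rw [map_sub, k3, neg_sub])⟩))

theorem anti_even (h2 : (2 : K) ≠ 0) {W : Submodule K M} {a b : Au K M}
    (h : ∀ x ∈ W, a x ∈ W ∧ b x ∈ W ∧ a (b x) = -b (a x)) : Even (finrank K W) := by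
  let A : W →ₗ[K] W := (a : M →ₗ[K] M).restrict fun x hx => (h x hx).1
  let B : W →ₗ[K] W := (b : M →ₗ[K] M).restrict fun x hx => (h x hx).2.1
  have e : A * B = (-1 : K) • (B * A) := LinearMap.ext fun x => Subtype.ext (by simpa [A, B] using (h x x.2).2.2)
  have nz : ∀ (c : Au K M) (hc : ∀ x ∈ W, (c : M →ₗ[K] M) x ∈ W), LinearMap.det ((c : M →ₗ[K] M).restrict hc) ≠ 0 :=
    fun c hc k => (LinearMap.bot_lt_ker_of_det_eq_zero k).ne' ((Submodule.eq_bot_iff _).2 fun x hx =>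
      Subtype.ext (c.injective ((congrArg Subtype.val hx).trans (map_zero c).symm)))
  have := congrArg LinearMap.det e
  rw [LinearMap.det_smul, map_mul, map_mul, mul_comm (LinearMap.det B)] at this
  refine (Nat.even_or_odd _).resolve_right fun o => mul_ne_zero (a := LinearMap.det A) (b := LinearMap.det B) (nz a _)
    (nz b _) (mul_left_cancel₀ h2 ?_)
  rw [o.neg_one_pow] at this
  linear_combination this

theorem det_invol (h2 : (2 : K) ≠ 0) (s : Au K M) (h : ∀ x, s (s x) = x) :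
    LinearMap.det (s : M →ₗ[K] M) = (-1) ^ finrank K (Ng s) := by
  have c : IsCompl (Ng s) (fix s) := ⟨Submodule.disjoint_def.2 fun x a b => eq_zero_of_neg h2 ((mem_fix.1 b).symm.trans
    (mem_Ng.1 a)), codisjoint_iff_le_sup.2 (le_of_split h2 (fun x _ => ⟨trivial, h x⟩) (le_sup_of_le_right inf_le_right)
      (le_sup_of_le_left inf_le_right))⟩
  let e := Submodule.prodEquivOfIsCompl _ _ c
  have : (s : M →ₗ[K] M) = e.toLinearMap ∘ₗ LinearMap.prodMap ((-1 : K) • LinearMap.id) LinearMap.id ∘ₗ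
      e.symm.toLinearMap := LinearMap.ext fun x => by
    obtain ⟨⟨y, z⟩, rfl⟩ := e.surjective x
    simp [e, mem_fix.1 z.2, mem_Ng.1 y.2]
  rw [this, LinearMap.det_conj, LinearMap.det_prodMap, LinearMap.det_smul]; simp

theorem ex_eig [IsAlgClosed K] {W : Submodule K M} (hW : W ≠ ⊥) (g : Au K M) (h : ∀ x ∈ W, g x ∈ W) :
    ∃ x ∈ W, x ≠ 0 ∧ ∃ c : K, g x = c • x := by
  have := Submodule.nontrivial_iff_ne_bot.2 hW
  obtain ⟨c, hc⟩ := Module.End.exists_eigenvalue ((g : M →ₗ[K] M).restrict h : W →ₗ[K] W)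
  obtain ⟨x, hx⟩ := hc.exists_hasEigenvector
  exact ⟨x, x.2, fun e => hx.2 (Subtype.ext e), c, congrArg Subtype.val hx.apply_eq_smul⟩

theorem line_sq {q : QuadraticForm K M} {W : Submodule K M} (hW : (CForm.ofQuad q).NondegOn W) (h1 : finrank K W ≤ 1)
    {g : Au K M} (hg : g ∈ orth q) (h : ∀ x ∈ W, g x ∈ W) : W ≤ fix (g * g) := fun x hx => by
  by_cases x0 : x = 0
  · rw [x0]; exact zero_mem _
  have k := (finrank_eq_one_iff_of_nonzero' (K := K) (⟨x, hx⟩ : W) fun e => x0 (congrArg Subtype.val e)).1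
    (le_antisymm h1 (Submodule.one_le_finrank_iff.2 ((Submodule.ne_bot_iff _).2 ⟨x, hx, x0⟩)))
  obtain ⟨c, hc⟩ := k ⟨_, h x hx⟩
  replace hc : g x = c • x := (congrArg Subtype.val hc).symm
  have n : polar q x x ≠ 0 := fun e => x0 (hW x hx fun y hy => by
    obtain ⟨d, hd⟩ := k ⟨y, hy⟩
    rw [show y = d • x from (congrArg Subtype.val hd).symm, CForm.ofQuad_B, polar_smul_right, e, smul_zero])
  have := orth_polar ⟨g, hg⟩ x x
  simp only [hc, polar_smul_left, polar_smul_right, smul_eq_mul, ← mul_assoc, mul_eq_right₀ n] at this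
  rw [mem_fix, LinearEquiv.mul_apply, hc, map_smul, hc, smul_smul, this, one_smul]

theorem fr_map (g : Au K M) {W U : Submodule K M} (h : ∀ x, x ∈ W ↔ g x ∈ U) : finrank K W = finrank K U := by
  rw [← LinearEquiv.finrank_map_eq g W]
  refine congrArg (fun U : Submodule K M => finrank K U) (Submodule.ext fun x => ?_)
  rw [Submodule.mem_map_equiv, h, g.apply_symm_apply]
end

section
variable {K : Type u} [Field K] {G : Type v} [Group G] (R : Rp K G)

theorem Qu.sw {z i j : G} (h : Qu z i j) : Qu z j i :=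
  ⟨h.jj, h.ii, by rw [h.ij, ← mul_assoc, h.zz, one_mul], h.zz, h.z1⟩
theorem Qu.kk {z i j : G} (h : Qu z i j) : i * j * (i * j) = z := by
  nth_rw 1 [h.ij]
  rw [mul_assoc, mul_assoc, ← mul_assoc i i, h.ii, ← mul_assoc j, h.cj.eq, mul_assoc z, h.jj, h.zz, mul_one]
theorem anti {z i j : G} (h : Qu z i j) {x : V K} (hx : x ∈ Ng (R.ρ z)) : R.ρ i (R.ρ j x) = -R.ρ j (R.ρ i x) := by
  rw [← R.ρ_mul, h.ij, R.ρ_mul, R.ρ_mul, mem_Ng.1 (R.ng_comm h.cj (R.ng_comm h.ci hx))]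
theorem qu_even {z i j : G} (h : Qu z i j) {W : Submodule K (V K)} (le : W ≤ Ng (R.ρ z))
    (k : ∀ x ∈ W, R.ρ i x ∈ W ∧ R.ρ j x ∈ W) : Even (finrank K W) :=
  anti_even R.two fun x hx => ⟨(k x hx).1, (k x hx).2, anti R h (le hx)⟩

theorem ng_even {z i j : G} (h : Qu z i j) : Even (finrank K (Ng (R.ρ i))) := by
  have h2 := R.two
  let a : V K →ₗ[K] V K := R.ρ i
  let b : V K →ₗ[K] V K := R.ρ j
  have a4 : ∀ x, a (a (a (a x))) = x := fun x => by
    simp only [a, LinearEquiv.coe_coe]; rw [← R.ρ_mul, ← R.ρ_mul i i x, h.ii, R.ρρ h.zz]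
  have ba : ∀ x, b (a x) = a (a (a (b x))) := fun x => by
    simp only [a, b, LinearEquiv.coe_coe]; rw [← R.ρ_mul, (Qu.sw h).ij, ← h.ii, R.ρ_mul, R.ρ_mul, R.ρ_mul]
  let s : V K →ₗ[K] V K := (2 : K)⁻¹ • (1 + a - a * a + a * a * a)
  have ss : Function.Involutive s := fun x => by
    simp only [s, LinearMap.smul_apply, LinearMap.add_apply, LinearMap.sub_apply, Module.End.mul_apply,
      Module.End.one_apply, map_add, map_sub, map_smul, a4]
    match_scalars <;> field_simp <;> ring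
  let m : V K →ₗ[K] V K := (2 : K) • 1 + a - a * a * a
  let m' : V K →ₗ[K] V K := (2 : K) • 1 - a + a * a * a
  have e1 : s * m = a * m' := LinearMap.ext fun x => by
    simp only [s, m, m', LinearMap.smul_apply, LinearMap.add_apply, LinearMap.sub_apply, Module.End.mul_apply,
      Module.End.one_apply, map_add, map_sub, map_smul, a4]
    match_scalars <;> field_simp <;> ring
  have e2 : b * m = m' * b := LinearMap.ext fun x => by
    simp only [m, m', LinearMap.smul_apply, LinearMap.add_apply, LinearMap.sub_apply, Module.End.mul_apply,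
      Module.End.one_apply, map_add, map_sub, map_smul, ba, a4]
    module
  have e3 : m * (((2 : K)⁻¹ * 2⁻¹ * 2⁻¹) • ((3 : K) • 1 - a + a * a + a * a * a)) = 1 := LinearMap.ext fun x => by
    simp only [m, LinearMap.smul_apply, LinearMap.add_apply, LinearMap.sub_apply, Module.End.mul_apply,
      Module.End.one_apply, map_add, map_sub, map_smul, a4]
    match_scalars <;> field_simp <;> ring
  have d1 := congrArg LinearMap.det e1
  have d2 := congrArg LinearMap.det e2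
  have d3 := congrArg LinearMap.det e3
  have d := det_invol h2 (LinearEquiv.ofInvolutive s ss) ss
  simp only [map_mul, map_one, a, b, R.det, one_mul, mul_one] at d1 d2 d3
  rw [← d2, mul_eq_right₀ (left_ne_zero_of_mul_eq_one d3)] at d1
  rw [show Ng (LinearEquiv.ofInvolutive s ss) = Ng (R.ρ i) from Submodule.ext fun x => ?_] at d
  · refine (Nat.even_or_odd _).resolve_right fun o => h2 ?_
    rw [o.neg_one_pow] at d
    linear_combination d1.symm.trans d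
  rw [mem_Ng, mem_Ng]
  change s x = -x ↔ a x = -x
  simp only [s, LinearMap.smul_apply, LinearMap.add_apply, LinearMap.sub_apply, Module.End.mul_apply, Module.End.one_apply]
  refine ⟨fun e => ?_, fun e => ?_⟩
  · have e1 := congrArg a e
    have e2 := congrArg a e1
    have e3 := congrArg a e2
    simp only [map_add, map_sub, map_smul, map_neg, a4] at e1 e2 e3
    have k : a (a x) = x := by
      refine smul_right_injective _ (mul_ne_zero h2 h2) ?_
      have i := mul_inv_cancel₀ h2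
      linear_combination (norm := module) (2 : K) • e2 - (2 : K) • e + (2 * i) • (x - a (a x))
    rw [k] at e
    have i := mul_inv_cancel₀ h2
    linear_combination (norm := module) e - i • a x
  · simp only [e, map_neg, neg_neg]
    match_scalars; field_simp; ring

theorem a4c {t y : G} (h : A4 t y) : Commute t (y * t * y⁻¹) := by
  have a : y * t * y⁻¹ * (y * t * y⁻¹) = 1 := by rw [conj_mul, h.tt, mul_one, mul_inv_cancel]
  have b : t * (y * t * y⁻¹) * (t * (y * t * y⁻¹)) = 1 := by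
    rw [h.rel, mul_assoc, ← mul_assoc y, ← mul_assoc y, mul_inv_cancel, one_mul, mul_assoc, ← mul_assoc t, h.tt, one_mul,
      inv_mul_cancel]
  rw [commute_iff_eq, eq_inv_of_mul_eq_one_left b, mul_inv_rev, inv_eq_of_mul_eq_one_left a,
    inv_eq_of_mul_eq_one_left h.tt]
theorem a4y {t y : G} (h : A4 t y) : y * (y * t * y⁻¹) = t * (y * t * y⁻¹) * y := by
  have : y⁻¹ = y * y := by rw [inv_eq_iff_mul_eq_one, ← h.y3, pow_three]
  rw [h.rel]; simp [this, mul_assoc]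
end

theorem ak : AK.{u, v} := by
  intro K _ _ G _ _ R
  have p2 : ∀ (A : Subgroup G) x, x ≠ 0 → (∀ a ∈ A, ∃ c : K, R.ρ a x = c • x) → A.index ≤ 6 → ¬ R.Irr := by
    classical
    intro A x x0 h i hi
    have := Fintype.ofFinite (G ⧸ A)
    have k : ∀ g, R.ρ g x ∈ Submodule.span K (Set.range fun q : G ⧸ A => R.ρ q.out x) := fun g => by
      obtain ⟨a, ha⟩ := QuotientGroup.mk_out_eq_mul A g
      obtain ⟨c, hc⟩ := h _ (inv_mem a.2)
      rw [show g = (g : G ⧸ A).out * (a : G)⁻¹ by rw [ha, mul_inv_cancel_right], R.ρ_mul, hc, map_smul]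
      exact Submodule.smul_mem _ _ (Submodule.subset_span ⟨_, rfl⟩)
    rcases hi _ (fun g y hy => Submodule.span_induction (p := fun y _ => R.ρ g y ∈ Submodule.span K
      (Set.range fun q : G ⧸ A => R.ρ q.out x)) (by rintro _ ⟨q, rfl⟩; rw [← R.ρ_mul]; exact k _) (by simp)
      (fun a b _ _ p q => by rw [map_add]; exact add_mem p q)
      (fun c a _ p => by rw [map_smul]; exact Submodule.smul_mem _ _ p) hy) with e | e
    · exact x0 (by have := k 1; rw [e, map_one] at this; exact this)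
    · have := finrank_range_le_card (R := K) fun q : G ⧸ A => R.ρ q.out x
      rw [Set.finrank, e, finrank_top, finrank_V, ← Nat.card_eq_fintype_card, ← index_eq_card] at this
      omega
  have key : ∀ t y, A4 t y → ∀ x, (R.ρ (y * t * y⁻¹) (R.ρ y x) = R.ρ y (R.ρ t x)) ∧
      R.ρ t (R.ρ (y * t * y⁻¹) (R.ρ y x)) = R.ρ y (R.ρ (y * t * y⁻¹) x) ∧
      R.ρ t (R.ρ y x) = R.ρ y (R.ρ t (R.ρ (y * t * y⁻¹) x)) := fun t y h x => by
    simp only [← R.ρ_mul]
    refine ⟨by rw [inv_mul_cancel_right], by rw [a4y h, mul_assoc t _ y], by rw [h.rel]; congr 2; group⟩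
  have w0 : ∀ t y, A4 t y → ∀ x ∈ fix (R.ρ t) ⊓ fix (R.ρ (y * t * y⁻¹)), R.ρ y x ∈ fix (R.ρ t) ⊓ fix (R.ρ (y * t * y⁻¹)) :=
    fun t y h x hx => ⟨mem_fix.2 (by rw [(key t y h x).2.2, mem_fix.1 hx.2, mem_fix.1 hx.1]),
      mem_fix.2 (by rw [(key t y h x).1, mem_fix.1 hx.1])⟩
  have e2' := fun t y (h : A4 t y) => (e2 K G R).2.1 (y * t * y⁻¹) t (by rw [conj_mul, h.tt, mul_one, mul_inv_cancel]) h.tt
    (a4c h).symm (R.r_conj _ _) (by rw [← (a4c h).eq, h.rel]; simpa using R.r_conj y⁻¹ t)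
  refine ⟨fun t y h r4 => ?_, p2, fun t y h i => ?_⟩
  · obtain ⟨x, q, x1, x2, x3⟩ := e2' t y h
    have fx : ∀ c, c ^ 3 = 1 → R.ρ c x ∈ fix (R.ρ t) ⊓ fix (R.ρ (y * t * y⁻¹)) → R.ρ c x = x := fun c c3 hc => by
      obtain ⟨d, hd⟩ := x3 r4 _ (mem_fix.1 hc.2) (mem_fix.1 hc.1)
      have a := R.Q_ρ c x
      rw [hd, Q_smul, mul_eq_right₀ q] at a
      have : R.ρ c (R.ρ c (R.ρ c x)) = x := by rw [← R.ρ_mul, ← R.ρ_mul, ← pow_three', c3, map_one]; rfl
      rwa [hd, map_smul, hd, smul_smul, a, one_smul] at this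
    have tt' : y * t * y⁻¹ * (y * t * y⁻¹) = 1 := by rw [conj_mul, h.tt, mul_one, mul_inv_cancel]
    have r' := R.r_conj y t
    have r'' : R.r (t * (y * t * y⁻¹)) = 4 := by rw [h.rel, ← r4]; simpa using R.r_conj y⁻¹ t
    have f := R.four h.tt tt' (a4c h)
    have x0 : x ≠ 0 := fun e => q (by rw [e, map_zero])
    have hx : x ∈ fix (R.ρ t) ⊓ fix (R.ρ (y * t * y⁻¹)) := ⟨mem_fix.2 x2, mem_fix.2 x1⟩
    refine ⟨?_, fun c c3 c1 c2 r => ?_⟩
    · obtain ⟨k, hk⟩ := ev K _ _ R.two (Q_nd R.two) _ (R.iso y) 3 (by decide) (by rw [← map_pow, h.y3, map_one])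
      have a := Submodule.finrank_sup_add_finrank_inf_eq (fix (R.ρ y)) (Ng (R.ρ t))
      rw [show fix (R.ρ y) ⊓ Ng (R.ρ t) = ⊥ from (Submodule.eq_bot_iff _).2 fun v hv => by
        obtain ⟨k1, k2, -⟩ := key t y h v
        rw [mem_fix.1 hv.1, mem_Ng.1 hv.2, map_neg, mem_fix.1 hv.1] at k1
        rw [mem_fix.1 hv.1, k1, map_neg, map_neg, mem_fix.1 hv.1, mem_Ng.1 hv.2, neg_neg] at k2
        exact eq_zero_of_neg R.two k2, finrank_bot, R.fr_Ng h.tt] at a
      have := (fix (R.ρ y) ⊔ Ng (R.ρ t)).finrank_le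
      have := R.fr_fix y
      rw [finrank_V] at *
      change R.r y = _ at hk
      by_contra n
      obtain ⟨b, hb, b0⟩ := (Submodule.ne_bot_iff _).1 (Submodule.one_le_finrank_iff.1 (by omega :
        1 ≤ finrank K ↥(Ng (R.ρ t) ⊓ Ng (R.ρ (y * t * y⁻¹)))))
      have y3 : R.ρ y (R.ρ y (R.ρ y b)) = b := by rw [← R.ρ_mul, ← R.ρ_mul, ← pow_three', h.y3, map_one]; rfl
      obtain ⟨d, hd⟩ := (finrank_eq_one_iff_of_nonzero' (K := K) (⟨x, mem_fix.2 (fx y h.y3 (w0 t y h x hx))⟩ : fix (R.ρ y))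
        fun e => x0 (congrArg Subtype.val e)).1 (by omega) ⟨b + R.ρ y b + R.ρ y (R.ρ y b),
          mem_fix.2 (by rw [map_add, map_add, y3]; abel)⟩
      replace hd : d • x = b + R.ρ y b + R.ρ y (R.ρ y b) := congrArg Subtype.val hd
      have k1 := (key t y h b).1
      have k3 := (key t y h b).2.2
      have k4 := (key t y h (R.ρ y b)).1
      rw [mem_Ng.1 hb.1, map_neg] at k1
      rw [mem_Ng.1 hb.2, map_neg, mem_Ng.1 hb.1, neg_neg] at k3
      rw [k3] at k4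
      have := congrArg (R.ρ (y * t * y⁻¹)) hd
      rw [map_smul, x1, hd, map_add, map_add, k1, k4, mem_Ng.1 hb.2] at this
      have e : b + R.ρ y b = 0 := eq_zero_of_neg R.two (by linear_combination (norm := module) this)
      have := congrArg (R.ρ t) e
      rw [map_add, k3, mem_Ng.1 hb.1, map_zero] at this
      exact b0 (eq_zero_of_neg R.two (by linear_combination (norm := module) e - this))
    · have c3' : Commute c (y * t * y⁻¹) := (c2.mul_right c1).mul_right c2.inv_right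
      have a := split R.two (W := fix (R.ρ c)) (a := R.ρ t) fun x hx => ⟨R.fix_comm c1.symm hx, R.ρρ h.tt x⟩
      have a1 := split R.two (W := fix (R.ρ c) ⊓ fix (R.ρ t)) (a := R.ρ (y * t * y⁻¹)) fun x hx =>
        ⟨⟨R.fix_comm c3'.symm hx.1, R.fix_comm (a4c h).symm hx.2⟩, R.ρρ tt' x⟩
      have a2 := split R.two (W := fix (R.ρ c) ⊓ Ng (R.ρ t)) (a := R.ρ (y * t * y⁻¹)) fun x hx =>
        ⟨⟨R.fix_comm c3'.symm hx.1, R.ng_comm (a4c h).symm hx.2⟩, R.ρρ tt' x⟩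
      have i := (R.ρ y).injective
      have cy : ∀ v, R.ρ y v ∈ fix (R.ρ c) ↔ v ∈ fix (R.ρ c) := fun v => by rw [mem_fix, mem_fix, R.ρ_comm c2, i.eq_iff]
      have b1 := fr_map (R.ρ y) (W := fix (R.ρ c) ⊓ Ng (R.ρ t) ⊓ Ng (R.ρ (y * t * y⁻¹)))
        (U := fix (R.ρ c) ⊓ fix (R.ρ t) ⊓ Ng (R.ρ (y * t * y⁻¹))) fun v => by
          obtain ⟨k1, -, k3⟩ := key t y h v
          simp only [Submodule.mem_inf, cy, mem_Ng, k1, ← map_neg, i.eq_iff, and_assoc]
          simp only [mem_fix, k3, i.eq_iff]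
          refine and_congr_right fun _ => ⟨fun ⟨p, q⟩ => ⟨by rw [q, map_neg, p, neg_neg], p⟩, fun ⟨p, q⟩ => ⟨q, ?_⟩⟩
          rwa [R.ρ_comm (a4c h), q, map_neg, neg_eq_iff_eq_neg] at p
      have b2 := fr_map (R.ρ y) (W := fix (R.ρ c) ⊓ fix (R.ρ t) ⊓ Ng (R.ρ (y * t * y⁻¹)))
        (U := fix (R.ρ c) ⊓ Ng (R.ρ t) ⊓ fix (R.ρ (y * t * y⁻¹))) fun v => by
          obtain ⟨k1, -, k3⟩ := key t y h v
          simp only [Submodule.mem_inf, cy, mem_Ng, k3, ← map_neg, i.eq_iff, and_assoc]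
          simp only [mem_fix, k1, i.eq_iff]
          refine and_congr_right fun _ => ⟨fun ⟨p, q⟩ => ⟨by rw [q, map_neg, p], p⟩, fun ⟨p, q⟩ => ⟨q, ?_⟩⟩
          rwa [R.ρ_comm (a4c h), q] at p
      have b0 : finrank K ↥(fix (R.ρ c) ⊓ fix (R.ρ t) ⊓ fix (R.ρ (y * t * y⁻¹))) = 1 :=
        (finrank_eq_one_iff_of_nonzero' (K := K) (⟨x, ⟨mem_fix.2 (fx c c3 ⟨R.fix_comm c1 hx.1, R.fix_comm c3' hx.2⟩), hx.1⟩,
          hx.2⟩ : ↥(fix (R.ρ c) ⊓ fix (R.ρ t) ⊓ fix (R.ρ (y * t * y⁻¹)))) fun e => x0 (congrArg Subtype.val e)).2 fun v => by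
            obtain ⟨d, hd⟩ := x3 r4 v (mem_fix.1 v.2.2) (mem_fix.1 v.2.1.2)
            exact ⟨d, Subtype.ext hd.symm⟩
      have := R.fr_fix c
      omega
  · obtain ⟨x, q, x1, x2, -⟩ := e2' t y h
    obtain ⟨v, hv, v0, c, hc⟩ := ex_eig (W := fix (R.ρ t) ⊓ fix (R.ρ (y * t * y⁻¹))) ((Submodule.ne_bot_iff _).2
      ⟨x, ⟨mem_fix.2 x2, mem_fix.2 x1⟩, fun e => q (by
      rw [e, map_zero])⟩) _ (w0 t y h)
    refine p2 _ v v0 (fun a ha => ?_) i
    induction ha using closure_induction with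
    | mem a ha =>
      rcases ha with rfl | rfl
      exacts [⟨1, by rw [mem_fix.1 hv.1, one_smul]⟩, ⟨c, hc⟩]
    | one => exact ⟨1, by simp⟩
    | mul a b _ _ p q =>
      obtain ⟨c, hc⟩ := p
      obtain ⟨d, hd⟩ := q
      exact ⟨d * c, by rw [R.ρ_mul, hd, map_smul, hc, smul_smul]⟩
    | inv a _ p =>
      obtain ⟨c, hc⟩ := p
      have c0 : c ≠ 0 := fun e => v0 ((R.ρ a).injective (by rw [hc, e, zero_smul, map_zero]))
      exact ⟨c⁻¹, by rw [eq_inv_smul_iff₀ c0, ← map_smul, ← hc, ← R.ρ_mul, inv_mul_cancel, map_one]; rfl⟩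

theorem kd : KD.{u, v} := by
  intro K _ _ G _ R z i j
  refine ⟨fun h n1 n2 n3 g c1 c2 => ?_, fun n od jn j1 t1 t2 r1 r2 => ?_⟩
  · have cz : Commute g z := h.ii ▸ c1.mul_right c1
    have sq : ∀ {a : G}, a * a = z → ∀ x ∈ fix (R.ρ z), R.ρ a (R.ρ a x) = x := fun e x hx => by
      rw [← R.ρ_mul, e, mem_fix.1 hx]
    have cm : ∀ x ∈ fix (R.ρ z), R.ρ i (R.ρ j x) = R.ρ j (R.ρ i x) := fun x hx => by
      rw [← R.ρ_mul, h.ij, R.ρ_mul, R.ρ_mul, mem_fix.1 (R.fix_comm h.cj (R.fix_comm h.ci hx))]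
    have hi : ∀ x ∈ fix (R.ρ z), R.ρ i x ∈ fix (R.ρ z) ∧ R.ρ i (R.ρ i x) = x := fun x hx => ⟨R.fix_comm h.ci hx, sq h.ii x hx⟩
    have hj : ∀ x ∈ fix (R.ρ z), R.ρ j x ∈ fix (R.ρ z) ∧ R.ρ j (R.ρ j x) = x := fun x hx => ⟨R.fix_comm h.cj hx, sq h.jj x hx⟩
    have j1 : ∀ x ∈ fix (R.ρ z) ⊓ fix (R.ρ i), R.ρ j x ∈ fix (R.ρ z) ⊓ fix (R.ρ i) ∧ R.ρ j (R.ρ j x) = x := fun x hx =>
      ⟨⟨(hj x hx.1).1, mem_fix.2 (by rw [cm x hx.1, mem_fix.1 hx.2])⟩, (hj x hx.1).2⟩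
    have j2 : ∀ x ∈ fix (R.ρ z) ⊓ Ng (R.ρ i), R.ρ j x ∈ fix (R.ρ z) ⊓ Ng (R.ρ i) ∧ R.ρ j (R.ρ j x) = x := fun x hx =>
      ⟨⟨(hj x hx.1).1, mem_Ng.2 (by rw [cm x hx.1, mem_Ng.1 hx.2, map_neg])⟩, (hj x hx.1).2⟩
    have i2 : ∀ x ∈ fix (R.ρ z) ⊓ Ng (R.ρ j), R.ρ i x ∈ fix (R.ρ z) ⊓ Ng (R.ρ j) ∧ R.ρ i (R.ρ i x) = x := fun x hx =>
      ⟨⟨(hi x hx.1).1, mem_Ng.2 (by rw [← cm x hx.1, mem_Ng.1 hx.2, map_neg])⟩, (hi x hx.1).2⟩
    have a := split R.two hi
    have a1 := split R.two j1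
    have a2 := split R.two j2
    have a3 := split R.two i2
    rw [inf_right_comm _ (Ng (R.ρ j)), inf_right_comm _ (Ng (R.ρ j))] at a3
    have ng : ∀ {a : G}, a * a = z → fix (R.ρ z) ⊓ Ng (R.ρ a) = Ng (R.ρ a) := fun e => inf_eq_right.2 fun x hx =>
      mem_fix.2 (by rw [← e, R.ρ_mul, mem_Ng.1 hx, map_neg, mem_Ng.1 hx, neg_neg])
    have nt : ∀ {a : G}, a * a = z → a ∉ R.Tp z → 1 ≤ finrank K ↥(fix (R.ρ z) ⊓ Ng (R.ρ a)) := fun {a} e n => by
      have c : Commute a z := e ▸ (Commute.refl a).mul_right (Commute.refl a)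
      refine Submodule.one_le_finrank_iff.2 fun b => n (R.mem_Tp.2 ⟨c.symm, fun x hx => mem_fix.1 (le_of_split R.two
        (fun x hx => ⟨R.fix_comm c hx, sq e x hx⟩) inf_le_right (b.le.trans bot_le) (mem_fix.2 hx))⟩)
    have b1 := nt h.ii n1
    have b2 := nt h.jj n2
    obtain ⟨k1, e1⟩ := ng h.ii ▸ ng_even R h
    obtain ⟨k2, e2⟩ := ng h.jj ▸ ng_even R (Qu.sw h)
    have f := R.fr_fix z
    rw [R.qu h] at f
    have b3 : 1 ≤ finrank K ↥(fix (R.ρ z) ⊓ fix (R.ρ i) ⊓ Ng (R.ρ j)) + finrank K ↥(fix (R.ρ z) ⊓ Ng (R.ρ i) ⊓ fix (R.ρ j)) := by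
      by_contra k
      refine n3 (R.mem_Tp.2 ⟨(h.ci.mul_left h.cj).symm, fun x hx => mem_fix.1 (le_of_split R.two hi
        (le_of_split R.two j1 (fun y hy => ?_) ((Submodule.finrank_eq_zero.1 (by omega)).le.trans bot_le))
        (le_of_split R.two j2 ((Submodule.finrank_eq_zero.1 (by omega)).le.trans bot_le) fun y hy => ?_) (mem_fix.2 hx))⟩)
      · rw [mem_fix, R.ρ_mul, mem_fix.1 hy.2, mem_fix.1 hy.1.2]
      · rw [mem_fix, R.ρ_mul, mem_Ng.1 hy.2, map_neg, mem_Ng.1 hy.1.2, neg_neg]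
    have d1 := nd_fix R.two (R.nd_fix h.zz) (R.iso i) hi
    have d2 := nd_Ng R.two (R.nd_fix h.zz) (R.iso i) hi
    refine R.mem_Tp.2 ⟨(cz.mul_left cz).symm, fun x hx => ?_⟩
    rw [map_mul]
    exact mem_fix.1 (le_of_split R.two hi (le_of_split R.two j1
      (line_sq (nd_fix R.two d1 (R.iso j) j1) (by omega) (R.iso g) fun x hx =>
        ⟨⟨R.fix_comm cz hx.1.1, R.fix_comm c1 hx.1.2⟩, R.fix_comm c2 hx.2⟩)
      (line_sq (nd_Ng R.two d1 (R.iso j) j1) (by omega) (R.iso g) fun x hx =>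
        ⟨⟨R.fix_comm cz hx.1.1, R.fix_comm c1 hx.1.2⟩, R.ng_comm c2 hx.2⟩)) (le_of_split R.two j2
      (line_sq (nd_fix R.two d2 (R.iso j) j2) (by omega) (R.iso g) fun x hx =>
        ⟨⟨R.fix_comm cz hx.1.1, R.ng_comm c1 hx.1.2⟩, R.fix_comm c2 hx.2⟩)
      (line_sq (nd_Ng R.two d2 (R.iso j) j2) (by omega) (R.iso g) fun x hx =>
        ⟨⟨R.fix_comm cz hx.1.1, R.ng_comm c1 hx.1.2⟩, R.ng_comm c2 hx.2⟩)) (mem_fix.2 hx))
  · obtain ⟨k, hk⟩ := ev K _ _ R.two (Q_nd R.two) _ (R.iso j) n od (by rw [← map_pow, jn, map_one])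
    change R.r j = _ at hk
    have a := Submodule.finrank_sup_add_finrank_inf_eq (fix (R.ρ z)) (fix (R.ρ i))
    have := Submodule.finrank_mono (sup_le (fun x hx => mem_fix.2 ((R.mem_Tp.1 t1).2 x (mem_fix.1 hx)))
      fun x hx => mem_fix.2 ((R.mem_Tp.1 t2).2 x (mem_fix.1 hx)) : fix (R.ρ z) ⊔ fix (R.ρ i) ≤ fix (R.ρ j))
    have := R.fr_fix z
    have := R.fr_fix i
    have := R.fr_fix j
    have := R.r_ne j1
    obtain ⟨x, hx, x0⟩ := (Submodule.ne_bot_iff _).1 (Submodule.one_le_finrank_iff.1 (by omega :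
      1 ≤ finrank K ↥(fix (R.ρ z) ⊓ fix (R.ρ i))))
    exact ⟨x, x0, mem_fix.1 hx.1, mem_fix.1 hx.2⟩

theorem tp_normal {K : Type u} [Field K] {G : Type v} [Group G] (R : Rp K G) {H : Type*} [Group H] (φ : H →* G) {z : G}
    (h : ∀ a, Commute (φ a) z) : ((R.Tp z).comap φ).Normal := ⟨fun a ha g => R.mem_Tp.2 ⟨(h _).symm, fun x hx => by
      have := (R.mem_Tp.1 ha).2 _ (mem_fix.1 (R.fix_comm (h g⁻¹) (mem_fix.2 hx)))
      rw [map_mul φ, map_mul φ, R.ρ_mul, R.ρ_mul, this, ← R.ρ_mul, ← map_mul, mul_inv_cancel, map_one, map_one]; rfl⟩⟩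

theorem two_of_odd {F : Type} [Field F] [Fintype F] (h : Odd (Fintype.card F)) : (2 : F) ≠ 0 := fun e => by
  have : CharP F 2 := (CharP.charP_iff_prime_eq_zero Nat.prime_two).2 e
  exact Nat.not_odd_iff.2 (FiniteField.even_card_iff_char_two.1 (ringChar.eq F 2)) h

theorem four_mem {F : Type} [Field F] [Fintype F] (h : Odd (Fintype.card F)) {a : SL(2, F)} (e : a * a = -1) :
    a ∈ commutator SL(2, F) := by
  obtain ⟨p, _, n, hp, hn⟩ := FiniteField.card' F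
  have od : Odd p := hp.odd_of_ne_two (by
    rintro rfl; exact two_of_odd h (by exact_mod_cast CharP.cast_eq_zero F 2))
  have := H29.BB.top_of_upper (K := ((powMonoidHom p).comp Abelianization.of).ker) (g := H13.SL2.y (1 : F)) (fun t => by
    rw [MonoidHom.mem_ker, MonoidHom.comp_apply, powMonoidHom_apply, ← map_pow, show H13.SL2.x t = up t from rfl, up_pow,
      CharP.cast_eq_zero, zero_mul, up_zero, map_one]) (by
    rw [MonoidHom.mem_ker, MonoidHom.comp_apply, powMonoidHom_apply, ← map_pow, H29.PU.y_pow,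
      CharP.cast_eq_zero, zero_mul, H13.SL2.y_zero, map_one]) (by simp [H13.SL2.y])
  have k : Abelianization.of a ^ p = 1 := (this.ge (mem_top a) :)
  have l : Abelianization.of a ^ 4 = 1 := by
    rw [← map_pow, show a ^ 4 = a * a * (a * a) by simp [pow_succ, mul_assoc], e]; simp
  have := pow_gcd_eq_one.2 ⟨k, l⟩
  rw [show p.gcd 4 = 1 from (Nat.coprime_two_right.2 od).pow_right 2, pow_one] at this
  exact (QuotientGroup.eq_one_iff a).1 this

theorem ks : KS.{u, v} := by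
  intro K _ _ G _ R F₁ F₂ _ _ _ _ φ₁ φ₂ z o1 o2 z1 z2 n c
  obtain ⟨i, j, ii, jj, h0⟩ := ex_qu (MonoidHom.id SL(2, F₂)) fun e => n (by rw [← z2, show (-1 : SL(2, F₂)) = 1 from e, map_one])
  have h : Qu z (φ₂ i) (φ₂ j) := ⟨by rw [← map_mul, ii, z2], by rw [← map_mul, jj, z2],
    by rw [← z2, ← map_mul, ← map_mul, ← map_mul]; exact congrArg φ₂ h0.ij, by rw [← z2, ← map_mul]; simp, n⟩
  refine ⟨R.qu h, ?_⟩
  by_cases k : ∃ a, a * a = -1 ∧ φ₂ a ∈ R.Tp z
  · obtain ⟨a, aa, ha⟩ := k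
    have := tp_normal R φ₂ (z := z) fun a => z1 ▸ (c _ a).symm
    have le := (H29.BB.normal_cases ((R.Tp z).comap φ₂)).resolve_left fun e => n (by
      rcases H29.BB.center_iff.1 (e ha) with rfl | rfl <;> rw [← z2, ← aa] <;> simp)
    refine .inr ⟨fun b bb => le (four_mem o2 bb), fun h5 => ?_⟩
    obtain ⟨a, ha⟩ := ex_sq_ne h5
    rw [Matrix.SL2.commutator_eq_top a.ne_zero (by rwa [pow_two])] at le
    rintro _ ⟨b, rfl⟩
    exact le (mem_top b)
  · push Not at k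
    have ij : i * j * (i * j) = -1 := Qu.kk h0
    have sq := fun a => (kd K G R z _ _).1 h (k i ii) (k j jj) (map_mul φ₂ i j ▸ k _ ij) (φ₁ a) (c _ _) (c _ _)
    have t := two_of_odd o1
    have := H29.BB.top_of_upper (K := (R.Tp z).comap φ₁) (g := H13.SL2.y 1 * H13.SL2.y (1 : F₁)) (fun s => by
      rw [show s = s / 2 + s / 2 by field_simp; ring, H13.SL2.x_add, mem_comap, map_mul]; exact sq _)
      (by rw [mem_comap, map_mul]; exact sq _) (by rw [← H13.SL2.y_add, one_add_one_eq_two]; simpa [H13.SL2.y])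
    refine .inl ?_
    rintro _ ⟨b, rfl⟩
    exact this.ge (mem_top b)

end H25.O7
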