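/-
S5815: the pieces `K3`, `XS3`.
-/
import Cfsg.Agent.H25.O7B

set_option autoImplicit false
set_option linter.unusedSectionVars false

open Module QuadraticMap H12 Cfsg MatrixGroups Subgroup H26.O7
namespace H25.O7
universe u v

section
variable {K : Type u} [Field K] {G : Type v} [Group G] (R : Rp K G)

/-- stabiliser of a subspace -/
def stab (W : Submodule K (V K)) : Subgroup G where
  carrier := {g | ∀ x ∈ W, R.ρ g x ∈ W}
  one_mem' := fun x hx => by rwa [map_one]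
  mul_mem' := fun ha hb x hx => by rw [R.ρ_mul]; exact ha _ (hb x hx)
  inv_mem' := fun {g} hg x hx => by
    have e : W.map (R.ρ g : V K →ₗ[K] V K) = W := Submodule.eq_of_le_of_finrank_eq (by
      rintro _ ⟨y, hy, rfl⟩; exact hg y hy) (LinearEquiv.finrank_map_eq _ _)
    obtain ⟨y, hy, rfl⟩ := e.ge hx
    rwa [LinearEquiv.coe_coe, ← R.ρ_mul, inv_mul_cancel, map_one]

theorem map_lt {f : V K →ₗ[K] V K} {n : ℕ} (hn : f ^ n = 0) {U : Submodule K (V K)} (h : U.map f ≤ U) (h0 : U ≠ ⊥) :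
    finrank K (U.map f) < finrank K U := Submodule.finrank_lt_finrank_of_lt (lt_of_le_of_ne h fun e => h0 (by
  have : ∀ k, U.map (f ^ k) = U := fun k => by
    induction k with
    | zero => exact Submodule.map_id U
    | succ k ih => rw [pow_succ', Module.End.mul_eq_comp, Submodule.map_comp, ih, e]
  rw [← this n, hn, Submodule.map_zero]))

theorem nil2 [IsAlgClosed K] {z i j : G} (h : Qu z i j) {f : V K →ₗ[K] V K} {n : ℕ} (hn : f ^ n = 0)
    (ci : ∀ x, R.ρ i (f x) = f (R.ρ i x)) (cj : ∀ x, R.ρ j (f x) = f (R.ρ j x)) (hW : ∀ x ∈ Ng (R.ρ z), f x ∈ Ng (R.ρ z)) :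
    finrank K ((Ng (R.ρ z)).map f) ≤ 2 ∧ Even (finrank K ((Ng (R.ρ z)).map f)) ∧ ∀ x ∈ Ng (R.ρ z), f (f x) = 0 := by
  have d := (R.fr_Ng h.zz).trans (R.qu h)
  have le : (Ng (R.ρ z)).map f ≤ Ng (R.ρ z) := by rintro _ ⟨y, hy, rfl⟩; exact hW y hy
  have le' : ((Ng (R.ρ z)).map f).map f ≤ (Ng (R.ρ z)).map f := Submodule.map_mono le
  have st : ∀ U : Submodule K (V K), (∀ x ∈ U, R.ρ i x ∈ U ∧ R.ρ j x ∈ U) → ∀ x ∈ U.map f, R.ρ i x ∈ U.map f ∧ R.ρ j x ∈ U.map f := by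
    rintro U k _ ⟨y, hy, rfl⟩
    exact ⟨⟨_, (k y hy).1, (ci y).symm⟩, _, (k y hy).2, (cj y).symm⟩
  have s1 := st _ fun x hx => ⟨R.ng_comm h.ci hx, R.ng_comm h.cj hx⟩
  have e1 := qu_even R h le s1
  obtain ⟨l, e2⟩ := qu_even R h (le'.trans le) (st _ s1)
  have a := map_lt hn le (Submodule.one_le_finrank_iff.1 (by omega))
  refine ⟨by obtain ⟨k, hk⟩ := e1; omega, e1, fun x hx => ?_⟩
  obtain ⟨k, e1⟩ := e1
  have : ((Ng (R.ρ z)).map f).map f = ⊥ := by
    by_cases b : (Ng (R.ρ z)).map f = ⊥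
    · rw [b, Submodule.map_bot]
    · have := map_lt hn le' b
      exact Submodule.finrank_eq_zero.1 (by omega)
  exact this.le ⟨_, ⟨x, hx, rfl⟩, rfl⟩

theorem odd_triv {g : G} {n : ℕ} (od : Odd n) (e : g ^ n = 1) {M : Submodule K (V K)} (hM : ∀ m ∈ M, R.ρ g m ∈ M) {v : V K}
    (h : R.ρ g (R.ρ g v) - v ∈ M) : R.ρ g v - v ∈ M := by
  have k : ∀ k, R.ρ ((g * g) ^ k) v - v ∈ M := fun k => by
    induction k with
    | zero => simp
    | succ k ih =>
      rw [pow_succ', R.ρ_mul, R.ρ_mul, show R.ρ g (R.ρ g (R.ρ ((g * g) ^ k) v)) - v = R.ρ g (R.ρ g (R.ρ ((g * g) ^ k) v - v)) +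
        (R.ρ g (R.ρ g v) - v) by rw [map_sub, map_sub]; abel]
      exact add_mem (hM _ (hM _ ih)) h
  obtain ⟨l, rfl⟩ := od
  have := k (l + 1)
  rwa [← pow_two, ← pow_mul, mul_add, mul_one, pow_succ, e, one_mul] at this
end

theorem k3 : K3.{u, v} := by
  intro K _ _ G _ R z i j i' j' y h h' c1 c2 c3 c4 y3 yi yj e1 e2 ti top irr
  have yz : Commute y z := h'.ii ▸ yi.mul_right yi
  have a3 : ∀ x, R.ρ y (R.ρ y (R.ρ y x)) = x := fun x => by
    rw [← R.ρ_mul, ← R.ρ_mul, ← pow_three', y3, map_one]; rfl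
  have d := (R.fr_Ng h.zz).trans (R.qu h)
  have f := R.fr_fix z
  rw [R.qu h] at f
  have nt : ¬ Ng (R.ρ z) ≤ fix (R.ρ y) := fun le => by
    obtain ⟨x, hx, x0⟩ := (Submodule.ne_bot_iff _).1 (Submodule.one_le_finrank_iff.1 (by omega : 1 ≤ finrank K (Ng (R.ρ z))))
    have k : ∀ x ∈ Ng (R.ρ z), R.ρ j x = R.ρ i x := fun x hx => by
      nth_rw 1 [← mem_fix.1 (le hx)]
      rw [← e1, ← R.ρ_mul, inv_mul_cancel_right, R.ρ_mul, mem_fix.1 (le (R.ng_comm h.ci hx))]
    have := anti R h hx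
    rw [k x hx, k _ (R.ng_comm h.ci hx), ← R.ρ_mul, h.ii, mem_Ng.1 hx, neg_neg] at this
    exact x0 (eq_zero_of_neg R.two this.symm)
  let A : V K →ₗ[K] V K := (R.ρ y : V K →ₗ[K] V K) - 1
  have hA : ∀ x, A x = R.ρ y x - x := fun _ => rfl
  have nil : (3 : K) = 0 → _ := fun t => nil2 R h' (f := A) (n := 3) (LinearMap.ext fun x => by
      simp only [pow_succ, pow_zero, one_mul, Module.End.mul_apply, hA, map_sub, a3, LinearMap.zero_apply]
      linear_combination (norm := module) t • (R.ρ y x - R.ρ y (R.ρ y x)))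
    (fun x => by rw [hA, hA, map_sub, R.ρ_comm yi]) (fun x => by rw [hA, hA, map_sub, R.ρ_comm yj])
    fun x hx => sub_mem (R.ng_comm yz hx) hx
  let N : V K →ₗ[K] V K := 1 + (R.ρ y : V K →ₗ[K] V K) + (R.ρ y : V K →ₗ[K] V K) * (R.ρ y : V K →ₗ[K] V K)
  have hN : ∀ x, N x = x + R.ρ y x + R.ρ y (R.ρ y x) := fun _ => rfl
  have Nf : ∀ x, N x ∈ fix (R.ρ y) := fun x => mem_fix.2 (by rw [hN, map_add, map_add, a3]; abel)
  have Nc : ∀ {g}, Commute g y → ∀ x, R.ρ g (N x) = N (R.ρ g x) := fun c x => by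
    simp only [hN, map_add, R.ρ_comm c]
  have n0 : ∀ x ∈ Ng (R.ρ z), N x = 0 := fun x hx => by
    by_cases t : (3 : K) = 0
    · have := (nil t).2.2 x hx
      simp only [hA, map_sub] at this
      rw [hN]
      linear_combination (norm := module) this + t • R.ρ y x
    have k := R.qg h'.ii h'.jj h'.ij (W := Ng (R.ρ z) ⊓ fix (R.ρ y)) (fun v hv e => R.nd_Ng h.zz v hv.1 fun w hw => by
        have a : polar (Q K) v (N w) = 0 := e _ ⟨mem_Ng.2 (by rw [Nc yz.symm, mem_Ng.1 hw, map_neg]), Nf w⟩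
        have b := R.polar_ρ y v
        simp only [mem_fix.1 hv.2] at b
        rw [hN, polar_add_right, polar_add_right, b (R.ρ y w), b w] at a
        exact mul_left_cancel₀ t (by rw [CForm.ofQuad_B]; linear_combination a)) inf_le_left inf_le_left
      fun v hv => ⟨⟨R.ng_comm h'.ci hv.1, R.fix_comm yi.symm hv.2⟩, R.ng_comm h'.cj hv.1, R.fix_comm yj.symm hv.2⟩
    have := Submodule.finrank_lt_finrank_of_lt (inf_lt_left.2 nt)
    exact (Submodule.finrank_eq_zero.1 (by omega : finrank K ↥(Ng (R.ρ z) ⊓ fix (R.ρ y)) = 0)).le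
      ⟨mem_Ng.2 (by rw [Nc yz.symm, mem_Ng.1 hx, map_neg]), Nf x⟩
  have le : LinearMap.range N ≤ fix (R.ρ z) := by
    rintro _ ⟨x, rfl⟩
    have := n0 (x - R.ρ z x) (mem_Ng.2 (by rw [map_sub, R.ρρ h.zz, neg_sub]))
    rw [map_sub, sub_eq_zero] at this
    rw [mem_fix, Nc yz.symm, ← this]
  have N0 : ∀ x, N x = 0 := by
    have : ⊤ ≤ stab R (LinearMap.range N) := top.ge.trans (sup_le (fun g hg => by
        rintro _ ⟨x, rfl⟩
        exact ⟨_, (Nc (mem_centralizer_iff.1 hg y rfl).symm x).symm⟩) (zpowers_le.2 fun x hx => by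
        rwa [(R.mem_Tp.1 ti).2 x (mem_fix.1 (le hx))]))
    rcases irr _ fun g => this (mem_top g) with e | e
    · exact fun x => e.le ⟨x, rfl⟩
    · have := Submodule.finrank_mono le
      rw [e, finrank_top, finrank_V] at this
      omega
  obtain ⟨k, hk⟩ := ev K _ _ R.two (Q_nd R.two) _ (R.iso y) 3 (by decide) (by rw [← map_pow, y3, map_one])
  have g := rk_add_fix (R.ρ y)
  rw [finrank_V] at g
  obtain ⟨v, hv, v0⟩ := (Submodule.ne_bot_iff _).1 (Submodule.one_le_finrank_iff.1 (by omega : 1 ≤ finrank K (fix (R.ρ y))))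
  have t : (3 : K) = 0 := by
    have := N0 v
    rw [hN, mem_fix.1 hv, mem_fix.1 hv] at this
    exact (smul_eq_zero.1 (show (3 : K) • v = 0 by linear_combination (norm := module) this)).resolve_right v0
  have l2 : LinearMap.range A ≤ fix (R.ρ y) := by
    rintro _ ⟨x, rfl⟩
    have := N0 x
    rw [hN] at this
    rw [mem_fix, hA, map_sub]
    linear_combination (norm := module) this - t • R.ρ y x
  have l3 := Submodule.finrank_mono l2
  obtain ⟨-, ⟨l, hl⟩, -⟩ := nil t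
  have l4 : 1 ≤ finrank K ((Ng (R.ρ z)).map A) := Submodule.one_le_finrank_iff.2 fun e => nt fun x hx =>
    mem_fix.2 (sub_eq_zero.1 (e.le ⟨x, hx, rfl⟩))
  have l5 := Submodule.eq_of_le_of_finrank_le (LinearMap.map_le_range (f := A) (p := Ng (R.ρ z))) (by
    change rk (R.ρ y) ≤ _; change rk (R.ρ y) ≤ _ at l3; omega)
  refine R.mem_Tp.2 ⟨yz.symm, fun x hx => ?_⟩
  obtain ⟨w, hw, e⟩ := l5.ge ⟨x, rfl⟩
  have a := mem_Ng.1 (e ▸ sub_mem (R.ng_comm yz hw) hw : A x ∈ Ng (R.ρ z))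
  have b : A x ∈ fix (R.ρ z) := sub_mem (R.fix_comm yz (mem_fix.2 hx)) (mem_fix.2 hx)
  exact sub_eq_zero.1 (eq_zero_of_neg R.two ((mem_fix.1 b).symm.trans a))

theorem xs3 : XS3.{u, v} := by
  intro K _ _ p hp _ G _ R z i j c x y h ci cj ct c1 cp hk hkl
  have od : Odd p := hp.1.odd_of_ne_two (by rintro rfl; exact R.two (by exact_mod_cast CharP.cast_eq_zero K 2))
  have cz : Commute c z := h.ii ▸ ci.mul_right ci
  let N : V K →ₗ[K] V K := (R.ρ c : V K →ₗ[K] V K) - 1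
  have hN : ∀ x, N x = R.ρ c x - x := fun _ => rfl
  have Nc : ∀ {g}, Commute c g → ∀ x, R.ρ g (N x) = N (R.ρ g x) := fun k x => by rw [hN, hN, map_sub, R.ρ_comm k]
  have Nz : ∀ x, N (R.ρ z x) = -N x := fun x => eq_neg_of_add_eq_zero_right (by
    rw [← map_add, hN, (R.mem_Tp.1 ct).2 _ (by rw [map_add, R.ρρ h.zz, add_comm]), sub_self])
  have NW : ∀ x, N x ∈ Ng (R.ρ z) := fun x => mem_Ng.2 (by rw [Nc cz, Nz])
  have : CharP (V K →ₗ[K] V K) p := charP_of_injective_algebraMap (algebraMap K (Module.End K (V K))).injective p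
  obtain ⟨n1, ⟨l, n2⟩, n3⟩ := nil2 R h (f := N) (n := p) (by
    rw [sub_pow_char_of_commute _ (Commute.one_right _), one_pow, sub_eq_zero]
    exact (map_pow LinearEquiv.automorphismGroup.toLinearMapMonoidHom (R.ρ c) p).symm.trans (by
      rw [← map_pow, cp, map_one, map_one])) (Nc ci) (Nc cj) fun x _ => NW x
  have em : (Ng (R.ρ z)).map N = LinearMap.range N := le_antisymm LinearMap.map_le_range (by
    rintro _ ⟨x, rfl⟩
    refine ⟨(2 : K)⁻¹ • (x - R.ρ z x), Submodule.smul_mem _ _ (mem_Ng.2 (by rw [map_sub, R.ρρ h.zz, neg_sub])), ?_⟩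
    rw [map_smul, map_sub, Nz, sub_neg_eq_add, ← two_smul K, inv_smul_smul₀ R.two])
  rw [em] at n1 n2
  change R.r c ≤ 2 at n1
  change R.r c = _ at n2
  have r0 := R.r_ne c1
  have f1 := R.fr_fix c
  have f2 := R.fr_fix z
  rw [R.qu h] at f2
  have MP : LinearMap.range N ≤ fix (R.ρ c) := fun m hm => by
    obtain ⟨w, hw, rfl⟩ := em.ge hm
    exact n3 w hw
  have s := split R.two (W := fix (R.ρ c)) (a := R.ρ z) fun x hx => ⟨R.fix_comm cz.symm hx, R.ρρ h.zz x⟩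
  rw [inf_eq_right.2 fun x hx => mem_fix.2 ((R.mem_Tp.1 ct).2 x (mem_fix.1 hx))] at s
  have eM := Submodule.eq_of_le_of_finrank_le (le_inf MP (by rintro _ ⟨x, rfl⟩; exact NW x) :
    LinearMap.range N ≤ fix (R.ρ c) ⊓ Ng (R.ρ z)) (by change _ ≤ R.r c; omega)
  have zP : ∀ v ∈ fix (R.ρ c), R.ρ z v - v ∈ LinearMap.range N := fun v hv =>
    eM.ge ⟨sub_mem (R.fix_comm cz.symm hv) hv, mem_Ng.2 (by rw [map_sub, R.ρρ h.zz, neg_sub])⟩
  have o : ∀ m ∈ LinearMap.range N, ∀ v ∈ fix (R.ρ c), polar (Q K) m v = 0 := by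
    rintro _ ⟨x, rfl⟩ v hv
    rw [hN, polar_sub_left, ← R.polar_ρ c x, mem_fix.1 hv, sub_self]
  have key : ∀ q, q ^ p = 1 → z * q * z⁻¹ = q⁻¹ → Commute c q → (∀ v ∈ fix (R.ρ c), R.ρ q v - v ∈ LinearMap.range N) ∧
      ∀ v, R.ρ q v - v ∈ fix (R.ρ c) := fun q qp zq cq => by
    have e : ∀ v, R.ρ q (R.ρ z (R.ρ q v)) = R.ρ z v := fun v => by
      rw [← R.ρ_mul, ← R.ρ_mul, mul_assoc, eq_mul_of_mul_inv_eq zq, mul_inv_cancel_left]
    have qM : ∀ m ∈ LinearMap.range N, R.ρ q m ∈ LinearMap.range N := by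
      rintro _ ⟨x, rfl⟩; exact ⟨_, (Nc cq x).symm⟩
    have a : ∀ m ∈ LinearMap.range N, R.ρ q m = m := fun m hm => sub_eq_zero.1 (odd_triv R od qp (M := ⊥) (by simp) (by
      have := e m
      rw [mem_Ng.1 (eM.le hm).2, mem_Ng.1 (eM.le (qM m hm)).2, map_neg, neg_inj] at this
      simp [this]))
    refine ⟨fun v hv => odd_triv R od qp qM ?_, fun v => mem_fix.2 (sub_eq_zero.1 (Q_nd R.two _ fun w => ?_))⟩
    · have := sub_mem (zP v hv) (qM _ (zP _ (R.fix_comm cq.symm hv)))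
      rwa [map_sub, e, sub_sub_sub_cancel_left] at this
    · obtain ⟨w, rfl⟩ := (R.ρ c).surjective w
      have b := R.polar_ρ q v (N w)
      rw [a _ ⟨w, rfl⟩, ← sub_eq_zero, ← polar_sub_left, hN, polar_sub_right] at b
      rw [CForm.ofQuad_B, polar_sub_left, R.polar_ρ]
      linear_combination -b
  obtain ⟨m, ⟨f, rfl⟩, m0⟩ := (Submodule.ne_bot_iff (LinearMap.range N)).1 (Submodule.one_le_finrank_iff.1 (by
    change 1 ≤ R.r c; omega))
  obtain ⟨g, w0⟩ := (Q_nd R.two).exists_ne m0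
  rw [CForm.ofQuad_B] at w0
  let q : Fin 4 ⊕ Fin 4 → G := Sum.elim x y
  have kq : ∀ s, (∀ v ∈ fix (R.ρ c), R.ρ (q s) v - v ∈ LinearMap.range N) ∧ ∀ v, R.ρ (q s) v - v ∈ fix (R.ρ c) := by
    rintro (k | k)
    exacts [key _ (hk k).1 (hk k).2.2.1 (hk k).2.2.2.2.1, key _ (hk k).2.1 (hk k).2.2.2.1 (hk k).2.2.2.2.2.1]
  have ad : ∀ s, ∀ v ∈ fix (R.ρ c), polar (Q K) (R.ρ (q s) v - v) g = -polar (Q K) v (R.ρ (q s) g - g) := fun s v hv => by
    have a := o _ ((kq s).1 v hv) _ ((kq s).2 g)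
    have b := R.polar_ρ (q s) v g
    simp only [polar_sub_left, polar_sub_right] at a ⊢
    linear_combination b - a
  let π : V K → fix (R.ρ z) := fun v => ⟨R.ρ z v + v, mem_fix.2 (by rw [map_add, R.ρρ h.zz, add_comm])⟩
  have hπ : ∀ v ∈ fix (R.ρ c), ∀ w ∈ fix (R.ρ c), polar (Q K) w (π v) = 2 * polar (Q K) w v := fun v hv w hw => by
    have := o _ (zP v hv) w hw
    rw [polar_comm, polar_sub_right] at this
    simp only [π, polar_add_right]
    linear_combination this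
  let φ : Fin 4 ⊕ Fin 4 → (fix (R.ρ z) × fix (R.ρ z)) →ₗ[K] K := fun t =>
    polarBilin (Q K) (R.ρ (q t) g - g) ∘ₗ (fix (R.ρ z)).subtype ∘ₗ LinearMap.fst _ _ _ -
      polarBilin (Q K) (R.ρ (q t) f - f) ∘ₗ (fix (R.ρ z)).subtype ∘ₗ LinearMap.snd _ _ _
  let w : Fin 4 ⊕ Fin 4 → fix (R.ρ z) × fix (R.ρ z) := fun s => (π (R.ρ (q s) f - f), π (R.ρ (q s) g - g))
  have hw : ∀ s t, φ t (w s) = 2 * polar (Q K) (R.ρ (q s * q t) f - R.ρ (q t * q s) f) g := fun s t => by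
    have a := ad s _ ((kq t).2 f)
    have b := ad t _ ((kq s).2 f)
    change polar (Q K) _ (π _) - polar (Q K) _ (π _) = _
    rw [hπ _ ((kq s).2 f) _ ((kq t).2 g), hπ _ ((kq s).2 g) _ ((kq t).2 f), polar_comm _ (R.ρ (q t) g - g), ← neg_neg
      (polar (Q K) (R.ρ (q s) f - f) _), ← b, ← neg_neg (polar (Q K) (R.ρ (q t) f - f) _), ← a]
    simp only [R.ρ_mul, map_sub, polar_sub_left]
    ring
  have z0 : ∀ s t, Commute (q s) (q t) → φ t (w s) = 0 := fun s t e => by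
    rw [hw, e.eq, sub_self, polar_zero_left, mul_zero]
  have xy : ∀ k, R.ρ (x k * y k) f - R.ρ (y k * x k) f = N f := fun k => by
    have := add_mem ((kq (.inr k)).2 (R.ρ (q (.inl k)) f)) ((kq (.inl k)).2 f)
    rw [(hk k).2.2.2.2.2.2, R.ρ_mul c, ← hN, ← sub_eq_zero, ← map_sub, R.ρ_mul]
    rw [sub_add_sub_cancel] at this
    exact this
  have w2 := mul_ne_zero R.two w0
  have li : LinearIndependent K w := Fintype.linearIndependent_iff.2 fun a ha s => by
    have := congrArg (φ s.swap) ha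
    rw [map_sum, map_zero, Finset.sum_eq_single s (fun t _ n => by
      rw [map_smul, z0, smul_zero]
      rcases s with k | k <;> rcases t with l | l
      · exact (hkl l k fun e => n (by rw [e])).2.2
      · by_cases e : l = k
        · subst e; exact Commute.refl _
        · exact (hkl l k e).2.1
      · by_cases e : l = k
        · subst e; exact Commute.refl _
        · exact (hkl l k e).1
      · exact (hkl k l fun e => n (by rw [e])).2.2.symm) (by simp), map_smul, smul_eq_mul, hw] at this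
    refine (mul_eq_zero.1 this).resolve_right ?_
    rcases s with k | k
    · exact (xy k).symm ▸ w2
    · change 2 * polar (Q K) (R.ρ (y k * x k) f - R.ρ (x k * y k) f) g ≠ 0
      rwa [← neg_sub, xy, polar_neg_left, mul_neg, neg_ne_zero]
  have := li.fintype_card_le_finrank
  rw [Module.finrank_prod] at this
  simp only [Fintype.card_sum, Fintype.card_fin] at this
  omega

end H25.O7
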