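/-
S5815: the pieces `KT`, `RS`, `DT`.
-/
import Cfsg.Agent.H25.O7B
import Cfsg.Agent.H11.O7a
import Cfsg.Agent.H27.O7a

set_option autoImplicit false
set_option linter.unusedSectionVars false

open Module QuadraticMap H12 Cfsg MatrixGroups Subgroup H26.O7
namespace H25.O7
universe u v

section
variable {K : Type u} [Field K] {G : Type v} [Group G] {R : Rp K G} (T : R.Sg)

theorem σ_mul (g h : G) (s : S K) : T.σ (g * h) s = T.σ g (T.σ h s) := by rw [map_mul]; rfl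
theorem σ_inv (g : G) (s : S K) : T.σ g (T.σ g⁻¹ s) = s := by rw [← σ_mul, mul_inv_cancel, map_one]; rfl
theorem σ_inv' (g : G) (s : S K) : T.σ g⁻¹ (T.σ g s) = s := by rw [← σ_mul, inv_mul_cancel, map_one]; rfl
theorem u_comm {g z : G} (h : Commute g z) {s : S K} (hs : s ∈ T.U z) : T.σ g s ∈ T.U z :=
  mem_fix.2 (by rw [← σ_mul, ← h.eq, σ_mul, mem_fix.1 hs])
theorem u_conj (g z : G) (s : S K) : T.σ g s ∈ T.U (g * z * g⁻¹) ↔ s ∈ T.U z := by
  simp only [Rp.Sg.U, mem_fix]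
  rw [← σ_mul, inv_mul_cancel_right, σ_mul, (T.σ g).injective.eq_iff]

/-- pointwise stabiliser -/
def pw (W : Submodule K (S K)) : Subgroup G where
  carrier := {g | ∀ s ∈ W, T.σ g s = s}
  one_mem' := fun s _ => by rw [map_one]; rfl
  mul_mem' := fun ha hb s hs => by rw [σ_mul, hb s hs, ha s hs]
  inv_mem' := fun {g} hg s hs => by nth_rw 1 [← hg s hs]; rw [σ_inv']
theorem pw_conj {A : Subgroup G} {z : G} (h : A ≤ pw T (T.U z)) (w : G) :
    A.map (MulAut.conj w).toMonoidHom ≤ pw T (T.U (w * z * w⁻¹)) := by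
  rintro _ ⟨a, ha, rfl⟩ s hs
  obtain ⟨s, rfl⟩ := (T.σ w).surjective s
  change T.σ (w * a * w⁻¹) _ = _
  rw [← σ_mul, inv_mul_cancel_right, σ_mul, h ha s ((u_conj T w z s).1 hs)]
theorem red_of {s : S K} (s0 : s ≠ 0) (h : ⊤ ≤ pw T (K ∙ s)) : R.Red :=
  T.red s0 fun g => h (mem_top g) s (Submodule.mem_span_singleton_self s)
theorem mem_pw {g : G} {s : S K} (h : T.σ g s = s) : g ∈ pw T (K ∙ s) := fun t ht => by
  obtain ⟨c, rfl⟩ := Submodule.mem_span_singleton.1 ht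
  rw [map_smul, h]

theorem four_le {z : G} (h2 : (2 : K) ≠ 0) (r : R.r z = 4) {W : Submodule K (S K)} (hW : (CForm.ofQuad (Nm K)).NondegOn W) (W0 : W ≠ ⊥)
    (h : ∀ v ∈ fix (R.ρ z), ∀ s ∈ W, L v s ∈ W) : 4 ≤ finrank K W := by
  obtain ⟨s, hs, q⟩ := exists_nonsingular hW W0
  have i : Function.Injective (L.flip s : V K →ₗ[K] S K) := (injective_iff_map_eq_zero _).2 fun x hx =>
    Q_nd h2 x fun y => by
      have := polar_LL x y s
      rw [show L x s = 0 from hx, polar_zero_left, neg_mul, zero_eq_neg] at this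
      exact (mul_eq_zero.1 this).resolve_right q
  have := Submodule.finrank_lt_finrank_of_lt (lt_of_le_of_ne (a := (fix (R.ρ z)).map (L.flip s)) (b := W) (by
    rintro _ ⟨v, hv, rfl⟩; exact h v hv s hs) fun e => by
      obtain ⟨v, -, hv⟩ := e.ge hs
      have := polar_L_self v s
      rw [show L v s = s from hv, polar_self'] at this
      exact mul_ne_zero h2 q this)
  rw [← (Submodule.equivMapOfInjective _ i _).finrank_eq] at this
  have := R.fr_fix z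
  omega

theorem pm_one {z g : G} (zz : z * z = 1) (r : R.r z = 4) (hg : g ∈ R.Tp z) (e : g * g = z) :
    T.U z ≤ fix (T.σ g) ∨ T.U z ≤ Ng (T.σ g) := by
  have h2 := R.two
  obtain ⟨c, t⟩ := R.mem_Tp.1 hg
  have d := rk_add_fix (T.σ z)
  rw [(H11.O7.lift_inv h2 (R.iso z) (by rw [← map_mul, zz, map_one]) r (T.lift z)).2, finrank_S] at d
  have nd : (CForm.ofQuad (Nm K)).NondegOn (T.U z) :=
    nd_fix' h2 Nm_nd (T.lift z).orth fun s => by rw [← σ_mul, zz, map_one]; rfl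
  have inv : ∀ s ∈ T.U z, T.σ g s ∈ T.U z ∧ T.σ g (T.σ g s) = s := fun s hs =>
    ⟨u_comm T (Commute.symm c) hs, by rw [← σ_mul, e, mem_fix.1 hs]⟩
  have LU : ∀ v ∈ fix (R.ρ z), ∀ s ∈ T.U z, L v s ∈ T.U z := fun v hv s hs =>
    mem_fix.2 (by rw [(T.lift z).1, mem_fix.1 hv, mem_fix.1 hs])
  change _ + finrank K (T.U z) = _ at d
  by_cases b : T.U z ⊓ Ng (T.σ g) = ⊥
  · exact .inl (le_of_split h2 inv inf_le_right (b.le.trans bot_le))
  · have := four_le h2 r (nd_Ng h2 nd (T.lift g).orth inv) b fun v hv s hs =>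
      ⟨LU v hv s hs.1, mem_Ng.2 (by rw [(T.lift g).1, t v (mem_fix.1 hv), mem_Ng.1 hs.2, map_neg])⟩
    exact .inr ((Submodule.eq_of_le_of_finrank_le inf_le_left (by omega)).ge.trans inf_le_right)
end

theorem kt : KT.{u, v} := by
  intro K _ _ G _ _ R T F _ _ φ z od h5 e n le
  obtain ⟨i, j, ii, jj, h0⟩ := ex_qu (MonoidHom.id SL(2, F)) fun k => n (by rw [← e, show (-1 : SL(2, F)) = 1 from k, map_one])
  obtain ⟨i', j', -, -, h⟩ := ex_qu φ (e.trans_ne n)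
  rw [e] at h
  have c : ∀ a, Commute (φ a) z := fun a => (R.mem_Tp.1 (le ⟨a, rfl⟩)).1.symm
  have : ((pw T (T.U z)).comap φ).Normal := ⟨fun a ha g s hs => by
    rw [map_mul φ, map_mul φ, σ_mul, σ_mul, ha _ (u_comm T (c _) hs), map_inv, σ_inv]⟩
  have pm := fun a (aa : a * a = -1) => pm_one T h.zz (R.qu h) (le ⟨a, rfl⟩) (by rw [← map_mul, aa, e])
  obtain ⟨a, aa, ha⟩ : ∃ a, a * a = -1 ∧ a ∈ (pw T (T.U z)).comap φ := by
    rcases pm i ii with p | p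
    · exact ⟨i, ii, fun s hs => mem_fix.1 (p hs)⟩
    rcases pm j jj with q | q
    · exact ⟨j, jj, fun s hs => mem_fix.1 (q hs)⟩
    exact ⟨i * j, Qu.kk h0, fun s hs => by rw [map_mul φ, σ_mul, mem_Ng.1 (q hs), map_neg, mem_Ng.1 (p hs), neg_neg]⟩
  have l := (H29.BB.normal_cases ((pw T (T.U z)).comap φ)).resolve_left fun k => n (by
    rcases H29.BB.center_iff.1 (k ha) with rfl | rfl <;> rw [← e, ← aa] <;> simp)
  obtain ⟨a, ha⟩ := ex_sq_ne h5
  rw [Matrix.SL2.commutator_eq_top a.ne_zero (by rwa [pow_two])] at l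
  exact fun b => l (mem_top b)

theorem rs (wd : WD.{u, v}) : RS.{u, v} := by
  intro K _ _ G _ _ R T F₁ F₂ _ _ _ _ φ₁ φ₂ z w w' od h5 e1 e2 n rel le k
  obtain ⟨i, j, -, -, h⟩ := ex_qu φ₁ (e1.trans_ne n)
  rw [e1] at h
  have sq : ∀ w : G, w * z * w⁻¹ * (w * z * w⁻¹) = 1 := fun w => by rw [conj_mul, h.zz, mul_one, mul_inv_cancel]
  have c : z * (w * z * w⁻¹) = w * z * w⁻¹ * z := by
    have := sq w'
    rw [← rel] at this
    rw [eq_inv_of_mul_eq_one_left this, mul_inv_rev, inv_eq_of_mul_eq_one_left (sq w), inv_eq_of_mul_eq_one_left h.zz]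
  have r := R.qu h
  obtain ⟨d, nd⟩ := (wd K G R T).2.1 z _ h.zz (sq w) c r (by rw [R.r_conj, r]) (by rw [rel, R.r_conj, r])
  have a : φ₁.range ≤ pw T (T.U z) := by
    rintro _ ⟨a, rfl⟩; exact kt K G R T F₁ φ₁ z od h5 e1 n le a
  have b : Nq φ₁.range w w' ≤ pw T (T.U z ⊓ T.U (w * z * w⁻¹)) :=
    sup_le (sup_le (fun g hg s hs => a hg s hs.1) fun g hg s hs => pw_conj T a w hg s hs.2) fun g hg s hs =>
      pw_conj T a w' hg s (mem_fix.2 (by rw [← rel, σ_mul, mem_fix.1 hs.2, mem_fix.1 hs.1]))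
  rcases k with k | ⟨k0, k5, k1, k2⟩
  · obtain ⟨s, hs, s0⟩ := (Submodule.ne_bot_iff _).1 (Submodule.one_le_finrank_iff.1 (d ▸ one_le_two))
    exact T.red s0 fun g => b (k.ge (mem_top g)) s hs
  · obtain ⟨d', nd'⟩ := (wd K G R T).1 z h.zz r
    obtain ⟨s, hs, s0, f⟩ := H27.O7.r1 K F₂ (T.σ.comp φ₂) _ _ R.two k0 k5 (fun a => (T.lift _).orth) d' nd' inf_le_left d nd
      (fun a s hs => u_comm T (e2 ▸ (Commute.neg_one_right a).map φ₂) hs) (fun s hs => by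
        rw [MonoidHom.comp_apply, e2]; exact mem_fix.1 hs) fun a => b (k1 a)
    refine red_of T s0 (k2.ge.trans (sup_le (fun g hg => mem_pw T (b hg s hs)) ?_))
    rintro _ ⟨a, rfl⟩
    exact mem_pw T (f a)

theorem dt (wd : WD.{u, v}) : DT.{u, v} := by
  intro K _ _ G _ _ R T z z' w n d k D h ez nn nz ii dz dn kz kk Dc Dw top
  have h2 := R.two
  have zz' : z' * z' = 1 := by rw [ez, conj_mul, h.tt, mul_one, mul_inv_cancel]
  have c : Commute z z' := ez ▸ a4c h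
  have iz : Commute (z' * n) z := c.symm.mul_left nz
  have jz : Commute (k * (z' * n) * k⁻¹) z := (kz.mul_left iz).mul_left kz.inv_left
  have nz' : n * z' = z' * (z * n) := by
    rw [← ii, mul_assoc (z' * n), mul_assoc z' n n, nn, mul_one, ← mul_assoc, ← mul_assoc, zz', one_mul]
  generalize hi : z' * n = i at ii kk iz jz
  have jj : k * i * k⁻¹ * (k * i * k⁻¹) = z := by rw [conj_mul, ii, kz.eq, mul_inv_cancel_right]
  generalize hj : k * i * k⁻¹ = j at jj kk jz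
  have q : Qu z i j := ⟨ii, jj, by
    have e : i * j * (i * j) = z := by rw [← kk, conj_mul, jj, kz.eq, mul_inv_cancel_right]
    refine mul_right_cancel (b := i * j) ?_
    rw [e, mul_assoc, mul_assoc, ← mul_assoc i, ii, ← mul_assoc j, jz.eq, mul_assoc z, jj, h.tt, mul_one], h.tt, h.t1⟩
  have r := R.qu q
  obtain ⟨dU, -⟩ := (wd K G R T).1 z h.tt r
  obtain ⟨dW, -⟩ := (wd K G R T).2.1 z z' h.tt zz' c r (by rw [ez, R.r_conj, r]) (by
    rw [ez, h.rel, ← r]; simpa using R.r_conj w⁻¹ z)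
  have a1 : w ∈ pw T (T.U z ⊓ T.U z') := ez ▸ (wd K G R T).2.2.1 z w h r
  have a2 : D ≤ pw T (T.U z ⊓ T.U z') := fun t ht s hs => by
    obtain ⟨t', ht', rfl⟩ := Dw t ht
    rw [σ_mul, σ_mul, σ_mul, inv_mem a1 s hs, a1 _ ⟨u_comm T (Dc t' ht').1.inv_left hs.1, u_comm T (Dc t' ht').2.inv_left hs.2⟩,
      σ_inv]
  have e : ∀ s, s ∈ T.U z ⊓ T.U z' ↔ T.σ d s ∈ T.U z ⊓ fix (T.σ n) := fun s => by
    rw [Submodule.mem_inf, Submodule.mem_inf, ← u_conj T d z, ← u_conj T d z', dz.eq, mul_inv_cancel_right]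
    refine and_congr_right fun hs => ?_
    rcases dn with e | e <;> rw [e]
    · rfl
    · rw [Rp.Sg.U, mem_fix, mem_fix, ← nz.eq, σ_mul, mem_fix.1 hs]
  by_cases b : T.U z ⊓ T.U z' ⊓ fix (T.σ n) = ⊥
  swap
  · obtain ⟨s, hs, s0⟩ := (Submodule.ne_bot_iff _).1 b
    refine red_of T s0 (top.ge.trans (sup_le (sup_le (fun g hg => mem_pw T (a2 hg s hs.1)) ((closure_le _).2
      (Set.pair_subset (mem_pw T (a1 s hs.1)) (mem_pw T (mem_fix.1 hs.2))))) ?_))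
    rintro _ ⟨t, ht, rfl⟩
    obtain ⟨s, rfl⟩ := (T.σ d).surjective s
    refine mem_pw T ?_
    change T.σ (d * t * d⁻¹) _ = _
    rw [← σ_mul, inv_mul_cancel_right, σ_mul, a2 ht s ((e s).2 ⟨hs.1.1, hs.2⟩)]
  have f := fr_map (T.σ d) e
  have σσ : ∀ {t : G}, t * t = 1 → ∀ s, T.σ t (T.σ t s) = s := fun e s => by rw [← σ_mul, e, map_one]; rfl
  have inv : ∀ s ∈ T.U z, T.σ n s ∈ T.U z ∧ T.σ n (T.σ n s) = s := fun s hs => ⟨u_comm T nz hs, σσ nn s⟩
  have sp := split h2 inv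
  have cm : ∀ s ∈ T.U z, T.σ n (T.σ z' s) = T.σ z' (T.σ n s) := fun s hs => by
    rw [← σ_mul, nz', σ_mul, σ_mul, mem_fix.1 (u_comm T nz hs)]
  have l1 : T.U z ⊓ T.U z' ≤ T.U z ⊓ Ng (T.σ n) := le_of_split h2 (a := T.σ n) (fun s hs =>
    ⟨⟨u_comm T nz hs.1, mem_fix.2 (by rw [← cm s hs.1, mem_fix.1 hs.2])⟩, σσ nn s⟩) (b.le.trans bot_le)
      (inf_le_inf_right _ inf_le_left)
  have l2 := Submodule.eq_of_le_of_finrank_le l1 (by omega)
  have l3 : T.U z ≤ Ng (T.σ i) := le_of_split h2 inv (le_of_split h2 (a := T.σ z') (fun s hs =>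
    ⟨⟨u_comm T c.symm hs.1, mem_fix.2 (by rw [cm s hs.1, mem_fix.1 hs.2])⟩, σσ zz' s⟩)
      ((inf_right_comm _ _ _).le.trans (b.le.trans bot_le)) fun s hs =>
        mem_Ng.2 (by rw [← hi, σ_mul, mem_fix.1 hs.1.2, mem_Ng.1 hs.2])) fun s hs =>
      mem_Ng.2 (by rw [← hi, σ_mul, mem_Ng.1 hs.2, map_neg, mem_fix.1 (l2.ge hs).2])
  have cj : ∀ {i : G}, T.U z ≤ Ng (T.σ i) → T.U z ≤ Ng (T.σ (k * i * k⁻¹)) := fun l s hs =>
    mem_Ng.2 (by rw [σ_mul, σ_mul, mem_Ng.1 (l (u_comm T kz.inv_left hs)), map_neg, σ_inv])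
  have l4 := hj ▸ cj l3
  have l5 := kk ▸ cj l4
  obtain ⟨s, hs, s0⟩ := (Submodule.ne_bot_iff (T.U z)).1 (Submodule.one_le_finrank_iff.1 (by omega))
  have := mem_Ng.1 (l5 hs)
  rw [σ_mul, mem_Ng.1 (l4 hs), map_neg, mem_Ng.1 (l3 hs), neg_neg] at this
  exact (s0 (eq_zero_of_neg h2 this)).elim

end H25.O7
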