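import Cfsg.Agent.H25.PC

/-! Certificates for the simplicity of the `2`-fusion system: chunked checks, masks, the case `S/Φ(S) = 2^4`. -/

set_option autoImplicit false

namespace H25
open Subgroup Cfsg H16

theorem rg_nil (f : ℕ → ℕ) (lo : ℕ) : ∀ i, lo ≤ i → i < lo → f i = 0 := fun _ a b => absurd a b.not_ge
theorem rg_glue {f : ℕ → ℕ} {lo a b : ℕ} (c : ℕ) (h1 : ∀ i, lo ≤ i → i < a → f i = 0) (h2 : allZ f a b = true)
    (e : c = a + b) : ∀ i, lo ≤ i → i < c → f i = 0 := fun i h hi =>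
  if k : i < a then h1 i h k else allZ_sound h2 i (by omega) (e ▸ hi)

/-- cosets of the same signature have the same mask -/
def MK (sq : ℕ → ℕ → ℕ) (mk : ℕ → ℕ) (m D : ℕ) : Prop :=
  ∀ e < 2 ^ D, ∀ c < 2 ^ D, Sig sq m e c → ∀ i < 4, (mk e).testBit i = (mk c).testBit i

section
variable {G : Type*} [Group G] [Finite G] {s : ℕ → G} {m D k c c' c₀ : ℕ} {sq : ℕ → ℕ → ℕ} {mk : ℕ → ℕ} {a : G}

omit [Finite G] in
theorem nf_le {lo n e : ℕ} (h : e < 2 ^ k) (hn : k ≤ n) : nf s lo n e = nf s lo k e := by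
  induction hn with
  | refl => rfl
  | step l ih => rw [nf_of_lt (h.trans_le (Nat.pow_le_pow_right two_pos l)), ih]

theorem PD.fix₂ (h : PD s m D sq) (hs : Syl 2 (gen s (m + D)) ⊤) (ha : a ∈ nz (gen s (m + D)))
    (h0 : c₀ < 2 ^ D ∧ c₀ ≠ c ∧ c₀ ≠ c') (hf : ((a * nf s m D c₀ * a⁻¹ : G) : G ⧸ gen s m) = nf s m D c₀)
    (hc : c < 2 ^ D ∧ pw m D c = [k] ∧ ∀ e < 2 ^ D, Sig sq m e c → e = c ∨ e = c' ∨ e = c₀) :
    a ∈ fxc (gen s m) (s k) := by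
  have l0 : nz (gen s (m + D)) ≤ nz (gen s m) := h.fr_eq ▸ nz_le_nz_fr _
  have inj : ∀ {x y z}, x < 2 ^ D → y < 2 ^ D → ((a * nf s m D x * a⁻¹ : G) : G ⧸ gen s m) = nf s m D z →
      ((a * nf s m D y * a⁻¹ : G) : G ⧸ gen s m) = nf s m D z → x = y := fun hx hy e1 e2 =>
    h.pc.uniq le_rfl hx hy (QuotientGroup.eq.1 ((mk_cj (l0 ha)).1 (e1.trans e2.symm)))
  rw [show s k = nf s m D c by simp [nf, hc.2.1]]
  obtain ⟨e, he, h1, h2⟩ := h.cls ha hc.1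
  obtain ⟨e', he', h3, h4⟩ := h.cls ha he
  by_cases h5 : e = c
  · exact ⟨l0 ha, h5 ▸ h2⟩
  have h6 : e = c' := ((hc.2.2 e he h1).resolve_left h5).resolve_right fun q => h0.2.1 (inj h0.1 hc.1 hf (q ▸ h2))
  rcases hc.2.2 e' he' fun i hi => (h3 i hi).trans (h1 i hi) with rfl | rfl | rfl
  · obtain ⟨r, hr, h6⟩ := (hs.mono_right (le_nz_self _) le_top).exists_pow_mem le_rfl
    refine PEl.mem_of_pow_mem ⟨1, l0 (pow_mem ha 2), by
      simpa [pow_two, mul_assoc] using ((mk_cj (l0 ha)).2 h2).trans h4⟩ ⟨l0 (pow_mem ha r),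
        (QuotientGroup.eq.2 (h.fr_eq.le (commutator_le_fr h.pc.pg ?_))).symm⟩ hr
    simpa [commutatorElement_def, mul_assoc] using
      commutator_mem_commutator (inv_mem (nf_mem (e := e') le_rfl)) (h6 a ha)
  · exact absurd (inj he hc.1 h4 (h6 ▸ h2)) h5
  · exact absurd ((inj he' he hf h4).trans h6) h0.2.2

theorem PD.simple' {d o : ℕ} (h : PD s m (d + 1) sq) (hc : Nat.card G = 2 ^ (m + (d + 1)) * o)
    (ho : ¬ 2 ∣ o) (h₂ : ∀ T, SCl (gen s (m + (d + 1))) T → evA s [0] ∈ T →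
      ∀ j < d + 1, ∃ f, evA s (pw 0 m f ++ [m + j]) ∈ T) {cs : ℕ → ℕ} (hm : MK sq mk m (d + 1))
    (h₃ : ∀ j < d, 2 ^ j < 2 ^ (d + 1) ∧ pw m (d + 1) (2 ^ j) = [m + j] ∧
      ∀ e < 2 ^ (d + 1), (∀ i < 4, (mk e).testBit i = (mk (2 ^ j)).testBit i) → e = 2 ^ j ∨ e = cs j)
    (S : Sylow 2 G) : (groupFusionSystem (S : Subgroup G)).IsSimple 2 :=
  h.simple hc ho h₂ (fun j hj => ⟨(h₃ j hj).1, (h₃ j hj).2.1, fun e he k =>
    (h₃ j hj).2.2 e he (hm e he _ (h₃ j hj).1 k)⟩) S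

/-- the case `N(S) = S:3`, `S/Φ(S) = 2^4` -/
theorem PD.simple₄ {o : ℕ} (h : PD s m 4 sq) (hc : Nat.card G = 2 ^ (m + 4) * o)
    (ho : ¬ 2 ∣ o) (h₂ : ∀ T, SCl (gen s (m + 4)) T → evA s [0] ∈ T →
      ∀ j < 4, ∃ f, evA s (pw 0 m f ++ [m + j]) ∈ T) (hm : MK sq mk m 4)
    (h₃ : (pw m 4 1 = [m] ∧ ∀ e < 2 ^ 4, (∀ i < 4, (mk e).testBit i = (mk 1).testBit i) → e = 1 ∨ e = 0) ∧
      (pw m 4 2 = [m + 1] ∧ ∀ e < 2 ^ 4, (∀ i < 4, (mk e).testBit i = (mk 2).testBit i) → e = 2 ∨ e = c ∨ e = c') ∧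
      pw m 4 4 = [m + 2] ∧ ∀ e < 2 ^ 4, (∀ i < 4, (mk e).testBit i = (mk 4).testBit i) → e = 4 ∨ e = 6 ∨ e = 2)
    (h₄ : gen s (m + 4) ⊓ cz (gen s (m + 1)) ≤ gen s (m + 1)) {u v : G}
    (hu : u ∈ nz (gen s (m + 1)) ∧ u ^ 2 ^ 3 = 1) (hv : v ∈ nz (gen s (m + 1)) ∧ v ^ 2 ^ 3 = 1)
    (ht : u * v ∈ nz (gen s (m + 4))) {f f' : ℕ}
    (e₁ : u * v * evA s (pw m 4 c) * (u * v)⁻¹ = evA s (pw 0 m f ++ pw m 4 2))
    (e₂ : u * v * evA s (pw m 4 c') * (u * v)⁻¹ = evA s (pw 0 m f' ++ pw m 4 c))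
    (S : Sylow 2 G) : (groupFusionSystem (S : Subgroup G)).IsSimple 2 := by
  refine PC.simple (m := m) (d := 3) h.pc hc ho h.cen h.fr_eq (fun T hT h0 =>
    le_sup_of_known (D := 4) (h₂ T hT (by simpa using h0))) (fun K hK a ha => ?_) S
  have l0 : nz (gen s (m + 4)) ≤ nz (gen s m) := h.fr_eq ▸ nz_le_nz_fr _
  have l1 : gen s m ≤ gen s (m + 1) := gen_mono s (by omega)
  have l2 : gen s (m + 1) ≤ gen s (m + 4) := gen_mono s (by omega)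
  have pg : ∀ {u : G}, u ∈ nz (gen s (m + 1)) ∧ u ^ 2 ^ 3 = 1 → u ∈ pgen 2 (nz (gen s (m + 1))) :=
    fun hu => let ⟨_, _, e⟩ := (Nat.dvd_prime_pow Nat.prime_two).1 (orderOf_dvd_of_pow_eq_one hu.2)
      mem_pgen hu.1 e
  have hk : u * v ∈ K ⊓ nz (gen s (m + 4)) := ⟨hK _ l2 (le_nz_iff.2 fun x hx y hy => by
    simpa [commutatorElement_def] using mul_mem (l1 (h.fr_eq.le (commutator_le_fr h.pc.pg
      (commutator_mem_commutator hx (l2 hy))))) hy) h₄ ⟨ht, mul_mem (pg hu) (pg hv)⟩, ht⟩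
  generalize u * v = t at *
  have key : ∀ k ∈ K ⊓ nz (gen s (m + 4)), ((k * (a * nf s m 4 2 * a⁻¹) * k⁻¹ : G) : G ⧸ gen s m) =
      nf s m 4 2 → ∃ k ∈ K ⊓ nz (gen s (m + 4)), ∀ j < 3, k * a ∈ fxc (gen s m) (s (m + j)) :=
    fun k hk e => ⟨k, hk, fun j hj => by
      obtain rfl | rfl | rfl : j = 0 ∨ j = 1 ∨ j = 2 := by omega
      · exact h.fix (h.syl hc ho) (mul_mem hk.2 ha) ⟨by norm_num, h₃.1.1, fun e he q =>
          h₃.1.2 e he (hm e he 1 (by norm_num) q)⟩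
      · rw [nf, h₃.2.1.1] at e
        exact ⟨l0 (mul_mem hk.2 ha), by simpa [mul_assoc] using e⟩
      · exact h.fix₂ (c₀ := 2) (c := 4) (c' := 6) (h.syl hc ho) (mul_mem hk.2 ha) (by norm_num)
          (by simpa [mul_assoc] using e) ⟨by norm_num, h₃.2.2.1, fun e he q => h₃.2.2.2 e he (hm e he 4 (by norm_num) q)⟩⟩
  have q : ∀ {f c}, ((evA s (pw 0 m f ++ pw m 4 c) : G) : G ⧸ gen s m) = nf s m 4 c := by
    intro f c
    rw [evA_append, ← nf, ← nf]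
    exact QuotientGroup.mk_mul_of_mem _ (nf_mem (by omega))
  obtain ⟨e, he, h1, h2⟩ := h.cls ha (c := 2) (by norm_num)
  rcases h₃.2.1.2 e he (hm e he 2 (by norm_num) h1) with rfl | rfl | rfl
  · exact key 1 (one_mem _) (by simpa using h2)
  · exact key t hk (((mk_cj (l0 ht)).2 h2).trans (by rw [nf, e₁, q]))
  · refine key (t * t) (mul_mem hk hk) ?_
    have := ((mk_cj (l0 ht)).2 (((mk_cj (l0 ht)).2 h2).trans ((congrArg _ e₂).trans q))).trans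
      ((congrArg _ e₁).trans q)
    simpa [mul_assoc] using this

end

noncomputable def pcEnt (P : ℕ → ℕ → ℕ) (B : List ℕ) (n e : ℕ) : ℕ := force e fun e => Nat.sub 1 (dfL P B (pw 0 n e) [])
noncomputable def cenE (P : ℕ → ℕ → ℕ) (B : List ℕ) (lo cnt b : ℕ) (nk : ℕ → ℕ → ℕ) (e : ℕ) : ℕ :=
  force (Nat.mod e (Nat.pow 2 lo)) fun f => force (Nat.div e (Nat.pow 2 lo)) fun c => cenEnt P B lo cnt b nk f c
noncomputable def sqE (P : ℕ → ℕ → ℕ) (B : List ℕ) (m D : ℕ) (sq : ℕ → ℕ → ℕ) (mk : ℕ → ℕ) (e : ℕ) : ℕ :=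
  force (Nat.mod e (Nat.pow 2 m)) fun f => force (Nat.div e (Nat.pow 2 m)) fun c =>
    Nat.add (sqEnt P B m D sq c f) (Bool.rec 1 0 (Nat.testBit (mk c) (ty sq c f)))

theorem split_lt {a b c f : ℕ} (hc : c < 2 ^ b) (hf : f < 2 ^ a) :
    2 ^ a * c + f < 2 ^ (a + b) ∧ (2 ^ a * c + f) % 2 ^ a = f ∧ (2 ^ a * c + f) / 2 ^ a = c := by
  refine ⟨?_, by rw [Nat.mul_add_mod, Nat.mod_eq_of_lt hf], by
    rw [Nat.mul_add_div (by positivity), Nat.div_eq_of_lt hf, add_zero]⟩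
  rw [pow_add]
  nlinarith

theorem loop1_of {f : ℕ → ℕ} {b c : ℕ} (h : ∀ j < c, f (b + j) = 0) : loop1 f b c = 0 := by
  induction c with
  | zero => rfl
  | succ c ih => exact (show f (b + c) + loop1 f b c = 0 by rw [h c (by omega), ih fun j hj => h j (by omega)])

theorem loop2_of {f : ℕ → ℕ} {lo cnt : ℕ} (h : ∀ i, lo ≤ i → i < lo + cnt → f i = 0) : loop2 f lo cnt = 0 := by
  change loop1 (fun a => loop1 f (lo + a * 64) 64) 0 (cnt / 64) + loop1 f (lo + cnt / 64 * 64) (cnt % 64) = 0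
  exact Nat.add_eq_zero_iff.2 ⟨loop1_of fun a ha => loop1_of fun j hj => h _ (by omega) (by omega),
    loop1_of fun j hj => h _ (by omega) (by omega)⟩

theorem allZ_of {f : ℕ → ℕ} {lo cnt : ℕ} (h : ∀ i, lo ≤ i → i < lo + cnt → f i = 0) : allZ f lo cnt = true :=
  (congrArg (Nat.beq · 0) (loop2_of h)).trans rfl

theorem allZ2_of {f : ℕ → ℕ → ℕ} {K n : ℕ} (h : ∀ k < K, ∀ i < n, f k i = 0) : allZ2 f K n = true :=
  (congrArg (Nat.beq · 0) (loop1_of (f := fun k => force k fun k => loop2 (f k) 0 n) (b := 0) fun k hk =>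
    (force_eq _ fun k => loop2 (f k) 0 n).trans
    (loop2_of fun i _ hi => h _ (by simpa using hk) i (by simpa using hi)))).trans rfl

section
variable {G Ω : Type*} [Group G] [Finite G] [MulAction G Ω] {s : ℕ → G} {pt : ℕ → Ω} {P : ℕ → ℕ → ℕ}
  {N n m D : ℕ} {B : List ℕ}

theorem Mod.pc' (h : Mod s pt P N n B) {r : ℕ → ℕ → ℕ}
    (h₁ : ∀ k < n, dfL P B [k, k] (pw 0 k (r k k)) = 0 ∧
      ∀ j < k, dfL P B [k, j, k] (pw 0 k (r k j)) = 0)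
    (h₂ : ∀ e, 1 ≤ e → e < 2 ^ n → pcEnt P B n e = 0) : PC s n := by
  have h0 : PC₀ s n := fun k hk => ⟨by
    simpa [← (h.df (by simpa) (pw_lt (by omega))).1 (h₁ k hk).1] using
      evA_mem_gen s (pw_lt (e := r k k) (Nat.zero_add k).le), fun j hj => by
    simpa [← (h.df (by simp; omega) (pw_lt (by omega))).1 ((h₁ k hk).2 j hj)] using
      evA_mem_gen s (pw_lt (e := r k j) (Nat.zero_add k).le)⟩
  refine ⟨h0, fun k hk hs => ?_⟩
  obtain ⟨f, hf, e⟩ := h0.exists₀ hk.le (inv_mem hs)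
  have l : 2 ^ k + f < 2 ^ (k + 1) := by omega
  have := h₂ (2 ^ k + f) (Nat.add_pos_left (by positivity) _) (l.trans_le (Nat.pow_le_pow_right two_pos hk))
  rw [pcEnt, force_eq, (h.df (pw_lt (by omega)) (by simp)).2 (by
    rw [← nf, nf_le l hk, nf_add hf, e]; simp)] at this
  exact absurd this (by decide)

theorem Mod.cen' {lo cnt b : ℕ} (h : Mod s pt P N n B) (hp : PC s n) {nk : ℕ → ℕ → ℕ} (h₀ : lo + cnt = n) (h₁ : b ≤ n)
    (h₂ : ∀ e, 2 ^ lo ≤ e → e < 2 ^ n → cenE P B lo cnt b nk e = 0) : gen s n ⊓ cz (gen s b) ≤ gen s lo :=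
  h.cen hp (nk := nk) ⟨h₀, h₁, fun f hf => allZ_of fun c h1 h2 => by
    obtain ⟨a1, a2, a3⟩ := split_lt (show c < 2 ^ cnt by omega) hf
    have := h₂ _ (by nlinarith) (h₀ ▸ a1)
    simp only [cenE, force_eq] at this
    exact (congrArg₂ _ a2 a3).symm.trans this⟩

theorem Mod.pd' (h : Mod s pt P N (m + D) B) (hp : PC s (m + D)) {nk sq wt : ℕ → ℕ → ℕ} {mk : ℕ → ℕ}
    {fs : List (List ℕ)} (h₁ : ∀ e, 2 ≤ e → e < 2 ^ (m + D) → cenE P B 1 (m + D - 1) (m + D) nk e = 0)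
    (h₂ : 0 < m ∧ (∀ k < m + D, dfL P B [0, k] [k, 0] = 0) ∧
      ∀ j < m, dfL P B [j] (sqs (m + D) (nth [] fs j)) = 0)
    (h₃ : ∀ e, 0 ≤ e → e < 2 ^ (m + D) → sqE P B m D sq mk e = 0)
    (h₄ : ∀ c < 2 ^ D, ∀ i < 4, (mk c).testBit i = true → wt c i < 2 ^ m ∧ ty sq c (wt c i) = i) :
    PD s m D sq ∧ MK sq mk m D := by
  have k : ∀ c < 2 ^ D, ∀ f < 2 ^ m, sqEnt P B m D sq c f = 0 ∧ (mk c).testBit (ty sq c f) = true := fun c hc f hf => by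
    obtain ⟨a1, a2, a3⟩ := split_lt hc hf
    have := h₃ _ (Nat.zero_le _) a1
    simp only [sqE, force_eq] at this
    replace this := (congrArg₂ (fun f c => Nat.add (sqEnt P B m D sq c f)
      (Bool.rec 1 0 (Nat.testBit (mk c) (ty sq c f)))) a2 a3).symm.trans this
    obtain ⟨b1, b2⟩ := Nat.add_eq_zero_iff.1 this
    refine ⟨b1, ?_⟩
    cases q : (mk c).testBit (ty sq c f)
    · rw [q] at b2; exact absurd b2 one_ne_zero
    · rfl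
  have l : 1 + (m + D - 1) = m + D := by have := h₂.1; omega
  refine ⟨h.pd hp (nk := nk) ⟨l, le_rfl, fun f hf => allZ_of fun c h1 h2 => ?_⟩ h₂
    (allZ2_of fun c hc f hf => (k c hc f hf).1), fun e he c hc q i hi => ?_⟩
  · obtain ⟨a1, a2, a3⟩ := split_lt (show c < 2 ^ (m + D - 1) by omega) hf
    have := h₁ _ (by omega) (l ▸ a1)
    simp only [cenE, force_eq] at this
    exact (congrArg₂ _ a2 a3).symm.trans this
  have w : ∀ c < 2 ^ D, (mk c).testBit i = true ↔ ∃ f < 2 ^ m, ty sq c f = i := fun c hc =>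
    ⟨fun h => ⟨_, h₄ c hc i hi h⟩, fun ⟨f, hf, h⟩ => h ▸ (k c hc f hf).2⟩
  rw [Bool.eq_iff_iff, w e he, w c hc]
  exact q i hi

end

end H25
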