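/-
S5258, chunks G2 and S2: the automizer of `Q₂`.
-/
import Cfsg.Agent.H8.PU3

set_option autoImplicit false
set_option linter.unusedSectionVars false

namespace H25.PU
open Subgroup H8.PU H8.PU.Cd H25.FS
universe u v
variable {K : Type v} [Field K] [Finite K] {σ : K →+* K} [IV σ] {Γ : Type u} [Group Γ] [Finite Γ] {p : ℕ} [Fact p.Prime]
  {S A : Subgroup Γ} {ev : Cd σ →* Γ} {g g' M1 M2 : Γ} {α β γ δ α' β' γ' δ' : K} {c : Cd σ}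

theorem exq (h : Co S ev) (hg : g ∈ nz ((Q2 σ).map ev)) (hc : c.a = 0) : ∃ c' : Cd σ, c'.a = 0 ∧ g * ev c * g⁻¹ = ev c' :=
  let ⟨c', k, e⟩ := conj_mem_of_mem_nz hg (h.mm.2 (mQ2.2 hc)); ⟨c', k, e.symm⟩
theorem nA0 (h : Co S ev) (hg : g ∈ nz ((Q2 σ).map ev)) : g ∈ nz ((A0 σ).map ev) :=
  nz_of_cz (fun w => ⟨fun k => ⟨(by sl h : (A0 σ).map ev ≤ (Q2 σ).map ev) k, h.c2A.symm.cz k⟩, fun ⟨k1, k2⟩ => by
    ob h k1 c hc
    have e1 := mem_cz'.1 k2 (ev (xb 1)) (by cs h [])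
    have e2 := mem_cz'.1 k2 (ev (xx 1)) (by cs h [])
    cs h [] at hc
    cs h [hc] at e1 e2 ⊢
    exact ⟨by grind, (sz (σ := σ)).1 (by grind)⟩⟩) hg hg
theorem nz3 (h : Co S ev) (hg : g ∈ nz ((Q2 σ).map ev)) (k : g * ev (xb 1) * g⁻¹ ∈ (Z3 σ).map ev) :
    g ∈ nz ((Z3 σ).map ev) := by
  have h2 : g ∈ nz ((Z2 σ).map ev) := mem_nz_of_conj_mem fun w hw => by
    ob h hw c hc
    obtain ⟨z, e⟩ := ex_sk (σ := σ) (s := c.d) (by simpa [hc.1, hc.2.1] using c.sd) (one_ne_zero (α := K))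
    have : ev c = ev (xb 1) * ev (el 0 z 0 (-σ c.c)) * (ev (xb 1))⁻¹ * (ev (el 0 z 0 (-σ c.c)))⁻¹ := by
      rw [eq_comm, cm_eq]; cs h [] at hc e; cs h [hc, ← e]; cg
    rw [this, cj_cm]
    exact h.cS3.symm _ k _ (h.le _ (conj_mem_of_mem_nz hg (by cs h [])))
  refine nz_of_char (fun w => ⟨fun k => ⟨(by sl h : (Z3 σ).map ev ≤ (Q2 σ).map ev) k, h.cS3.symm.cm k (h.le _) le_rfl⟩,
    fun ⟨k1, k2⟩ => ?_⟩) hg hg h2
  ob h k1 c hc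
  refine h.mm.2 ⟨hc, sk_of (σ := σ) fun z => ?_⟩
  have := k2 (ev (xx z)) (by cs h [])
  cs h [] at hc
  cs h [hc] at this
  grind
theorem nz3' (h : Co S ev) (y : Wy ev M1 M2) (hg : g ∈ nz ((Q2 σ).map ev)) (ha : c.a = 0) (hx : c.x ≠ 0)
    (k : g * ev (xb 1) * g⁻¹ = ev c) : M2 * ev (xa (-c.b / c.x)) * g ∈ nz ((Z3 σ).map ev) := by
  refine nz3 h (mul_mem (mul_mem (h.n2 y) (h.nQ2 (h.mS _))) hg) ?_
  rw [cj_mul2, k, cj_mul2, h.inv, h.mul, h.mul, y.f2 _ (by cs h [ha])]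
  cs h [ha]
  field_simp; ring

variable (σ Γ) in
theorem g2 : G2 σ Γ := fun S ev M1 M2 h y g hg => by
  obtain ⟨c, ha, e⟩ := exq h hg (c := xb 1) rfl
  by_cases hx : c.x = 0
  · exact .inl (nz3 h hg (e ▸ h.mm.2 ⟨ha, hx⟩))
  · exact .inr ⟨_, h.mS _, nz3' h y hg ha hx e⟩

/-- `g` maps `Z₃ / A₀` into a line -/
theorem lin (h : Co S ev) (y : Wy ev M1 M2) (hg : g ∈ nz ((Q2 σ).map ev)) {c1 c' : Cd σ} (hc : c ∈ Z3 σ)
    (k1 : g * ev (xb 1) * g⁻¹ = ev c1) (k : g * ev c * g⁻¹ = ev c') : c'.b * c1.x = c1.b * c'.x := by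
  obtain ⟨_, a1, e⟩ := exq h hg (c := xb 1) rfl
  obtain rfl := h.inj (k1.symm.trans e)
  obtain ⟨_, a2, e'⟩ := exq h hg hc.1
  obtain rfl := h.inj (k.symm.trans e')
  by_cases hx : c1.x = 0
  · have := conj_mem_of_mem_nz (nz3 h hg (e ▸ h.mm.2 ⟨a1, hx⟩)) (h.mm.2 hc)
    rw [k, h.mm] at this
    rw [hx, this.2, mul_zero, mul_zero]
  · have := conj_mem_of_mem_nz (nz3' h y hg a1 hx e) (h.mm.2 hc)
    rw [cj_mul2, k, cj_mul2, h.inv, h.mul, h.mul, y.f2 _ (by cs h [a2])] at this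
    cs h [a2] at this
    field_simp at this
    linear_combination this

theorem ac_mul (h : Co S ev) (hg : g' ∈ nz ((Q2 σ).map ev)) (k : Ac2 ev g α β γ δ) (k' : Ac2 ev g' α' β' γ' δ') :
    Ac2 ev (g * g') (α * α' + β * γ') (α * β' + β * δ') (γ * α' + δ * γ') (γ * β' + δ * δ') := fun c c' ha e => by
  obtain ⟨c1, a1, e1⟩ := exq h hg ha
  obtain ⟨k1, k2⟩ := k' c c1 ha e1
  obtain ⟨k3, k4⟩ := k c1 c' a1 (by rw [← e, cj_mul2, e1])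
  rw [k3, k4, k1, k2]
  exact ⟨by ring, by ring⟩
theorem ac_xa (h : Co S ev) (α : K) : Ac2 ev (ev (xa α)) 1 α 0 1 := fun c c' ha e => by
  cs h [ha] at e ⊢
  grind

variable (σ Γ p) in
theorem s2 : S2 σ Γ p := fun S A ev M1 M2 h y e => by
  obtain ⟨g0, g1, g2'⟩ := h.ne2 e
  obtain ⟨u, hu, hn⟩ := (g2 σ Γ S ev M1 M2 h y g0 (e.An g1)).resolve_left g2'
  have mx : ∀ α, ev (xa α) ∈ A := fun α => e.mA (h.mS _) (h.nQ2 (h.mS _))
  obtain ⟨g, hg, hn⟩ : ∃ g ∈ A, M2 * g ∈ nz ((Z3 σ).map ev) := ⟨u * g0, mul_mem (e.mA hu (h.nQ2 hu)) g1, mul_assoc M2 u g0 ▸ hn⟩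
  have gn := e.An hg
  have mu : ∀ α, g * ev (xa α) * g⁻¹ ∈ A := fun α => mul_mem (mul_mem hg (mx α)) (inv_mem hg)
  have cm : ∀ α w, g * ev (xa α) * g⁻¹ * w * (g * ev (xa α) * g⁻¹)⁻¹ * w⁻¹ =
    g * (ev (xa α) * (g⁻¹ * w * g) * (ev (xa α))⁻¹ * (g⁻¹ * w * g)⁻¹) * g⁻¹ := fun α w => by group
  have f1 : ∀ α (c c' : Cd σ), c.a = 0 → g * ev (xa α) * g⁻¹ * ev c * (g * ev (xa α) * g⁻¹)⁻¹ = ev c' → c'.b = c.b := by
    intro α c c' ha k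
    obtain ⟨_, a2, e'⟩ := exq h (e.An (mu α)) ha
    obtain rfl := h.inj (k.symm.trans e')
    obtain ⟨z, hz, ez⟩ := conj_mem_of_mem_nz hn
      (h.cSS _ (h.mS (xa α)) _ (h.le _ (conj_mem_of_mem_nz' gn (h.mm.2 (mQ2.2 ha)))))
    have := y.f2 z hz.1
    rw [ez, cj_mul2, ← cj_mul2, show M2 * M2 = 1 by rw [← y.i2, inv_mul_eq_one, y.i2], ← cm, k] at this
    cs h [ha, a2, hz.2, inv_one] at this
    grind
  have f2 : ∀ α (c c' : Cd σ), c.a = 0 → c.b = 0 → g * ev (xa α) * g⁻¹ * ev c * (g * ev (xa α) * g⁻¹)⁻¹ = ev c' → c'.x = c.x := by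
    intro α c c' ha hb k
    have z : g⁻¹ * ev c * g ∈ (Z3 σ).map ev := by
      have := conj_mem_of_mem_nz' hn (x := M2 * ev c * M2⁻¹) (by rw [y.f2 c ha]; cs h [hb])
      simpa [mul_assoc] using this
    have := conj_mem_of_mem_nz (nA0 h gn) ((by sl h : (Z2 σ).map ev ≤ (A0 σ).map ev) (h.cS3 _ (h.mS (xa α)) _ z))
    rw [← cm, k] at this
    cs h [] at this
    grind
  have lw : ∀ α, ∃ γ, Ac2 ev (g * ev (xa α) * g⁻¹) 1 0 γ 1 := fun α => by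
    obtain ⟨c1, -, e1⟩ := exq h (e.An (mu α)) (c := xb 1) rfl
    refine ⟨c1.x, fun c c' ha k => ⟨by rw [f1 α c c' ha k]; ring, ?_⟩⟩
    obtain ⟨c2, -, e2⟩ := exq h (e.An (mu α)) (c := xb c.b) rfl
    obtain ⟨c3, -, e3⟩ := exq h (e.An (mu α)) (c := (xb c.b)⁻¹ * c) (by cs h [ha])
    have l := lin h y (e.An (mu α)) (c := xb c.b) ⟨rfl, rfl⟩ e1 e2
    rw [f1 α _ _ rfl e1, f1 α _ _ rfl e2] at l
    have x3 := f2 α _ _ (by cs h [ha]) (by cs h [ha]; ring) e3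
    have : ev c' = ev c2 * ev c3 := by rw [← k, ← e2, ← e3, ← cj_mul', h.mul, mul_inv_cancel_left]
    cs h [] at this l x3
    grind
  choose ψ hψ using lw
  have inj : Function.Injective ψ := fun α β k => by
    have t : Cm (g * ev (xa α) * g⁻¹ * (g * ev (xa β) * g⁻¹)⁻¹) ((Q2 σ).map ev) ((A0 σ).map ev) := by
      rintro _ ⟨c, hc, rfl⟩
      obtain ⟨c1, a1, e1⟩ := exq h (inv_mem (e.An (mu β))) hc
      obtain ⟨c2, a2, e2⟩ := exq h (e.An (mu α)) a1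
      have k1 := hψ β c1 c a1 (by rw [← e1]; group)
      have k2 := hψ α c1 c2 a1 e2
      rw [cj_mul2, e1, e2]
      cs h [] at hc
      cs h [hc, a2]
      grind
    have := conj_mem_of_mem_nz' (e.An' hg) (h.in2 e (mul_mem (mu α) (inv_mem (mu β))) t)
    rw [show g⁻¹ * _ * g = ev (xa α) * (ev (xa β))⁻¹ by group] at this
    have := e.mem (mul_mem (h.mS _) (inv_mem (h.mS _))) this
    cs h [] at this
    grind
  have w : ∀ s, s ≠ 0 → ∃ g ∈ A, Ac2 ev g 0 s (-s⁻¹) 0 := fun s hs => by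
    obtain ⟨α, k⟩ := Finite.injective_iff_surjective.1 inj (-s⁻¹)
    refine ⟨_, mul_mem (mul_mem (mx s) (mu α)) (mx s), ?_⟩
    convert ac_mul h (e.An (mx s)) (ac_mul h (e.An (mu α)) (ac_xa h s) (k ▸ hψ α)) (ac_xa h s) using 1 <;> field_simp <;> ring
  refine ⟨fun l hl => ?_, by simpa using w 1 one_ne_zero⟩
  obtain ⟨a, ha, k⟩ := w l hl
  obtain ⟨b, hb, k'⟩ := w (-1) (by simp)
  exact ⟨_, mul_mem ha hb, by simpa using ac_mul h (e.An hb) k k'⟩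

end H25.PU
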