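/-
`π`-homogeneous groups whose `π`-subgroups are 2-closed (Arad).
-/
import Cfsg.Agent.H25.Hz1

set_option autoImplicit false
set_option linter.unusedSectionVars false

namespace H25.PF
open Cfsg Subgroup H18 H17.GS
open H19 hiding eq_bot_mono
open scoped MatrixGroups

universe u

structure PH {G : Type u} [Group G] (π : Set ℕ) (M : Subgroup G) : Prop where
  two : 2 ∈ π
  cl : ∀ H P, H ≤ M → PiG π H → Syl 2 P H → H ≤ N(P)
  hom : ∀ H D, H ≤ M → D ≤ M → PiG π H → PiG πᶜ D → D ≤ N(H) → D ≤ C(H)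

variable {G : Type u} [Group G] [Finite G] {π : Set ℕ}
  {A B D E F H J K L M N P Q R S T U V W X Y Z : Subgroup G} {a c d e f g n s t u v w x y z : G}

namespace PH

theorem mono (h : PH π M) (h1 : K ≤ M) : PH π K :=
  ⟨h.two, fun H P k => h.cl H P (k.trans h1), fun H D k k' => h.hom H D (k.trans h1) (k'.trans h1)⟩

theorem og (h : PH π M) (hD : PiG πᶜ D) : OG D := hD.compl_sing' h.two

theorem top (h : PH π M) : PH π (⊤ : Subgroup M) := by
  have i := M.subtype_injective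
  have c : ∀ {ρ : Set ℕ} {H : Subgroup M}, PiG ρ H → PiG ρ (H.map M.subtype) := fun k => by
    rwa [PiG, card_map_of_injective i]
  refine ⟨h.two, fun H P _ h1 h2 x hx => mem_norm_of_cj_le ?_, fun H D _ _ h1 h2 h3 x hx => mem_cent.2 fun y hy => ?_⟩
  · rintro _ ⟨y, hy, rfl⟩
    obtain ⟨z, hz, e⟩ := conj_mem_of_norm (h.cl _ _ (map_subtype_le _) (c h1) (h2.map _) ⟨x, hx, rfl⟩) ⟨y, hy, rfl⟩
    exact (show z = MulAut.conj x y from Subtype.ext e) ▸ hz
  · refine Subtype.ext (mem_cent.1 (h.hom _ _ (map_subtype_le H) (map_subtype_le D) (c h1) (c h2) ?_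
      ⟨x, hx, rfl⟩) y ⟨y, hy, rfl⟩)
    rintro _ ⟨a, ha, rfl⟩
    refine mem_norm_of_cj_le ?_
    rintro _ ⟨_, ⟨b, hb, rfl⟩, rfl⟩
    exact ⟨_, conj_mem_of_norm (h3 ha) hb, rfl⟩

theorem quo (h : PH π M) (hN : N ⊴ M) (h1 : PiG π N ∨ PiG πᶜ N) : PH π (H19.quo N M) := by
  have lift : ∀ X, X ≤ H19.quo N M → PiG π X → ∃ H ≤ M, PiG π H ∧ N ⊔ H = qpre N X := fun X k1 k2 => by
    have k3 := qpre_le hN.le k1
    rcases h1 with h1 | h1
    · exact ⟨_, k3, h1.qpre k2, sup_eq_right.2 (le_qpre X)⟩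
    have k4 : Hall πᶜ N (qpre N X) := ⟨le_qpre X, h1, by
      rw [← card_quo (qpre_le_norm _), quo_qpre]; exact k2.compl_compl⟩
    obtain ⟨H, k5⟩ := k4.exists_compl (qpre_le_norm X)
    exact ⟨H, k5.right_le.trans k3, compl_compl π ▸ (k5.hall_right k4).pi, k5.sup⟩
  have eq : ∀ {X H}, H ≤ M → N ⊔ H = qpre N X → H19.quo N H = X := fun k1 k2 => by
    rw [← quo_sup_left (k1.trans hN.norm), k2, quo_qpre]
  refine ⟨h.two, fun X P k1 k2 k3 => ?_, fun X D k1 k1' k2 k3 k4 => ?_⟩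
  · obtain ⟨H, l1, l2, l3⟩ := lift X k1 k2
    obtain ⟨Q, hQ⟩ := H19.exists_syl 2 H
    obtain rfl := eq l1 l3
    have := quo_norms (K := N) (h.cl H Q l1 l2 hQ)
    rwa [(hQ.quo (l1.trans hN.norm)).eq_of_normal this k3]
  obtain ⟨H, l1, l2, l3⟩ := lift X k1 k2
  have m1 := qpre_le hN.le k1'
  have m2 : qpre N D ≤ N(N ⊔ H) := l3 ▸ norms_qpre (qpre_le_norm D) (by rwa [quo_qpre])
  obtain rfl := eq l1 l3
  rcases h1 with h1 | h1
  · have k5 : Hall π N (qpre N D) := ⟨le_qpre D, h1, by rw [← card_quo (qpre_le_norm _), quo_qpre]; exact k3⟩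
    obtain ⟨E, k6⟩ := k5.exists_compl (qpre_le_norm D)
    rw [← eq (k6.right_le.trans m1) k6.sup]
    exact quo_cents ((h.hom _ E (sup_le hN.le l1) (k6.right_le.trans m1) (h1.sup l2 (l1.trans hN.norm))
      (k6.hall_right k5).pi (k6.right_le.trans m2)).trans (cent_mono le_sup_right))
  have k5 := h.hom H _ l1 (inf_le_left.trans m1) l2 ((h1.qpre k3).infl N(H)) inf_le_right
  refine le_trans ?_ (quo_cents k5)
  refine (quo_qpre D).ge.trans ((quo_le_quo_iff (qpre_le_norm D) (inf_le_left.trans (qpre_le_norm D))).2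
    fun d hd => ?_)
  obtain ⟨k, m3, m4⟩ := exists_cj_le_of_le_sup (l1.trans hN.norm) (cj_le_of_mem_norm (m2 hd) le_sup_right)
    (h1.coprime' (l2.J d)) (.inr (h.og h1).sol)
  simpa using mul_mem_sup (inv_mem m3) (mem_inf.2 ⟨mul_mem (le_qpre D m3) hd,
    mem_norm_of_cj_le (by rwa [cj_mul])⟩)

/-- elements of odd order inverted by an involution are `π'`-elements -/
theorem inv (h : PH π (⊤ : Subgroup G)) (s2 : s * s = 1) (ho : Odd (orderOf x)) (e : s * x * s⁻¹ = x⁻¹) :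
    PiE πᶜ x := by
  obtain ⟨⟨k, hk⟩, h2, h3⟩ := constt_spec π x
  have e1 : s * constt π x * s⁻¹ = (constt π x)⁻¹ := by rw [← hk]; simp only [← conj_zpow, e, inv_zpow]
  have o := ho.of_dvd_nat (orderOf_dvd_of_mem_zpowers ⟨k, hk⟩)
  generalize constt π x = y at h2 h3 e1 o
  have n : zpowers s ≤ N(zpowers y) := zpowers_le' (mem_norm_of_cj_le (by
    rw [cj_zpowers, e1]; exact zpowers_le' (inv_mem (mem_zpowers y))))
  obtain ⟨P, hP, l⟩ := (pg_zpowers s2).exists_syl (le_sup_right : _ ≤ zpowers y ⊔ zpowers s)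
  have l1 := conj_mem_of_norm (h.cl _ P le_top ((piG_zpowers.2 h2).sup ((pg_zpowers s2).sing h.two) n) hP
    (mem_sup_left (mem_zpowers y))) (l (mem_zpowers s))
  have l2 : y * y ∈ P := by
    have := mul_mem l1 (inv_mem (l (mem_zpowers s)))
    rwa [show y * s * y⁻¹ * s⁻¹ = y * (s * y * s⁻¹)⁻¹ by group, e1, inv_inv] at this
  obtain rfl : y = 1 := OG.eq_one' (og_iff.2 (by rwa [Nat.card_zpowers])) hP.pi (mem_zpowers y) (Be.mem_of_sq o l2)
  simpa using h3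

theorem len (h : PH π X) (hc : Hall πᶜ (Oc πᶜ X) X) (hP : Syl 2 P X) : X ≤ N(Oc πᶜ X ⊔ P) := by
  obtain ⟨H, k⟩ := hc.exists_compl (Oc_norm _ _)
  have k1 : Hall π H X := compl_compl π ▸ k.hall_right hc
  obtain ⟨Q, hQ⟩ := H19.exists_syl 2 H
  have k2 : X ≤ N(Oc πᶜ X ⊔ Q) := k.sup.ge.trans (sup_le (norms_of_le le_sup_left)
    (norms_sup (k1.le.trans (Oc_norm _ _)) (h.cl H Q k1.le k1.pi hQ)))
  obtain ⟨g, hg, rfl⟩ := (k1.sub_syl h.two hQ).sconj hP
  rwa [← cj_of_mem_norm (Oc_norm πᶜ X hg), ← cj_sup, cj_of_mem_norm (k2 hg)]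

theorem sol (h : PH π X) (hc : Hall πᶜ (Oc πᶜ X) X) : Sol X := by
  obtain ⟨P, hP⟩ := H19.exists_syl 2 X
  have k := h.len hc hP
  refine sol_of_quo k (sol_mono (sol_sup (h.og (Oc_pi _ _)).sol hP.pi.sol (hP.le.trans (Oc_norm _ _))) inf_le_left)
    (OG.sol ((piG_quo_iff k).2 (hP.idx.dvd (relIndex_dvd_left le_sup_right X))))

theorem simple (h : PH π (⊤ : Subgroup G)) (hG : Sim (⊤ : Subgroup G))
    (ih : ∀ X : Subgroup G, X ≠ ⊤ → Hall πᶜ (Oc πᶜ X) X) : False := by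
  haveI := Fact.mk Nat.prime_two
  obtain ⟨S⟩ : Nonempty (Sylow 2 G) := inferInstance
  have hS := syl_sylow_top S
  have ne : ∀ U, ¬ H3.Ess S U := fun U e => by
    have k0 := hS.pi.of_le e.lt.le
    have k1 := hG.norm_ne_top (fun k => e.lt.not_ge (le_trans (by rw [k]; simp) e.cent)) (hG.ne_top k0.sol)
    have k2 : Syl 2 (S ⊓ N(U)) N(U) :=
      syl_mk e.syl.le (.of_isPGroup Nat.prime_two e.syl.isPGroup) e.syl.not_dvd_relIndex
    have k3 := h.og (Oc_pi πᶜ N(U))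
    refine e.lt_inf.not_ge (le_trans (le_inf inf_le_left le_sup_right) (e.inf_le_of_pResidualOf_le
      (sup_le (Oc_le _ _) k2.le) ((h.mono le_top).len (ih _ k1) k2) (H28.pResidualOf_le_iff.2 fun x hx o =>
      mem_sup_right (h.hom U _ le_top le_top (k0.sing h.two) (Oc_pi _ _) (Oc_le _ _) ?_))))
    have n := k2.le.trans (Oc_norm πᶜ _)
    exact (⟨le_sup_left, k3, (relIndex_sup_of_norm n ▸ k2.pi.relIndex _ :).compl_compl⟩ :
      Hall {2}ᶜ _ _).mem_of_normal (left_normal_sup n).norm hx (.of_coprime o)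
  have sc : SCl Z((S : Subgroup G)) ⊤ := SCl.of_syl hS inf_le_left fun a ha g _ k => by
    obtain ⟨y, hy, e⟩ := H3.control_of_ess S (H := N((S : Subgroup G))) (fun x hx => ⟨x, hx, fun _ _ => rfl⟩)
      (fun T x k => (ne T k.1).elim) (zpowers_le' ha.1) (H3.cj_zpowers_le k)
    exact e a (mem_zpowers a) ▸ conj_mem_of_norm (norms_inf le_rfl (norms_cent le_rfl) hy) ha
  rcases gold hG (comm_center _) sc (hS.pi.center_ne_bot fun e => hG.nsol (OG.sol (hS.eq_bot_iff.1 e))) with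
    ⟨Y, k⟩ | ⟨V, k1, k2⟩ | k
  · obtain ⟨x, y, x1, y1, ne, x2, y2, c⟩ := hG.rk2
    obtain ⟨s, sY, s2⟩ := k.inv
    obtain ⟨g, -, rfl⟩ := k.conj (mem_top x) (mem_top s) (ord2_of x2 x1) s2
    have cm : ∀ {a b : G}, a ∈ Y → a ≠ 1 → a * a = 1 → a ∈ C[b] → b ∈ Y := fun {a b} l1 l2 l3 l4 =>
      k.mem a l1 (ord2_of l3 l2) b (mem_top b) (by rwa [← mem_cent1.1 l4, mul_inv_cancel_right])
    have od : ∀ {a b : G}, a * a = 1 → b * b = 1 → b ∉ Y → (∀ z, z ≠ 1 → z * z = 1 → z ∈ C[a] → z ∈ C[b] → z ∈ Y) →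
        Odd (orderOf (a * b)) := fun l1 l2 l3 l4 => by_contra fun o =>
      let ⟨z, m1, m2, m3, m4, _⟩ := dih_even l1 l2 o; l3 (cm (l4 z m1 m2 m3 m4) m1 m2 m4)
    have c' : g * x * g⁻¹ ∈ C[g * y * g⁻¹] := mem_cent1.2 (by
      rw [show g * x * g⁻¹ * (g * y * g⁻¹) = g * (x * y) * g⁻¹ by group, c]; group)
    have ne' : g * x * g⁻¹ ≠ g * y * g⁻¹ := fun e => ne (by simpa using e)
    have u2 := conj_sq y2 g
    have u1 := conj_ne_one y1 g
    have ss := mul_self_of_ord2 s2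
    have s1 := ne_one_of_ord2 s2
    generalize g * x * g⁻¹ = s at *
    generalize g * y * g⁻¹ = u at *
    have uY := cm sY s1 ss c'
    obtain ⟨r, -, hr⟩ := SetLike.exists_of_lt (lt_of_le_of_ne k.le k.ne)
    have tY : r * s * r⁻¹ ∉ Y := fun e => hr (k.mem s sY s2 r (mem_top r) e)
    have t2 := conj_sq ss r
    generalize r * s * r⁻¹ = t at tY t2
    have ti := inv_eq_of_mul_eq_one_right t2
    obtain ⟨v, v1, ⟨b, v2⟩, -⟩ := dih_swap ss (conj_sq u2 t) (od ss (conj_sq u2 t)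
      (fun e => tY (k.mem u uY (ord2_of u2 u1) t (mem_top t) e)) fun z _ _ m _ => cm sY s1 ss (mem_cent1_symm.1 m))
    have vv : v * v = 1 := v2 ▸ conj_sq ss b
    have e1 : t * v * s * (t * v)⁻¹ = u := by
      rw [← conj_conj', v1, conj_conj', t2]; simp
    have xY := k.mem s sY s2 _ (mem_top _) (e1.symm ▸ uY)
    have e2 : t * (t * v) * t⁻¹ = (t * v)⁻¹ := by
      rw [mul_inv_rev, inv_eq_of_mul_eq_one_right vv, ← mul_assoc, t2, one_mul]
    have o : Odd #(zpowers (t * v)) := og_iff.1 (by_contra fun o => by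
      obtain ⟨w, ⟨m, rfl⟩, w2⟩ := exists_inv o
      refine tY (cm (zpow_mem xY m) (ne_one_of_ord2 w2) (mul_self_of_ord2 w2) (mem_cent1_symm.1 (mem_cent1.2 ?_)))
      rw [← mul_inv_eq_iff_eq_mul, ← conj_zpow, e2, inv_zpow]
      exact inv_eq_of_mul_eq_one_right (mul_self_of_ord2 w2))
    rw [Nat.card_zpowers] at o
    have l := (ih Y k.ne).mem_Oc xY (h.inv t2 o e2)
    have l1 := mul_mem l (conj_mem_of_norm (Oc_norm πᶜ Y sY) (inv_mem l))
    rw [show t * v * (s * (t * v)⁻¹ * s⁻¹) = t * v * s * (t * v)⁻¹ * s⁻¹ by group, e1,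
      inv_eq_of_mul_eq_one_right ss] at l1
    refine ne' (mul_left_cancel (((h.og (Oc_pi _ _)).eq_one l1 ?_).trans u2.symm))
    rw [mul_assoc, ← mul_assoc s, mem_cent1.1 c', mul_assoc, ss, mul_one, u2]
  · obtain ⟨F, _, _, h8, h5, ⟨e⟩⟩ := l2pm_of_four hG k1 k2
    obtain ⟨p, _, ⟨f, hf⟩, hp, hq⟩ := FiniteField.card' F
    haveI := Fact.mk hp
    have pa := H20.JT.pa_psl p (F := F) (Nat.odd_iff.2 (by omega))
      (φ := (⊤ : Subgroup G).subtype.comp e.symm.toMonoidHom) ((subtype_injective _).comp e.symm.injective)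
    have tor : ∀ c : G, c ∈ _ → c ^ p ≠ 1 → Odd (orderOf c) → PiE πᶜ c := fun c hc c1 o => by
      obtain ⟨g, s, l, ⟨m, rfl⟩, -⟩ := pa.tor c hc c1
      exact h.inv (mul_self_of_ord2 l.s2) o (by simp only [← conj_zpow, l.inv, inv_zpow])
    have hm : ∀ (H : Subgroup G) (c : G), PiG π H → PiE πᶜ c → c ∈ N(H) → c ∈ C(H) := fun H c l1 l2 l3 =>
      h.hom H _ le_top le_top l1 (piG_zpowers.2 l2) (zpowers_le' l3) (mem_zpowers c)
    obtain ⟨u, -, v, -, c, hc, l, c3, l1, l2⟩ := pa.a4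
    have c1 : c ≠ 1 := fun e => l.ne (by simpa [e] using l1)
    have c0 := orderOf_eq_prime c3 c1
    have c4 : ¬ PiE πᶜ c := fun e => l.ne (by
      rw [← l1, conj_eq_of_cent' (hm _ c (l.pg.sing h.two) e (mem_norm_of_cj_le ?_)) (H2.GW.left_mem_V4 u v)]
      rw [H2.GW.cj_V4, l1, l2, l.V4_mul'])
    have c5 : c ^ p = 1 := by_contra fun e => c4 (tor c hc e (c0 ▸ by decide))
    obtain rfl : 3 = p := (Nat.prime_dvd_prime_iff_eq Nat.prime_three hp).1 (c0 ▸ orderOf_dvd_of_pow_eq_one c5)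
    have c6 : 3 ∈ π := by_contra fun e => c4 (by rw [PiE, c0]; exact (piN_prime hp).2 e)
    obtain ⟨U, B, b, hU⟩ := pa.uni c hc c1 c5
    change _ = 3 ^ f at hq
    have q1 : 3 ^ f % 8 = 1 ∨ 3 ^ f % 8 = 3 := by
      clear hq hf
      induction f with
      | zero => simp
      | succ f ih => rw [pow_succ]; omega
    obtain ⟨m, hm'⟩ : ∃ m, Fintype.card F = 2 * (2 * m + 3) + 1 := ⟨(Fintype.card F - 7) / 4, by omega⟩
    obtain ⟨r, hr, r1⟩ := Nat.exists_prime_and_dvd (show 2 * m + 3 ≠ 1 by omega)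
    have b1 := b.cardB
    rw [hm', Nat.add_sub_cancel, mul_left_comm] at b1
    obtain ⟨d, hd, d1⟩ := exists_orderOf_eq_prime hr ((r1.mul_left _).trans (Nat.eq_of_mul_eq_mul_left two_pos b1).symm.dvd)
    have r3 : ¬ r ∣ 3 := fun e => by
      have := (Nat.dvd_add_right (r1.mul_left 2)).1 (hm' ▸ hq ▸ e.trans (dvd_pow_self 3 hf.ne'))
      exact hr.not_dvd_one this
    have d2 : d ^ 3 ≠ 1 := fun e => r3 (d1 ▸ orderOf_dvd_of_pow_eq_one e)
    refine d2 (b.exp d (b.cent c hU c1 d (b.BL hd) (mem_cent.1 (hm U d ((PiN.of_card_pow hp (b.card.trans hq)).sing c6)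
      (tor d (b.BL hd) d2 (d1 ▸ Odd.of_dvd_nat ⟨m + 1, by ring⟩ r1)) (mem_norm_of_cj_le ?_)) c hU).symm))
    rintro _ ⟨x, hx, rfl⟩
    exact b.norm d hd x hx
  · obtain ⟨T, l, -⟩ := k.syl
    obtain ⟨t, -, t2⟩ := exists_inv_pg l.pg l.ne_bot
    exact k.nsol t (mem_top t) t2 (sol_mono ((h.mono le_top).sol (ih _ (hG.cent1_ne_top (ne_one_of_ord2 t2))))
      inf_le_right)

end PH

theorem ph_aux (n : ℕ) : ∀ {G : Type u} [Group G] [Finite G] (M : Subgroup G), #M < n → PH π M →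
    Hall πᶜ (Oc πᶜ M) M := by
  induction n with
  | zero => exact fun _ h => absurd h (Nat.not_lt_zero _)
  | succ n ih =>
  intro G _ _ M hn h
  by_cases hab : Ab M
  · exact nil_Oc_hall (nil_of_ab hab) _
  have red : ∀ N, N ⊴ M → N ≠ ⊥ → PiG π N ∨ PiG πᶜ N → Hall πᶜ (Oc πᶜ M) M := fun N hN h0 h1 => by
    have k := ih _ (by
      have := card_mul_relIndex hN.le
      have := ne_bot_iff_one_lt_card.1 h0
      have := card_pos M
      rw [card_quo hN.norm]; nlinarith) (h.quo hN h1)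
    have k1 := qpre_normal hN (Oc_normal πᶜ _)
    rcases h1 with h1 | h1
    · have k2 : Hall π N (qpre N (Oc πᶜ (H19.quo N M))) := ⟨le_qpre _, h1, by
        rw [← card_quo (qpre_le_norm _), quo_qpre]; exact Oc_pi _ _⟩
      obtain ⟨D, k3⟩ := k2.exists_compl (qpre_le_norm _)
      have k4 := k3.hall_right k2
      have k5 := h.hom N D hN.le (k4.le.trans k1.le) h1 k4.pi (k4.le.trans (qpre_le_norm _))
      have k6 := k4.eq_Oc (k3.sup.ge.trans (sup_le (norms_of_cents (cents_symm k5)) (norms_of_le le_rfl)))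
      exact (k4.of_idx k1.le (relIndex_qpre' hN _ ▸ k.idx)).Oc_hall (k6 ▸ norms_Oc _ k1.norm)
    · exact (k.qpre hN h1).Oc_hall k1.norm
  by_cases hs : IsSimpleGroup M
  · exact (h.top.simple (Sim.top ⟨hs, hab⟩) fun X hX => ih X (by
      have := card_lt (lt_top_iff_ne_top.2 hX)
      rw [card_top] at this; omega) (h.top.mono le_top)).elim
  rw [simple_iff] at hs
  push Not at hs
  obtain ⟨N, h1, h2, h3, h4⟩ := hs fun e => hab (e ▸ inferInstance)
  have k := ih N (by have := card_lt (lt_of_le_of_ne h1 h4); omega) (h.mono h1)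
  by_cases e : Oc πᶜ N = ⊥
  · exact red N ⟨h1, h2⟩ h3 (.inl (compl_compl π ▸ (e ▸ k).pi'_of_eq_bot))
  · exact red _ (NormalIn.Oc ⟨h1, h2⟩ _) e (.inr (Oc_pi _ _))

theorem s3258 (h2 : 2 ∈ π)
    (hcl : ∀ H : Subgroup G, (∀ p : ℕ, p.Prime → p ∣ Nat.card H → p ∈ π) →
      ∀ P : Sylow 2 H, (P : Subgroup H).Normal) :
    (∃ K : Subgroup G, ∀ x : G, x ∈ K ↔ ∀ p : ℕ, p.Prime → p ∣ orderOf x → p ∉ π) ↔
      (∀ H : Subgroup G, H ≠ ⊥ → (∀ p : ℕ, p.Prime → p ∣ Nat.card H → p ∈ π) →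
        ∀ p : ℕ, p.Prime → p ∣ (C(H)).relIndex N(H) → p ∈ π) := by
  refine ⟨fun ⟨K, hK⟩ H _ h1 p hp hd => by_contra fun k => ?_, fun h => ?_⟩
  · obtain ⟨P, hP⟩ := H19.exists_syl p N(H)
    have k1 : PiG πᶜ K := PiN.of_elt fun x hx => (hK x).1 hx
    have k2 : P ≤ K := fun x hx => (hK x).2 (PiN.elt (hP.pi.sing (π := πᶜ) k) hx)
    have k3 : H ≤ N(K) := fun g _ => mem_norm_of_cj_le (by
      rintro _ ⟨x, hx, rfl⟩
      exact (hK _).2 (PiN.e_conj ((hK x).1 hx) g))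
    refine hP.not_dvd_relIndex hp (commg_eq_bot.1 (eq_bot_iff.2 ((le_inf (commg_le_right hP.le)
      ((commutator_mono k2 le_rfl).trans (commg_le_left k3))).trans (PiN.inf_eq_bot h1 k1).le))) hd
  haveI := Fact.mk Nat.prime_two
  have k := ph_aux _ (⊤ : Subgroup G) (Nat.lt_succ_self _) ⟨h2, fun H P _ h1 hP => by
    obtain ⟨S, rfl⟩ := hP.exists_sylow
    have := hcl H h1 S
    exact (normalIn_map_subtype _).norm, fun H D _ _ h1 h3 h4 => by
    by_cases e : H = ⊥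
    · rw [e]; simp
    exact le_of_pi_of_relIndex (norms_cent h4) (cent_le_norm H) h4 h3 (PiN.compl_compl (h H e h1))⟩
  exact ⟨_, fun x => ⟨fun hx => (Oc_pi πᶜ _).elt hx, k.mem_Oc (mem_top x)⟩⟩

end H25.PF
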