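import Cfsg.Agent.H29.NA6
import Cfsg.Agent.H28.GC22
import Cfsg.Agent.H17.GF0
import Cfsg.Agent.H17.GG0
import Cfsg.Agent.H10.XE1
import Cfsg.Agent.H16.L.G23
import Cfsg.Agent.H1.Gd2
import Cfsg.Agent.H28.GC23
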