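import Cfsg.Agent.H25.Ito3
import Cfsg.Agent.H23.Real

/-! Groups in which the centralizers of the elements of odd order inverted by `2`-central
involutions are transitive on the Sylow `2`-subgroups. -/

set_option autoImplicit false
set_option linter.unusedSectionVars false

open Cfsg Subgroup
namespace H25.Ito
open H19

variable {G : Type*} [Group G] [Finite G] {E B T T' : Subgroup G} {a b c g h s t u w x y : G}

/-- `2`-central elements of order at most two -/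
def I2 (s : G) : Prop := s * s = 1 ∧ ∃ T, Syl 2 T ⊤ ∧ T ≤ C[s]

/-- primary elements of odd order inverted by a `2`-central involution -/
def Y2 (y : G) : Prop :=
  y ≠ 1 ∧ (∃ p : ℕ, p.Prime ∧ p ≠ 2 ∧ PiE {p} y) ∧ ∃ s, I2 s ∧ s * y * s⁻¹ = y⁻¹

theorem I2.conj (h : I2 s) (g : G) : I2 (g * s * g⁻¹) := by
  obtain ⟨h1, T, h2, h3⟩ := h
  refine ⟨by rw [conj_mul, h1]; simp, _, h2.Jtop g, ?_⟩
  rw [← cj_cent1]; exact cj_mono g h3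

theorem inv_of_mem_zpowers (h : s * x * s⁻¹ = x⁻¹) (hy : y ∈ zpowers x) : s * y * s⁻¹ = y⁻¹ := by
  obtain ⟨k, rfl⟩ := hy
  simp only
  rw [← conj_zpow, h, inv_zpow]

theorem inv_mul_invol (hs : s * s = 1) (ht : t * t = 1) : s * (s * t) * s⁻¹ = (s * t)⁻¹ := by
  rw [← mul_assoc, hs, one_mul, mul_inv_rev, inv_eq_of_mul_eq_one_right ht]

theorem pe2 (hs : s * s = 1) : PiE {2} s :=
  (PiN.prime_pow Nat.prime_two 1).dvd (orderOf_dvd_of_pow_eq_one (by rw [pow_one, pow_two, hs]))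

theorem exists_Y2 (hs : I2 s) (h : s * x * s⁻¹ = x⁻¹) (hx : ¬ PiE {2} x) :
    ∃ y ∈ zpowers x, Y2 y := by
  simp only [PiE, PiN, not_forall] at hx
  obtain ⟨p, hp, hd, h2⟩ := hx
  obtain ⟨y, hy, e⟩ := exists_orderOf_eq_prime (H := zpowers x) hp (by rwa [Nat.card_zpowers])
  exact ⟨y, hy, fun a => hp.ne_one (by rw [← e, a, orderOf_one]), ⟨p, hp, h2, (pe_iff hp).2
    ⟨1, by rw [e, pow_one]⟩⟩, s, hs, inv_of_mem_zpowers h hy⟩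

theorem Y2.not_pe (h : Y2 y) : ¬ PiE {2} (y⁻¹ * y⁻¹) := fun e => by
  obtain ⟨h1, ⟨p, -, p2, hp⟩, -⟩ := h
  have h2 := hp.sing_ne p2
  have h3 := e.e_eq_one (h2.e_inv.e_mul h2.e_inv rfl)
  exact h1 ((pe2 (s := y) (by rw [← inv_eq_one, mul_inv_rev, h3])).e_eq_one h2)

theorem pg_sup (hE : PG 2 E) (hg : g ∈ N(E)) (g2 : PiE {2} g) : PG 2 (E ⊔ zpowers g) :=
  hE.sup (piG_zpowers.2 g2) (zpowers_le.2 hg)

/-- the configuration: `E` has maximal order among the `2`-groups centralizing such an element -/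
structure RC (E : Subgroup G) : Prop where
  tr : ∀ y : G, Y2 y → ∀ T T', Syl 2 T ⊤ → Syl 2 T' ⊤ → ∃ c ∈ C[y], cj c T = T'
  pg : PG 2 E
  max : ∀ (y : G) B, Y2 y → PG 2 B → B ≤ C[y] → #B ≤ #E

/-- the involutions to be considered -/
def A2 (E : Subgroup G) (s : G) : Prop := I2 s ∧ s ∈ C(E) ∧ s ∉ E

theorem A2.conj (h : A2 E s) (hg : g ∈ N(E)) : A2 E (g * s * g⁻¹) :=
  ⟨h.1.conj g, conj_mem_of_norm (norm_le_norm_cent E hg) h.2.1,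
    fun e => h.2.2 (by simpa [mul_assoc] using conj_mem_of_norm' hg e)⟩

theorem R_conj (h : PiE {2} (s * t)) (g : G) : PiE {2} (g * s * g⁻¹ * (g * t * g⁻¹)) := by
  rw [conj_mul]; exact h.e_conj g

theorem R_symm (h : PiE {2} (s * t)) : PiE {2} (t * s) := by
  simpa [mul_assoc] using h.e_conj t

namespace RC
variable (r : RC E)
include r

theorem l1 (hg : g ∈ N(E)) (g2 : PiE {2} g) (hg' : g ∉ E) (hs : A2 E s) (ht : A2 E t)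
    (h1 : s ∈ C[g]) (h2 : t ∈ C[g]) : PiE {2} (s * t) := by
  by_contra hn
  obtain ⟨y, hy, h3⟩ := exists_Y2 hs.1 (inv_mul_invol hs.1.1 ht.1.1) hn
  refine (r.max y _ h3 (pg_sup r.pg hg g2) (le_cent1_iff.2 (zpowers_le.2 ?_ hy))).not_gt
    (card_lt (left_lt_sup.2 fun e => hg' (e (mem_zpowers g))))
  rw [cent_sup, cent_zpowers]
  exact ⟨mul_mem hs.2.1 ht.2.1, mul_mem h1 h2⟩

theorem exT (hs : A2 E s) (ht : A2 E t) (h : PiE {2} (s * t)) :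
    ∃ T, Syl 2 T ⊤ ∧ E ≤ T ∧ s ∈ T ∧ t ∈ T := by
  have h1 : PG 2 (zpowers (s * t) ⊔ zpowers s) := pg_sup (piG_zpowers.2 h)
    (mem_norm_of_cj_le (by
      rw [cj_zpowers, inv_mul_invol hs.1.1 ht.1.1, zpowers_inv])) (pe2 hs.1.1)
  obtain ⟨T, h2, h3⟩ := (r.pg.sup h1 (norms_of_cents (sup_le (zpowers_le.2
    (mul_mem hs.2.1 ht.2.1)) (zpowers_le.2 hs.2.1)))).exists_syl le_top
  have h4 := h3 (mem_sup_right (mem_sup_right (mem_zpowers s)))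
  exact ⟨T, h2, le_sup_left.trans h3, h4, (mul_mem_cancel_left h4).1
    (h3 (mem_sup_right (mem_sup_left (mem_zpowers _))))⟩

theorem exT1 (hs : A2 E s) : ∃ T, Syl 2 T ⊤ ∧ E ≤ T ∧ s ∈ T :=
  let ⟨T, h1, h2, h3, _⟩ := r.exT hs hs (by rw [hs.1.1]; exact PiN.e_one)
  ⟨T, h1, h2, h3⟩

variable (hy : Y2 y) (hE : E ≤ C[y])
include hy hE

theorem syl : Syl 2 E C[y] :=
  syl_of_max hE r.pg fun Q h1 h2 h3 => (eq_of_le_of_card_ge h3 (r.max y Q hy h2 h1)).symm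

theorem trN (hT : Syl 2 T ⊤) (hT' : Syl 2 T' ⊤) (h1 : E ≤ T) (h2 : E ≤ T') :
    ∃ c ∈ C[y], c ∈ N(E) ∧ cj c T = T' := by
  obtain ⟨c, hc, e⟩ := r.tr y hy T T' hT hT'
  refine ⟨c, hc, mem_norm_of_cj_le ?_, e⟩
  exact (le_inf (e ▸ cj_mono c h1) (cj_le_of_mem hc hE)).trans
    ((r.syl hy hE).max (le_inf h2 hE) inf_le_right (hT'.pi.infl _)).le

theorem exW (hT : Syl 2 T ⊤) (h1 : E ≤ T) :
    ∃ w, A2 E w ∧ T ≤ C[w] ∧ w ∈ T ∧ w * y * w⁻¹ = y⁻¹ := by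
  obtain ⟨s, hs, e⟩ := hy.2.2
  obtain ⟨T', h2, h3⟩ := hs.2
  obtain ⟨c, hc, rfl⟩ := r.tr y hy T' T h2 hT
  have h4 : cj c T' ≤ C[c * s * c⁻¹] := by rw [← cj_cent1]; exact cj_mono c h3
  have h5 : c * s * c⁻¹ * y * (c * s * c⁻¹)⁻¹ = y⁻¹ := by
    have := mem_cent1.1 (inv_mem hc)
    calc _ = c * (s * (c⁻¹ * y * c) * s⁻¹) * c⁻¹ := by group
      _ = c * (s * y * s⁻¹) * c⁻¹ := by rw [this]; simp
      _ = (c * y * c⁻¹)⁻¹ := by rw [e]; group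
      _ = _ := by rw [mem_cent1.1 hc]; simp
  refine ⟨_, ⟨hs.conj c, le_cent1_iff.1 (h1.trans h4), fun h6 => hy.not_pe ?_⟩, h4,
    hT.mem_of_norm trivial (pe2 (hs.conj c).1) (cent_le_norm _ (le_cent1_iff.1 h4)), h5⟩
  rw [mem_cent1.1 (hE h6), mul_inv_cancel_right] at h5
  nth_rewrite 1 [← h5]
  rw [mul_inv_cancel]
  exact PiN.e_one

theorem sylN (hT : Syl 2 T ⊤) (h1 : E ≤ T) : Syl 2 (T ⊓ N(E)) N(E) := by
  obtain ⟨P, hP, h2⟩ := r.pg.exists_syl (le_normalizer (H := E))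
  obtain ⟨T', h3, h4⟩ := hP.pi.exists_syl le_top
  obtain ⟨c, -, hc, rfl⟩ := r.trN hy hE h3 hT (h2.trans h4) h1
  exact (hP.Jmem hc).of_card_le inf_le_right (hT.pi.infl _)
    (card_le (le_inf (cj_mono c h4) (hP.Jmem hc).le))

theorem mul_mem_E (hs : A2 E s) (ht : A2 E t) (h : PiE {2} (s * t)) (h1 : s * y * s⁻¹ = y⁻¹)
    (h2 : t * y * t⁻¹ = y⁻¹) : s * t ∈ E :=
  (r.syl hy hE).mem_of_norm (H24.mem_cent_iff_conj.2 (by
    calc _ = s * (t * y * t⁻¹) * s⁻¹ := by group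
      _ = (s * y * s⁻¹)⁻¹ := by rw [h2]; group
      _ = _ := by rw [h1, inv_inv])) h (cent_le_norm _ (mul_mem hs.2.1 ht.2.1))

theorem trans (hs : A2 E s) (ht : A2 E t) (hu : A2 E u) (h1 : PiE {2} (s * t))
    (h2 : PiE {2} (t * u)) : PiE {2} (s * u) := by
  obtain ⟨T, a1, a2, a3, a4⟩ := r.exT hs ht h1
  obtain ⟨T', b1, b2, b3, b4⟩ := r.exT ht hu h2
  obtain ⟨w, c1, c2, -, c3⟩ := r.exW hy hE a1 a2
  obtain ⟨w', d1, d2, -, d3⟩ := r.exW hy hE b1 b2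
  have h3 := r.mul_mem_E hy hE c1 d1 (r.l1 (cent_le_norm _ ht.2.1) (pe2 ht.1.1) ht.2.2 c1 d1
    (mem_cent1_symm.1 (c2 a4)) (mem_cent1_symm.1 (d2 b3))) c3 d3
  refine r.l1 (cent_le_norm _ c1.2.1) (pe2 c1.1.1) c1.2.2 hs hu (c2 a3) (mem_cent1_symm.1 ?_)
  exact (mul_mem_cancel_right (mem_cent1_symm.1 (d2 b4))).1 (le_cent1_iff.2 hu.2.1 h3)

theorem exM (ha : A2 E a) :
    ∃ M : Subgroup G, ∀ h, h ∈ M ↔ h ∈ N(E) ∧ PiE {2} (a * (h * a * h⁻¹)) :=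
  ⟨{ carrier := {h | h ∈ N(E) ∧ PiE {2} (a * (h * a * h⁻¹))}
     one_mem' := ⟨one_mem _, by simpa [ha.1.1] using PiN.e_one⟩
     mul_mem' := fun {g h} hg hh => ⟨mul_mem hg.1 hh.1, r.trans hy hE ha (ha.conj hg.1)
       (ha.conj (mul_mem hg.1 hh.1)) hg.2 (by simpa [mul_assoc] using hh.2.e_conj g)⟩
     inv_mem' := fun {g} hg => ⟨inv_mem hg.1, R_symm (by simpa [mul_assoc] using hg.2.e_conj g⁻¹)⟩ },
    fun _ => Iff.rfl⟩

theorem fix1 (hg : g ∈ N(E)) (g2 : PiE {2} g) (ha : A2 E a) (h : PiE {2} (a * (g * a * g⁻¹))) :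
    ∃ w, A2 E w ∧ PiE {2} (a * w) ∧ w ∈ C[g] := by
  obtain ⟨M, hM⟩ := r.exM hy hE ha
  obtain ⟨T, a1, a2, a3⟩ := r.exT1 ha
  obtain ⟨w, c1, c2, c3, -⟩ := r.exW hy hE a1 a2
  have h1 : Syl 2 (T ⊓ N(E)) M := (r.sylN hy hE a1 a2).of_le (fun x hx => (hM x).2 ⟨hx.2,
    a1.pi.elt (mul_mem a3 (mul_mem (mul_mem hx.1 a3) (inv_mem hx.1)))⟩) fun x hx => ((hM x).1 hx).1
  obtain ⟨k, hk, h2⟩ := h1.sle_cj (zpowers_le.2 ((hM g).2 ⟨hg, h⟩)) (piG_zpowers.2 g2)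
  obtain ⟨k1, k2⟩ := (hM k).1 hk
  refine ⟨_, c1.conj k1, r.trans hy hE ha (ha.conj k1) (c1.conj k1) k2
    (R_conj (a1.pi.elt (mul_mem a3 c3)) k), mem_cent1_symm.1 ?_⟩
  rw [← cj_cent1]
  exact cj_mono k (inf_le_left.trans c2) (h2 (mem_zpowers g))

theorem fix (hg : g ∈ N(E)) (g2 : PiE {2} g) (hg' : g ∉ E) (ha : A2 E a)
    (h : PiE {2} (a * (g * a * g⁻¹))) (hb : A2 E b) (h' : PiE {2} (b * (g * b * g⁻¹))) :
    PiE {2} (a * b) := by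
  obtain ⟨w, a1, a2, a3⟩ := r.fix1 hy hE hg g2 ha h
  obtain ⟨w', b1, b2, b3⟩ := r.fix1 hy hE hg g2 hb h'
  exact r.trans hy hE ha b1 hb (r.trans hy hE ha a1 b1 a2 (r.l1 hg g2 hg' a1 b1 a3 b3)) (R_symm b2)

theorem nofix (hu : A2 E u) (h1 : u * y * u⁻¹ = y⁻¹) (hN : y ∈ N(E)) (ha : A2 E a) :
    ¬ PiE {2} (a * (y * a * y⁻¹)) := fun h => by
  obtain ⟨T, a1, a2, a3⟩ := r.exT1 ha
  obtain ⟨T', b1, b2, b3⟩ := r.exT1 hu
  obtain ⟨d, hd, hd', rfl⟩ := r.trN hy hE a1 b1 a2 b2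
  have h2 : PiE {2} (u * (d * a * d⁻¹)) := b1.pi.elt (mul_mem b3 (conj_mem_cj.2 a3))
  have h3 := R_conj h d
  rw [show d * (y * a * y⁻¹) * d⁻¹ = y * (d * a * d⁻¹) * y⁻¹ by
    calc _ = (d * y) * a * (d * y)⁻¹ := by group
      _ = _ := by rw [mem_cent1.1 hd]; group] at h3
  have h4 := r.trans hy hE hu ((ha.conj hd').conj hN) (hu.conj hN)
    (r.trans hy hE hu (ha.conj hd') ((ha.conj hd').conj hN) h2 h3) (R_symm (R_conj h2 y))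
  refine hy.not_pe ?_
  have e := inv_eq_of_mul_eq_one_right hu.1.1
  rwa [show u * (y * u * y⁻¹) = y⁻¹ * y⁻¹ by rw [← h1, e]; group] at h4

theorem main (hu : A2 E u) : u * y * u⁻¹ = y⁻¹ := by
  have yc := le_cent1_iff.1 hE
  have cn := cent_le_norm E
  have un := cn hu.2.1
  obtain ⟨a, ha, ay, au⟩ : ∃ a, A2 E a ∧ a * y * a⁻¹ = y⁻¹ ∧ ¬ PiE {2} (a * u) := by
    obtain ⟨T, a1, a2, -⟩ := r.exT1 hu
    obtain ⟨w, c1, -, -, c3⟩ := r.exW hy hE a1 a2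
    by_contra hn
    push Not at hn
    refine r.nofix hy hE c1 c3 (cn yc) c1 (r.trans hy hE c1 hu (c1.conj (cn yc)) (hn w c1 c3)
      (R_symm (hn _ (c1.conj (cn yc)) ?_)))
    calc _ = y * (w * y * w⁻¹) * y⁻¹ := by group
      _ = _ := by rw [c3]; group
  have ha1 := ha.conj un
  have n1 : ¬ PiE {2} (a * (u * a * u⁻¹)) := fun e => au (r.fix hy hE un (pe2 hu.1.1) hu.2.2 ha e hu
    (by simpa [hu.1.1] using PiN.e_one))
  obtain ⟨T, a1, a2, a3⟩ := r.exT1 ha1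
  obtain ⟨w, hw, -, c2, c3⟩ := r.exW hy hE a1 a2
  obtain ⟨c2', v, -, hv, e, cm, p2, pv⟩ := H24.exists_piPart {2} (a * w)
  obtain ⟨j, hj⟩ := exists_pow_eq_self_of_coprime (x := v) (n := 4)
    ((PiN.prime_pow Nat.prime_two 2).coprime pv)
  have m1 : a * w ∈ C[y] ⊓ C(E) := ⟨H24.mem_cent_iff_conj.2 (by
    calc _ = a * (w * y * w⁻¹) * a⁻¹ := by group
      _ = (a * y * a⁻¹)⁻¹ := by rw [c3]; group
      _ = _ := by rw [ay, inv_inv]), mul_mem ha.2.1 hw.2.1⟩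
  have hz := pow_mem hv j
  rw [← pow_mul, mul_comm, pow_mul] at hj
  generalize v ^ j = z at hz hj
  have z1 := inv_of_mem_zpowers (inv_mul_invol ha.1.1 hw.1.1) hz
  have z2 := zpowers_le.2 m1 hz
  have ea := inv_eq_of_mul_eq_one_right ha.1.1
  have eu := inv_eq_of_mul_eq_one_right hu.1.1
  have hs : A2 E (z⁻¹ * a * z⁻¹⁻¹) := ha.conj (cn (inv_mem z2.2))
  have sy : z⁻¹ * a * z⁻¹⁻¹ * y * (z⁻¹ * a * z⁻¹⁻¹)⁻¹ = y⁻¹ := by
    calc _ = z⁻¹ * (a * (z * y * z⁻¹) * a⁻¹) * z := by group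
      _ = (z⁻¹ * y * z⁻¹⁻¹)⁻¹ := by rw [H24.mem_cent_iff_conj.1 z2.1, ay]; group
      _ = _ := by rw [H24.mem_cent_iff_conj.1 (inv_mem z2.1)]
  have sa : z⁻¹ * a * z⁻¹⁻¹ * a * (z⁻¹ * a * z⁻¹⁻¹)⁻¹ * w = c2' := by
    have z3 : a⁻¹ * z * a⁻¹⁻¹ = z⁻¹ := by rw [inv_inv, ← z1, ea]
    calc _ = z⁻¹ * (a * z * a⁻¹) * (a * a) * z⁻¹ * (a⁻¹ * z * a⁻¹⁻¹) * (a⁻¹ * w) := by group
      _ = (z ^ 4)⁻¹ * (c2' * v) := by rw [z1, z3, ha.1.1, ea, e]; group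
      _ = _ := by rw [hj, cm.eq, inv_mul_cancel_left]
  generalize z⁻¹ * a * z⁻¹⁻¹ = s at hs sy sa
  have es := inv_eq_of_mul_eq_one_right hs.1.1
  have sn := cn hs.2.1
  have hb := ha.conj sn
  have b1 : PiE {2} (s * a * s⁻¹ * (u * a * u⁻¹)) :=
    r.trans hy hE hb hw ha1 (sa ▸ p2) (a1.pi.elt (mul_mem c2 a3))
  have cN := mul_mem un sn
  have f1 : PiE {2} (a * (u * s * a * (u * s)⁻¹)) := by
    have := R_symm (R_conj b1 u)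
    rwa [show u * (u * a * u⁻¹) * u⁻¹ = (u * u) * a * (u * u)⁻¹ by group, hu.1.1, one_mul, inv_one,
      mul_one, show u * (s * a * s⁻¹) * u⁻¹ = u * s * a * (u * s)⁻¹ by group] at this
  have f2 : PiE {2} (u * a * u⁻¹ * (u * s * (u * a * u⁻¹) * (u * s)⁻¹)) := by
    have := R_conj (R_conj b1 s) u
    rwa [show s * (s * a * s⁻¹) * s⁻¹ = (s * s) * a * (s * s)⁻¹ by group, hs.1.1, one_mul, inv_one,
      mul_one, show u * (s * (u * a * u⁻¹) * s⁻¹) * u⁻¹ = u * s * (u * a * u⁻¹) * (u * s)⁻¹ by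
        group] at this
  have g1 : PiE {2} (u * s) := by
    by_contra hn
    obtain ⟨y', h1, h2⟩ := exists_Y2 hu.1 (inv_mul_invol hu.1.1 hs.1.1) hn
    obtain ⟨M, hM⟩ := r.exM hy hE ha
    have h3 := (hM y').1 (zpowers_le.2 ((hM _).2 ⟨cN, f1⟩) h1)
    exact r.nofix h2 (le_cent1_iff.2 (zpowers_le.2 (mul_mem hu.2.1 hs.2.1) h1)) hu
      (inv_of_mem_zpowers (inv_mul_invol hu.1.1 hs.1.1) h1) h3.1 ha h3.2
  have g2 : u * s ∈ E := by_contra fun hn => n1 (r.fix hy hE cN g1 hn ha f1 ha1 f2)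
  have s3 : s⁻¹ * y * s = y⁻¹ := by rw [← sy, es]
  calc _ = u * s * (s⁻¹ * y * s) * (u * s)⁻¹ := by group
    _ = (u * s * y * (u * s)⁻¹)⁻¹ := by rw [s3]; group
    _ = _ := by rw [H24.mem_cent_iff_conj.1 (hE g2)]

end RC

theorem exists_normalized (tr : ∀ y : G, Y2 y → ∀ T T', Syl 2 T ⊤ → Syl 2 T' ⊤ →
    ∃ c ∈ C[y], cj c T = T') (hx : Y2 x) : ∃ y : G, y ≠ 1 ∧ ∀ s, I2 s → s ∈ N(zpowers y) := by
  obtain ⟨E, ⟨h1, y, hy, hE⟩, hm⟩ := Set.exists_max_image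
    {E : Subgroup G | PG 2 E ∧ ∃ y, Y2 y ∧ E ≤ C[y]} (fun E => #E) (Set.toFinite _)
    ⟨⊥, PiN.bot, x, hx, bot_le⟩
  have r : RC E := ⟨tr, h1, fun y B a b c => hm B ⟨b, y, a, c⟩⟩
  refine ⟨y, hy.1, fun s hs => ?_⟩
  obtain ⟨T, a1, a2⟩ := hs.2
  obtain ⟨T', b1, b2⟩ := h1.exists_syl le_top
  obtain ⟨c, hc, rfl⟩ := tr y hy T T' a1 b1
  have h2 : c * s * c⁻¹ ∈ N(zpowers y) := by
    by_cases e : c * s * c⁻¹ ∈ E
    · exact cent1_le_norm_zpowers y (hE e)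
    · refine mem_norm_of_cj_le ?_
      rw [cj_zpowers, r.main hy hE ⟨hs.conj c, le_cent1_iff.1 (b2.trans ?_), e⟩, zpowers_inv]
      rw [← cj_cent1]; exact cj_mono c a2
  have h3 := cent1_le_norm_zpowers y hc
  simpa [mul_assoc] using mul_mem (mul_mem (inv_mem h3) h2) h3

end H25.Ito
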