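import Cfsg.Agent.H25.Re1
import Cfsg.Agent.H24.Baer
import Cfsg.Agent.S3863

/-! Solvability when the classes of real elements of odd order have size prime to the number of
Sylow `2`-subgroups. -/

set_option autoImplicit false
set_option linter.unusedSectionVars false

open Cfsg Subgroup
namespace H25.Ito
open H19

universe u

variable {G : Type u} [Group G] [Finite G] {p : ℕ} {π : Set ℕ} {K T : Subgroup G}
  {g v x y z : G}

theorem mem_zpowers_sq (h : PiE {2}ᶜ v) : v ∈ zpowers (v * v) := by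
  obtain ⟨m, hm⟩ := exists_pow_eq_self_of_coprime (x := v) (n := 2)
    (h.coprime_prime Nat.prime_two).symm
  exact ⟨m, by simpa [pow_two] using hm⟩

theorem sq_mem_cent (h : g * x * g⁻¹ = x⁻¹) : g * g ∈ C[x] := H24.mem_cent_iff_conj.2 (by
  calc _ = g * (g * x * g⁻¹) * g⁻¹ := by group
    _ = (g * x * g⁻¹)⁻¹ := by nth_rewrite 1 [h]; group
    _ = _ := by rw [h, inv_inv])

theorem odd_mem_cent (h : g * x * g⁻¹ = x⁻¹) (hv : v ∈ zpowers g) (ho : PiE {2}ᶜ v) : v ∈ C[x] := by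
  refine zpowers_le.2 ?_ (mem_zpowers_sq ho)
  obtain ⟨k, rfl⟩ := hv
  simpa [(Commute.refl g).mul_zpow] using zpow_mem (sq_mem_cent h) k

theorem lift_real (N : Subgroup G) [N.Normal] {y : G ⧸ N} (p2 : p ≠ 2) (hy : PiE {p} y)
    (hr : IsConj y y⁻¹) : ∃ x : G, PiE {p} x ∧ IsConj x x⁻¹ ∧ y ∈ zpowers (x : G ⧸ N) := by
  set f := QuotientGroup.mk' N
  obtain ⟨g, hg⟩ := isConj_iff.1 hr
  obtain ⟨g, rfl⟩ := QuotientGroup.mk'_surjective N g
  obtain ⟨y, rfl⟩ := QuotientGroup.mk'_surjective N y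
  obtain ⟨x, -, hx, e⟩ := H23.exists_piElt_lift f y hy
  rw [← e] at hg hy ⊢
  have gM : g ∈ N((zpowers (f x)).comap f) := mem_norm_of_cj_le fun a ha => by
    obtain ⟨b, hb, rfl⟩ := mem_cj'.1 ha
    rw [mem_comap, map_mul, map_mul, map_inv, inv_of_mem_zpowers hg hb]
    exact inv_mem hb
  obtain ⟨P, hP, xP⟩ := (piG_zpowers.2 hx).exists_syl
    (zpowers_le.2 (mem_zpowers _) : zpowers x ≤ (zpowers (f x)).comap f)
  replace xP := xP (mem_zpowers x)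
  obtain ⟨m, hm, e⟩ := (hP.Jnorm gM).sconj hP
  rw [cj_cj, ← mem_norm_iff_cj] at e
  have h1 : f (m * g) * f x * (f (m * g))⁻¹ = (f x)⁻¹ := by
    calc _ = f m * (f g * f x * (f g)⁻¹) * (f m)⁻¹ := by rw [map_mul]; group
      _ = (f m * f x * (f m)⁻¹)⁻¹ := by rw [hg]; group
      _ = _ := by rw [H24.mem_cent_iff_conj.1 (zpowers_le.2 (mem_cent1_self _) hm)]
  obtain ⟨u, v, hu, hv, e', -, u2, v2⟩ := H24.exists_piPart {2} (m * g)
  have h2 : f u * f x * (f u)⁻¹ = (f x)⁻¹ := by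
    rw [← h1, ← e', map_mul]
    calc _ = f u * (f v * f x * (f v)⁻¹) * (f u)⁻¹ := by
          rw [H24.mem_cent_iff_conj.1 (odd_mem_cent h1 (by
            rw [← MonoidHom.map_zpowers]; exact mem_map_of_mem f hv)
            (PiN.dvd v2 (orderOf_map_dvd f v)))]
      _ = _ := by group
  have uP := zpowers_le.2 e hu
  have a1 : zpowers (u * u) ≤ N(P) := zpowers_le.2 (mul_mem uP uP)
  obtain ⟨k, hk, h3⟩ := exists_mul_mem_cent (A := zpowers (u * u)) (H := P ⊓ N) (k := x)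
    (norms_inf a1 (le_top.trans (normalIn_top (H := N)).norm))
    (((hP.pi.sing_ne p2).infl N).coprime' (piG_zpowers.2 (PiN.e_mul u2 u2 rfl)))
    (.inl (sol_zpowers _)) fun a ha => ⟨mul_mem (conj_mem_of_norm (a1 ha) xP) (P.inv_mem xP), by
      have : f a ∈ C[f x] := zpowers_le.2 (sq_mem_cent h2) (by
        rw [← map_mul, ← MonoidHom.map_zpowers]; exact mem_map_of_mem f ha)
      rw [← QuotientGroup.ker_mk' N]
      simp only [SetLike.mem_coe, MonoidHom.mem_ker, map_mul, map_inv]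
      exact mul_inv_eq_one.2 (H24.mem_cent_iff_conj.1 this)⟩
  have kx := mul_mem hk.1 xP
  have fk : f (k * x) = f x := by
    rw [map_mul, show f k = 1 from (QuotientGroup.eq_one_iff k).2 hk.2, one_mul]
  rw [cent_zpowers, mem_cent1_symm, H24.mem_cent_iff_conj] at h3
  generalize k * x = w at h3 kx fk
  refine ⟨w * (u * w⁻¹ * u⁻¹), hP.pi.elt (mul_mem kx (conj_mem_of_norm uP (inv_mem kx))),
    isConj_iff.2 ⟨u, ?_⟩, ?_⟩
  · calc _ = u * w * u⁻¹ * (u * u * w * (u * u)⁻¹)⁻¹ := by group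
      _ = _ := by rw [h3]; group
  · have : f (w * (u * w⁻¹ * u⁻¹)) = f x * f x := by
      calc _ = f x * (f u * f x * (f u)⁻¹)⁻¹ := by simp only [map_mul, map_inv, fk]; group
        _ = _ := by rw [h2, inv_inv]
    change f x ∈ zpowers (f _)
    rw [this]
    exact mem_zpowers_sq (hy.sing_ne p2)

/-- the number of Sylow `2`-subgroups is a `π`-number, real classes of odd order are `π'` -/
structure HX (π : Set ℕ) (G : Type u) [Group G] : Prop where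
  syl : ∃ T M : Subgroup G, Syl 2 T ⊤ ∧ M ≤ N(T) ∧ PiN π M.index
  cs : ∀ (y : G) (p : ℕ), p.Prime → p ≠ 2 → PiE {p} y → IsConj y y⁻¹ → PiN πᶜ C[y].index

theorem HX.sub (h : HX π G) (K : Subgroup G) [K.Normal] : HX π K := by
  obtain ⟨T, M, h1, h2, h3⟩ := h.syl
  refine ⟨⟨_, M.subgroupOf K, (h1.inf_normal normalIn_top).subgroupOf_top, fun x hx => ?_,
    h3.dvd (H24.relIndex_dvd_index_of_normal_right M K)⟩, fun y p hp p2 hy hr => ?_⟩
  · refine mem_norm_of_cj_le fun a ha => ?_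
    obtain ⟨b, hb, rfl⟩ := mem_cj'.1 ha
    exact ⟨conj_mem_of_norm (h2 hx) hb.1, (x * b * x⁻¹).2⟩
  · exact (h.cs y p hp p2 (by rw [PiE, Subgroup.orderOf_coe]; exact hy)
      (K.subtype.map_isConj hr)).dvd (H24.cs_normal_dvd K y)

theorem HX.quot (h : HX π G) (K : Subgroup G) [K.Normal] : HX π (G ⧸ K) := by
  obtain ⟨T, M, h1, h2, h3⟩ := h.syl
  have fs := QuotientGroup.mk'_surjective K
  refine ⟨⟨_, M.map (QuotientGroup.mk' K), map_top_of_surjective _ fs ▸ h1.map _,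
    (map_mono h2).trans (le_normalizer_map _), h3.dvd (index_map_dvd _ fs)⟩,
    fun y p hp p2 hy hr => ?_⟩
  obtain ⟨x, a, b, c⟩ := lift_real K p2 hy hr
  exact (h.cs x p hp p2 a b).dvd ((H24.cs_dvd_of_mem_zpowers c).trans (H24.cs_quot_dvd K x))

theorem HX.tr (h : HX π G) (y : G) (hy : Y2 y) (T T' : Subgroup G) (h1 : Syl 2 T ⊤)
    (h2 : Syl 2 T' ⊤) : ∃ c ∈ C[y], cj c T = T' := by
  obtain ⟨S, M, a1, a2, a3⟩ := h.syl
  obtain ⟨-, ⟨p, hp, p2, yp⟩, s, -, hs⟩ := hy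
  have k : ∀ T, Syl 2 T ⊤ → ∃ c ∈ C[y], cj c S = T := fun T hT => by
    obtain ⟨g, -, rfl⟩ := a1.sconj hT
    obtain ⟨c, hc, m, hm, rfl⟩ := H2.facIn_of_coprime_index
      ((h.cs y p hp p2 yp (isConj_iff.2 ⟨s, hs⟩)).coprime' a3) g trivial
    exact ⟨c, hc, by rw [cj_mul, cj_of_mem_norm (a2 hm)]⟩
  obtain ⟨c, hc, rfl⟩ := k T h1
  obtain ⟨d, hd, rfl⟩ := k T' h2
  exact ⟨d * c⁻¹, mul_mem hd (inv_mem hc), by rw [cj_mul, cj_inv_cj]⟩

theorem HX.solv (h : HX π G) : Group.IsSolvable G := by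
  revert h
  refine H1.induction_card (P := fun G _ _ => HX π G → Group.IsSolvable G) ?_ G
  intro G _ _ ih h
  by_contra hs
  have sim : ∀ K : Subgroup G, K.Normal → K ≠ ⊥ → K = ⊤ := fun K _ h0 => by_contra fun h1 => by
    haveI := ih K (by rw [← card_top (G := G)]; exact card_lt (lt_top_iff_ne_top.2 h1)) (h.sub K)
    haveI := ih _ (H1.card_quotient_lt h0) (h.quot K)
    exact hs (Group.isSolvable_of_ker_le_range K.subtype (QuotientGroup.mk' K) (by simp))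
  have ns : ¬ Sol (⊤ : Subgroup G) := fun _ => hs (Group.isSolvable_of_surjective
    (f := (⊤ : Subgroup G).subtype) fun g => ⟨⟨g, trivial⟩, rfl⟩)
  obtain ⟨T, hT⟩ := exists_syl 2 (⊤ : Subgroup G)
  have t0 : T ≠ ⊥ := hT.sne_bot Nat.prime_two (by
    by_contra e
    rw [card_top] at e
    exact hs (H20.odd_solvable G (Nat.odd_iff.2 (Nat.two_dvd_ne_zero.1 e))))
  obtain ⟨s, h1, h2⟩ := exists_orderOf_eq_prime Nat.prime_two
    ((hT.pi.infl _).dvd_of_ne_bot (hT.pi.center_ne_bot t0))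
  have s1 : s ≠ 1 := by rintro rfl; simp at h2
  have i2 : I2 s := ⟨by rw [← pow_two, ← h2, pow_orderOf_eq_one], T, hT, le_cent1_iff.2 h1.2⟩
  obtain ⟨x, x1, x2, x3⟩ := H23.exists_odd_inverted i2.1 fun e => ns
    (sim _ inferInstance (ne_bot_of_mem e s1) ▸
      (PiN.of_isPGroup Nat.prime_two H1.pCore_isPGroup).sol)
  obtain ⟨x, -, hx⟩ := exists_Y2 i2 x3 fun e => x1 (e.e_eq_one (.of_not_dvd x2.not_two_dvd_nat))
  obtain ⟨y, y1, hy⟩ := exists_normalized h.tr hx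
  have n1 : (zpowers y).Normal := by
    refine normalizer_eq_top_iff.1 (top_le_iff.1 ((sim (closure {s | I2 s}) ?_
      (ne_bot_of_mem (subset_closure i2) s1)).ge.trans ((closure_le _).2 hy)))
    refine NormalIn.normal ⟨le_top, fun g _ => mem_norm_of_cj_le ?_⟩
    rw [H19.cj_closure]
    refine closure_mono ?_
    rintro _ ⟨a, ha, rfl⟩
    exact ha.conj g
  exact ns (sim _ n1 (ne_bot_of_mem (mem_zpowers y) y1) ▸ sol_zpowers y)

/-- the prime graph on the sizes of the real classes splits -/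
structure DR (π₁ π₂ : Set ℕ) (G : Type u) [Group G] : Prop where
  ex₁ : ∃ x : G, IsConj x x⁻¹ ∧ x ∉ center G ∧ PiN π₁ C[x].index
  ex₂ : ∃ x : G, IsConj x x⁻¹ ∧ x ∉ center G ∧ PiN π₂ C[x].index
  all : ∀ x : G, IsConj x x⁻¹ → PiN π₁ C[x].index ∨ PiN π₂ C[x].index
  disj : ∀ r ∈ π₁, r ∉ π₂

variable {π₁ π₂ : Set ℕ}

theorem DR.symm (h : DR π₁ π₂ G) : DR π₂ π₁ G :=
  ⟨h.ex₂, h.ex₁, fun x hx => (h.all x hx).symm, fun r a b => h.disj r b a⟩

theorem DR.of (h₁ : π₁.Nonempty) (h₂ : π₂.Nonempty) (hd : Disjoint π₁ π₂)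
    (hs : ∀ q ∈ π₁ ∪ π₂, q.Prime ∧ ∃ n ∈ {n : ℕ | ∃ x : G, IsConj x x⁻¹ ∧ C[x].index = n}, q ∣ n)
    (hc : ∀ q : ℕ, q.Prime → (∃ n ∈ {n : ℕ | ∃ x : G, IsConj x x⁻¹ ∧ C[x].index = n}, q ∣ n) →
      q ∈ π₁ ∨ q ∈ π₂)
    (hn : ∀ a ∈ π₁, ∀ b ∈ π₂, ∀ n ∈ {n : ℕ | ∃ x : G, IsConj x x⁻¹ ∧ C[x].index = n},
      ¬ (a ∣ n ∧ b ∣ n)) : DR π₁ π₂ G := by
  have k1 : ∀ x : G, IsConj x x⁻¹ → ∀ a ∈ π₁, a ∣ C[x].index → PiN π₁ C[x].index :=
    fun x hx a ha hd r hr h => (hc r hr ⟨_, ⟨x, hx, rfl⟩, h⟩).resolve_right fun e =>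
      hn a ha r e _ ⟨x, hx, rfl⟩ ⟨hd, h⟩
  have k2 : ∀ x : G, IsConj x x⁻¹ → ∀ a ∈ π₂, a ∣ C[x].index → PiN π₂ C[x].index :=
    fun x hx a ha hd r hr h => (hc r hr ⟨_, ⟨x, hx, rfl⟩, h⟩).resolve_left fun e =>
      hn r e a ha _ ⟨x, hx, rfl⟩ ⟨h, hd⟩
  have k3 : ∀ a : ℕ, a.Prime → ∀ x : G, a ∣ C[x].index → x ∉ center G := fun a ha x h e =>
    ha.ne_one (Nat.dvd_one.1 (H24.cs_eq_one_iff.2 e ▸ h))
  obtain ⟨a, ha⟩ := h₁
  obtain ⟨b, hb⟩ := h₂
  obtain ⟨a1, _, ⟨x, hx, rfl⟩, a2⟩ := hs a (.inl ha)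
  obtain ⟨b1, _, ⟨y, hy, rfl⟩, b2⟩ := hs b (.inr hb)
  refine ⟨⟨x, hx, k3 a a1 x a2, k1 x hx a ha a2⟩, ⟨y, hy, k3 b b1 y b2, k2 y hy b hb b2⟩,
    fun z hz => or_iff_not_imp_left.2 fun e r hr h => ?_, fun r a b => Set.disjoint_left.1 hd a b⟩
  exact (hc r hr ⟨_, ⟨z, hz, rfl⟩, h⟩).resolve_left fun a => e (k1 z hz r a h)

theorem DR.even (h : DR π₁ π₂ G) : ∃ x : G, IsConj x x⁻¹ ∧ 2 ∣ C[x].index := by
  by_contra hn
  push Not at hn
  haveI := Fact.mk Nat.prime_two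
  obtain ⟨P⟩ : Nonempty (Sylow 2 G) := inferInstance
  have hP := (H23.sylow_two_normal_iff P).1 fun x x1 ho hr =>
    x1 (H23.eq_one_of_real_of_odd hr (hn x hr) ho)
  have k : ∀ x : G, IsConj x x⁻¹ → x * x = 1 ∧ x ∈ (P : Subgroup G) ∧ (P : Subgroup G) ≤ C[x] :=
    fun x hx => by
      have h1 : x * x = 1 := pow_two x ▸ H23.sq_eq_one_of_real hx (hn x hx)
      obtain ⟨Q, h2, h3⟩ := syl_le_of_index Nat.prime_two (hn x hx)
      have n := (normalIn_top (H := (P : Subgroup G))).norm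
      exact ⟨h1, (syl_sylow_top P).mem_of_normal n trivial (pe2 h1),
        (syl_sylow_top P).eq_of_normal n h2 ▸ h3⟩
  have main : ∀ {σ τ : Set ℕ} {x y : G}, IsConj x x⁻¹ → IsConj y y⁻¹ → PiN σ C[x].index →
      PiN τ C[y].index → (∀ r ∈ σ, r ∉ τ) → PiN σ C[x * y].index → y ∈ center G :=
    fun {σ τ x y} hx hy a b c d => by
      have h1 := a.coprime_of b c
      refine H24.central_of_cs_mul_eq h1 (le_antisymm (Nat.le_of_dvd (H24.cs_pos x)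
        ((d.coprime_of b c).dvd_of_dvd_mul_right (H24.cs_mul_dvd_of_coprime h1)))
        (H24.cs_le_cs_mul_left h1)) ((pe2 (k y hy).1).coprime (.of_not_dvd (hn x hx)))
  obtain ⟨x, x1, x2, x3⟩ := h.ex₁
  obtain ⟨y, y1, y2, y3⟩ := h.ex₂
  have e := mem_cent1.1 ((k x x1).2.2 (k y y1).2.1)
  have r : IsConj (x * y) (x * y)⁻¹ := by
    rw [mul_inv_rev, inv_eq_of_mul_eq_one_right (k x x1).1, inv_eq_of_mul_eq_one_right (k y y1).1, e]
  rcases h.all _ r with a | a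
  · exact y2 (main x1 y1 x3 y3 h.disj a)
  · exact x2 (main y1 x1 y3 x3 h.symm.disj (e ▸ a))

theorem DR.ev (h : DR π₁ π₂ G) (h2 : 2 ∈ π₁) (hx : IsConj x x⁻¹) (hd : 2 ∣ C[x].index) :
    PiN π₂ᶜ C[x].index :=
  ((h.all x hx).resolve_right fun a => h.disj 2 h2 (a 2 Nat.prime_two hd)).mono h.disj

theorem DR.exz (h : DR π₁ π₂ G) (h2 : 2 ∈ π₁) : ∃ (z : G) (T : Subgroup G), z * z = 1 ∧
    z ∉ center G ∧ PiN π₂ C[z].index ∧ Syl 2 T ⊤ ∧ C[z] ≤ N(T) := by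
  obtain ⟨z, z1, z2, z3⟩ := h.ex₂
  have o : ¬ 2 ∣ C[z].index := fun a => h.disj 2 h2 (z3 2 Nat.prime_two a)
  have zz : z * z = 1 := pow_two z ▸ H23.sq_eq_one_of_real z1 o
  haveI := Fact.mk Nat.prime_two
  obtain ⟨P⟩ : Nonempty (Sylow 2 C[z]) := inferInstance
  haveI := (H23.sylow_two_normal_iff P).1 fun x x1 ho hr => by
    obtain ⟨g, hg⟩ := isConj_iff.1 hr
    have hg' : (g : G) * x * (g : G)⁻¹ = (x : G)⁻¹ := congrArg Subtype.val hg
    have cm : Commute z x := (mem_cent1.1 x.2).symm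
    rw [← Subgroup.orderOf_coe] at ho
    have cp := (pe2 zz).coprime (.of_not_dvd ho.not_two_dvd_nat)
    have r : IsConj (z * x) (z * x)⁻¹ := isConj_iff.2 ⟨g, by
      rw [← conj_mul, hg', H24.mem_cent_iff_conj.1 g.2, mul_inv_rev,
        inv_eq_of_mul_eq_one_right zz, cm.inv_right.eq]⟩
    refine z2 (H24.cs_eq_one_iff.1 (z3.eq_one ((h.ev h2 r (Dvd.dvd.trans ?_
      (H24.cs_dvd_cs_mul_right cm cp))).dvd (H24.cs_dvd_cs_mul_left cm cp))))
    exact by_contra fun e => x1 (Subtype.ext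
      (H23.eq_one_of_real_of_odd (isConj_iff.2 ⟨g, hg'⟩) e ho))
  exact ⟨z, _, zz, z2, z3, (syl_sylow P).of_idx le_top (.of_not_dvd (by rwa [relIndex_top_right])),
    (normalIn_map_subtype _).norm⟩

theorem DR.solv' (h : DR π₁ π₂ G) (h2 : 2 ∈ π₁) : Group.IsSolvable G := by
  obtain ⟨z, T, -, -, h3, h4, h5⟩ := h.exz h2
  refine HX.solv (π := π₂) ⟨⟨T, _, h4, h5, h3⟩, fun y p _ p2 hy hr => ?_⟩
  by_cases e : 2 ∣ C[y].index
  · exact h.ev h2 hr e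
  · rw [H23.eq_one_of_real_of_odd hr e (Nat.coprime_two_right.1
      ((hy.sing_ne p2).coprime_prime Nat.prime_two)), cent1_one, index_top]
    exact .one

theorem DR.two (h : DR π₁ π₂ G) : 2 ∈ π₁ ∨ 2 ∈ π₂ :=
  let ⟨x, h1, h2⟩ := h.even
  (h.all x h1).imp (fun a => a 2 Nat.prime_two h2) fun a => a 2 Nat.prime_two h2

theorem DR.solv (h : DR π₁ π₂ G) : Group.IsSolvable G := h.two.elim h.solv' h.symm.solv'

theorem DR.str (h : DR π₁ π₂ G) (h2 : 2 ∈ π₁) (hK : K = closure {g : G | ∃ k, orderOf g = 2 ^ k})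
    (hn : ¬ ∀ P : Sylow 2 G, (P : Subgroup G).Normal) :
    (∃ x : K, IsConj x x⁻¹ ∧ 2 ∣ C[x].index) ∧
    (∃ x : K, IsConj x x⁻¹ ∧ x ∉ center K ∧ ¬ 2 ∣ C[x].index) ∧
    ∀ x : K, IsConj x x⁻¹ → 2 ∣ C[x].index → PiN {2} C[x].index := by
  haveI := Fact.mk Nat.prime_two
  have m : ∀ g : G, PiE {2} g → g ∈ K := fun g hg =>
    hK ▸ subset_closure ((pe_iff Nat.prime_two).1 hg)
  haveI : K.Normal := NormalIn.normal ⟨le_top, fun g _ => mem_norm_of_cj_le (by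
    rw [hK, H19.cj_closure]
    refine closure_mono ?_
    rintro _ ⟨a, ⟨k, ha⟩, rfl⟩
    exact ⟨k, by rw [orderOf_conj', ha]⟩)⟩
  obtain ⟨z, T, zz, z2, z3, hT, h5⟩ := h.exz h2
  have tk : T ≤ K := fun g hg => m g (hT.pi.elt hg)
  refine ⟨?_, ⟨⟨z, m z (pe2 zz)⟩, ?_, fun e => hn fun P => ?_, fun e => ?_⟩, fun x hx hd => ?_⟩
  · push Not at hn
    obtain ⟨P, hP⟩ := hn
    rw [← H23.sylow_two_normal_iff] at hP
    push Not at hP
    obtain ⟨x, x1, ho, hr⟩ := hP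
    obtain ⟨xk, hr'⟩ := (Cfsg.Agent.S3863.result x hr).2.2 K (Nat.odd_iff.2 (Nat.two_dvd_ne_zero.1
      (relIndex_top_right (H := K) ▸ hT.not_dvd_relIndex Nat.prime_two tk)))
    exact ⟨_, hr', by_contra fun e => x1 (congrArg Subtype.val
      (H23.eq_one_of_real_of_odd hr' e (by rwa [← Subgroup.orderOf_coe])))⟩
  · rw [show (⟨z, m z (pe2 zz)⟩ : K)⁻¹ = ⟨z, m z (pe2 zz)⟩ from
      Subtype.ext (inv_eq_of_mul_eq_one_right zz)]
  · have k : ∀ Q, Syl 2 Q ⊤ → Q = T := fun Q hQ => hQ.eq_of_le hT (hT.le_of_norm le_top hQ.pi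
      (le_trans (fun g hg => m g (hQ.pi.elt hg)) ((le_cent1_iff.2 (mem_center_sub.1 e)).trans h5)))
    rw [k _ (syl_sylow_top P)]
    exact NormalIn.normal ⟨le_top, fun g _ => mem_norm_iff_cj.2 (k _ (hT.Jtop g))⟩
  · exact h.disj 2 h2 (z3 2 Nat.prime_two (e.trans (H24.cs_normal_dvd K _)))
  · haveI := h.solv
    obtain ⟨H, h3, h4⟩ := (hT.pi.sing (π := {2} ∪ π₂) (.inl rfl)).exists_hall
      (inferInstance : Sol (⊤ : Subgroup G)) le_top
    have kh : K ≤ H := by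
      rw [hK, closure_le]
      intro g hg
      obtain ⟨c, -, hc⟩ := hT.sle_cj le_top (piG_zpowers.2 ((pe_iff Nat.prime_two).2 hg))
      obtain ⟨a, ha, b, hb, rfl⟩ := H2.facIn_of_coprime_index
        (((relIndex_top_right (H := H) ▸ h3.idx :).coprime' (z3.mono Set.subset_union_right))) c trivial
      rw [cj_mul, cj_of_mem_norm (h5 hb)] at hc
      exact cj_le_of_mem ha h4 (hc (mem_zpowers g))
    have d := H24.cs_normal_dvd K x
    exact fun r hr e => (h3.pi r hr ((e.trans (H24.cs_dvd_card x)).trans (card_dvd kh))).resolve_right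
      (h.ev h2 (K.subtype.map_isConj hx) (hd.trans d) r hr (e.trans d))

end H25.Ito
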