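/-
S5806: symplectic representations, four-groups, the pieces `L3U`, `U33`.
-/
import Cfsg.Agent.H11.SP2
import Cfsg.Agent.H25.O7B
import Cfsg.Agent.H23.O7C
import Cfsg.Agent.S2086
import Cfsg.Agent.S2089

set_option autoImplicit false
set_option linter.unusedSectionVars false

open Matrix Cfsg Module H6.SP H11.SP Subgroup
open H26.O7 (Au fix Ng Eg mem_fix mem_Ng mem_Eg split eq_zero_of_neg A4 Qu up wy ex_qu ex_sq_ne)
open H25.O7 (le_of_split ex_eig fr_map a4c four_mem)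
open H23.O7 (Bl bs pm bs_val bs_up bu bu_le bl_su)
open scoped MatrixGroups
namespace H25.S6
universe u v

/-- an irreducible symplectic representation -/
structure Rs (K : Type u) [Field K] (Γ : Type v) [Group Γ] where
  ρ : Γ →* Au K (V6 K)
  iso : ∀ g u v, fm (ρ g u) (ρ g v) = fm u v
  irr : ∀ W : Submodule K (V6 K), (∀ g, ∀ x ∈ W, ρ g x ∈ W) → W = ⊥ ∨ W = ⊤

section
variable {K : Type u} [Field K] {Γ : Type v} [Group Γ]

theorem ex_rs {G : Type*} [Group G] {P : Subgroup (G6 K)} {π : P →* G} (h : Rq P π) (i : Function.Injective π) (f : Γ →* G)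
    (s : Function.Surjective f) : ∃ (R : Rs K Γ) (l : Γ →* P), (∀ g, π (l g) = f g) ∧ ∀ g v, R.ρ g v = (l g).1.val *ᵥ v := by
  let e := MulEquiv.ofBijective π ⟨i, h.sur⟩
  let l : Γ →* P := e.symm.toMonoidHom.comp f
  refine ⟨⟨(H12.glEquiv I6 K).toMonoidHom.comp (P.subtype.comp l), fun g => mem_S6.1 (h.sp (l g).2), fun W hW =>
    H27.Asch.irr_of_alg h.top W fun x hx => ?_⟩, l, fun g => e.apply_symm_apply _, fun _ _ => rfl⟩
  obtain ⟨g, hg⟩ := (e.symm.surjective.comp s) ⟨x, hx⟩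
  obtain rfl : (l g).1 = x := congrArg Subtype.val hg
  exact hW g

theorem fr6 : finrank K (V6 K) = 6 := by simp

/-- nondegenerate subspaces -/
def Nd (W : Submodule K (V6 K)) : Prop := ∀ x ∈ W, (∀ y ∈ W, fm x y = 0) → x = 0
theorem nd_top : Nd (⊤ : Submodule K (V6 K)) := fun _ _ h => fm_nd fun y => h y trivial

section
variable {W : Submodule K (V6 K)} (hW : Nd W)
include hW
theorem Nd.ex (h : W ≠ ⊥) : ∃ x ∈ W, ∃ y ∈ W, fm x y ≠ 0 := by
  by_contra! k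
  exact h ((Submodule.eq_bot_iff _).2 fun x hx => hW x hx (k x hx))
theorem Nd.two : finrank K W = 0 ∨ 2 ≤ finrank K W := by
  by_contra! k
  obtain ⟨x, hx, y, hy, e⟩ := hW.ex (Submodule.one_le_finrank_iff.1 (by omega))
  obtain ⟨c, hc⟩ := (finrank_eq_one_iff_of_nonzero' (K := K) (⟨x, hx⟩ : W) fun k => e (by
    rw [show x = 0 from congrArg Subtype.val k, fm_zero_l])).1 (by omega) ⟨y, hy⟩
  exact e (by rw [show y = c • x from (congrArg Subtype.val hc).symm]; simp)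
variable (h2 : (2 : K) ≠ 0) {a : Au K (V6 K)} (ha : ∀ u v, fm (a u) (a v) = fm u v) (h : ∀ x ∈ W, a x ∈ W ∧ a (a x) = x)
include h2 ha h
theorem Nd.fx : Nd (W ⊓ fix a) := fun x hx e => hW x hx.1 fun y hy => by
  have e1 := e _ ⟨add_mem hy (h y hy).1, mem_fix.2 (by rw [map_add, (h y hy).2, add_comm])⟩
  have e2 := ha x y
  rw [mem_fix.1 hx.2] at e2
  rw [fm_add_r, e2, ← two_mul] at e1
  exact (mul_eq_zero.1 e1).resolve_left h2
theorem Nd.ng : Nd (W ⊓ Ng a) := fun x hx e => hW x hx.1 fun y hy => by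
  have e1 := e _ ⟨sub_mem hy (h y hy).1, mem_Ng.2 (by rw [map_sub, (h y hy).2, neg_sub])⟩
  have e2 := ha x y
  rw [mem_Ng.1 hx.2, fm_neg_l, neg_eq_iff_eq_neg] at e2
  rw [fm_sub_r, e2, sub_neg_eq_add, ← two_mul] at e1
  exact (mul_eq_zero.1 e1).resolve_left h2
theorem Nd.pm (d : finrank K W ≤ 3) : W ≤ fix a ∨ W ≤ Ng a := by
  have s := split h2 h
  rcases (hW.ng h2 ha h).two with e | e
  · exact .inl (le_of_split h2 h inf_le_right ((Submodule.finrank_eq_zero.1 e).le.trans bot_le))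
  · have := (hW.fx h2 ha h).two
    exact .inr (le_of_split h2 h ((Submodule.finrank_eq_zero.1 (by omega)).le.trans bot_le) inf_le_right)
end

variable (R : Rs K Γ)
theorem Rs.mul (g h : Γ) (x : V6 K) : R.ρ (g * h) x = R.ρ g (R.ρ h x) := by rw [map_mul]; rfl
theorem Rs.one (x : V6 K) : R.ρ 1 x = x := by rw [map_one]; rfl
theorem Rs.inv (g : Γ) (x : V6 K) : R.ρ g (R.ρ g⁻¹ x) = x := by rw [← R.mul, mul_inv_cancel, R.one]
theorem Rs.inv' (g : Γ) (x : V6 K) : R.ρ g⁻¹ (R.ρ g x) = x := by rw [← R.mul, inv_mul_cancel, R.one]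
theorem Rs.sq {t : Γ} (h : t * t = 1) (x : V6 K) : R.ρ t (R.ρ t x) = x := by rw [← R.mul, h, R.one]
theorem Rs.cm {s t : Γ} (h : Commute s t) (x : V6 K) : R.ρ s (R.ρ t x) = R.ρ t (R.ρ s x) := by rw [← R.mul, h.eq, R.mul]
theorem Rs.ng {s t : Γ} (h : Commute s t) {x : V6 K} (hx : x ∈ Ng (R.ρ t)) : R.ρ s x ∈ Ng (R.ρ t) :=
  mem_Ng.2 (by rw [← R.cm h, mem_Ng.1 hx, map_neg])
theorem Rs.fx {s t : Γ} (h : Commute s t) {x : V6 K} (hx : x ∈ fix (R.ρ t)) : R.ρ s x ∈ fix (R.ρ t) :=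
  mem_fix.2 (by rw [← R.cm h, mem_fix.1 hx])
theorem Rs.eg {s t : Γ} (h : Commute s t) {c : K} {x : V6 K} (hx : x ∈ Eg (R.ρ t) c) : R.ρ s x ∈ Eg (R.ρ t) c :=
  mem_Eg.2 (by rw [← R.cm h, mem_Eg.1 hx, map_smul])
theorem Rs.cj (g t : Γ) (x : V6 K) : R.ρ (g * t * g⁻¹) (R.ρ g x) = R.ρ g (R.ρ t x) := by
  rw [← R.mul, inv_mul_cancel_right, R.mul]
theorem Rs.nd_fix (h2 : (2 : K) ≠ 0) {t : Γ} (h : t * t = 1) : Nd (fix (R.ρ t)) := by
  simpa using nd_top.fx h2 (R.iso t) fun x _ => ⟨trivial, R.sq h x⟩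

/-- stabiliser of a subspace -/
def Rs.stb (W : Submodule K (V6 K)) : Subgroup Γ where
  carrier := {g | ∀ x ∈ W, R.ρ g x ∈ W}
  one_mem' := fun x hx => by rwa [R.one]
  mul_mem' := fun ha hb x hx => by rw [R.mul]; exact ha _ (hb x hx)
  inv_mem' := fun {g} hg x hx => by
    have e : W.map (R.ρ g : V6 K →ₗ[K] V6 K) = W := Submodule.eq_of_le_of_finrank_eq (by
      rintro _ ⟨y, hy, rfl⟩; exact hg y hy) (LinearEquiv.finrank_map_eq _ _)
    obtain ⟨y, hy, rfl⟩ := e.ge hx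
    rwa [LinearEquiv.coe_coe, R.inv']
/-- pointwise stabiliser -/
def Rs.pw (W : Submodule K (V6 K)) : Subgroup Γ where
  carrier := {g | ∀ s ∈ W, R.ρ g s = s}
  one_mem' := fun s _ => R.one s
  mul_mem' := fun ha hb s hs => by rw [R.mul, hb s hs, ha s hs]
  inv_mem' := fun {g} hg s hs => by nth_rw 1 [← hg s hs]; rw [R.inv']

variable (h2 : (2 : K) ≠ 0)
include h2

theorem Rs.tri {s t : Γ} (ss : s * s = 1) (c : Commute s t) (c1 : IsConj s t) (c2 : IsConj s (s * t)) (n : R.ρ s ≠ 1) :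
    finrank K (fix (R.ρ s)) = 2 ∧ fix (R.ρ s) ≤ Ng (R.ρ t) := by
  have k : ∀ {t}, IsConj s t → finrank K (Ng (R.ρ s)) = finrank K (Ng (R.ρ t)) := fun c => by
    obtain ⟨g, rfl⟩ := isConj_iff.1 c
    exact fr_map (R.ρ g) fun x => by rw [mem_Ng, mem_Ng, R.cj, ← map_neg, (R.ρ g).injective.eq_iff]
  have tt : t * t = 1 := by obtain ⟨g, rfl⟩ := isConj_iff.1 c1; rw [conj_mul, ss, mul_one, mul_inv_cancel]
  have i1 : ∀ x ∈ fix (R.ρ s), R.ρ t x ∈ fix (R.ρ s) ∧ R.ρ t (R.ρ t x) = x := fun x hx => ⟨R.fx c.symm hx, R.sq tt x⟩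
  have a0 := split h2 (W := ⊤) (a := R.ρ s) fun x _ => ⟨trivial, R.sq ss x⟩
  have a1 := split h2 i1
  have a2 := split h2 (W := Ng (R.ρ s)) (a := R.ρ t) fun x hx => ⟨R.ng c.symm hx, R.sq tt x⟩
  have a3 := split h2 (W := Ng (R.ρ t)) (a := R.ρ s) fun x hx => ⟨R.ng c hx, R.sq ss x⟩
  have a4 := split h2 (W := Ng (R.ρ (s * t))) (a := R.ρ t) fun x hx => ⟨R.ng (c.symm.mul_right (Commute.refl t)) hx, R.sq tt x⟩
  rw [show Ng (R.ρ (s * t)) ⊓ fix (R.ρ t) = Ng (R.ρ s) ⊓ fix (R.ρ t) from Submodule.ext fun x => and_congr_left fun h => by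
      simp only [SetLike.mem_coe, mem_Ng, R.mul, mem_fix.1 h],
    show Ng (R.ρ (s * t)) ⊓ Ng (R.ρ t) = fix (R.ρ s) ⊓ Ng (R.ρ t) from Submodule.ext fun x => and_congr_left fun h => by
      simp only [SetLike.mem_coe, mem_Ng, mem_fix, R.mul, mem_Ng.1 h, map_neg, neg_inj], ← k c2] at a4
  rw [← k c1, inf_comm (Ng (R.ρ t)), inf_comm (Ng (R.ρ t))] at a3
  rw [top_inf_eq, top_inf_eq, finrank_top, fr6] at a0
  have b := ((R.nd_fix h2 ss).ng h2 (R.iso t) i1).two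
  have b0 : finrank K (fix (R.ρ s)) ≠ 6 := fun e => n (LinearEquiv.ext fun x =>
    mem_fix.1 ((Submodule.eq_top_of_finrank_eq (e.trans fr6.symm)).ge trivial))
  exact ⟨by omega, (Submodule.eq_of_le_of_finrank_le (inf_le_left (b := Ng (R.ρ t))) (by omega)).ge.trans inf_le_right⟩

theorem Rs.q8 {F : Type} [Field F] [Fintype F] (φ : SL(2, F) →* Γ) (o : Odd (Fintype.card F))
    (d : finrank K (fix (R.ρ (φ (-1)))) = 2) : commutator SL(2, F) ≤ (R.pw (fix (R.ρ (φ (-1))))).comap φ := by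
  have n := H23.O7.neg_ne (H23.O7.two_ne o)
  obtain ⟨i, j, ii, jj, h0⟩ := ex_qu (MonoidHom.id SL(2, F)) n
  have c : ∀ a, Commute (φ a) (φ (-1)) := fun a => (Commute.neg_one_right a).map φ
  have : ((R.pw (fix (R.ρ (φ (-1))))).comap φ).Normal := ⟨fun a ha g s hs => by
    rw [map_mul φ, map_mul φ, R.mul, R.mul, ha _ (R.fx (c _) hs), map_inv, R.inv]⟩
  have pm := fun a (aa : a * a = -1) => (R.nd_fix h2 (t := φ (-1)) (by rw [← map_mul]; simp)).pm h2 (R.iso (φ a))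
    (fun x hx => ⟨R.fx (c a) hx, by rw [← R.mul, ← map_mul, aa, mem_fix.1 hx]⟩) (by omega)
  obtain ⟨a, aa, ha⟩ : ∃ a, a * a = -1 ∧ a ∈ (R.pw (fix (R.ρ (φ (-1))))).comap φ := by
    rcases pm i ii with p | p
    · exact ⟨i, ii, fun s hs => mem_fix.1 (p hs)⟩
    rcases pm j jj with q | q
    · exact ⟨j, jj, fun s hs => mem_fix.1 (q hs)⟩
    exact ⟨i * j, O7.Qu.kk h0, fun s hs => by rw [map_mul φ, R.mul, mem_Ng.1 (q hs), map_neg, mem_Ng.1 (p hs), neg_neg]⟩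
  exact (H29.BB.normal_cases _).resolve_left fun k => n (by
    rcases H29.BB.center_iff.1 (k ha) with rfl | rfl <;> rw [← aa] <;> simp)

theorem Rs.core {t z w : Γ} (S : Set Γ) (h : A4 t w) (d : finrank K (fix (R.ρ t)) = 2) (le : fix (R.ρ t) ≤ Ng (R.ρ (w * t * w⁻¹)))
    (zt : Commute (w * t * w⁻¹) z) (St : ∀ g ∈ S, Commute g t ∧ Commute g z)
    (gen : ∀ Y : Subgroup Γ, (∀ g ∈ S, g ∈ Y) → w ∈ Y → Y = ⊤)
    (e : ∀ x ∈ fix (R.ρ t), R.ρ (w * z * w⁻¹) x = R.ρ (w⁻¹ * z * w) x) {v : V6 K} {c : K} (v0 : v ≠ 0) (hv : v ∈ fix (R.ρ t))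
    (ev : R.ρ (w * z * w⁻¹) v = c • v) (hS : ∀ g ∈ S, R.ρ g v = v) : fix (R.ρ t) ≤ Eg (R.ρ (w * z * w⁻¹)) c := by
  by_contra n
  let F := fix (R.ρ t) ⊓ Eg (R.ρ (w * z * w⁻¹)) c
  have l : finrank K F < _ := Submodule.finrank_lt_finrank_of_lt (inf_lt_left.2 n)
  have vF : v ∈ F := ⟨hv, mem_Eg.2 ev⟩
  have l1 := (finrank_eq_one_iff_of_nonzero' (K := K) (⟨v, vF⟩ : F) fun k => v0 (congrArg Subtype.val k)).1
    (le_antisymm (by omega) (Submodule.one_le_finrank_iff.2 ((Submodule.ne_bot_iff _).2 ⟨v, vF, v0⟩)))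
  have cw : ∀ g x, R.ρ g (R.ρ w x) = R.ρ w (R.ρ (w⁻¹ * g * w) x) := fun g x => by
    rw [R.mul, R.mul, R.inv]
  have cw' : ∀ g x, R.ρ g (R.ρ w⁻¹ x) = R.ρ w⁻¹ (R.ρ (w * g * w⁻¹) x) := fun g x => by
    rw [R.mul, R.mul, R.inv']
  let E := Ng (R.ρ t) ⊓ Eg (R.ρ z) c
  have a1 : ∀ x ∈ F, R.ρ w x ∈ E := fun x hx => ⟨mem_Ng.2 (by
      rw [cw, ← h.rel, R.mul, mem_Ng.1 (le hx.1), map_neg, mem_fix.1 hx.1, map_neg]),
    mem_Eg.2 (by rw [cw, ← e x hx.1, mem_Eg.1 hx.2, map_smul])⟩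
  have a2 : ∀ x ∈ F, R.ρ w⁻¹ x ∈ E := fun x hx => ⟨mem_Ng.2 (by rw [cw', mem_Ng.1 (le hx.1), map_neg]),
    mem_Eg.2 (by rw [cw', mem_Eg.1 hx.2, map_smul])⟩
  have ww : ∀ x, R.ρ w (R.ρ w x) = R.ρ w⁻¹ x := fun x => by
    rw [← R.mul, eq_inv_of_mul_eq_one_left (show w * w * w = 1 by rw [← pow_three', h.y3])]
  have top : ⊤ ≤ R.stb (F ⊔ E) := (gen _ (fun g hg => show F ⊔ E ≤ (F ⊔ E).comap (R.ρ g : V6 K →ₗ[K] V6 K) from
    sup_le (fun x hx => by
      obtain ⟨k, hk⟩ := l1 ⟨x, hx⟩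
      change R.ρ g x ∈ F ⊔ E
      rw [show x = k • v from (congrArg Subtype.val hk).symm, map_smul, hS g hg]
      exact Submodule.mem_sup_left (F.smul_mem k vF)) fun x hx =>
        Submodule.mem_sup_right ⟨R.ng (St g hg).1 hx.1, R.eg (St g hg).2 hx.2⟩)
    (show F ⊔ E ≤ (F ⊔ E).comap (R.ρ w : V6 K →ₗ[K] V6 K) from sup_le (fun x hx => Submodule.mem_sup_right (a1 x hx))
      (le_of_split h2 (a := R.ρ (w * t * w⁻¹)) (fun x hx => ⟨⟨R.ng (a4c h).symm hx.1, R.eg zt hx.2⟩,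
        R.sq (by rw [conj_mul, h.tt, mul_one, mul_inv_cancel]) x⟩) (fun y hy => by
          have k : R.ρ w⁻¹ y ∈ fix (R.ρ t) := mem_fix.2 (by rw [cw', mem_fix.1 hy.2])
          have := a2 (R.ρ w⁻¹ y) ⟨k, mem_Eg.2 (by rw [e _ k, R.mul, R.mul, R.inv, mem_Eg.1 hy.1.2, map_smul])⟩
          rw [← ww (R.ρ w⁻¹ y), R.inv] at this
          exact Submodule.mem_sup_right this) fun y hy =>
        Submodule.mem_sup_left ⟨mem_fix.2 (by
          change R.ρ t (R.ρ w y) = R.ρ w y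
          rw [cw, ← h.rel, R.mul, mem_Ng.1 hy.2, map_neg, mem_Ng.1 hy.1.1, neg_neg]), mem_Eg.2 (by
          change R.ρ _ (R.ρ w y) = c • R.ρ w y
          rw [R.cj, mem_Eg.1 hy.1.2, map_smul])⟩))).ge
  rcases R.irr _ fun g => top (mem_top g) with k | k
  · exact v0 (k.le (Submodule.mem_sup_left vF))
  refine n fun x hx => ?_
  obtain ⟨f, hf, y, hy, rfl⟩ := Submodule.mem_sup.1 (k.ge (Submodule.mem_top (x := x)))
  rw [eq_zero_of_neg h2 ((mem_fix.1 ((Submodule.add_mem_iff_right _ hf.1).1 hx)).symm.trans (mem_Ng.1 hy.1)), add_zero]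
  exact hf.2
end

section
variable {K : Type u} [Field K] [IsAlgClosed K] {E : Type} [Field E] {Γ F : Type} [Group Γ] [Field F] [Fintype F]
  {ι : Γ →* SL(3, E)} {θ : SL(2, F) →* SL(2, E)} {P : ∀ π : Equiv.Perm (Fin 3), Equiv.Perm.sign π = 1 → Γ}
  {B : ∀ a c : Fin 3, a ≠ c → SL(2, F) →* Γ} (k : Bl ι θ P B)
include k

theorem dval {a : Eˣ} {A : SL(2, F)} (hA : θ A = H26.O7.dg a) {i j : Fin 3} (h : i ≠ j) :
    (ι (B i j h A)).1 = diagonal fun l => if l = i then (a : E) else if l = j then (a : E)⁻¹ else 1 := by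
  rw [k.b, hA]
  ext l m
  simp [bs_val, H26.O7.dg_val, mul_apply, H27.PH.Jm_apply, one_apply, diagonal_apply]
  grind

theorem nc {g : Γ} {d : Fin 3 → E} (e : (ι g).1 = diagonal d) (h : g ∈ center Γ) : d 0 = d 1 := by
  have := congrArg (fun g => (ι g).1 1 0) (mem_center_iff.1 h (P (finRotate 3) (by decide)))
  simp only [map_mul, Matrix.SpecialLinearGroup.coe_mul, k.p, e] at this
  rw [mul_diagonal, diagonal_mul] at this
  simpa [pm, H27.PH.Jm_apply] using this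

set_option maxHeartbeats 800000 in
theorem bl3 (R : Rs K Γ) (h2 : (2 : K) ≠ 0) (ker : ∀ g, R.ρ g = 1 → g ∈ center Γ) {a : Eˣ} {A : SL(2, F)}
    (hA : θ A = H26.O7.dg a) (a2 : (a : E) * a ≠ 1) (o : Odd (Fintype.card F)) (cA : A ∈ commutator SL(2, F))
    (gen : ∀ Y : Subgroup Γ, (∀ a, B 1 2 (by decide) a ∈ Y ∧ B 2 0 (by decide) a ∈ Y ∧ B 0 1 (by decide) a ∈ Y) → Y = ⊤)
    (fx : ∀ W : Submodule K (V6 K), W ≠ ⊥ → commutator SL(2, F) ≤ (R.pw W).comap (B 1 2 (by decide)) →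
      (∀ a, B 1 2 (by decide) a ∈ R.stb W) → B 0 1 (by decide) A ∈ R.stb W → ∃ W' ≤ W, W' ≠ ⊥ ∧
      (∀ a, B 1 2 (by decide) a ∈ R.pw W') ∧ B 0 1 (by decide) A ∈ R.stb W') : False := by
  let w := P (finRotate 3) (by decide)
  have cj : ∀ (a c a' c' : Fin 3) h h' (_ : finRotate 3 a = a' ∧ finRotate 3 c = c') (X : SL(2, F)),
      w * B a c h X * w⁻¹ = B a' c' h' X := fun _ _ _ _ h h' e X => k.cj (π := finRotate 3) (by decide) h h' X e
  have dg : ∀ {g h : Γ} {d e : Fin 3 → E}, (ι g).1 = diagonal d → (ι h).1 = diagonal e → Commute g h := fun p q =>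
    k.inj (Subtype.ext (by simp only [map_mul, Matrix.SpecialLinearGroup.coe_mul, p, q, diagonal_mul_diagonal, mul_comm]))
  have dm : ∀ {g h : Γ} {d e : Fin 3 → E}, (ι g).1 = diagonal d → (ι h).1 = diagonal e →
      (ι (g * h)).1 = diagonal fun i => d i * e i := fun p q => by
    rw [map_mul, Matrix.SpecialLinearGroup.coe_mul, p, q, diagonal_mul_diagonal]
  have de : ∀ {g h : Γ} {d e : Fin 3 → E}, (ι g).1 = diagonal d → (ι h).1 = diagonal e → d = e → g = h := fun p q e =>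
    k.inj (Subtype.ext (by rw [p, q, e]))
  have w3 : w ^ 3 = 1 := k.inj (Subtype.ext (by
    rw [map_pow, k.p, map_one, pow_three, Matrix.SpecialLinearGroup.coe_mul, Matrix.SpecialLinearGroup.coe_mul, pm,
      H27.PH.Jm_mul, H27.PH.Jm_mul]
    ext i j; fin_cases i <;> fin_cases j <;> simp [H27.PH.Jm_apply]))
  have wi : ∀ g, w⁻¹ * g * w = w * (w * g * w⁻¹) * w⁻¹ := fun g => by
    rw [inv_eq_of_mul_eq_one_right (show w * (w * w) = 1 by rw [← pow_three, w3]), mul_assoc, mul_assoc, mul_assoc, mul_assoc,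
      mul_assoc, mul_assoc, ← pow_three, w3, mul_one]
  have t1 := cj 1 2 2 0 (by decide) (by decide) (by decide)
  have t2 := cj 2 0 0 1 (by decide) (by decide) (by decide)
  have t0 := cj 0 1 1 2 (by decide) (by decide) (by decide)
  have sq : ∀ (i j : Fin 3) h, B i j h (-1) * B i j h (-1) = 1 := fun i j h => by rw [← map_mul]; simp
  have h : A4 (B 1 2 (by decide) (-1)) w := ⟨w3, sq _ _ _, fun e => k.two (by
      have := congrFun (congrFun (k.val (a := 1) (c := 2) (by decide)) 1) 1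
      rw [e, map_one] at this
      simp at this
      linear_combination this), by
    rw [wi, t1, t2]; exact de (dm (k.val _) (k.val _)) (k.val _) (by ext i; fin_cases i <;> simp)⟩
  obtain ⟨d, le⟩ := R.tri h2 h.tt (a4c h) (isConj_iff.2 ⟨w, rfl⟩) (isConj_iff.2 ⟨w⁻¹, by rw [h.rel, inv_inv]⟩)
    fun e => k.two (by have := nc k (k.val _) (ker _ e); simp at this; linear_combination this)
  set W := fix (R.ρ (B 1 2 (by decide) (-1)))
  have q1 := R.q8 h2 (B 1 2 (by decide)) o d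
  have e21 : B 2 1 (by decide) (-1) = B 1 2 (by decide) (-1) := de (k.val _) (k.val _) (by ext i; fin_cases i <;> simp)
  have q2 : ∀ x ∈ W, R.ρ (B 2 1 (by decide) A) x = x := by
    have := R.q8 h2 (B 2 1 (by decide)) o (by rwa [e21]) cA
    rwa [e21] at this
  have v := fun (i j : Fin 3) h => dval k hA (i := i) (j := j) h
  have s01 : B 0 1 (by decide) A ∈ R.stb W := fun x hx => R.fx (dg (v _ _ _) (k.val _)) hx
  obtain ⟨W', l, n0, p1, p2⟩ := fx W (Submodule.one_le_finrank_iff.1 (by omega)) q1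
    (fun a x hx => R.fx ((Commute.neg_one_right a).map _) hx) s01
  obtain ⟨x, hx, x0, c, hc⟩ := ex_eig n0 _ p2
  have z1 : w * (B 1 0 (by decide) A * B 2 0 (by decide) A) * w⁻¹ = B 0 1 (by decide) A * B 2 1 (by decide) A := by
    rw [← conj_mul, cj 1 0 2 1 _ (by decide) (by decide), t2, (dg (v _ _ _) (v _ _ _)).eq]
  have z2 : w * (B 0 1 (by decide) A * B 2 1 (by decide) A) * w⁻¹ = B 0 1 (by decide) A * (B 2 1 (by decide) A)⁻¹ ^ 2 := by
    rw [← conj_mul, cj 2 1 0 2 _ (by decide) (by decide), t0, inv_pow, eq_mul_inv_iff_mul_eq, pow_two]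
    exact de (dm (dm (v _ _ _) (v _ _ _)) (dm (v _ _ _) (v _ _ _))) (v _ _ _) (by ext i; fin_cases i <;> simp <;> field_simp)
  have a1 : ∀ x ∈ W, R.ρ (B 0 1 (by decide) A * B 2 1 (by decide) A) x = R.ρ (B 0 1 (by decide) A) x := fun x hx => by
    rw [R.mul, q2 x hx]
  have key := R.core h2 (z := B 1 0 (by decide) A * B 2 0 (by decide) A) (Set.range (B 1 2 (by decide))) h d le
    (t1 _ ▸ dg (k.val _) (dm (v _ _ _) (v _ _ _))) (by
      rintro _ ⟨X, rfl⟩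
      refine ⟨(Commute.neg_one_right X).map _, k.inj (Subtype.ext ?_)⟩
      rw [map_mul, map_mul ι _ (B 1 2 _ _), Matrix.SpecialLinearGroup.coe_mul, Matrix.SpecialLinearGroup.coe_mul _ (ι _),
        dm (v _ _ _) (v _ _ _), k.b]
      ext i j
      rw [mul_diagonal, diagonal_mul]
      fin_cases i <;> fin_cases j <;> simp [bs_val, mul_apply, H27.PH.Jm_apply, mul_comm])
    (fun Y a b => gen Y fun X => by
      have := mul_mem (mul_mem b (a _ ⟨X, rfl⟩)) (inv_mem b)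
      rw [t1] at this
      exact ⟨a _ ⟨X, rfl⟩, this, t2 X ▸ mul_mem (mul_mem b this) (inv_mem b)⟩)
    (fun x hx => by rw [wi, z1, z2, a1 x hx, R.mul, pow_mem (inv_mem (show _ ∈ R.pw W from q2)) 2 x hx]) x0 (l hx)
    (by rw [z1, a1 x (l hx), hc]) (by rintro _ ⟨X, rfl⟩; exact p1 X x hx)
  replace key : ∀ x ∈ W, R.ρ (B 0 1 (by decide) A) x = c • x := fun x hx => by
    rw [← a1 x hx, ← z1]; exact mem_Eg.1 (key hx)
  have cc : c * c = 1 := by
    obtain ⟨x, hx, y, hy, e⟩ := (R.nd_fix h2 h.tt).ex (Submodule.one_le_finrank_iff.1 (d.symm ▸ one_le_two))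
    have := R.iso (B 0 1 (by decide) A) x y
    rwa [key x hx, key y hy, fm_smul_l, fm_smul_r, ← mul_assoc, mul_eq_right₀ e] at this
  have k0 : B 0 1 (by decide) A ^ 2 ∈ R.pw W := fun x hx => by
    rw [pow_two, R.mul, key x hx, map_smul, key x hx, smul_smul, cc, one_smul]
  have tr : ∀ g t : Γ, g ∈ R.pw (fix (R.ρ t)) → w * g * w⁻¹ ∈ R.pw (fix (R.ρ (w * t * w⁻¹))) := fun g t p x hx => by
    obtain ⟨x, rfl⟩ := (R.ρ w).surjective x
    rw [mem_fix, R.cj, (R.ρ w).injective.eq_iff] at hx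
    rw [R.cj, p x (mem_fix.2 hx)]
  have m1 := tr _ _ (q1 cA)
  have m2 := tr _ _ m1
  have m3 := tr _ _ k0
  simp only [t1, t2, ← conj_pow, t0] at m1 m2 m3
  have m4 : B 0 1 (by decide) A ^ 2 ∈ R.pw (fix (R.ρ (B 2 0 (by decide) (-1)))) := by
    rw [show B 0 1 (by decide) A ^ 2 = (B 1 2 (by decide) A ^ 2 * B 2 0 (by decide) A ^ 2)⁻¹ from eq_inv_of_mul_eq_one_left (by
      simp only [pow_two]
      exact de (dm (dm (v _ _ _) (v _ _ _)) (dm (dm (v _ _ _) (v _ _ _)) (dm (v _ _ _) (v _ _ _))))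
        (by rw [map_one]; exact diagonal_one.symm) (by ext i; fin_cases i <;> simp <;> field_simp))]
    exact inv_mem (mul_mem m3 (pow_mem m1 2))
  have : (⊤ : Submodule K (V6 K)) ≤ fix (R.ρ (B 0 1 (by decide) A ^ 2)) :=
    le_of_split h2 (fun x _ => ⟨trivial, R.sq h.tt x⟩) (fun x hx => mem_fix.2 (k0 x hx.2))
      (le_of_split h2 (a := R.ρ (B 2 0 (by decide) (-1))) (fun x hx => ⟨⟨trivial, R.ng (dg (k.val _) (k.val _)) hx.2⟩,
        R.sq (sq _ _ _) x⟩) (fun x hx => mem_fix.2 (m4 x hx.2)) fun x hx => mem_fix.2 (pow_mem m2 2 x (mem_fix.2 (by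
          rw [← t2, ← t1, ← wi, ← h.rel, t1, R.mul, mem_Ng.1 hx.2, map_neg, mem_Ng.1 hx.1.2, neg_neg]))))
  have c1 := ker _ (LinearEquiv.ext fun x => mem_fix.1 (this trivial))
  have c2 := mem_center_iff.1 c1 w
  rw [← mul_inv_eq_iff_eq_mul, ← conj_pow, t0, pow_two, pow_two] at c2
  have := congrFun (diagonal_injective ((dm (v _ _ _) (v _ _ _)).symm.trans ((congrArg (fun g => (ι g).1) c2).trans
    (dm (v _ _ _) (v _ _ _))))) 0
  exact a2 (by simpa using this.symm)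
end

section
variable {K G : Type u} [Field K] [Group G] {P : Subgroup (G6 K)} {π : P →* G}

theorem ex_rq (h : Rq P π) {Γ : Type} [Group Γ] {m : ℕ} (e : G ≃* Γ ⧸ center Γ) (sm : HasCyclicSchurMultiplier (Γ ⧸ center Γ) m)
    (o : Odd m) : ∃ R : Rs K Γ, ∀ g, R.ρ g = 1 → g ∈ center Γ := by
  obtain ⟨R, l, a, b⟩ := ex_rs h (ns K G P π h _ m ⟨e⟩ sm o) (e.symm.toMonoidHom.comp (QuotientGroup.mk' _))
    (e.symm.surjective.comp (QuotientGroup.mk'_surjective _))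
  refine ⟨R, fun g k => (QuotientGroup.eq_one_iff g).1 (e.symm.map_eq_one_iff.1 ((a g).symm.trans ?_))⟩
  rw [show l g = 1 from Subtype.ext (Units.ext (ext_of_mulVec_single fun i => by rw [← b, k]; exact (one_mulVec _).symm)), map_one]

theorem two_of (p : ℕ) [Fact p.Prime] [CharP K p] {q : ℕ} (hq : q.Prime) (h : p ≠ q) : (q : K) ≠ 0 := fun e =>
  h ((Nat.prime_dvd_prime_iff_eq Fact.out hq).1 ((CharP.cast_eq_zero_iff K p q).1 e))

variable [IsAlgClosed K] {E : Type} [Field E] [Fintype E]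

theorem sl3 (o : Odd (Fintype.card E)) (h5 : 5 ≤ Fintype.card E) (R : Rs K SL(3, E)) (h2 : (2 : K) ≠ 0)
    (ker : ∀ g, R.ρ g = 1 → g ∈ center _) : False := by
  obtain ⟨a, a2⟩ := ex_sq_ne h5
  have t := Matrix.SL2.commutator_eq_top a.ne_zero (by rwa [sq])
  refine bl3 (ι := .id _) (θ := .id _) (P := pm) (B := fun _ _ => bs)
    ⟨H23.O7.two_ne o, fun _ _ => id, rfl, fun _ _ => rfl, fun _ _ _ _ => rfl⟩ R h2 ker rfl a2 o (t.ge trivial)
    (fun Y h => H11.sl_subgroup_eq_top Y fun i j k c => ?_) fun W n a _ b => ⟨W, le_rfl, n, fun _ => a (t.ge trivial), b⟩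
  fin_cases i <;> fin_cases j
  exacts [absurd rfl k, (bs_up _ c).1 ▸ (h _).2.2, (bs_up k.symm c).2 ▸ (h _).2.1, (bs_up k.symm c).2 ▸ (h _).2.2, absurd rfl k,
    (bs_up _ c).1 ▸ (h _).1, (bs_up _ c).1 ▸ (h _).2.1, (bs_up k.symm c).2 ▸ (h _).1, absurd rfl k]

theorem gs3 (gs : GS) {r : ℕ} (hF : Fintype.card E = r ^ 2) (r3 : 3 ≤ r) (Y : Subgroup (SU 3 E r))
    (h : ∀ a, bu hF 1 2 (by decide) a ∈ Y ∧ bu hF 2 0 (by decide) a ∈ Y ∧ bu hF 0 1 (by decide) a ∈ Y) : Y = ⊤ := by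
  rw [eq_top_iff, ← gs E r hF r3, closure_le]
  rintro g ⟨i, hi⟩
  fin_cases i
  exacts [bu_le hF (fun a => (h a).1) (H27.PH.mem_Bk.2 fun k hk => by fin_cases k <;> first | exact hi | simp at hk),
    bu_le hF (fun a => (h a).2.1) (H27.PH.mem_Bk.2 fun k hk => by fin_cases k <;> first | exact hi | simp at hk),
    bu_le hF (fun a => (h a).2.2) (H27.PH.mem_Bk.2 fun k hk => by fin_cases k <;> first | exact hi | simp at hk)]

theorem su3 (gs : GS) {r : ℕ} (hF : Fintype.card E = r ^ 2) (o : Odd r) (r3 : 3 ≤ r) (R : Rs K (SU 3 E r)) (h2 : (2 : K) ≠ 0)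
    (ker : ∀ g, R.ρ g = 1 → g ∈ center _) (h3 : r = 3 → (3 : K) = 0) : False := by
  have e2 := H23.O7.two_ne (F := E) (hF ▸ o.pow)
  obtain ⟨F, _, _, c⟩ : ∃ (F : Type) (_ : Field F) (_ : Fintype F), Fintype.card F = r := by
    obtain ⟨p, k, hp, _, k0, hq⟩ := H11.exists_prime_pow_of_card_sq hF
    have := Fact.mk hp
    have := Fintype.ofFinite (GaloisField p k)
    exact ⟨GaloisField p k, inferInstance, _, by rw [← Nat.card_eq_fintype_card, GaloisField.card _ _ k0.ne', hq]⟩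
  obtain ⟨e⟩ := H11.nonempty_su_two_equiv hF c
  have b := bl_su (n := 3) hF (H23.O7.two_ne (c ▸ o)) e2 e.symm
  obtain ⟨a, ha⟩ := H27.Asch.exists_norm_one hF
  have n1 : (a : E) * H11.frob hF a = 1 := by
    rw [H11.frob_apply, ← pow_succ', ← ha, ← Units.val_pow_eq_pow_val, pow_orderOf_eq_one, Units.val_one]
  have a2 : (a : E) * a ≠ 1 := fun e => by
    have := Nat.le_of_dvd two_pos (orderOf_dvd_of_pow_eq_one (Units.ext (by rwa [sq]) : a ^ 2 = 1))
    omega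
  let A : SU 2 E r := ⟨H26.O7.dg a, (H11.mem_SU_iff_matrix hF _).2 (by
    ext i j
    fin_cases i <;> fin_cases j <;> simp [H26.O7.dg_val, mul_apply, -H11.frob_apply, n1, ← mul_inv])⟩
  have hA : (SU 2 E r).subtype.comp e.symm.toMonoidHom (e A) = H26.O7.dg a := by simp [A]
  have gn := fun Y (h : ∀ a, _ ∧ _ ∧ _) => gs3 gs hF r3 Y (e.symm.surjective.forall.2 h)
  by_cases r5 : r = 3
  swap
  · obtain ⟨s, s2⟩ := ex_sq_ne (F := F) (by obtain ⟨k, rfl⟩ := o; omega)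
    have t := Matrix.SL2.commutator_eq_top s.ne_zero (by rwa [sq])
    exact bl3 b R h2 ker hA a2 (c ▸ o) (t.ge trivial) gn fun W n a _ b => ⟨W, le_rfl, n, fun _ => a (t.ge trivial), b⟩
  subst r5
  have aa : (a : E) * a = -1 := (mul_self_eq_one_iff.1 (by
    have := n1; rw [H11.frob_apply] at this; linear_combination this)).resolve_left a2
  refine bl3 b R h2 ker hA a2 (c ▸ o) (four_mem (c ▸ o) (e.symm.injective (Subtype.val_injective ?_))) gn fun W n q s s' => ?_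
  · refine (map_mul ((SU 2 E 3).subtype.comp e.symm.toMonoidHom) _ _).trans (Eq.trans ?_ b.neg.symm)
    rw [hA]
    ext i j
    fin_cases i <;> fin_cases j <;> simp [H26.O7.dg_val, mul_apply, aa, ← mul_inv]
  set B := (bu hF (1 : Fin 3) 2 (by decide)).comp e.symm.toMonoidHom
  let W' := W ⊓ ⨅ a, fix (R.ρ (B a))
  have f : ∀ a, B a ∈ R.pw W' := fun a x hx => mem_fix.1 ((Submodule.mem_iInf _).1 hx.2 a)
  refine ⟨W', inf_le_left, ?_, f, fun x hx => ⟨s' x hx.1, (Submodule.mem_iInf _).2 fun X => mem_fix.2 ?_⟩⟩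
  · obtain ⟨x, hx, x0, t, ht⟩ := ex_eig n _ (s (up 1))
    have f3 : (3 : F) = 0 := by exact_mod_cast c ▸ FiniteField.cast_card_eq_zero F
    have t1 : t = 1 := by
      have : R.ρ (B (up 1 * up 1 * up 1)) x = (t * t * t) • x := by
        simp only [map_mul B, R.mul, ht, map_smul, smul_smul]
      rw [← H26.O7.up_add, ← H26.O7.up_add, show (1 + 1 + 1 : F) = 0 by linear_combination f3, H26.O7.up_zero, map_one, R.one,
        ← sub_eq_zero, ← one_smul K x, smul_smul, ← sub_smul, smul_eq_zero_iff_left x0] at this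
      exact sub_eq_zero.1 (pow_eq_zero_iff three_ne_zero |>.1 (by linear_combination -this + (t - t * t) * h3 rfl))
    have u : up 1 ∈ (R.pw (K ∙ x)).comap B := fun y hy => by
      obtain ⟨c, rfl⟩ := Submodule.mem_span_singleton.1 hy
      rw [map_smul, ht, t1, one_smul]
    have := H29.BB.top_of_upper (K := (R.pw (K ∙ x)).comap B) (g := wy F) (fun t => by
      have := FiniteField.pow_card t
      rw [c] at this
      rcases (by grind : t = 0 ∨ t = 1 ∨ t = -1) with rfl | rfl | rfl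
      exacts [H13.SL2.x_zero (k := F) ▸ one_mem _, u, H13.SL2.x_neg (1 : F) ▸ inv_mem u])
      (fun y hy => q (four_mem (c ▸ o) (by rw [← eq_mul_inv_iff_mul_eq, H26.O7.wy_inv]; simp)) y
        ((Submodule.span_singleton_le_iff_mem _ _).2 hx hy)) (by simp [wy])
    exact (Submodule.ne_bot_iff _).2 ⟨x, ⟨hx, (Submodule.mem_iInf _).2 fun a =>
      mem_fix.2 (this.ge (mem_top a) x (Submodule.mem_span_singleton_self x))⟩, x0⟩
  · set g := (bu hF (0 : Fin 3) 1 (by decide)).comp e.symm.toMonoidHom (e A)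
    have g0 : g • (Pi.single 0 1 : Fin 3 → E) = (a : E) • (Pi.single 0 1 : Fin 3 → E) := by
      have := dval b hA (by decide : (0 : Fin 3) ≠ 1)
      change (g.1.1 = _) at this
      rw [H27.PH.su_smul, this]; ext i; fin_cases i <;> simp
    have m : g⁻¹ * B X * g ∈ R.pw W' := bu_le hF (h := by decide) (e.symm.surjective.forall.2 f) (H27.PH.mem_Bk.2 fun k hk => by
      obtain rfl : k = 0 := by fin_cases k <;> first | rfl | simp at hk
      rw [mul_smul, mul_smul, inv_smul_eq_iff, g0, smul_comm]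
      congr 1
      rw [H27.PH.su_smul, show (B X).1 = _ from H23.O7.bu_val hF (by decide) _]
      ext i; fin_cases i <;> simp [bs_val, mul_apply, H27.PH.Jm_apply])
    nth_rw 2 [← m x hx]
    rw [R.mul, R.mul, R.inv]
end

theorem l3u (gs : GS) : L3U.{u} := fun K _ _ _ _ p _ _ _ _ h p2 r o r5 => ⟨fun ⟨E, _, _, hE, ⟨e⟩⟩ => by
  obtain ⟨R, k⟩ := ex_rq h.toRq e (Cfsg.Agent.S2086.result hE 3 (by norm_num) (by norm_num) (by simp; omega))
    (Odd.of_dvd_nat (by decide) (Nat.gcd_dvd_left ..))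
  exact sl3 (hE ▸ o) (hE ▸ r5) R (two_of p Nat.prime_two p2) k, fun ⟨E, _, _, hE, ⟨e⟩⟩ => by
  obtain ⟨R, k⟩ := ex_rq h.toRq e (Cfsg.Agent.S2089.result 3 r hE le_rfl (by omega) (by simp))
    (Odd.of_dvd_nat (by decide) (Nat.gcd_dvd_left ..))
  exact su3 gs hE o (by omega) R (two_of p Nat.prime_two p2) k (by omega)⟩

theorem u33 (gs : GS) : U33.{u} := fun K _ _ _ _ p _ _ _ _ h p3 ⟨E, _, _, hE, ⟨e⟩⟩ => by
  obtain ⟨R, k⟩ := ex_rq h.toRq e (Cfsg.Agent.S2089.result 3 3 hE le_rfl (by omega) (by simp)) (by decide)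
  exact su3 gs hE (by decide) le_rfl R (two_of p Nat.prime_two (p3 ▸ by decide)) k fun _ => by
    subst p3; exact_mod_cast CharP.cast_eq_zero K 3

end H25.S6
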