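/-
S5806: the piece `U3q`.
-/
import Cfsg.Agent.H25.S6a
import Cfsg.Agent.H4.SPb

set_option autoImplicit false
set_option linter.unusedSectionVars false

open Matrix Cfsg H6.SP H11.SP Subgroup H27.PH
open H16 (F9c card_F9c)
open H23.O7 (su9 bu bu_val bs_val)
open scoped MatrixGroups
namespace H25.S6
universe u

/-- powers modulo the characteristic polynomial -/
def rc {R : Type*} [CommRing R] (t s : R) : ℕ → R × R × R
  | 0 => (1, 0, 0)
  | n + 1 => ((rc t s n).2.2, (rc t s n).1 - s * (rc t s n).2.2, (rc t s n).2.1 + t * (rc t s n).2.2)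

theorem rc_pow {R : Type*} [CommRing R] {A : Matrix (Fin 3) (Fin 3) R} (h : A.det = 1) {n : ℕ}
    (e : rc A.trace A.adjugate.trace n = (1, 0, 0)) : A ^ n = 1 := by
  have c : A * (A * A) = A.trace • (A * A) - A.adjugate.trace • A + A.det • (1 : Matrix (Fin 3) (Fin 3) R) := by
    ext i j
    fin_cases i <;> fin_cases j <;> simp [mul_apply, Fin.sum_univ_three, trace_fin_three, adjugate_fin_three, det_fin_three] <;> ring
  have k : ∀ n, A ^ n = (rc A.trace A.adjugate.trace n).1 • (1 : Matrix (Fin 3) (Fin 3) R) + (rc A.trace A.adjugate.trace n).2.1 • A +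
      (rc A.trace A.adjugate.trace n).2.2 • (A * A) := fun n => by
    induction n with
    | zero => simp [rc]
    | succ n ih =>
      rw [pow_succ', ih, rc, mul_add, mul_add, mul_smul_comm, mul_smul_comm, mul_smul_comm, c, h, mul_one]
      module
  rw [k, e]; simp

/-- the unitary group -/
abbrev U9 := SU 3 F9c 3

theorem tr9 (g : U9) : g.1.1.adjugate.trace = g.1.1.trace ^ 3 := by
  have h := su_ct card_F9c g
  rw [← one_mul (adjugate _), ← h, mul_assoc, mul_adjugate, g.1.2, one_smul, mul_one, ← H11.frob_apply card_F9c]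
  simp [ct, trace_fin_three, -H11.frob_apply]

theorem rc9 : ∀ t : F9c, (rc t (t ^ 3) 7 = (1, 0, 0) ∨ rc t (t ^ 3) 8 = (1, 0, 0) ∨ rc t (t ^ 3) 12 = (1, 0, 0)) ∧
    (t = 0 → rc t (t ^ 3) 3 = (1, 0, 0)) := by decide +kernel

theorem pw9 {g : U9} {n : ℕ} (h : rc g.1.1.trace (g.1.1.trace ^ 3) n = (1, 0, 0)) : g ^ n = 1 :=
  su_ext (by rw [coe_pow, Matrix.SpecialLinearGroup.coe_pow]; exact rc_pow g.1.2 (by rwa [tr9]))

theorem inv9 {z : U9} (zz : z * z = 1) (z1 : z ≠ 1) : ∃ h : U9, (h⁻¹ * z * h).1.1 = diagonal ![1, -1, -1] := by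
  have h3 : (3 : F9c) = 0 := by decide
  have h2 : (2 : F9c) ≠ 0 := by decide
  obtain ⟨i, hi⟩ : ∃ i, 1 + z.1.1 i i ≠ 0 := by
    by_contra! k
    have := pw9 ((rc9 _).2 (show z.1.1.trace = 0 by rw [trace_fin_three]; linear_combination k 0 + k 1 + k 2 - h3))
    exact z1 (by rwa [pow_three', zz, one_mul] at this)
  let v : Fin 3 → F9c := Pi.single i 1 + z • (Pi.single i 1 : Fin 3 → F9c)
  have zv : z • v = v := by rw [smul_add, smul_smul, zz, one_smul, add_comm]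
  obtain ⟨c, -, hc⟩ := unit (C := H11.hermC (Fin 3) card_F9c) (u := v) (by
    have e := B_g card_F9c z (z • Pi.single i 1) (Pi.single i 1)
    rw [smul_smul, zz, one_smul, B_e] at e
    simp only [v, map_add, LinearMap.add_apply, B_g, B_e, ← e]
    simp only [su_smul, mulVec_single_one, col_apply, Pi.single_eq_same]
    exact fun k => mul_ne_zero h2 hi (by linear_combination k))
  obtain ⟨h, -, e⟩ := tran card_F9c (s := Set.univ) (a := (0 : Fin 3)) (b := 1) trivial trivial (by decide) (mem_Ws.2 (by simp)) hc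
  obtain ⟨y, hy⟩ : h⁻¹ * z * h ∈ (bu card_F9c (1 : Fin 3) 2 (by decide)).range :=
    H23.O7.bu_le card_F9c (a := 1) (c := 2) (Y := MonoidHom.range _) (fun A => ⟨A, rfl⟩) (mem_Bk.2 fun k hk => by
    obtain rfl : k = 0 := by fin_cases k <;> first | rfl | simp at hk
    rw [mul_smul, mul_smul, e, smul_comm z, zv, ← e, inv_smul_smul])
  have y2 : y * y = 1 := bl_inj _ (by rw [map_mul, map_one]; exact (congrArg₂ _ hy hy).trans (by rw [mul_assoc, mul_assoc, mul_assoc,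
    mul_inv_cancel_left, ← mul_assoc z, zz, one_mul, inv_mul_cancel]))
  refine ⟨h, ?_⟩
  rcases H11.sl2_eq_of_mul_self h2 y.1 (congrArg Subtype.val y2) with k | k
  · rw [su_ext (g := y) (h := 1) k, map_one, eq_comm, mul_assoc, inv_mul_eq_one, eq_comm, mul_eq_right] at hy
    exact absurd hy z1
  rw [← hy, bu_val, bs_val, k]
  decide +kernel

/-- conjugating elements -/
def L9 : List U9 := [1, su9 !![⟨0, 1⟩, 0, 0; 0, 0, 1; 0, ⟨0, 1⟩, 0], su9 !![⟨0, 1⟩, 0, 0; 0, 0, ⟨0, 1⟩; 0, 1, 0],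
  su9 !![1, 0, 0; 0, 0, ⟨0, 1⟩; 0, ⟨0, 1⟩, 0], su9 !![1, 0, 0; 0, 0, 2; 0, 1, 0]]

theorem blk9 : ∀ a b : F9c, a * a ^ 3 + b * b ^ 3 = 1 → ∀ c d : F9c, a * c ^ 3 + b * d ^ 3 = 0 → c * c ^ 3 + d * d ^ 3 = 1 → ∀ e : F9c,
    e * (a * d - c * b) = 1 → L9.any fun k => k.1.1 * !![e, 0, 0; 0, a, c; 0, b, d] = !![e, 0, 0; 0, a, c; 0, b, d] ^ 5 * k.1.1 := by
  decide +kernel

theorem five9 {g z : U9} (zz : z * z = 1) (z1 : z ≠ 1) (c : Commute g z) : IsConj g (g ^ 5) := by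
  obtain ⟨h, e⟩ := inv9 zz z1
  have c' : (h⁻¹ * g * h).1.1 * (h⁻¹ * z * h).1.1 = (h⁻¹ * z * h).1.1 * (h⁻¹ * g * h).1.1 := by
    simp only [← Matrix.SpecialLinearGroup.coe_mul, ← coe_mul]
    simp only [mul_assoc, mul_inv_cancel_left]
    rw [← mul_assoc g, c.eq, mul_assoc]
  suffices IsConj (h⁻¹ * g * h) ((h⁻¹ * g * h) ^ 5) by
    have k : ∀ x, IsConj x (h⁻¹ * x * h) := fun x => isConj_iff.2 ⟨h⁻¹, by rw [inv_inv]⟩
    rw [show (h⁻¹ * g * h) ^ 5 = h⁻¹ * g ^ 5 * h by simpa only [inv_inv] using conj_pow (a := h⁻¹) (b := g)] at this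
    exact (k g).trans (this.trans (k _).symm)
  generalize h⁻¹ * g * h = g at *
  have u := (H11.mem_SU_iff_matrix card_F9c _).1 g.2
  have d := g.1.2
  have k : ∀ u : F9c, (u = -u → u = 0) ∧ (-u = u → u = 0) := by decide
  have c1 := fun i j => congrFun (congrFun c' i) j
  simp only [e, mul_diagonal, diagonal_mul] at c1
  have m : g.1.1 = !![g.1.1 0 0, 0, 0; 0, g.1.1 1 1, g.1.1 1 2; 0, g.1.1 2 1, g.1.1 2 2] := by
    have a1 := (k _).2 (by simpa using c1 0 1)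
    have a2 := (k _).2 (by simpa using c1 0 2)
    have a3 := (k _).1 (by simpa using c1 1 0)
    have a4 := (k _).1 (by simpa using c1 2 0)
    ext i j : 1
    fin_cases i <;> fin_cases j <;> simp [*]
  rw [m] at u d
  obtain ⟨k, -, e⟩ := List.any_eq_true.1 <| blk9 (g.1.1 1 1) (g.1.1 2 1) (by simpa [mul_apply, Fin.sum_univ_three] using congrFun (congrFun u 1) 1)
    (g.1.1 1 2) (g.1.1 2 2) (by simpa [mul_apply, Fin.sum_univ_three] using congrFun (congrFun u 1) 2)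
    (by simpa [mul_apply, Fin.sum_univ_three] using congrFun (congrFun u 2) 2) (g.1.1 0 0) (by
      rw [det_fin_three] at d; simp at d; linear_combination d)
  rw [← m, decide_eq_true_iff] at e
  exact isConj_iff.2 ⟨k, mul_inv_eq_iff_eq_mul.2 (su_ext (by simpa using e))⟩

/-- an element of order seven -/
def x7 : U9 := su9 !![0, ⟨1, 1⟩, ⟨1, 1⟩; 0, ⟨1, 1⟩, ⟨2, 2⟩; ⟨0, 1⟩, 0, 0]
/-- an element of its normaliser -/
def n7 : U9 := su9 !![⟨0, 1⟩, ⟨2, 1⟩, 2; 1, ⟨0, 1⟩, ⟨1, 1⟩; ⟨1, 2⟩, ⟨0, 1⟩, ⟨0, 1⟩]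
theorem d7 : x7.1.1 ≠ 1 ∧ (x7 ^ 7).1.1 = 1 ∧ (n7 * x7).1.1 = (x7 ^ 2 * n7).1.1 := by decide +kernel

theorem card9 : Nat.card U9 = 6048 := by
  have h := H11.card_SU_mul card_F9c (n := 3) (by norm_num)
  rw [H11.card_GU card_F9c] at h
  rw [show ∀ n : ℕ, (3 + 1) * n = 4 * n from fun _ => rfl] at h
  exact Nat.eq_of_mul_eq_mul_left four_pos (h.trans (by decide))

theorem cls9 (g : U9) : (g ^ 7 = 1 ∧ IsConj g (g ^ 2)) ∨ ((g ^ 8 = 1 ∨ g ^ 12 = 1) ∧ (IsConj g (g ^ 5) ∨ g ^ 6 = 1)) := by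
  have k : ∀ n, g ^ (n + n) = 1 → g ^ n = 1 ∨ IsConj g (g ^ 5) := fun n e => (em _).imp_right fun n1 =>
    five9 (by rwa [← pow_add]) n1 ((Commute.refl g).pow_right n)
  rcases (rc9 g.1.1.trace).1 with e | e | e
  · refine .inl ⟨pw9 e, ?_⟩
    have := Fact.mk Nat.prime_seven
    clear k
    obtain ⟨k, i, rfl⟩ := H4.SP.syl (m := 864) card9 (by decide) (g := x7) (fun e => d7.1 (congrArg (·.1.1) e)) (su_ext d7.2.1) (pw9 e)
    refine isConj_iff.2 ⟨k * n7 * k⁻¹, ?_⟩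
    rw [conj_pow, ← pow_mul, mul_comm i, pow_mul, ← mul_inv_eq_iff_eq_mul.2 (su_ext d7.2.2), conj_pow]
    group
  · exact .inr ⟨.inl (pw9 e), .inl ((k 4 (pw9 e)).elim (fun e => by rw [pow_succ, e, one_mul]) id)⟩
  · exact .inr ⟨.inr (pw9 e), (k 6 (pw9 e)).symm⟩

theorem tf {F : Type*} [Field F] (p : ℕ) [Fact p.Prime] [CharP F p] {x : G6 F} (hx : x ∈ S6 F) {n a : ℕ} (n0 : 0 < n) (hn : x ^ n = 1)
    (ha : ∀ k, T (x ^ (a * k)) = T (x ^ k)) (d : ∀ c < n, ∃ i < 3, c ^ 4 % n = a ^ i * c ^ 3 % n ∨ (c ^ 4 + a ^ i * c ^ 3) % n = 0) :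
    T x ^ p = T x := by
  have k : ∀ i k, T (x ^ (a ^ i * k)) = T (x ^ k) := fun i k => by
    induction i with
    | zero => simp
    | succ i ih => rw [pow_succ', mul_assoc, ha, ih]
  have t : ∀ i, T (x ^ p ^ i) = T x ^ p ^ i := fun i => by
    induction i with
    | zero => simp
    | succ i ih => rw [pow_succ, pow_mul, pow_mul, H4.SP.T_pow, ih]
  obtain ⟨i, -, e⟩ := d (p % n) (Nat.mod_lt _ n0)
  refine (iterateFrobenius F p 3).injective ?_
  rw [iterateFrobenius_def, iterateFrobenius_def, ← pow_mul, ← pow_succ', ← t, ← t, pow_eq_pow_mod _ hn, Nat.pow_mod,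
    pow_eq_pow_mod (p ^ 3) hn, Nat.pow_mod p 3, ← pow_eq_pow_mod ((p % n) ^ 3) hn, ← k i ((p % n) ^ 3)]
  rcases e with e | e
  · rw [e, ← pow_eq_pow_mod _ hn]
  · rw [← pow_eq_pow_mod _ hn, ← H4.SP.T_inv (pow_mem hx _), inv_eq_of_mul_eq_one_right]
    rw [← pow_add, pow_eq_pow_mod _ hn, e, pow_zero]

theorem u3q : U3q.{u} := fun F G _ _ _ p _ _ H P π h ⟨E, _, _, hE, ⟨e⟩⟩ => by
  obtain ⟨f⟩ := H11.nonempty_ringEquiv_of_card (F := E) (K := F9c) (by rw [hE]; rfl)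
  have s := (e.trans (H11.psuCongr 3 3 f)).symm.surjective.comp (QuotientGroup.mk'_surjective _)
  have i := ns F G P π h.toRq _ _ ⟨e⟩ (Cfsg.Agent.S2089.result 3 3 hE le_rfl (by omega) (by simp)) (by decide)
  obtain ⟨-, l, a, -⟩ := ex_rs h.toRq i ((e.trans (H11.psuCongr 3 3 f)).symm.toMonoidHom.comp (QuotientGroup.mk' _)) s
  obtain ⟨m, hm, c⟩ := H4.SP.card_fx (F := F) (p := p) one_ne_zero ((te.{u, 0} F).1 P h.top h.fld _ fun x hx => H4.SP.mem_fx.2 (by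
    obtain ⟨g, hg⟩ := s (π ⟨x, hx⟩)
    obtain rfl : (l g).1 = x := congrArg Subtype.val (i ((a g).trans hg))
    have o : ∀ m, g ^ m = 1 → (l g).1 ^ m = 1 := fun m k => by rw [← coe_pow, ← map_pow, k, map_one, coe_one]
    have c : ∀ m, IsConj g (g ^ m) → ∀ k, T ((l g).1 ^ (m * k)) = T ((l g).1 ^ k) := fun m c k => by
      obtain ⟨y, hy⟩ := isConj_iff.1 ((P.subtype.comp l).map_isConj c)
      rw [map_pow] at hy
      exact (congrArg T (by rw [pow_mul, conj_pow.symm]; exact congrArg (· ^ k) hy.symm)).trans (H4.SP.T_conj y _)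
    rw [pow_one]
    rcases cls9 g with ⟨a, b⟩ | ⟨a | a, b | b⟩
    · exact tf p (h.sp hx) (by decide) (o _ a) (c _ b) (by decide)
    · exact tf p (h.sp hx) (by decide) (o _ a) (c _ b) (by decide)
    · exact tf p (h.sp hx) (by decide) (o _ b) (a := 1) (by simp) (by decide)
    · exact tf p (h.sp hx) (by decide) (o _ a) (c _ b) (by decide)
    · exact tf p (h.sp hx) (by decide) (o _ b) (a := 1) (by simp) (by decide)))
  rw [c, Nat.dvd_one.1 hm, pow_one]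

end H25.S6
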