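import Cfsg.Agent.H13.ZL0
import Cfsg.Agent.H18.Be0

/-! Groups of order `|M₂₄|`: general lemmas for the local analysis. -/

set_option autoImplicit false
set_option linter.unusedSectionVars false

namespace H25.ZL
open Cfsg Subgroup H19

variable {G : Type*} [Group G] [Finite G] {a b c g p r s t u v w x y : G} {D E H K P Q R S T X Y : Subgroup G}

theorem fix_mod {A : Set G} {p : ℕ} (hp : p.Prime) (h : x ^ p = 1) (hA : ∀ y ∈ A, x * y * x⁻¹ ∈ A) :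
    A.ncard ≡ (A ∩ C[x]).ncard [MOD p] := by
  classical
  have := Fact.mk hp
  have := Fintype.ofFinite A
  let f : Function.End A := fun v => ⟨_, hA _ v.2⟩
  have hf : ∀ n (v : A), ((f ^ n) v : G) = x ^ n * v * (x ^ n)⁻¹ := fun n => by
    induction n with
    | zero => exact fun _ => by simp; rfl
    | succ n ih => intro v; rw [pow_succ, pow_succ]; exact (ih (f v)).trans (by simp only [f]; group)
  have := Equiv.Perm.card_fixedPoints_modEq (f := f) (p := p) (n := 1) (by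
    funext v; apply Subtype.ext; rw [pow_one, hf, h]; simp; rfl)
  rw [← Nat.card_eq_fintype_card, ← Nat.card_eq_fintype_card, Nat.card_coe_set_eq, Nat.card_coe_set_eq,
    ← Set.ncard_image_of_injective _ Subtype.val_injective] at this
  convert this using 2
  ext y
  exact ⟨fun h => ⟨⟨y, h.1⟩, Subtype.ext (mul_inv_eq_iff_eq_mul.2 (mem_cent1.1 h.2).symm), rfl⟩,
    fun ⟨v, h, e⟩ => e ▸ ⟨v.2, mem_cent1.2 (mul_inv_eq_iff_eq_mul.1 (congrArg Subtype.val h)).symm⟩⟩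

theorem card_mod {p : ℕ} (hp : p.Prime) (h : x ^ p = 1) (hn : x ∈ N(X)) : #X ≡ #(X ⊓ C[x]) [MOD p] :=
  fix_mod (A := (X : Set G)) hp h fun _ => conj_mem_of_norm hn

theorem third {n a : ℕ} (h0 : 0 < a) (h1 : a ∣ n) (h2 : n ∣ a * 3) (h3 : n ≠ a * 3) : n = a := by
  obtain ⟨k, rfl⟩ := h1
  rcases (Nat.dvd_prime Nat.prime_three).1 (Nat.dvd_of_mul_dvd_mul_left h0 h2) with rfl | rfl
  exacts [mul_one a, absurd rfl h3]

theorem cc (h : x * y = y * x) : x * y * x⁻¹ = y := by rw [h, mul_inv_cancel_right]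
theorem cc' (h : x * y * x⁻¹ = y) : x * y = y * x := mul_inv_eq_iff_eq_mul.1 h
theorem inv2 (h : x * x = 1) : x⁻¹ = x := inv_eq_of_mul_eq_one_left h
theorem sq_of (h : orderOf x = 2) : x * x = 1 := by rw [← sq, ← h, pow_orderOf_eq_one]
theorem ne1 {n : ℕ} (h : orderOf x = n + 2) : x ≠ 1 := fun e => by simp [e] at h
theorem pw {n : ℕ} (h : orderOf x = n) : x ^ n = 1 := h ▸ pow_orderOf_eq_one x
theorem cz {n : ℕ} (h : orderOf x = n) : #(zpowers x) = n := (Nat.card_zpowers x).trans h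

theorem ncard_cj (X P : Subgroup G) : ((fun g => cj g P) '' X).ncard = N(P).relIndex X :=
  (H18.Be.relIndex_eq_ncard _ _ _ fun g _ g' _ => by
    rw [mem_norm_iff_cj, cj_mul, cj_eq_iff (g := g⁻¹), inv_inv, eq_comm]).symm

theorem ncard_cls (X : Subgroup G) (x : G) : ((fun g => g * x * g⁻¹) '' X).ncard = C[x].relIndex X :=
  (H18.Be.relIndex_eq_ncard _ _ _ fun g _ g' _ => by
    rw [mem_cent1]
    refine ⟨fun e => ?_, fun e => ?_⟩
    · rw [show g⁻¹ * g' * x = g⁻¹ * (g' * x * g'⁻¹) * g' by group, ← e]; group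
    · rw [show g * x * g⁻¹ = g * (x * (g⁻¹ * g')) * g'⁻¹ by group, ← e]; group).symm

theorem six (ow : orderOf w = 5) (wX : w ∈ X) (h25 : ¬ 25 ∣ #X) (hi : N(zpowers w).relIndex X = 6)
    (hY : Hall {5}ᶜ Y (X ⊓ C[w])) (hn : X ⊓ C[w] ≤ N(Y)) : X ≤ N(Y) := by
  have cP := cz ow
  have pP : PG 5 (zpowers w) := PiN.of_card Nat.prime_five cP
  have sP : Syl 5 (zpowers w) X := syl_mk (zpowers_le.2 wX) pP fun e => h25 (by
    rw [← card_mul_relIndex (zpowers_le.2 wX), cP]; exact Nat.mul_dvd_mul_left 5 e)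
  set P := zpowers w with hP
  have A : ∀ x ∈ X, cj x P ≠ P → P ⊓ N(cj x P) = ⊥ := fun x hx e =>
    inf_eq_bot_of_prime (cP ▸ Nat.prime_five) fun l =>
      e (sP.eq_of_le (sP.Jmem hx) ((sP.Jmem hx).le_of_norm sP.le pP l)).symm
  have c6 := (ncard_cj X P).trans hi
  have c5 : ((fun g => cj g P) '' X \ {P}).ncard = 5 := by
    rw [Set.ncard_diff_singleton_of_mem (show P ∈ (fun g => cj g P) '' X from ⟨1, one_mem X, cj_one P⟩), c6]
  have B : ∀ y ∈ Y, ∀ x ∈ X, y ∈ N(cj x P) := fun y hy x hx => by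
    have yP : y ∈ N(P) := cent1_le_norm_zpowers w (hY.le hy).2
    by_cases e : cj x P = P
    · rwa [e]
    have k : ∀ z ∈ X, z ∈ N(P) → cj z (cj x P) ∈ (fun g => cj g P) '' X \ {P} := fun z h1 h2 =>
      ⟨⟨z * x, mul_mem h1 hx, cj_mul ..⟩, fun j => e (by
        rw [cj_eq_iff.1 j, cj_of_mem_norm (inv_mem h2)])⟩
    have := Set.eq_of_subset_of_ncard_le (s := (fun g => cj g (cj x P)) '' P) (by
      rintro _ ⟨z, hz, rfl⟩; exact k z (sP.le hz) (le_normalizer hz)) (by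
      rw [c5, ncard_cj, ← inf_relIndex_left, A x hx e, relIndex_bot_left, cP])
    obtain ⟨z, hz, j⟩ := this.ge (k y (hY.le hy).1 yP)
    have j1 : z⁻¹ * y ∈ N(cj x P) := by
      rw [mem_norm_iff_cj, cj_mul, ← show cj z (cj x P) = _ from j, cj_inv_cj]
    have j2 : (z⁻¹ * y) ^ 5 = y ^ 5 := by
      rw [Commute.mul_pow (mem_cent.1 (cent_zpowers w ▸ (hY.le hy).2 : y ∈ C(P)) _ (inv_mem hz)), inv_pow,
        orderOf_dvd_iff_pow_eq_one.1 (cP ▸ orderOf_dvd_card' hz), inv_one, one_mul]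
    have j3 := pow_mem j1 5
    rw [j2] at j3
    exact zpowers_le.2 j3 (mem_zpowers_pow_iff.2 ((hY.pi.elt hy).coprime_prime Nat.prime_five).symm)
  obtain ⟨_, ⟨x0, hx0, rfl⟩, e0⟩ := Set.nonempty_of_ncard_ne_zero (c5.trans_ne (by decide))
  have B' : ∀ y ∈ Y, ∀ x ∈ X, ∀ z ∈ X, x * y * x⁻¹ ∈ N(cj z P) := fun y hy x hx z hz => by
    rw [← cj_cj_inv x (cj z P), ← cj_norm, conj_mem_cj, ← cj_mul]
    exact B y hy _ (mul_mem (inv_mem hx) hz)
  refine fun x hx => mem_norm_of_cj_le fun _ hz => ?_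
  obtain ⟨y, hy, rfl⟩ := mem_cj'.1 hz
  have m1 := B' y hy x hx 1 (one_mem X)
  rw [cj_one] at m1
  have m2 : x * y * x⁻¹ * w * (x * y * x⁻¹)⁻¹ * w⁻¹ ∈ P ⊓ N(cj x0 P) :=
    mem_inf.2 ⟨mul_mem (conj_mem_of_norm m1 (mem_zpowers w)) (inv_mem (mem_zpowers w)), by
      have := mul_mem (B' y hy x hx x0 hx0) (inv_mem (B' y hy _ (mul_mem wX hx) x0 hx0))
      convert this using 1; group⟩
  rw [A x0 hx0 e0, mem_bot, mul_inv_eq_one] at m2
  exact hY.mem_of_normal hn (mem_inf.2 ⟨mul_mem (mul_mem hx (hY.le hy).1) (inv_mem hx), mem_cent1.2 (cc' m2)⟩)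
    ((hY.pi.elt hy).e_conj x)

theorem idx2 (hQ : PG 2 Q) (l : P ≤ Q) (hc : #Q = #P * 2) :
    Q ≤ N(P) ∧ ∃ g ∈ Q, g ∉ P ∧ g * g ∈ P ∧ P ⊔ zpowers g = Q := by
  have i : P.relIndex Q = 2 := Nat.eq_of_mul_eq_mul_left (card_pos P) ((card_mul_relIndex l).trans hc)
  obtain ⟨g, h1, h2⟩ : ∃ g ∈ Q, g ∉ P := by
    by_contra! k
    have := card_le (show Q ≤ P from k); have := card_pos P; omega
  exact ⟨hQ.norm_of_index l i Nat.prime_two, g, h1, h2,
    mul_self_mem_of_index_two (H := P.subgroupOf Q) i ⟨g, h1⟩,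
    (eq_of_prime_index le_sup_left (sup_le l (zpowers_le.2 h1)) (i ▸ Nat.prime_two)).resolve_left
      fun e => h2 (e.le (mem_sup_right (mem_zpowers g)))⟩

theorem tw_norm (hR : R ⊴ P) (hg : g ∈ N(P)) (g2 : g * g ∈ P) :
    cj g R ⊴ P ∧ P ⊔ zpowers g ≤ N(R ⊓ cj g R) := by
  have k : cj g R ⊴ P := cj_of_mem_norm hg ▸ hR.J g
  refine ⟨k, sup_le (hR.inf k).norm (zpowers_le.2 (mem_norm_iff_cj.2 ?_))⟩
  rw [cj_inf, cj_cj, hR.cj_eq g2, inf_comm]

theorem step (hQ : PG 2 Q) (l : P ≤ Q) (hc : #Q = #P * 2) (hR : R ⊴ P) (h : #P < #R * #R) :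
    ∃ t ∈ R, orderOf t = 2 ∧ Q ≤ C[t] := by
  obtain ⟨n, g, h1, -, h3, h4⟩ := idx2 hQ l hc
  obtain ⟨k1, k2⟩ := tw_norm hR (n h1) h3
  have c := card_sup_mul_inf (hR.norms k1.le)
  have c' := card_le (sup_le hR.le k1.le)
  have pD : PG 2 (R ⊓ cj g R) := hQ.of_le (inf_le_left.trans (hR.le.trans l))
  have := pD.meet_cent hQ (h4 ▸ k2) fun e => by
    rw [e, card_bot, card_cj] at c; omega
  obtain ⟨t, ht, o⟩ := exists_orderOf_eq_prime Nat.prime_two ((pD.infl _).dvd_of_ne_bot this)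
  exact ⟨t, ht.1.1, o, le_cent1_iff.2 ht.2⟩

theorem up (c : Nat.card G = 244823040) (hP : PG 2 P) {k : ℕ} (h1 : #P = 2 ^ k) (h2 : k < 10) :
    ∃ Q, PG 2 Q ∧ P ≤ Q ∧ #Q = #P * 2 := by
  obtain ⟨T, hT, l⟩ := hP.exists_syl le_top
  have := Nat.le_of_dvd (card_pos T) (hT.dvd (PiN.prime_pow Nat.prime_two 10) (by rw [card_top, c]; decide))
  obtain ⟨Q, k1, k2, k3⟩ := hT.pi.exists_between Nat.prime_two l (k := k + 1)
    (h1 ▸ Nat.pow_le_pow_right two_pos k.le_succ) ((Nat.pow_le_pow_right two_pos h2).trans this)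
  exact ⟨Q, hT.pi.of_le k2, k1, by rw [k3, h1, pow_succ]⟩

end H25.ZL
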