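import Cfsg.Agent.H25.ZL1

/-! Groups of order `|M₂₄|`: the case `|R| = 64` does not occur. -/

set_option autoImplicit false
set_option linter.unusedSectionVars false

namespace H25.ZL
open Cfsg Subgroup H19 H13.Z

variable {G : Type*} [Group G] [Finite G] {a b c g p r s t u v w x y : G} {D E H K P Q R S T X Y : Subgroup G}

section
variable (h : L5 w u R)
include h

theorem pR : PG 2 R := PiN.of_isPGroup Nat.prime_two h.R2
theorem nR : N(zpowers w) ≤ N(R) := fun g hg => mem_norm_of_cj_le fun _ hx =>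
  let ⟨y, hy, e⟩ := mem_cj'.1 hx; e ▸ h.Rn g hg y hy
theorem cN : C[w] ≤ N(zpowers w) := cent1_le_norm_zpowers w
theorem uC : u ∈ C[w] := mem_cent1.2 h.uw
theorem uN : u ∈ N(R) := nR h (cN h (uC h))
theorem wN : w ∈ N(zpowers w) := cN h (mem_cent1_self w)
theorem sylR : Syl 2 R C[w] := syl_mk h.Rle (pR h) (by
  rw [show R.relIndex C[w] = 15 from Nat.eq_of_mul_eq_mul_left (card_pos R)
    ((card_mul_relIndex h.Rle).trans (h.cardC.trans (mul_comm _ _)))]; decide)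
theorem leR (hX : PG 2 X) (l : X ≤ C[w]) : X ≤ R := (sylR h).le_of_normal ((cN h).trans (nR h)) l hX
theorem un (hs : s ∈ R) (s1 : s ≠ 1) : u ∉ C[s] := fun e => s1 (h.fpf s hs (mem_cent1.1 e))
theorem wc (hs : s ∈ R) : w ∈ C[s] := mem_cent1_symm.1 (h.Rle hs)

theorem cwc (hs : s ∈ R) (s1 : s ≠ 1) (l : R ≤ C[s]) : #(C[s] ⊓ C[w]) = #R * 5 := by
  refine third (Nat.mul_pos (card_pos R) (by decide)) (Nat.Coprime.mul_dvd_of_dvd_of_dvd
    (((pR h).sing_ne (by decide)).coprime_prime Nat.prime_five) (card_dvd (le_inf l h.Rle))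
    (h.ow ▸ orderOf_dvd_card' (mem_inf.2 ⟨wc h hs, mem_cent1_self w⟩)))
    ((card_dvd inf_le_right).trans (by rw [h.cardC]; exact Dvd.intro 1 (by ring))) fun e => un h hs s1 ?_
  exact ((eq_of_le_of_card_eq inf_le_right (by rw [e, h.cardC]; ring)).ge (uC h)).1

theorem hallR (hs : s ∈ R) (s1 : s ≠ 1) (l : R ≤ C[s]) : Hall {5}ᶜ R (C[s] ⊓ C[w]) :=
  ⟨le_inf l h.Rle, (pR h).sing_ne (by decide), by
    rw [show R.relIndex (C[s] ⊓ C[w]) = 5 from Nat.eq_of_mul_eq_mul_left (card_pos R)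
      ((card_mul_relIndex (le_inf l h.Rle)).trans (cwc h hs s1 l))]
    exact (PiN.prime_pow Nat.prime_five 1).compl_compl⟩

theorem nwc (hs : s ∈ R) (s1 : s ≠ 1) (l : #R * 4 ∣ #(N(zpowers w) ⊓ C[s])) :
    #(N(zpowers w) ⊓ C[s]) = #R * 4 * 5 := by
  refine third (Nat.mul_pos (Nat.mul_pos (card_pos R) (by decide)) (by decide)) (Nat.Coprime.mul_dvd_of_dvd_of_dvd
    (Nat.Coprime.mul_left (((pR h).sing_ne (by decide)).coprime_prime Nat.prime_five) (by decide)) l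
    (h.ow ▸ orderOf_dvd_card' (mem_inf.2 ⟨wN h, wc h hs⟩)))
    ((card_dvd inf_le_left).trans (by rw [h.cardN]; exact Dvd.intro 1 (by ring))) fun e => un h hs s1 ?_
  exact ((eq_of_le_of_card_eq inf_le_left (by rw [e, h.cardN]; ring)).ge (cN h (uC h))).2

theorem exS0 : ∃ S, R ≤ S ∧ S ≤ N(zpowers w) ∧ PG 2 S ∧ #S = #R * 4 := by
  obtain ⟨S, hS, l⟩ := (pR h).exists_syl (h.Rle.trans (cN h))
  refine ⟨S, l, hS.le, hS.pi, Nat.dvd_antisymm (hS.pi.dvd_of_dvd_mul (b := 15) (PiN.of_not_dvd (by decide)) ?_)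
    (hS.dvd ((pR h).mul (PiN.prime_pow Nat.prime_two 2)) (by rw [h.cardN]; exact Dvd.intro 15 (by ring)))⟩
  exact (card_dvd hS.le).trans (by rw [h.cardN]; exact Dvd.intro 1 (by ring))

end

theorem thmC (h : L5 w u R) (hR : Nat.card R = 64) (hs : ∀ s ∈ R, orderOf s = 2 →
    256 ∣ Nat.card ↥(centralizer {s} ⊓ normalizer (zpowers w : Set G)) →
      Nat.card (centralizer ({s} : Set G)) = 7680 ∨ Nat.card (centralizer ({s} : Set G)) = 26880) : False := by
  obtain ⟨S, l1, l2, pS, cS⟩ := exS0 h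
  rw [hR] at cS
  obtain ⟨Q, pQ, l3, cQ⟩ := up h.card pS (k := 8) cS (by decide)
  obtain ⟨T, pT, l4, cT⟩ := up h.card pQ (k := 9) (by rw [cQ, cS]; rfl) (by decide)
  have k : ∀ t ∈ R, orderOf t = 2 → Q ≤ C[t] → #C[t] = 7680 := fun t ht o l =>
    (hs t ht o (cS.symm.dvd.trans (card_dvd (le_inf (l3.trans l) l2)))).resolve_right fun e => by
      have := card_dvd l; rw [e, cQ, cS] at this; omega
  obtain ⟨s, m, o, l⟩ := step pQ l3 cQ ⟨l1, l2.trans (nR h)⟩ (by rw [cS, hR]; decide)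
  have c := nwc h m (ne1 o) (by rw [hR, ← cS]; exact card_dvd (le_inf l2 (l3.trans l)))
  have c' := card_inf_mul_relIndex N(zpowers w) C[s]
  rw [c, hR, k s m o l] at c'
  have n := six h.ow (wc h m) (by rw [k s m o l]; decide) (by omega)
    (hallR h m (ne1 o) (l1.trans (l3.trans l))) (inf_le_right.trans ((cN h).trans (nR h)))
  obtain ⟨t, m', o', l'⟩ := step pT l4 cT ⟨l1.trans l3, l.trans n⟩ (by rw [cQ, cS, hR]; decide)
  have := card_dvd l'
  rw [k t m' o' (l4.trans l'), cT, cQ, cS] at this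
  omega

end H25.ZL
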