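import Cfsg.Agent.H25.ZL2
import Cfsg.Agent.H17.GG7
import Cfsg.Agent.H4.BG38

/-! Groups of order `|M₂₄|`: the case `|R| = 4`, the subgroup `O₂(C(r))`. -/

set_option autoImplicit false
set_option linter.unusedSectionVars false

namespace H25.ZL
open Cfsg Subgroup H19 H13.Z H17.GS

variable {G : Type*} [Group G] [Finite G] {a b c g p r s t u v w x y : G} {D E H K L P Q R S T X Y : Subgroup G}

theorem dvd_ncard {A : Set G} (h : ∀ x ∈ A, ∀ y ∈ R, x * y ∈ A) : #R ∣ A.ncard := by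
  have : A = QuotientGroup.mk ⁻¹' ((QuotientGroup.mk : G → G ⧸ R) '' A) := Set.ext fun x =>
    ⟨fun hx => ⟨x, hx, rfl⟩, fun ⟨y, hy, e⟩ => by simpa using h y hy _ (QuotientGroup.eq.1 e)⟩
  rw [this, ← Nat.card_coe_set_eq, QuotientGroup.card_preimage_mk]
  exact Dvd.intro _ rfl

theorem three_le {α : Type*} [Finite α] {A B C S : Set α} (h1 : A ⊆ S) (h2 : B ⊆ S) (h3 : C ⊆ S)
    (d1 : Disjoint A B) (d2 : Disjoint A C) (d3 : Disjoint B C) : A.ncard + B.ncard + C.ncard ≤ S.ncard := by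
  rw [← Set.ncard_union_eq d1, ← Set.ncard_union_eq (Set.disjoint_union_left.2 ⟨d2, d3⟩)]
  exact Set.ncard_le_ncard (Set.union_subset (Set.union_subset h1 h2) h3)

theorem sup_Phi_lt (h : K < L) : K ⊔ Phi L < L := by
  refine lt_of_le_of_ne (sup_le h.le (H18.Phi_le L)) fun e => h.not_ge (subgroupOf_eq_top.1 (frattini_nongenerating ?_))
  refine map_injective L.subtype_injective ?_
  rwa [Subgroup.map_sup, subgroupOf_map_subtype, ← MonoidHom.range_eq_map, range_subtype, inf_eq_left.2 h.le]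

theorem p64 (h : PG 2 X) (d : #X ∣ 7680) : ∃ k < 10, #X = 2 ^ k := by
  obtain ⟨k, e⟩ := h.exists_card
  refine ⟨k, by_contra fun l => ?_, e⟩
  have := (pow_dvd_pow 2 (not_lt.1 l)).trans (e ▸ d)
  omega

/-- the hypotheses of the case `|R| = 4` -/
structure L4 (w u r : G) (R : Subgroup G) : Prop extends L5 w u R where
  c4 : #R = 4
  rR : r ∈ R
  r1 : r ≠ 1
  cr : #C[r] = 7680

namespace L4
variable (h : L4 w u r R)
include h

theorem u3 : u ^ 3 = 1 := pw h.ou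
theorem w5 : w ^ 5 = 1 := pw h.ow
theorem uR (hx : x ∈ R) : u * x * u⁻¹ ∈ R := conj_mem_of_norm (uN h.toL5) hx

theorem ab : Abelem 2 R := by
  have m := fix_mod (A := {x | x ∈ R ∧ x * x = 1}) Nat.prime_three h.u3 fun y hy => ⟨h.uR hy.1, conj_sq hy.2 u⟩
  rw [show {x | x ∈ R ∧ x * x = 1} ∩ (C[u] : Set G) = {1} from Set.eq_singleton_iff_unique_mem.2
    ⟨⟨⟨one_mem R, mul_one 1⟩, one_mem C[u]⟩, fun x hx => h.fpf x hx.1.1 (mem_cent1.1 hx.2).symm⟩,
    Set.ncard_singleton] at m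
  obtain ⟨t, ht, o⟩ := exists_orderOf_eq_prime Nat.prime_two (H := R) (by rw [h.c4]; decide)
  have l : 1 < {x | x ∈ R ∧ x * x = 1}.ncard :=
    (Set.one_lt_ncard).2 ⟨t, ⟨ht, sq_of o⟩, 1, ⟨one_mem R, mul_one 1⟩, ne1 o⟩
  have s : {x | x ∈ R ∧ x * x = 1} ⊆ R := fun _ hx => hx.1
  have l' : _ ≤ #R := Set.ncard_le_ncard s
  have := Set.eq_of_subset_of_ncard_le s (show #R ≤ _ by rw [h.c4] at l' ⊢; unfold Nat.ModEq at m; omega)
  exact abelem_of_sq fun x hx => (this.ge hx).2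

theorem ne (hx : x ∈ R) (x1 : x ≠ 1) : x ≠ u * x * u⁻¹ := fun e => x1 (h.fpf x hx (cc' e.symm))

theorem mem (hx : x ∈ R) (x1 : x ≠ 1) (hy : y ∈ R) :
    y = 1 ∨ y = x ∨ y = u * x * u⁻¹ ∨ y = x * (u * x * u⁻¹) :=
  mem_four (H := R) ⟨Nat.prime_two, le_rfl, h.ab, h.c4⟩ hx (h.uR hx) x1 (conj_ne_one x1 u) (h.ne hx x1) hy

theorem uu (hx : x ∈ R) (x1 : x ≠ 1) : u * (u * x * u⁻¹) * u⁻¹ = x * (u * x * u⁻¹) := by
  rcases h.mem hx x1 (h.uR (h.uR hx)) with e | e | e | e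
  · exact absurd e (conj_ne_one (conj_ne_one x1 u) u)
  · refine absurd ?_ (h.ne hx x1)
    conv_rhs => rw [← e]
    rw [show u * (u * (u * x * u⁻¹) * u⁻¹) * u⁻¹ = u ^ 3 * x * (u ^ 3)⁻¹ by simp [pow_succ, mul_assoc], h.u3]
    simp
  · exact absurd e.symm (h.ne (h.uR hx) (conj_ne_one x1 u))
  · exact e

theorem tr (hx : x ∈ R) (x1 : x ≠ 1) (hy : y ∈ R) (y1 : y ≠ 1) : ∃ n ∈ zpowers u, n * x * n⁻¹ = y := by
  rcases h.mem hx x1 hy with e | e | e | e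
  exacts [absurd e y1, ⟨1, one_mem _, by simp [e]⟩, ⟨u, mem_zpowers u, e.symm⟩,
    ⟨u * u, mul_mem (mem_zpowers u) (mem_zpowers u), by rw [e, ← h.uu hx x1]; group⟩]

theorem idx3 (h1 : u ∈ X) (h2 : ∀ g ∈ X, g * r * g⁻¹ ∈ R) : C[r].relIndex X = 3 := by
  rw [← ncard_cls, show (fun g => g * r * g⁻¹) '' X = (R : Set G) \ {1} from Set.ext fun y =>
    ⟨fun ⟨g, k, e⟩ => e ▸ ⟨h2 g k, conj_ne_one h.r1 g⟩, fun k => let ⟨n, k1, k2⟩ := h.tr h.rR h.r1 k.1 k.2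
      ⟨n, zpowers_le.2 h1 k1, k2⟩⟩, Set.ncard_diff_singleton_of_mem (one_mem R), show (R : Set G).ncard = 4 from h.c4]

theorem Rc (hx : x ∈ R) : R ≤ C[x] := ab_cent1 h.ab hx

theorem c80 : #(C[r] ⊓ N(zpowers w)) = 80 := by
  have := card_inf_mul_relIndex C[r] N(zpowers w)
  rw [h.idx3 (cN h.toL5 (uC h.toL5)) fun g hg => h.Rn g hg r h.rR, h.cardN, h.c4] at this
  omega

theorem c20 : #(C[r] ⊓ C[w]) = 20 := by rw [cwc h.toL5 h.rR h.r1 (h.Rc h.rR), h.c4]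

theorem W2 (l : X ≤ C[r]) (p5 : PiG {5}ᶜ X) (n : w ∈ N(X)) : PG 2 X := by
  obtain ⟨P, hP, nP⟩ := inv_syl_exists 3 (zpowers_le.2 n) (by
    rw [cz h.ow]; exact p5.coprime_prime Nat.prime_five) (.inl (sol_zpowers w))
  have m := card_mod Nat.prime_five h.w5 (zpowers_le.1 nP)
  rw [(hP.pi.infl _).eq_bot_of_not_dvd fun e => absurd
    (h.c20 ▸ e.trans (card_dvd (inf_le_inf_right _ (hP.le.trans l)))) (by decide), card_bot] at m
  have d := h.cr ▸ card_dvd l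
  intro q hq e
  have := e.trans d
  rw [show 7680 = 2 ^ 9 * 3 * 5 from rfl, hq.dvd_mul, hq.dvd_mul] at this
  rcases this with (k | k) | k
  · exact (Nat.prime_dvd_prime_iff_eq hq Nat.prime_two).1 (hq.dvd_of_dvd_pow k)
  · obtain rfl := (Nat.prime_dvd_prime_iff_eq hq Nat.prime_three).1 k
    obtain ⟨j, hj⟩ := hP.pi.exists_card
    have d1 := hP.sdvd_card hq e
    have d2 := (card_dvd hP.le).trans d
    rw [hj] at m d1 d2
    rcases j with _ | _ | j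
    · exact absurd d1 (by decide)
    · exact absurd m (by decide)
    · exact absurd ((pow_dvd_pow 3 (Nat.le_add_left 2 j)).trans d2) (by decide)
  · exact absurd ((Nat.prime_dvd_prime_iff_eq hq Nat.prime_five).1 k) (p5 q hq e)

theorem W4 (l : X ≤ C[r]) (p2 : PG 2 X) (n : w ∈ N(X)) (l' : R ≤ X) : X = R ∨ #X = 64 := by
  have m := card_mod Nat.prime_five h.w5 n
  rw [le_antisymm (leR h.toL5 (p2.infl _) inf_le_right) (le_inf l' h.Rle), h.c4] at m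
  obtain ⟨k, k1, k2⟩ := p64 p2 (h.cr ▸ card_dvd l)
  refine (em (k = 2)).imp (fun e => (eq_of_le_of_card_eq l' (by rw [k2, e, h.c4]; rfl)).symm) fun e => ?_
  rw [k2] at m ⊢
  interval_cases k <;> first | rfl | exact absurd rfl e | exact absurd m (by decide)

end L4

/-- the core `E = O_{5'}(C(r))` has order 64 -/
structure L6 (w u r : G) (R E : Subgroup G) : Prop extends L4 w u r R where
  eq : E = Oc {5}ᶜ C[r]
  c64 : #E = 64
  le : R ≤ E

namespace L6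
variable (h : L6 w u r R E)
include h

theorem nr : E ⊴ C[r] := h.eq ▸ Oc_normal _ _
theorem pg : PG 2 E := PiN.of_card_pow Nat.prime_two (k := 6) h.c64
theorem wE : w ∈ N(E) := h.nr.norm (wc h.toL5 h.rR)
theorem lt : R < E := h.le.lt_of_ne fun e => by have := h.c4; rw [e, h.c64] at this; omega

theorem W (l : X ≤ E) (n : w ∈ N(X)) (l' : R ≤ X) : X = R ∨ X = E :=
  (h.W4 (l.trans h.nr.le) (h.pg.of_le l) n l').imp_right fun e => eq_of_le_of_card_eq l (e.trans h.c64.symm)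

theorem zc (hx : x ∈ R) : E ≤ C[x] := by
  have zw := zpowers_le.2 h.wE
  have n := (h.W inf_le_left (zpowers_le.1 (norms_inf zw (norms_norm (le_normalizer.trans (nR h.toL5)))))
    (h.pg.lt_norm h.lt).le).resolve_left (h.pg.lt_norm h.lt).ne'
  refine inf_eq_left.1 ((h.W inf_le_left (zpowers_le.1 (norms_inf zw (norms_of_le (zpowers_le.2 (wc h.toL5 hx)))))
    (le_inf h.le (h.Rc hx))).resolve_left fun e => ?_)
  have c := card_inf_mul_relIndex C[x] E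
  have : _ ≤ #R := Set.ncard_le_ncard (show (fun g => g * x * g⁻¹) '' E ⊆ R from
    fun _ ⟨g, k, e⟩ => e ▸ conj_mem_of_norm (n.ge k).2 hx)
  rw [inf_comm, e, h.c64, ← ncard_cls, h.c4] at c
  rw [h.c4] at this
  omega

theorem zc' : E ≤ C(R) := cents_symm fun _ hx => le_cent1_iff.1 (h.zc hx)

theorem nw : N(zpowers w) ≤ N(E) := by
  have l := cent_le_cent1 h.rR
  have k : E ≤ Oc {5}ᶜ C(R) := le_Oc (h.nr.of_le h.zc' l) (h.pg.sing_ne (by decide))
  have n : w ∈ N(Oc {5}ᶜ C(R)) := Oc_norm _ _ (le_cent1_iff.1 h.Rle)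
  have l' := (Oc_le {5}ᶜ _).trans l
  rcases h.W4 l' (h.W2 l' (Oc_pi _ _) n) n (h.le.trans k) with e | e
  · exact absurd (e ▸ k) h.lt.not_ge
  · rw [eq_of_le_of_card_eq k (h.c64.trans e.symm)]
    exact norms_Oc _ (norms_cent (nR h.toL5))

theorem sc : C(E) ≤ E := by
  have n : C(E) ⊴ C[r] := ⟨cent_le_cent1 (h.le h.rR), norms_cent h.nr.norm⟩
  refine (le_Oc n (PiN.of_not_dvd fun d => h.lt.not_ge (leR h.toL5 h.pg ?_))).trans h.eq.ge
  have s : H19.Syl 5 (zpowers w) C[r] := syl_mk (zpowers_le.2 (wc h.toL5 h.rR)) (PiN.of_card Nat.prime_five (cz h.ow))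
    fun e => by
      have := card_mul_relIndex (zpowers_le.2 (wc h.toL5 h.rR))
      rw [cz h.ow, h.cr] at this
      omega
  exact cent_zpowers w ▸ cents_symm (le_of_prime_of_inf_ne_bot (cz h.ow ▸ Nat.prime_five)
    ((s.inf_normal n).sne_bot Nat.prime_five d))

theorem sq : ∀ x ∈ E, x * x = 1 := by
  have nP := H4.norm_le_norm_Phi E
  have P := (h.W (sup_Phi_lt h.lt).le (zpowers_le.1 (norms_sup (le_normalizer.trans (nR h.toL5))
    ((zpowers_le.2 h.wE).trans nP))) le_sup_left).resolve_right (sup_Phi_lt h.lt).ne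
  have s : ∀ x ∈ E, x * x ∈ R := fun x hx => P.le (mem_sup_right (pow_two x ▸ H4.pow_mem_Phi h.pg hx))
  by_contra! k
  obtain ⟨x0, m0, e0⟩ := k
  let F : G → Set G := fun a => {x | x ∈ E ∧ x * x = a}
  have J : ∀ g ∈ N(E), ∀ a, ∀ x ∈ F a, g * x * g⁻¹ ∈ F (g * a * g⁻¹) := fun g hg a x hx =>
    ⟨conj_mem_of_norm hg hx.1, by rw [conj_mul, hx.2]⟩
  have J' : ∀ g ∈ N(E), ∀ a, g ∈ C[a] → ∀ x ∈ F a, g * x * g⁻¹ ∈ F a := fun g hg a c x hx => by
    have := J g hg a x hx; rwa [cc (mem_cent1.1 c)] at this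
  have M : ∀ a, ∀ x ∈ F a, ∀ y ∈ R, x * y ∈ F a := fun a x hx y hy => ⟨mul_mem hx.1 (h.le hy), by
    rw [mul_assoc, ← mul_assoc y, ← mem_cent1.1 (h.zc hy hx.1), mul_assoc, sq_one h.ab hy, mul_one, hx.2]⟩
  have ne : ∀ a ∈ R, a ≠ 1 → (F a).Nonempty := fun a ha a1 =>
    let ⟨n, k1, k2⟩ := h.tr (s x0 m0) e0 ha a1
    ⟨_, k2 ▸ J n (h.nw (cN h.toL5 (zpowers_le.2 (uC h.toL5) k1))) _ x0 ⟨m0, rfl⟩⟩
  have f20 : ∀ a ∈ R, a ≠ 1 → ∃ k, (F a).ncard = 20 * (k + 1) := fun a ha a1 => by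
    have m := fix_mod Nat.prime_five h.w5 (J' w h.wE a (wc h.toL5 ha))
    rw [show F a ∩ (C[w] : Set G) = ∅ from Set.eq_empty_of_forall_notMem fun x hx => a1 (hx.1.2 ▸ sq_one h.ab
      (leR h.toL5 (h.pg.infl C[w]) inf_le_right (mem_inf.2 ⟨hx.1.1, hx.2⟩))), Set.ncard_empty] at m
    have d := dvd_ncard (M a)
    have := (Set.ncard_pos).2 (ne a ha a1)
    rw [h.c4] at d
    unfold Nat.ModEq at m
    exact ⟨(F a).ncard / 20 - 1, by omega⟩
  have dj : ∀ a b, a ≠ b → Disjoint (F a) (F b) := fun a b e =>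
    Set.disjoint_left.2 fun x k1 k2 => e (k1.2.symm.trans k2.2)
  have m1 := h.uR h.rR
  have m2 := h.uR m1
  have n1 := conj_ne_one h.r1 u
  have n2 := conj_ne_one n1 u
  have d1 := dj _ _ (h.ne h.rR h.r1)
  have d3 := dj _ _ (h.ne m1 n1)
  have d2 := dj r (u * (u * r * u⁻¹) * u⁻¹) (by rw [h.uu h.rR h.r1]; simpa using n1)
  have t := three_le (S := E) (fun _ k => k.1) (fun _ k => k.1) (fun _ k => k.1) d1 d2 d3
  obtain ⟨v, hv, ov⟩ := exists_orderOf_eq_prime Nat.prime_three (H := C[r]) (by rw [h.cr]; decide)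
  have vE := h.nr.norm hv
  have vR : R ≤ C[v] := by
    have m := card_mod Nat.prime_three (pw ov) (X := R) (mem_norm_of_cj_le fun y hy => by
      obtain ⟨a, ha, rfl⟩ := mem_cj'.1 hy
      by_cases a1 : a = 1
      · simp [a1]
      · obtain ⟨x, hx⟩ := ne a ha a1
        exact (J v vE a x hx).2 ▸ s _ (J v vE a x hx).1)
    have l := ne_bot_iff_one_lt_card.1 (ne_bot_of_mem (mem_inf.2 ⟨h.rR, mem_cent1_symm.1 hv⟩) h.r1)
    have l' := card_le (inf_le_left (a := R) (b := C[v]))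
    refine inf_eq_left.1 (eq_of_le_of_card_eq inf_le_left ?_)
    rw [h.c4] at m l' ⊢; unfold Nat.ModEq at m; omega
  have f8 : ∀ a ∈ R, (F a).ncard = 20 → 8 ≤ (F a ∩ C[v]).ncard := fun a ha c => by
    have m := fix_mod Nat.prime_three (pw ov) (J' v vE a (mem_cent1_symm.1 (vR ha)))
    have d := dvd_ncard (R := R) (A := F a ∩ C[v]) fun x hx y hy => ⟨M a x hx.1 y hy, mul_mem hx.2 (vR hy)⟩
    rw [h.c4] at d; rw [c] at m; unfold Nat.ModEq at m; omega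
  have i : ∀ a, F a ∩ C[v] ⊆ (E ⊓ C[v] : Subgroup G) := fun a x k => ⟨k.1.1, k.2⟩
  have t' : _ ≤ #(E ⊓ C[v]) := three_le (i _) (i _) (i _) ((d1.inter_left _).inter_right _)
    ((d2.inter_left _).inter_right _) ((d3.inter_left _).inter_right _)
  obtain ⟨k1, e1⟩ := f20 _ h.rR h.r1
  obtain ⟨k2, e2⟩ := f20 _ m1 n1
  obtain ⟨k3, e3⟩ := f20 _ m2 n2
  rw [show (E : Set G).ncard = 64 from h.c64] at t
  have g1 := f8 _ h.rR (by omega)
  have g2 := f8 _ m1 (by omega)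
  have g3 := f8 _ m2 (by omega)
  have m := card_mod Nat.prime_three (pw ov) vE
  have d := card_dvd (inf_le_left (a := E) (b := C[v]))
  have : E ⊓ C[v] = E := eq_of_le_of_card_eq inf_le_left (by
    rw [h.c64] at m d ⊢
    have : #(E ⊓ C[v]) ∈ Nat.divisors 64 := Nat.mem_divisors.2 ⟨d, by decide⟩
    have l : 24 ≤ #(E ⊓ C[v]) := by omega
    exact (by decide : ∀ n ∈ Nat.divisors 64, 64 ≡ n [MOD 3] → 24 ≤ n → n = 64) _ this m l)
  have := h.pg.elt (h.sc (le_cent1_iff.1 (inf_eq_left.1 this)))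
  exact absurd (this 3 Nat.prime_three (ov ▸ dvd_rfl)) (by decide)

theorem ee : EE w r R E := ⟨h.c64, h.sq, h.le, h.nr.norm, h.nw, fun _ hx e =>
  leR h.toL5 (h.pg.infl C[w]) inf_le_right (mem_inf.2 ⟨hx, mem_cent1.2 e⟩), h.sc⟩

end L6
end H25.ZL
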