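import Cfsg.Agent.H25.ZL3

/-! Groups of order `|M₂₄|`: `N(E)` does not normalize `R`. -/

set_option autoImplicit false
set_option linter.unusedSectionVars false

namespace H25.ZL
open Cfsg Subgroup H19 H13.Z H17.GS

variable {G : Type*} [Group G] [Finite G] {a b c g p r s t u v w x y : G} {D E H K L P Q R S T X Y : Subgroup G}

theorem ord_q {n : ℕ} (hx : x ∈ N(K)) (o : orderOf x = n) (hc : (#K).Coprime n) : orderOf (qmk K ⟨x, hx⟩) = n := by
  rw [← Nat.card_zpowers, ← quo_zpowers, card_quo_of_disjoint (zpowers_le.2 hx)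
    (inf_eq_bot_of_cop (by rwa [cz o])), cz o]

theorem mem_zp {n : ℕ} (o : orderOf x = n + 1) (h : y ∈ zpowers x) : ∃ k < n + 1, x ^ k = y := by
  classical
  obtain ⟨k, h1, h2⟩ := Finset.mem_image.1 (mem_zpowers_iff_mem_range_orderOf.1 h)
  exact ⟨k, o ▸ Finset.mem_range.1 h1, h2⟩

section
variable (h : EG w u r R E)
include h

theorem l4 : L4 w u r R := ⟨h.l5, h.c4, h.rR, h.r1, h.cr⟩
theorem ea : Abelem 2 E := abelem_of_sq h.ee.sq
theorem uE : u ∈ N(E) := h.ee.nw (cN h.l5 (uC h.l5))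
theorem wE : w ∈ N(E) := h.ee.nw (wN h.l5)
theorem cop5 : (#E).Coprime #(zpowers w) := by rw [cz h.l5.ow, h.ee.card]; decide
theorem Ew : E ⊓ C[w] = R := le_antisymm (fun x hx => h.ee.cw x hx.1 (mem_cent1.1 hx.2)) (le_inf h.ee.Rle h.l5.Rle)
theorem EN : E ⊓ N(zpowers w) = R := by
  refine le_antisymm (fun x hx => h.ee.cw x hx.1 (mul_inv_eq_one.1 (?_ : x * w * (w * x)⁻¹ = 1)))
    (le_inf h.ee.Rle (h.l5.Rle.trans (cN h.l5)))
  refine mem_bot.1 ((inf_eq_bot_of_cop (cop5 h)).le (mem_inf.2 ⟨?_, ?_⟩))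
  · rw [show x * w * (w * x)⁻¹ = x * (w * x⁻¹ * w⁻¹) by group]
    exact mul_mem hx.1 (conj_mem_of_norm (wE h) (inv_mem (show x ∈ E from hx.1)))
  · rw [show x * w * (w * x)⁻¹ = x * w * x⁻¹ * w⁻¹ by group]
    exact mul_mem (conj_mem_of_norm hx.2 (mem_zpowers w)) (inv_mem (mem_zpowers w))

theorem n3 (hy : y ∈ E) : y * (u * y * u⁻¹) * (u * (u * y * u⁻¹) * u⁻¹) = 1 := by
  have m1 := conj_mem_of_norm (uE h) hy
  have m2 := conj_mem_of_norm (uE h) m1
  refine h.fu _ (mul_mem (mul_mem hy m1) m2) (cc' ?_)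
  rw [← conj_mul, ← conj_mul, show u * (u * (u * y * u⁻¹) * u⁻¹) * u⁻¹ = u ^ 3 * y * (u ^ 3)⁻¹ by
    simp [pow_succ, mul_assoc], (l4 h).u3, one_mul, inv_one, mul_one, ab_comm (ea h) (mul_mem m1 m2) hy, ← mul_assoc]

theorem c18' : {x | x ∈ E ∧ IsConj r x}.ncard = 18 := h.c18

theorem big (l : D ≤ E) (n : u ∈ N(D)) (hy : y ∈ E) (y1 : y ∉ D) : {x | IsConj r x ∧ x * y ∈ D}.ncard ≤ 6 := by
  have m1 := conj_mem_of_norm (uE h) hy
  have m2 := conj_mem_of_norm (uE h) m1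
  have k1 := mt (mem_normalizer_iff.1 n y).2 y1
  have k2 := mt (mem_normalizer_iff.1 n _).2 k1
  have i : ∀ {y}, y ∈ E → {x | IsConj r x ∧ x * y ∈ D} ⊆ {x | x ∈ E ∧ IsConj r x} := fun hy x k =>
    ⟨(mul_mem_cancel_right hy).1 (l k.2), k.1⟩
  have j : ∀ y, {x | IsConj r x ∧ x * y ∈ D}.ncard ≤ {x | IsConj r x ∧ x * (u * y * u⁻¹) ∈ D}.ncard := fun y =>
    Set.ncard_le_ncard_of_injOn (fun x => u * x * u⁻¹) (fun x k => ⟨k.1.trans (isConj_iff.2 ⟨u, rfl⟩),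
      by rw [conj_mul]; exact conj_mem_of_norm n k.2⟩) fun _ _ _ _ e => by simpa using e
  have d : ∀ {a b c}, a ∈ E → a * b * c = 1 → c ∉ D →
      Disjoint {x | IsConj r x ∧ x * a ∈ D} {x | IsConj r x ∧ x * b ∈ D} := fun {a b c} ha e k =>
    Set.disjoint_left.2 fun x p q => k (by
      have := mul_mem (inv_mem (show x * b ∈ D from q.2)) p.2
      rwa [show (x * b)⁻¹ * (x * a) = (a⁻¹ * b)⁻¹ by group, inv_eq (ea h) ha, ← eq_inv_of_mul_eq_one_right e] at this)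
  have e := n3 h hy
  have := three_le (i hy) (i m1) (i m2) (d hy e k2) (d hy (by rwa [mul_assoc, ab_comm (ea h) m2 m1, ← mul_assoc]) k1)
    (d m1 (by rwa [ab_comm (ea h) (mul_mem m1 m2) hy, ← mul_assoc]) y1)
  have := j y
  have := j (u * y * u⁻¹)
  rw [c18' h] at *
  omega

theorem exf : ∃ S f, PG 2 S ∧ S ≤ C[r] ∧ f ∈ S ∧ f * f * w * (f * f)⁻¹ = w⁻¹ := by
  obtain ⟨S, hS⟩ := H19.exists_syl 2 (C[r] ⊓ N(zpowers w))
  have c := Nat.le_of_dvd (card_pos S) (hS.dvd (PiN.prime_pow Nat.prime_two 4) (by rw [(l4 h).c80]; decide))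
  have c' := card_inf_mul_relIndex C[w] S
  have c4 := h.c4 ▸ card_le (leR h.l5 (hS.pi.infr C[w]) inf_le_left)
  by_contra! k
  have w5 := (l4 h).w5
  have : ((fun g => g * w * g⁻¹) '' S).ncard ≤ 2 := (Set.ncard_le_ncard (t := {w, w ^ 4}) (by
    rintro _ ⟨f, hf, rfl⟩
    obtain ⟨j, j1, j2⟩ := mem_zp h.l5.ow (conj_mem_of_norm (hS.le hf).2 (mem_zpowers w))
    have e : f * f * w * (f * f)⁻¹ = w ^ (j * j) := by rw [pow_mul, j2, conj_pow, j2]; group
    have k' := k S f hS.pi (hS.le.trans inf_le_left) hf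
    rw [e, ne_eq, eq_inv_iff_mul_eq_one, ← pow_succ] at k'
    interval_cases j
    · exact absurd j2.symm (by rw [pow_zero]; exact conj_ne_one (ne1 h.l5.ow) f)
    · exact .inl (by simpa using j2.symm)
    · exact absurd w5 k'
    · exact absurd (by rw [show 3 * 3 + 1 = 5 * 2 from rfl, pow_mul, w5, one_pow]) k'
    · exact .inr j2.symm)).trans ((Set.ncard_insert_le _ _).trans (by rw [Set.ncard_singleton]))
  rw [ncard_cls] at this
  have := Nat.mul_le_mul c4 this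
  omega

variable (hM : ∀ g ∈ N(E), g * r * g⁻¹ ∈ R)
include hM

theorem cM : #N(E) = 23040 := by
  rw [← card_mul_relIndex h.ee.nr, (l4 h).idx3 (uE h) hM, h.cr]

theorem nU : N(E) ≤ N(E ⊔ zpowers u) := by
  have zw := zpowers_le.2 (wE h)
  have zu := zpowers_le.2 (uE h)
  have ow := ord_q (wE h) h.l5.ow (by rw [h.ee.card]; decide)
  have ou := ord_q (uE h) h.l5.ou (by rw [h.ee.card]; decide)
  have qn := H18.quo_inf_norm zw (cop5 h) (.inl (sol_zpowers w)) le_normalizer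
  have qc := quo_inf_cent' zw le_normalizer (cop5 h) (.inl (sol_zpowers w))
  rw [quo_zpowers (wE h), inf_eq_right.2 h.ee.nw] at qn
  rw [quo_zpowers (wE h), cent_zpowers, cent_zpowers, inf_eq_right.2 ((cN h.l5).trans h.ee.nw)] at qc
  have c1 := card_mul_relIndex (le_normalizer (H := E))
  have c2 := card_inf_mul_relIndex E N(zpowers w)
  have c3 := card_inf_mul_relIndex E C[w]
  rw [← card_quo le_rfl, cM h hM, h.ee.card] at c1
  rw [← card_quo h.ee.nw, EN h, h.l5.cardN, h.c4] at c2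
  rw [← card_quo ((cN h.l5).trans h.ee.nw), Ew h, h.l5.cardC, h.c4] at c3
  have c4 := card_inf_mul_relIndex N(zpowers (qmk E ⟨w, wE h⟩)) (quo E N(E))
  rw [inf_comm, qn, show #(quo E N(zpowers w)) = 60 by omega] at c4
  have l := quo_mono E (zpowers_le.2 (uC h.l5))
  have l' := quo_mono E (zpowers_le.2 (mem_cent1_self w))
  have cw := quo_cents (K := E) (cent_zpowers u ▸ zpowers_le.2 (mem_cent1_symm.1 (uC h.l5)))
  rw [quo_zpowers (uE h)] at l cw
  rw [quo_zpowers (wE h)] at l' cw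
  have c5 := card_mul_relIndex l
  rw [cz ou] at c5
  have i5 : (zpowers (qmk E ⟨u, uE h⟩)).relIndex (quo E C[w]) = 5 := by omega
  refine norms_of_quo le_rfl zu (quo_zpowers (uE h) ▸ six ow (mem_im_of (wE h)) (by omega) (by omega)
    (qc ▸ ⟨l, (PiN.of_card Nat.prime_three (cz ou)).sing_ne (by decide),
      by rw [i5]; exact (PiN.prime_pow Nat.prime_five 1).compl_compl⟩) (qc ▸ ?_))
  rcases eq_of_prime_index le_sup_left (sup_le l l') (i5 ▸ Nat.prime_five) with e | e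
  · have := card_dvd (le_sup_right.trans e.le)
    rw [cz ow, cz ou] at this; omega
  · exact e ▸ sup_le le_normalizer (norms_of_cents cw)

theorem c16 (ht : t ∈ N(E)) (t1 : t ∉ E) (l : 16 ≤ #(E ⊓ C[t])) : u ∈ N(E ⊓ C[t]) ∧ #(E ⊓ C[t]) = 16 := by
  obtain ⟨e, he, y, hy, k⟩ := (mem_sup_of_norm (zpowers_le.2 (uE h))).1
    (conj_mem_of_norm (nU h hM ht) (mem_sup_right (mem_zpowers u)))
  have a : ∀ x ∈ E ⊓ C[t], t * (u * x * u⁻¹) * t⁻¹ = y * x * y⁻¹ := fun x hx => by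
    rw [← cc (ab_comm (ea h) he (conj_mem_of_norm (zpowers_le.2 (uE h) hy) hx.1)), conj_conj' e, ← k]
    conv_rhs => rw [← cc (mem_cent1.1 hx.2).symm]
    group
  obtain ⟨j, j1, rfl⟩ := mem_zp h.l5.ou hy
  have n : u ∈ N(E ⊓ C[t]) := by
    interval_cases j
    · rw [pow_zero, mul_one] at k
      have := (ab_pg (ea h)).elt (k ▸ he)
      exact absurd (this 3 Nat.prime_three (by rw [orderOf_conj', h.l5.ou])) (by decide)
    · exact mem_norm_of_cj_le fun _ hx => let ⟨x, hx, e⟩ := mem_cj'.1 hx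
        e ▸ mem_inf.2 ⟨conj_mem_of_norm (uE h) hx.1, mem_cent1.2 (cc' ((a x hx).trans (by simp))).symm⟩
    · have b : (E ⊓ C[t]) ⊓ cj u (E ⊓ C[t]) = ⊥ := eq_bot_iff.2 fun z hz => by
        obtain ⟨x, hx, rfl⟩ := mem_cj'.1 hz.2
        refine mem_bot.2 (h.fu _ hz.1.1 (cc' ?_))
        exact (show _ = u ^ 2 * x * (u ^ 2)⁻¹ by simp [sq, mul_assoc]).trans
          ((a x hx).symm.trans (cc (mem_cent1.1 hz.1.2).symm))
      have l1 : cj u (E ⊓ C[t]) ≤ E := cj_le_of_mem_norm (uE h) inf_le_left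
      have := card_le (sup_le (inf_le_left (b := C[t])) l1)
      rw [card_sup_of_disjoint (norms_of_comm (ea h).1 l1 inf_le_left) b, card_cj, h.ee.card] at this
      nlinarith
  have m := card_mod Nat.prime_three (l4 h).u3 n
  rw [show E ⊓ C[t] ⊓ C[u] = ⊥ from eq_bot_iff.2 fun x hx => h.fu x hx.1.1 (mem_cent1.1 hx.2).symm, card_bot] at m
  refine ⟨n, (by decide : ∀ n ∈ Nat.divisors 64, n ≡ 1 [MOD 3] → 16 ≤ n → n ≠ 64 → n = 16) _
    (Nat.mem_divisors.2 ⟨h.ee.card ▸ card_dvd inf_le_left, by decide⟩) m l fun e => t1 (h.ee.sc ?_)⟩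
  exact le_cent1_iff.1 (inf_eq_left.1 (eq_of_le_of_card_eq inf_le_left (e.trans h.ee.card.symm)))

end
end H25.ZL
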